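import Cfsg.Agent.StdSpFour.SplitA.OutFuse_m3
import Cfsg.Agent.SwapEnd.Swap
import Cfsg.Agent.StdRank2.B2Mover_m3
import Cfsg.Agent.StdEven.Red_m3
import Cfsg.Agent.SignalizersComponents.LayerBasic
import Cfsg.Agent.LieClassical.SLGen
import Cfsg.Agent.FastGrp
import Cfsg.Agent.Prune
set_option linter.all false

section
prune_inst 0x7f00000000000000000000000000000000000000000000000000000000000000000000000000000000000000000000000000000000000000000000000000000000000000000000000000000000000000003fffffffffffffffffffffffffffbeffbdffffffff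

-- part: StdSpFour/SplitA/OutTab
section
set_option linter.all false
open scoped Cfsg.Agent.FastGrp

set_option autoImplicit false

/-!
# S1778, `Sp₄(q)`, case (A), split: the table

* `card_le` : elementary abelian subgroups of `C_{S0}(x)` have order at most `q ^ 4`, `x` an involution of `S0 ∖ T`
  which commutes with `t`.
* `exists_big` : if the involution `w` is inner on `A1` and outer on `A2`, then `C_{S0}(w)` has an elementary abelian
  subgroup of order at least `2 q ^ 4`.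
* `tab'` : the table.
-/

namespace Cfsg.Agent.StdSpFour.SplitA.Wr

open Subgroup Cfsg.Agent.StdRank2.OutSplit
open scoped commutatorElement

universe u

variable {G : Type u} [Group G] [Finite G] (W : Wr G) {O T0 : Subgroup G} {y : G} {P : Sylow 2 G}

variable (hA : W.Amb O) (hO : W.Outer T0 y) (hP : W.Syl T0 y (P : Subgroup G))
include hA hO hP

omit hA hO hP in
theorem card_le_two {H K : Subgroup G} (h : ∀ a ∈ K, a ∉ H → ∀ b ∈ K, b ∉ H → a * b ∈ H) :
    Nat.card K ≤ 2 * Nat.card (K ⊓ H : Subgroup G) := by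
  by_cases hK : K ≤ H
  · rw [inf_eq_left.2 hK]; omega
  · obtain ⟨a, ha, haH⟩ := SetLike.not_le_iff_exists.1 hK
    have h1 : (K ⊓ H).relIndex K = 2 := by
      rw [relIndex_eq_two_iff_exists_notMem_and]
      refine ⟨a, ha, fun h' => haH h'.2, ?_⟩
      intro b hb
      by_cases hbH : b ∈ H
      · right; exact ⟨hb, hbH⟩
      · left; exact ⟨mul_mem hb ha, h b hb hbH a ha haH⟩
    have h2 := relIndex_mul_relIndex ⊥ (K ⊓ H) K bot_le inf_le_left
    rw [relIndex_bot_left, relIndex_bot_left, h1] at h2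
    rw [← h2, mul_comm]

/-- first components of the elements of `X ∩ T` -/
def qr1 (X : Subgroup G) : Subgroup G where
  carrier := {a | a ∈ W.S1 ∧ ∃ b ∈ W.S2, a * b ∈ X}
  one_mem' := ⟨one_mem _, 1, one_mem _, by rw [mul_one]; exact one_mem X⟩
  mul_mem' := by
    rintro a c ⟨ha, b, hb, hab⟩ ⟨hc, d, hd, hcd⟩
    refine ⟨mul_mem ha hc, b * d, mul_mem hb hd, ?_⟩
    have h1 := W.comm' (W.S1_le hc) (W.S2_le hb)
    have e : a * c * (b * d) = (a * b) * (c * d) := by
      calc a * c * (b * d) = a * (c * b) * d := by group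
        _ = a * (b * c) * d := by rw [h1]
        _ = (a * b) * (c * d) := by group
    rw [e]; exact mul_mem hab hcd
  inv_mem' := by
    rintro a ⟨ha, b, hb, hab⟩
    refine ⟨inv_mem ha, b⁻¹, inv_mem hb, ?_⟩
    have h1 := W.comm' (inv_mem (W.S1_le ha)) (inv_mem (W.S2_le hb))
    rw [h1, ← mul_inv_rev]
    exact inv_mem hab

/-- second components, moved to `S1` -/
def qr2 (X : Subgroup G) : Subgroup G := W.qr1 (X.comap W.swHom)

omit hA hO hP in
theorem card_pr (X : Subgroup G) (hX : X ≤ W.T) : Nat.card X ≤ Nat.card (W.qr1 X) * Nat.card (W.qr2 X) := by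
  rw [← Nat.card_prod]
  have h1 : ∀ x : X, ∃ p : (W.qr1 X) × (W.qr2 X), (x : G) = p.1 * W.sw p.2 := by
    rintro ⟨x, hx⟩
    obtain ⟨a, ha, b, hb, rfl⟩ := hX hx
    refine ⟨⟨⟨a, ha, b, hb, hx⟩, ⟨W.sw b, hb, W.sw a, W.sw_mem_S2 ha, ?_⟩⟩, ?_⟩
    · show W.sw (W.sw b * W.sw a) ∈ X
      rw [sw_mul, sw_sw, sw_sw, ← W.comm' (W.S1_le ha) (W.S2_le hb)]
      exact hx
    · show a * b = a * W.sw (W.sw b)
      rw [sw_sw]
  choose f hf using h1
  refine Nat.card_le_card_of_injective f (fun x x' h => Subtype.ext ?_)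
  rw [hf x, hf x', h]

omit [Finite G] hA hO hP in
/-- components are unique -/
theorem comp_eqn {a b c d : G} (ha : a ∈ W.S1) (hb : b ∈ W.S2) (hc : c ∈ W.S1) (hd : d ∈ W.S2) (he : a * b = c * d) :
    a = c ∧ b = d := by
  have e : c⁻¹ * a = d * b⁻¹ := by
    calc c⁻¹ * a = c⁻¹ * (a * b) * b⁻¹ := by group
      _ = d * b⁻¹ := by rw [he]; group
  have h1 : c⁻¹ * a = 1 := by
    refine W.disj _ (mul_mem (inv_mem hc) ha) ?_
    rw [e]
    have : d * b⁻¹ ∈ W.S2 := mul_mem hd (inv_mem hb)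
    exact this
  have h2 : a = c := (inv_mul_eq_one.1 h1).symm
  refine ⟨h2, ?_⟩
  rw [h2] at he
  exact mul_left_cancel he

omit [Finite G] hA hP in
theorem y_S2 {b : G} (hb : b ∈ W.S2) : y * b * y ∈ W.S2 := by
  rw [mem_S2, sw_mul, sw_mul, W.sw_yn hO]
  exact hO.yS _ hb

omit [Finite G] hA hP in
/-- components of an involution of `T` which commutes with `y` -/
theorem comp_y {a b : G} (ha : a ∈ W.S1) (hb : b ∈ W.S2) (h2 : a * b * (a * b) = 1) (hy : a * b * y = y * (a * b)) :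
    (a * a = 1 ∧ a * y = y * a) ∧ (b * b = 1 ∧ b * y = y * b) := by
  have hc := W.comm' (W.S1_le ha) (W.S2_le hb)
  have e1 : (a * a) * (b * b) = 1 * 1 := by
    rw [one_mul, ← h2]
    calc a * a * (b * b) = a * (a * b) * b := by group
      _ = a * (b * a) * b := by rw [hc]
      _ = a * b * (a * b) := by group
  obtain ⟨e2, e3⟩ := W.comp_eqn (mul_mem ha ha) (mul_mem hb hb) (one_mem _) (one_mem _) e1
  have hyy := hO.yy
  have e4 : (y * a * y) * (y * b * y) = a * b := by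
    calc (y * a * y) * (y * b * y) = y * a * (y * y) * b * y := by group
      _ = y * (a * b) * y := by rw [hyy]; group
      _ = (a * b * y) * y := by rw [hy]
      _ = a * b * (y * y) := by group
      _ = a * b := by rw [hyy, mul_one]
  obtain ⟨e5, e6⟩ := W.comp_eqn (hO.yS a ha) (W.y_S2 hO hb) ha hb e4
  refine ⟨⟨e2, ?_⟩, e3, ?_⟩
  · calc a * y = (y * a * y) * y := by rw [e5]
      _ = y * a * (y * y) := by group
      _ = y * a := by rw [hyy, mul_one]
  · calc b * y = (y * b * y) * y := by rw [e6]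
      _ = y * b * (y * y) := by group
      _ = y * b := by rw [hyy, mul_one]

/-- elementary abelian subgroups of `C_{S0}(y)` -/
theorem card_le_y {X : Subgroup G} (hX : X ≤ cen (W.S0 (P : Subgroup G)) y) (h2 : ∀ x ∈ X, x * x = 1) :
    Nat.card X ≤ W.q ^ 4 := by
  have hXS : ∀ x ∈ X, x ∈ W.S0 (P : Subgroup G) := fun x hx => (mem_cen.1 (hX hx)).1
  have hXy : ∀ x ∈ X, x * y = y * x := fun x hx => (mem_cen.1 (hX hx)).2
  have hS : ∀ x ∈ W.S0 (P : Subgroup G), x * x = 1 → x ∉ W.I1 (P : Subgroup G) → y * x ∈ W.I1 (P : Subgroup G) := by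
    intro x hx hx2 hxI
    obtain ⟨hxP, hxN⟩ := (mem_S0n W).1 hx
    exact hP.cyc1 x hxP (fun a ha => norm_conj hxN ha) (by rw [hx2]; exact one_mem _) hxI
  have hyi : y⁻¹ = y := inv_eq_of_mul_eq_one_right hO.yy
  have hprod : ∀ a ∈ W.S0 (P : Subgroup G), a * a = 1 → a ∉ W.I1 (P : Subgroup G) →
      ∀ b ∈ W.S0 (P : Subgroup G), b * b = 1 → b ∉ W.I1 (P : Subgroup G) → a * b ∈ W.I1 (P : Subgroup G) := by
    intro a ha ha2 haI b hb hb2 hbI
    have h1 := hS a ha ha2 haI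
    have h3 := hS b hb hb2 hbI
    have h4 := mul_mem (inv_mem h1) h3
    have hai : a⁻¹ = a := inv_eq_of_mul_eq_one_right ha2
    have e : (y * a)⁻¹ * (y * b) = a * b := by
      rw [mul_inv_rev, hai]
      group
    rw [e] at h4
    exact h4
  -- first step
  have c1 : Nat.card X ≤ 2 * Nat.card (X ⊓ W.I1 (P : Subgroup G) : Subgroup G) :=
    card_le_two (fun a ha haI b hb hbI => hprod a (hXS a ha) (h2 a ha) haI b (hXS b hb) (h2 b hb) hbI)
  have c2 : Nat.card (X ⊓ W.I1 (P : Subgroup G) : Subgroup G) ≤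
      2 * Nat.card (X ⊓ W.I1 (P : Subgroup G) ⊓ (W.I1 (P : Subgroup G)).comap W.swHom : Subgroup G) := by
    refine card_le_two (fun a ha haI b hb hbI => ?_)
    show W.sw (a * b) ∈ W.I1 (P : Subgroup G)
    rw [sw_mul]
    have hsq : ∀ x ∈ X, W.sw x * W.sw x = 1 := by
      intro x hx
      rw [← sw_mul, h2 x hx, sw_one]
    exact hprod _ (W.sw_S0n hA hO hP (hXS a ha.1)) (hsq a ha.1) haI _ (W.sw_S0n hA hO hP (hXS b hb.1)) (hsq b hb.1) hbI
  obtain ⟨Y, hY⟩ : ∃ Y, Y = X ⊓ W.I1 (P : Subgroup G) ⊓ (W.I1 (P : Subgroup G)).comap W.swHom := ⟨_, rfl⟩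
  rw [← hY] at c2
  have hYX : ∀ x ∈ Y, x ∈ X := by
    intro x hx
    rw [hY] at hx
    exact hx.1.1
  have hYT : Y ≤ W.T := by
    intro x hx
    rw [hY] at hx
    exact (W.mem_T_iff hA hO hP).2 ⟨hx.1.2, hx.2⟩
  have c3 := W.card_pr Y hYT
  have c4 : 2 * Nat.card (W.qr1 Y) ≤ W.q ^ 2 := by
    refine hO.rank_cen _ (fun a ha => ha.1) ?_ ?_
    · rintro a ⟨ha, b, hb, hab⟩
      exact (W.comp_y hO ha hb (h2 _ (hYX _ hab)) (hXy _ (hYX _ hab))).1.2
    · rintro a ⟨ha, b, hb, hab⟩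
      exact (W.comp_y hO ha hb (h2 _ (hYX _ hab)) (hXy _ (hYX _ hab))).1.1
  have hsy := W.sw_yn hO
  have c5 : 2 * Nat.card (W.qr2 Y) ≤ W.q ^ 2 := by
    have key : ∀ a ∈ W.S1, ∀ b ∈ W.S2, W.sw (a * b) ∈ Y → a * a = 1 ∧ a * y = y * a := by
      intro a ha b hb hab
      have h3 := h2 _ (hYX _ hab)
      have h4 := hXy _ (hYX _ hab)
      have h5 := congrArg W.sw h3
      rw [sw_mul, sw_sw, sw_one] at h5
      have h6 := congrArg W.sw h4
      rw [sw_mul, sw_sw, sw_mul, sw_sw, hsy] at h6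
      exact (W.comp_y hO ha hb h5 h6).1
    refine hO.rank_cen _ (fun a ha => ha.1) ?_ ?_
    · rintro a ⟨ha, b, hb, hab⟩
      exact (key a ha b hb hab).2
    · rintro a ⟨ha, b, hb, hab⟩
      exact (key a ha b hb hab).1
  have c6 : 4 * Nat.card Y ≤ W.q ^ 4 := by
    calc 4 * Nat.card Y ≤ 4 * (Nat.card (W.qr1 Y) * Nat.card (W.qr2 Y)) := Nat.mul_le_mul_left _ c3
      _ = (2 * Nat.card (W.qr1 Y)) * (2 * Nat.card (W.qr2 Y)) := by ring
      _ ≤ W.q ^ 2 * W.q ^ 2 := Nat.mul_le_mul c4 c5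
      _ = W.q ^ 4 := by ring
  omega

/-- **elementary abelian subgroups of `C_{S0}(x)`**, `x ∈ S0 ∖ T` an involution commuting with `t` -/
theorem card_le {x : G} (hx : x ∈ W.S0 (P : Subgroup G)) (hxT : x ∉ W.T) (hxt : x * W.t = W.t * x)
    (hx2 : x * x = 1) {X : Subgroup G} (hX : X ≤ cen (W.S0 (P : Subgroup G)) x) (h2 : ∀ x ∈ X, x * x = 1) :
    Nat.card X ≤ W.q ^ 4 := by
  obtain ⟨v, hv, he⟩ := W.exists_conj_y hA hO hP hx hxT hxt hx2
  obtain ⟨b, hb⟩ : ∃ b, b = v * W.sw v := ⟨_, rfl⟩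
  rw [← hb] at he
  have hbS : b ∈ W.S0 (P : Subgroup G) := by
    rw [hb]
    exact W.T_S0 hP ⟨v, hv, W.sw v, W.sw_mem_S2 hv, rfl⟩
  rw [← card_cj X b]
  refine W.card_le_y hA hO hP ?_ ?_
  · rintro _ ⟨z, hz, rfl⟩
    obtain ⟨h3, h4⟩ := mem_cen.1 (hX hz)
    show b * z * b⁻¹ ∈ _
    refine mem_cen.2 ⟨mul_mem (mul_mem hbS h3) (inv_mem hbS), ?_⟩
    calc b * z * b⁻¹ * y = b * (z * (b⁻¹ * y * b)) * b⁻¹ := by group
      _ = b * (z * x) * b⁻¹ := by rw [he]
      _ = b * (x * z) * b⁻¹ := by rw [h4]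
      _ = b * ((b⁻¹ * y * b) * z) * b⁻¹ := by rw [he]
      _ = y * (b * z * b⁻¹) := by group
  · rintro _ ⟨z, hz, rfl⟩
    show b * z * b⁻¹ * (b * z * b⁻¹) = 1
    calc b * z * b⁻¹ * (b * z * b⁻¹) = b * (z * z) * b⁻¹ := by group
      _ = 1 := by rw [h2 z hz]; group

/-- **large elementary abelian subgroups of `C_{S0}(w)`**, `w` inner on `A1` and outer on `A2` -/
theorem exists_big {w : G} (hw : w ∈ W.S0 (P : Subgroup G)) (hw2 : w * w = 1) (h1 : w ∈ W.I1 (P : Subgroup G))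
    (h2 : W.sw w ∉ W.I1 (P : Subgroup G)) :
    ∃ X : Subgroup G, X ≤ cen (W.S0 (P : Subgroup G)) w ∧ (∀ x ∈ X, x * x = 1) ∧ 2 * W.q ^ 4 ≤ Nat.card X := by
  have hwi : w⁻¹ = w := inv_eq_of_mul_eq_one_right hw2
  have hyi : y⁻¹ = y := inv_eq_of_mul_eq_one_right hO.yy
  obtain ⟨-, s, hs, hact⟩ := h1
  have hss : s * s = 1 := by
    refine W.centre _ (mul_mem hs hs) (fun a ha => ?_)
    have e1 := hact a ha
    have e2 := hact _ (mul_mem (mul_mem (W.S1_le hs) ha) (inv_mem (W.S1_le hs)))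
    have e3 : s * s * a * (s * s)⁻¹ = a := by
      calc s * s * a * (s * s)⁻¹ = s * (s * a * s⁻¹) * s⁻¹ := by group
        _ = w * (s * a * s⁻¹) * w⁻¹ := e2.symm
        _ = w * (w * a * w⁻¹) * w⁻¹ := by rw [e1]
        _ = (w * w) * a * (w * w)⁻¹ := by group
        _ = a := by rw [hw2]; group
    calc s * s * a = (s * s * a * (s * s)⁻¹) * (s * s) := by group
      _ = a * (s * s) := by rw [e3]
  -- the subgroup `M` of order `q ^ 3`
  obtain ⟨M, hMS, hMc, hM2, hMw⟩ : ∃ M : Subgroup G, M ≤ W.S1 ∧ Nat.card M = W.q ^ 3 ∧ (∀ x ∈ M, x * x = 1) ∧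
      ∀ x ∈ M, w * x = x * w := by
    have hc : ∀ M : Subgroup G, M ≤ W.S1 → (∀ a ∈ M, ∀ b ∈ M, a * b = b * a) → s ∈ M → ∀ x ∈ M, w * x = x * w := by
      intro M hM hMc hsM x hx
      have e1 := hact x (W.S1_le (hM hx))
      rw [hMc s hsM x hx, mul_inv_cancel_right] at e1
      calc w * x = (w * x * w⁻¹) * w := by group
        _ = x * w := by rw [e1]
    rcases W.invM s hs hss with h | h
    · exact ⟨W.Ma, W.Ma_le, W.cardMa, W.sqMa, hc _ W.Ma_le (fun a ha b hb => W.comm_Ma ha hb) h⟩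
    · exact ⟨W.Mb, W.Mb_le, W.cardMb, W.sqMb, hc _ W.Mb_le (fun a ha b hb => W.comm_Mb ha hb) h⟩
  -- the action on `Z ^ t`
  obtain ⟨C, hC⟩ : ∃ C : Subgroup G, C = (W.Z ⊓ centralizer ({y} : Set G)).comap W.swHom := ⟨_, rfl⟩
  have hCm : ∀ x, x ∈ C ↔ W.sw x ∈ W.Z ∧ W.sw x * y = y * W.sw x := by
    intro x
    rw [hC]
    constructor
    · rintro ⟨h3, h4⟩
      exact ⟨h3, mem_centralizer_singleton_iff.1 h4⟩
    · rintro ⟨h3, h4⟩
      exact ⟨h3, mem_centralizer_singleton_iff.2 h4⟩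
  have hCc : W.q ≤ Nat.card C := by
    refine hO.card_Z.trans ?_
    rw [hC]
    refine Nat.card_le_card_of_injective (fun x => ⟨W.sw x, ?_⟩) ?_
    · show W.sw (W.sw x) ∈ W.Z ⊓ centralizer ({y} : Set G)
      rw [sw_sw]; exact x.2
    · intro a b hab
      apply Subtype.ext
      have := congrArg (fun z => W.sw (Subtype.val z)) hab
      simpa only [sw_sw] using this
  have hC2 : C ≤ W.A2 := by
    intro x hx
    exact W.S1_le (W.Ma_le (W.Z_Ma ((hCm x).1 hx).1))
  have hCsq : ∀ x ∈ C, x * x = 1 := by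
    intro x hx
    have := W.sqMa _ (W.Z_Ma ((hCm x).1 hx).1)
    have h3 := congrArg W.sw this
    rwa [sw_mul, sw_sw, sw_one] at h3
  have hCw : ∀ x ∈ C, w * x = x * w := by
    intro x hx
    obtain ⟨hxZ, hxy⟩ := (hCm x).1 hx
    have hsw := W.sw_S0n hA hO hP hw
    obtain ⟨hswP, hswN⟩ := (mem_S0n W).1 hsw
    have hsw2 : W.sw w * W.sw w = 1 := by rw [← sw_mul, hw2, sw_one]
    obtain ⟨-, r, hr, hra⟩ := hP.cyc1 _ hswP (fun a ha => norm_conj hswN ha) (by rw [hsw2]; exact one_mem _) h2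
    have e1 := hra _ (W.S1_le (W.Ma_le (W.Z_Ma hxZ)))
    rw [← W.Zc _ hxZ r hr, mul_inv_cancel_right] at e1
    -- `(y w') z (y w')⁻¹ = z`
    have e2 : W.sw w * W.sw x * (W.sw w)⁻¹ = W.sw x := by
      calc W.sw w * W.sw x * (W.sw w)⁻¹ = y⁻¹ * (y * W.sw w * W.sw x * (y * W.sw w)⁻¹) * y := by group
        _ = y⁻¹ * (W.sw x * y) := by rw [e1]; group
        _ = y⁻¹ * (y * W.sw x) := by rw [hxy]
        _ = W.sw x := by group
    have e3 : W.sw (w * x) = W.sw (x * w) := by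
      rw [sw_mul, sw_mul]
      calc W.sw w * W.sw x = (W.sw w * W.sw x * (W.sw w)⁻¹) * W.sw w := by group
        _ = W.sw x * W.sw w := by rw [e2]
    have := congrArg W.sw e3
    rwa [sw_sw, sw_sw] at this
  -- the product
  let X0 : Subgroup G := W.prod M C (hMS.trans W.S1_le) hC2
  have hX0 : ∀ x, x ∈ X0 ↔ ∃ a ∈ M, ∃ b ∈ C, x = a * b := fun x => Iff.rfl
  have hC2' : C ≤ W.S2 := by
    intro x hx
    exact W.Ma_le (W.Z_Ma ((hCm x).1 hx).1)
  have hX0T : X0 ≤ W.T := by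
    rintro _ ⟨a, ha, b, hb, rfl⟩
    exact ⟨a, hMS ha, b, hC2' hb, rfl⟩
  have hX0w : ∀ x ∈ X0, w * x = x * w := by
    rintro _ ⟨a, ha, b, hb, rfl⟩
    calc w * (a * b) = (w * a) * b := by group
      _ = a * (w * b) := by rw [hMw a ha]; group
      _ = a * b * w := by rw [hCw b hb]; group
  have hX0sq : ∀ x ∈ X0, x * x = 1 := by
    rintro _ ⟨a, ha, b, hb, rfl⟩
    have hc := W.comm' (W.S1_le (hMS ha)) (hC2 hb)
    calc a * b * (a * b) = a * (b * a) * b := by group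
      _ = a * (a * b) * b := by rw [hc]
      _ = (a * a) * (b * b) := by group
      _ = 1 := by rw [hM2 a ha, hCsq b hb, one_mul]
  have hX0c : W.q ^ 4 ≤ Nat.card X0 := by
    have h3 : Nat.card (M × C) ≤ Nat.card X0 := by
      refine Nat.card_le_card_of_injective (fun p => (⟨p.1 * p.2, p.1, p.1.2, p.2, p.2.2, rfl⟩ : X0)) ?_
      rintro ⟨⟨a, ha⟩, ⟨b, hb⟩⟩ ⟨⟨c, hc⟩, ⟨d, hd⟩⟩ he
      have he' : a * b = c * d := congrArg Subtype.val he
      obtain ⟨e1, e2⟩ := W.comp_eqn (hMS ha) (hC2' hb) (hMS hc) (hC2' hd) he'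
      subst e1; subst e2; rfl
    rw [Nat.card_prod, hMc] at h3
    calc W.q ^ 4 = W.q ^ 3 * W.q := by ring
      _ ≤ W.q ^ 3 * Nat.card C := Nat.mul_le_mul_left _ hCc
      _ ≤ Nat.card X0 := h3
  have hwX0 : w ∉ X0 := by
    intro h
    exact h2 ((W.mem_T_iff hA hO hP).1 (hX0T h)).2
  let X : Subgroup G :=
    { carrier := {x | x ∈ X0 ∨ w * x ∈ X0}
      one_mem' := Or.inl (one_mem _)
      mul_mem' := by
        rintro a b (ha | ha) (hb | hb)
        · exact Or.inl (mul_mem ha hb)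
        · right
          have e : w * (a * b) = a * (w * b) := by
            rw [← mul_assoc, hX0w a ha]; group
          rw [e]; exact mul_mem ha hb
        · right
          rw [← mul_assoc]; exact mul_mem ha hb
        · left
          have e1 := hX0w _ ha
          -- `w (w a) = (w a) w`
          have e2 : a = w * a * w := by
            rw [← e1, ← mul_assoc, hw2, one_mul]
          have e : a * b = (w * a) * (w * b) := by
            calc a * b = (w * a * w) * b := by rw [← e2]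
              _ = (w * a) * (w * b) := by group
          rw [e]; exact mul_mem ha hb
      inv_mem' := by
        rintro a (ha | ha)
        · exact Or.inl (inv_mem ha)
        · right
          have e1 := hX0w _ ha
          have e : w * a⁻¹ = (w * a)⁻¹ := by
            rw [mul_inv_rev, hwi]
            have e2 : a = w * a * w := by
              rw [← e1, ← mul_assoc, hw2, one_mul]
            have e3 : w * a = a * w := by
              calc w * a = w * (w * a * w) := by rw [← e2]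
                _ = (w * w) * a * w := by group
                _ = a * w := by rw [hw2, one_mul]
            calc w * a⁻¹ = a⁻¹ * (a * w) * a⁻¹ := by group
              _ = a⁻¹ * (w * a) * a⁻¹ := by rw [e3]
              _ = a⁻¹ * w := by group
          rw [e]; exact inv_mem ha }
  have hXm : ∀ x, x ∈ X ↔ x ∈ X0 ∨ w * x ∈ X0 := fun x => Iff.rfl
  have hXform : ∀ x ∈ X, x ∈ X0 ∨ ∃ z ∈ X0, x = w * z := by
    intro x hx
    rcases (hXm x).1 hx with h | h
    · exact Or.inl h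
    · refine Or.inr ⟨_, h, ?_⟩
      rw [← mul_assoc, hw2, one_mul]
  refine ⟨X, ?_, ?_, ?_⟩
  · intro x hx
    rcases hXform x hx with h | ⟨z, hz, rfl⟩
    · exact mem_cen.2 ⟨W.T_S0 hP (hX0T h), (hX0w x h).symm⟩
    · refine mem_cen.2 ⟨mul_mem hw (W.T_S0 hP (hX0T hz)), ?_⟩
      rw [mul_assoc, ← hX0w z hz]
  · intro x hx
    rcases hXform x hx with h | ⟨z, hz, rfl⟩
    · exact hX0sq x h
    · have e1 := hX0w z hz
      calc w * z * (w * z) = w * (z * w) * z := by group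
        _ = w * (w * z) * z := by rw [e1]
        _ = (w * w) * (z * z) := by group
        _ = 1 := by rw [hw2, hX0sq z hz, one_mul]
  · have hle : X0 ≤ X := fun x hx => Or.inl hx
    have hwX : w ∈ X := Or.inr (by rw [hw2]; exact one_mem _)
    have h3 := relIndex_mul_relIndex ⊥ X0 X bot_le hle
    rw [relIndex_bot_left, relIndex_bot_left] at h3
    have h4 : X0.relIndex X ≠ 1 := by
      intro h
      rw [relIndex_eq_one] at h
      exact hwX0 (h hwX)
    have h5 : X0.relIndex X ≠ 0 := by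
      intro h
      rw [h, mul_zero] at h3
      exact Nat.card_pos.ne h3
    have h6 : 2 ≤ X0.relIndex X := by omega
    rw [← h3]
    calc 2 * W.q ^ 4 ≤ X0.relIndex X * Nat.card X0 := Nat.mul_le_mul h6 hX0c
      _ = Nat.card X0 * X0.relIndex X := mul_comm _ _

/-- **the table** -/
theorem tab' {x : G} (hx : x ∈ W.S0 (P : Subgroup G)) (hxT : x ∉ W.T) (hxt : x * W.t = W.t * x)
    (hx2 : x * x = 1) {g : G} (hg : g⁻¹ * x * g ∈ W.S0 (P : Subgroup G))
    (hne : ¬ (g⁻¹ * x * g ∈ W.I1 (P : Subgroup G) ↔ W.sw (g⁻¹ * x * g) ∈ W.I1 (P : Subgroup G))) :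
    (cen (W.S0 (P : Subgroup G)) x).map (MulAut.conj g⁻¹).toMonoidHom ≠ cen (W.S0 (P : Subgroup G)) (g⁻¹ * x * g) := by
  intro he
  obtain ⟨w, hw⟩ : ∃ w, w = g⁻¹ * x * g := ⟨_, rfl⟩
  rw [← hw] at hg hne he
  have hw2 : w * w = 1 := by
    rw [hw]
    calc g⁻¹ * x * g * (g⁻¹ * x * g) = g⁻¹ * (x * x) * g := by group
      _ = 1 := by rw [hx2]; group
  -- a large elementary abelian subgroup
  obtain ⟨X, hX, hXsq, hXc⟩ : ∃ X : Subgroup G, X ≤ cen (W.S0 (P : Subgroup G)) w ∧ (∀ x ∈ X, x * x = 1) ∧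
      2 * W.q ^ 4 ≤ Nat.card X := by
    by_cases h1 : w ∈ W.I1 (P : Subgroup G)
    · have h2 : W.sw w ∉ W.I1 (P : Subgroup G) := fun h => hne ⟨fun _ => h, fun _ => h1⟩
      exact W.exists_big hA hO hP hg hw2 h1 h2
    · have h2 : W.sw w ∈ W.I1 (P : Subgroup G) := by
        by_contra h2
        exact hne ⟨fun h => absurd h h1, fun h => absurd h h2⟩
      obtain ⟨X, hX, hXsq, hXc⟩ := W.exists_big hA hO hP (W.sw_S0n hA hO hP hg)
        (by rw [← sw_mul, hw2, sw_one]) h2 (by rw [sw_sw]; exact h1)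
      refine ⟨X.comap W.swHom, ?_, ?_, ?_⟩
      · intro z hz
        have hz' : W.sw z ∈ X := hz
        obtain ⟨h3, h4⟩ := mem_cen.1 (hX hz')
        have h5 := W.sw_S0n hA hO hP h3
        rw [sw_sw] at h5
        refine mem_cen.2 ⟨h5, ?_⟩
        have := congrArg W.sw h4
        rwa [sw_mul, sw_mul, sw_sw, sw_sw] at this
      · intro z hz
        have := congrArg W.sw (hXsq _ hz)
        have e : W.swHom z = W.sw z := rfl
        rwa [e, sw_mul, sw_sw, sw_one] at this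
      · refine hXc.trans ?_
        refine Nat.card_le_card_of_injective (fun z => ⟨W.sw z, ?_⟩) ?_
        · show W.sw (W.sw z) ∈ X
          rw [sw_sw]; exact z.2
        · intro a b hab
          apply Subtype.ext
          have := congrArg (fun z => W.sw (Subtype.val z)) hab
          simpa only [sw_sw] using this
  have h1 := W.card_le hA hO hP hx hxT hxt hx2 (X := X.map (MulAut.conj g).toMonoidHom) (by
    rintro _ ⟨z, hz, rfl⟩
    have h2 := hX hz
    rw [← he] at h2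
    exact mem_map_conj.1 h2) (by
    rintro _ ⟨z, hz, rfl⟩
    show g * z * g⁻¹ * (g * z * g⁻¹) = 1
    calc g * z * g⁻¹ * (g * z * g⁻¹) = g * (z * z) * g⁻¹ := by group
      _ = 1 := by rw [hXsq z hz]; group)
  rw [card_cj] at h1
  have h2 : 0 < W.q ^ 4 := Nat.pow_pos (by have := W.q4; omega)
  omega

end Cfsg.Agent.StdSpFour.SplitA.Wr
end

-- part: StdSpFour/SplitA/Out
section
set_option linter.all false
open scoped Cfsg.Agent.FastGrp

set_option autoImplicit false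

/-!
# S1778, `Sp₄(q)`, case (A), split: `P ∩ E = T`

`outData`, `inf_eq` : **`P ∩ E = T`** from (F1), (H), (hW), (hD).
-/

namespace Cfsg.Agent.StdSpFour.SplitA.Wr

open Subgroup Cfsg.Agent.StdRank2.OutSplit
open scoped commutatorElement

universe u

variable {G : Type u} [Group G] [Finite G] (W : Wr G) {O T0 : Subgroup G} {y : G} {P : Sylow 2 G}

/-- all the facts -/
theorem outData (hA : W.Amb O) (hO : W.Outer T0 y) (hP : W.Syl T0 y (P : Subgroup G))
    (hF1 : ∀ g : G, g⁻¹ * W.t * g ∉ W.S0 (P : Subgroup G))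
    (hH : ∀ g : G, g⁻¹ * W.t * g ∈ (P : Subgroup G) → ∀ x ∈ W.B, g * x * g⁻¹ ∈ W.B)
    (hW : ∀ g : G, (∀ x ∈ W.T, g⁻¹ * x * g ∈ (P : Subgroup G)) → ∀ x ∈ W.T, g⁻¹ * x * g ∈ W.T)
    (hD : ∀ a ∈ W.S1, ∀ b ∈ W.S2, a ≠ 1 → b ≠ 1 → a * a = 1 → b * b = 1 → ∀ g : G,
      g⁻¹ * (a * b) * g ∉ W.S1 ∧ g⁻¹ * (a * b) * g ∉ W.S2)
    {E : Subgroup G} (hEn : E.Normal) (hE : commutator E = ⊤) (hGE : ∀ g : G, g ∈ E ∨ W.t * g ∈ E) :
    ∃ (A : Type u) (_ : CommGroup A) (ψ : W.S0 (P : Subgroup G) →* A),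
      OutData P (W.S0 (P : Subgroup G)) W.T W.S1 W.S2 E W.Z W.t ψ := by
  obtain ⟨A, hAc, ψ, hψ⟩ := exists_psi (S0 := W.S0 (P : Subgroup G)) (I := W.I1 (P : Subgroup G)) W.I1_S0 (by
    intro a ha b hb
    obtain ⟨ha1, ha2⟩ := (mem_S0n W).1 ha
    obtain ⟨hb1, hb2⟩ := (mem_S0n W).1 hb
    exact hP.comm1 a ha1 (fun x hx => norm_conj ha2 hx) b hb1 (fun x hx => norm_conj hb2 hx))
  have hs := W.swapData hA hO hP hW hD
  have hsw : ∀ x : G, W.t * x * W.t = W.sw x := fun _ => rfl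
  have hyS := W.y_S0 hA hO hP
  have hy2 : ψ ⟨y, hyS⟩ * ψ ⟨y, hyS⟩ = 1 := by
    rw [← map_mul]
    have : (⟨y, hyS⟩ : W.S0 (P : Subgroup G)) * ⟨y, hyS⟩ = 1 := Subtype.ext hO.yy
    rw [this, map_one]
  -- outer involutory types are equal to the type of `y`
  have hτ : ∀ x (hx : x ∈ W.S0 (P : Subgroup G)), x * x = 1 → x ∉ W.I1 (P : Subgroup G) →
      ψ ⟨x, hx⟩ = ψ ⟨y, hyS⟩ := by
    intro x hx hx2 hxI
    obtain ⟨hxP, hxN⟩ := (mem_S0n W).1 hx
    have h1 := hP.cyc1 x hxP (fun a ha => norm_conj hxN ha) (by rw [hx2]; exact one_mem _) hxI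
    have h2 := (hψ _ (mul_mem hyS hx)).2 h1
    have h3 : ψ ⟨y, hyS⟩ * ψ ⟨x, hx⟩ = 1 := by rw [← map_mul]; exact h2
    exact mul_left_cancel (h3.trans hy2.symm)
  have hswI : ∀ x ∈ W.S0 (P : Subgroup G), x * W.t = W.t * x → x ∉ W.T → x ∉ W.I1 (P : Subgroup G) := by
    intro x hx hxt hxT hxI
    apply hxT
    rw [W.mem_T_iff hA hO hP]
    refine ⟨hxI, ?_⟩
    rw [W.conj_P hxt.symm]
    exact hxI
  refine ⟨A, hAc, ψ, ?_⟩
  refine
    { swap := hs
      ht := W.tt
      htP := W.tP hO hP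
      F1 := hF1
      hE := hE
      hEn := hEn
      hGE := hGE
      norm := W.normS hA hO hP
      hN := ?_
      hZ1 := W.Z_Ma.trans W.Ma_le
      hZc := fun z hz a ha => W.Zc z hz a ha
      hZ' := W.comm_ge.trans (commutator_mono W.Ma_le W.Mb_le)
      hZ2 := fun z hz => W.sqMa z (W.Z_Ma hz)
      hZ4 := W.Z_two
      hZn := W.Z_norm hA hO hP
      hilb := W.hilb hA hO hP hs
      split := W.split hA hO hP hs
      M3 := ?_
      tab := ?_ }
  · intro x hx hx'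
    rw [hψ, hψ, hsw]
    exact W.mem_T_iff hA hO hP
  · intro x hx hx2 hxt hxT g hg hgx
    have hxI := hswI x hx hxt hxT
    obtain ⟨h1, h2, h3⟩ := W.M3' hA hO hP hH hx hx2 hxt hxI hg hgx
    have h4 : W.t * (g⁻¹ * x * g) * W.t ∈ W.S0 (P : Subgroup G) := W.sw_S0n hA hO hP h1
    have hg2 : (g⁻¹ * x * g) * (g⁻¹ * x * g) = 1 := by
      calc (g⁻¹ * x * g) * (g⁻¹ * x * g) = g⁻¹ * (x * x) * g := by group
        _ = 1 := by rw [hx2]; group
    have e1 := hτ x hx hx2 hxI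
    refine ⟨h1, h4, ?_, ?_⟩
    · rw [e1, hτ _ h1 hg2 h2]
    · rw [e1, hτ _ h4 ?_ h3]
      rw [hsw, ← sw_mul, hg2, sw_one]
  · intro x hx hx2 hxt hxT
    have hxI := hswI x hx hxt hxT
    refine ⟨⊥, ?_, ?_⟩
    · rw [mem_bot]
      exact fun h => hxI ((hψ x hx).1 h)
    · intro g _ h h' hne
      rw [mem_bot] at hne
      have hg2 : (g⁻¹ * x * g) * (g⁻¹ * x * g) = 1 := by
        calc (g⁻¹ * x * g) * (g⁻¹ * x * g) = g⁻¹ * (x * x) * g := by group
          _ = 1 := by rw [hx2]; group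
      have hg2' : W.sw (g⁻¹ * x * g) * W.sw (g⁻¹ * x * g) = 1 := by rw [← sw_mul, hg2, sw_one]
      refine W.tab' hA hO hP hx hxT hxt hx2 h (fun hiff => hne ?_)
      by_cases h1 : g⁻¹ * x * g ∈ W.I1 (P : Subgroup G)
      · rw [(hψ _ h).2 h1, (hψ _ h').2 (hiff.1 h1), one_mul]
      · have h2 : W.sw (g⁻¹ * x * g) ∉ W.I1 (P : Subgroup G) := fun h' => h1 (hiff.2 h')
        rw [hτ _ h hg2 h1, hτ _ h' hg2' h2, hy2]

/-- **`P ∩ E = T`** -/
theorem inf_eq (hA : W.Amb O) (hO : W.Outer T0 y) (hP : W.Syl T0 y (P : Subgroup G))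
    (hF1 : ∀ g : G, g⁻¹ * W.t * g ∉ W.S0 (P : Subgroup G))
    (hH : ∀ g : G, g⁻¹ * W.t * g ∈ (P : Subgroup G) → ∀ x ∈ W.B, g * x * g⁻¹ ∈ W.B)
    (hW : ∀ g : G, (∀ x ∈ W.T, g⁻¹ * x * g ∈ (P : Subgroup G)) → ∀ x ∈ W.T, g⁻¹ * x * g ∈ W.T)
    (hD : ∀ a ∈ W.S1, ∀ b ∈ W.S2, a ≠ 1 → b ≠ 1 → a * a = 1 → b * b = 1 → ∀ g : G,
      g⁻¹ * (a * b) * g ∉ W.S1 ∧ g⁻¹ * (a * b) * g ∉ W.S2)
    {E : Subgroup G} (hEn : E.Normal) (hE : commutator E = ⊤) (hGE : ∀ g : G, g ∈ E ∨ W.t * g ∈ E) :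
    (P : Subgroup G) ⊓ E = W.T := by
  obtain ⟨A, _, ψ, D⟩ := W.outData hA hO hP hF1 hH hW hD hEn hE hGE
  exact D.inf_eq

end Cfsg.Agent.StdSpFour.SplitA.Wr
end

-- part: StdRank2/L3W/Glue
section
set_option linter.all false
open scoped Cfsg.Agent.FastGrp

-- part: StdRank2/L3W/Half
section
/-!
# The transfer of the sign character of `Y`

`Y` a subgroup of `G` containing the involution `t`, `Y₀ ≤ Y` of index two, `t ∉ Y₀`, and `g⁻¹ t g ∈ Y → g ∈ Y`.
Then `|G : Y|` is odd, `t ∉ L` for a perfect normal subgroup `L` with `G = L ∪ t L`, and the involutions of `Y₀ ∩ C(t)`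
lie in `L`.
-/

set_option autoImplicit false

namespace Cfsg.Agent.StdRank2.L3W

open Subgroup MulAction Cfsg.Agent.StdEven.OuterKill Cfsg.Agent.StdRank2.OutSplit

variable {G : Type*} [Group G]

structure Half (L Y Y0 : Subgroup G) (t : G) : Prop where
  perf : commutator L = ⊤
  gen : ∀ g : G, g ∈ L ∨ t * g ∈ L
  tt : t * t = 1
  tY : t ∈ Y
  tY0 : t ∉ Y0
  Y0_le : Y0 ≤ Y
  Y_or : ∀ y ∈ Y, y ∈ Y0 ∨ t * y ∈ Y0
  t_Y0 : ∀ y ∈ Y0, t * y * t ∈ Y0
  fix : ∀ g : G, g⁻¹ * t * g ∈ Y → g ∈ Y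

namespace Half

variable {L Y Y0 : Subgroup G} {t : G} (C : Half L Y Y0 t)

include C

theorem mul_mem_Y0 {x y : G} (hx : x ∈ Y) (hy : y ∈ Y) (hx0 : x ∉ Y0) (hy0 : y ∉ Y0) : x * y ∈ Y0 := by
  have h1 := (C.Y_or x hx).resolve_left hx0
  have h2 := (C.Y_or y hy).resolve_left hy0
  have h3 := mul_mem (C.t_Y0 _ h1) h2
  have e : t * (t * x) * t * (t * y) = x * y := by
    calc t * (t * x) * t * (t * y) = (t * t) * x * (t * t) * y := by group
      _ = x * y := by rw [C.tt]; group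
  rwa [e] at h3

variable [Finite G]

/-- `|G : Y|` is odd: `t` fixes exactly one coset. -/
theorem odd_index : Odd Y.index := by
  classical
  have := Fintype.ofFinite (G ⧸ Y)
  have h1 := card_mod_two (α := G ⧸ Y) (fun q => t • q) (fun q => by rw [← mul_smul, C.tt, one_smul])
  have hfix : ∀ q : G ⧸ Y, t • q = q ↔ q = ((1 : G) : G ⧸ Y) := by
    intro q
    obtain ⟨g, rfl⟩ := QuotientGroup.mk_surjective q
    rw [smul_coset_eq, QuotientGroup.eq, mul_one]
    constructor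
    · intro h
      exact inv_mem (C.fix g h)
    · intro h
      have hg : g ∈ Y := by
        have := inv_mem h
        rwa [inv_inv] at this
      exact mul_mem (mul_mem h C.tY) hg
  have h2 : Fintype.card {x : G ⧸ Y // t • x = x} = 1 := by
    rw [Fintype.card_eq_one_iff]
    exact ⟨⟨((1 : G) : G ⧸ Y), (hfix _).mpr rfl⟩, fun y => Subtype.ext ((hfix _).mp y.2)⟩
  rw [h2] at h1
  rw [Subgroup.index, Nat.card_eq_fintype_card]
  exact Nat.odd_iff.2 h1

/-- The swap character. -/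
noncomputable def sg : Y →* ℤˣ := sgn Y Y0 (fun _ ha _ hb ha0 hb0 => C.mul_mem_Y0 ha hb ha0 hb0)

theorem transfer_t : MonoidHom.transfer C.sg t = -1 := by
  rw [transfer_const_group C.odd_index C.sg C.tt C.tY (R := ⊥) (IsPGroup.of_bot) (by
      intro r hr
      rw [mem_bot.mp hr, one_mul, mul_one]) (by
      intro g _ hg
      have hgY := C.fix g hg
      have e : (⟨g⁻¹ * t * g, hg⟩ : Y) = ⟨g, hgY⟩⁻¹ * ⟨t, C.tY⟩ * ⟨g, hgY⟩ := rfl
      rw [e, map_mul, map_mul, map_inv, mul_comm (C.sg ⟨g, hgY⟩)⁻¹, inv_mul_cancel_right])]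
  exact sgn_of_not_mem C.tY C.tY0

theorem t_not_mem : t ∉ L := by
  intro htL
  have h2 := hom_eq_one C.perf ((MonoidHom.transfer C.sg).comp L.subtype) ⟨t, htL⟩
  have h3 : MonoidHom.transfer C.sg t = 1 := h2
  rw [C.transfer_t] at h3
  exact absurd h3 (by decide)

theorem f_mem {f : G} (hf : f ∈ Y0) (hff : f * f = 1) (hft : f * t = t * f) : f ∈ L := by
  have h1 : MonoidHom.transfer C.sg f = 1 := by
    rw [transfer_const_group C.odd_index C.sg hff (C.Y0_le hf) (R := zpowers t) (by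
        intro ⟨x, hx⟩
        obtain ⟨i, rfl⟩ := mem_zpowers_iff.mp hx
        refine ⟨1, Subtype.ext ?_⟩
        show (t ^ i) ^ 2 ^ 1 = 1
        rw [← zpow_natCast, ← zpow_mul, mul_comm, zpow_mul, zpow_natCast, pow_one, pow_two, C.tt, one_zpow]) (by
        intro r hr
        obtain ⟨i, rfl⟩ := mem_zpowers_iff.mp hr
        have : Commute f t := hft
        exact (this.zpow_right i).symm) (by
        intro g hr hg
        have hgY := C.fix g (hr t (mem_zpowers t))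
        have e : (⟨g⁻¹ * f * g, hg⟩ : Y) = ⟨g, hgY⟩⁻¹ * ⟨f, C.Y0_le hf⟩ * ⟨g, hgY⟩ := rfl
        rw [e, map_mul, map_mul, map_inv, mul_comm (C.sg ⟨g, hgY⟩)⁻¹, inv_mul_cancel_right])]
    exact sgn_of_mem (C.Y0_le hf) hf
  by_contra hfL
  have h3 : t * f ∈ L := (C.gen f).resolve_left hfL
  have h4 := hom_eq_one C.perf ((MonoidHom.transfer C.sg).comp L.subtype) ⟨t * f, h3⟩
  have h5 : MonoidHom.transfer C.sg (t * f) = 1 := h4
  rw [map_mul, h1, C.transfer_t] at h5
  exact absurd h5 (by decide)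

/-- Sylow 2-subgroups of `Y` are Sylow in `G`. -/
theorem exists_sylow {Q : Subgroup G} (hQ : IsPGroup 2 Q) (hQY : Q ≤ Y) :
    ∃ P : Sylow 2 G, (P : Subgroup G) ≤ Y ∧ Q ≤ (P : Subgroup G) := by
  have : Fact (Nat.Prime 2) := ⟨Nat.prime_two⟩
  obtain ⟨S, hS, hQS⟩ := Cfsg.Agent.StdEven.Syl.exists_isSyl hQ hQY
  have h1 : ¬ 2 ∣ S.relIndex Y := by
    have := hS.odd_relIndex
    rw [← even_iff_two_dvd, Nat.not_even_iff_odd]
    exact this
  have h2 : ¬ 2 ∣ S.index := by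
    rw [← Subgroup.relIndex_mul_index hS.le]
    intro h
    rcases (Nat.Prime.dvd_mul Nat.prime_two).1 h with h | h
    · exact h1 h
    · have := C.odd_index
      rw [← Nat.not_even_iff_odd, even_iff_two_dvd] at this
      exact this h
  exact ⟨hS.two.toSylow h2, hS.le, hQS⟩

end Half

end Cfsg.Agent.StdRank2.L3W
end

-- part: StdRank2/L3W/Glue
section
/-!
# Wreath case of type `L₃(q)`: existence of the complete configuration

`exists_wr` : `Conf L A t`, the output `Wz` of the lifting and (F1) give `Wr`.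
-/

set_option autoImplicit false
set_option linter.unusedSectionVars false

namespace Cfsg.Agent.StdRank2.L3W

open Cfsg Subgroup Cfsg.Agent.SignalizersComponents Cfsg.Agent.StdEven.Syl Cfsg.Agent.StdEven.Loc
open Cfsg.Agent.StdL2.Setup Cfsg.Agent.SwapEnd Cfsg.Agent.StdRank2.OutL3Inv Cfsg.Agent.StdRank2.OutL3Je
open Cfsg.Agent.StdEven.OuterKill
open scoped commutatorElement

/-! ### Conjugation of a frame by `t` -/

theorem map_center_equiv {H K : Type*} [Group H] [Group K] (φ : H ≃* K) :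
    (center H).map φ.toMonoidHom = center K := by
  ext x
  constructor
  · rintro ⟨y, hy, rfl⟩
    rw [mem_center_iff]
    intro g
    have h1 := mem_center_iff.mp hy (φ.symm g)
    have h2 := congrArg φ h1
    rw [map_mul, map_mul, MulEquiv.apply_symm_apply] at h2
    exact h2
  · intro hx
    refine ⟨φ.symm x, ?_, φ.apply_symm_apply x⟩
    rw [SetLike.mem_coe, mem_center_iff]
    intro g
    have h1 := mem_center_iff.mp hx (φ g)
    have h2 := congrArg φ.symm h1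
    rw [map_mul, map_mul, MulEquiv.symm_apply_apply] at h2
    exact h2

section Conj

variable {G : Type*} [Group G] {G1 G2 : Subgroup G} {t : G}

/-- conjugation by `t` as an isomorphism. -/
def cjT (tt : t * t = 1) (h1 : ∀ x ∈ G1, t * x * t⁻¹ ∈ G2) (h2 : ∀ x ∈ G2, t * x * t⁻¹ ∈ G1) : ↥G1 ≃* ↥G2 where
  toFun x := ⟨t * x * t⁻¹, h1 x x.2⟩
  invFun y := ⟨t * y * t⁻¹, h2 y y.2⟩
  left_inv x := Subtype.ext (by
    show t * (t * (x : G) * t⁻¹) * t⁻¹ = x
    rw [inv_eq_of_mul_eq_one_left tt]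
    calc t * (t * (x : G) * t) * t = (t * t) * x * (t * t) := by group
      _ = x := by rw [tt, one_mul, mul_one])
  right_inv x := Subtype.ext (by
    show t * (t * (x : G) * t⁻¹) * t⁻¹ = x
    rw [inv_eq_of_mul_eq_one_left tt]
    calc t * (t * (x : G) * t) * t = (t * t) * x * (t * t) := by group
      _ = x := by rw [tt, one_mul, mul_one])
  map_mul' x y := Subtype.ext (by
    show t * ((x : G) * y) * t⁻¹ = t * x * t⁻¹ * (t * y * t⁻¹)
    group)

/-- The conjugate frame. -/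
noncomputable def conjFrame {F : Type*} [Field F] (fr : FrameL3 G1 F) (tt : t * t = 1)
    (h1 : ∀ x ∈ G1, t * x * t⁻¹ ∈ G2) (h2 : ∀ x ∈ G2, t * x * t⁻¹ ∈ G1) : FrameL3 G2 F where
  e := (QuotientGroup.congr (center ↥G1) (center ↥G2) (cjT tt h1 h2) (map_center_equiv _)).symm.trans fr.e
  x i j s := t * fr.x i j s * t⁻¹
  mem h s := h1 _ (fr.mem h s)
  map {i j} h s := by
    rw [← fr.map h s, MulEquiv.trans_apply]
    congr 1
    rw [MulEquiv.symm_apply_eq]
    rfl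
  two {i j} h s := by
    calc t * fr.x i j s * t⁻¹ * (t * fr.x i j s * t⁻¹) = t * (fr.x i j s * fr.x i j s) * t⁻¹ := by group
      _ = 1 := by rw [fr.two h]; group

end Conj

section Quasi

variable {G : Type*} [Group G] {G1 : Subgroup G} {F : Type*} [Field F]

theorem quasi (fr : FrameL3 G1 F) (hp : commutator ↥G1 = ⊤) : IsQuasisimple ↥G1 := by
  refine ⟨⟨hp⟩, ?_⟩
  have : IsSimpleGroup (Matrix.ProjectiveSpecialLinearGroup (Fin 3) F) :=
    Cfsg.Agent.LieClassical.SLGen.psl_isSimpleGroup (by simp)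
  exact fr.e.isSimpleGroup

theorem normal_cases (fr : FrameL3 G1 F) (hp : commutator ↥G1 = ⊤) (N : Subgroup G) (hN : N ≤ G1)
    (hn : ∀ m ∈ G1, ∀ x ∈ N, m * x * m⁻¹ ∈ N) : N = G1 ∨ ∀ x ∈ N, ∀ m ∈ G1, x * m = m * x := by
  have h1 : (N.subgroupOf G1).Normal := ⟨fun x hx g => by
    rw [mem_subgroupOf] at hx ⊢
    exact hn g g.2 x hx⟩
  rcases LayerBasic.quasisimple_normal (quasi fr hp) _ h1 with h | h
  · left
    exact le_antisymm hN (subgroupOf_eq_top.mp h)
  · right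
    intro x hx m hm
    have h2 : (⟨x, hN hx⟩ : G1) ∈ center ↥G1 := h (mem_subgroupOf.mpr hx)
    exact (congrArg Subtype.val (mem_center_iff.mp h2 ⟨m, hm⟩)).symm

variable [CharP F 2]

/-- root elements `≠ 1` are not central. -/
theorem x_not_central (fr : FrameL3 G1 F) (hZ : Odd (Nat.card (center ↥G1))) [Finite G] {i j : Fin 3} (hij : i ≠ j) :
    ∃ m ∈ G1, fr.x i j 1 * m ≠ m * fr.x i j 1 := by
  by_contra hcon
  push Not at hcon
  have h1 : (⟨fr.x i j 1, fr.mem hij 1⟩ : G1) ∈ center ↥G1 := by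
    rw [mem_center_iff]
    intro g
    exact Subtype.ext (hcon g g.2).symm
  have h2 : orderOf (⟨fr.x i j 1, fr.mem hij 1⟩ : G1) = 2 := by
    have : Fact (Nat.Prime 2) := ⟨Nat.prime_two⟩
    apply orderOf_eq_prime
    · rw [pow_two]
      exact Subtype.ext (fr.two hij 1)
    · intro h
      have h3 : fr.x i j 1 = 1 := congrArg Subtype.val h
      rw [fr.x_eq_one hZ hij] at h3
      exact one_ne_zero h3
  have h3 := Subgroup.orderOf_dvd_natCard _ h1
  rw [h2] at h3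
  exact (Nat.not_even_iff_odd.mpr hZ) (even_iff_two_dvd.mpr h3)

theorem le_closure_two (fr : FrameL3 G1 F) (hp : commutator ↥G1 = ⊤) (hZ : Odd (Nat.card (center ↥G1))) [Finite G] :
    G1 ≤ closure {x | x ∈ G1 ∧ ∃ k : ℕ, x ^ 2 ^ k = 1} := by
  set K := closure {x | x ∈ G1 ∧ ∃ k : ℕ, x ^ 2 ^ k = 1} with hK
  have hKle : K ≤ G1 := by
    rw [hK, closure_le]
    exact fun x hx => hx.1
  have hn : ∀ m ∈ G1, ∀ x ∈ K, m * x * m⁻¹ ∈ K := by
    intro m hm x hx
    have h1 : K ≤ K.comap (MulAut.conj m).toMonoidHom := by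
      conv_lhs => rw [hK]
      rw [closure_le]
      rintro y ⟨hy, k, hk⟩
      refine subset_closure ⟨mul_mem (mul_mem hm hy) (inv_mem hm), k, ?_⟩
      show (m * y * m⁻¹) ^ 2 ^ k = 1
      rw [conj_pow, hk, mul_one, mul_inv_cancel]
    exact h1 hx
  rcases normal_cases fr hp K hKle hn with h | h
  · exact h.ge
  · exfalso
    obtain ⟨m, hm, hne⟩ := x_not_central fr hZ (i := 0) (j := 1) (by decide)
    refine hne (h _ ?_ m hm)
    exact subset_closure ⟨fr.mem (by decide) 1, 1, fr.pow_two_pow (by decide) 1⟩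

end Quasi

/-! ### From `Wz` -/

namespace Wz

variable {G : Type*} [Group G] {F : Type*} [Field F] {A G1 G2 : Subgroup G} {t : G} {fr1 : FrameL3 G1 F}
  {fr2 : FrameL3 G2 F} (W : Wz fr1 fr2 A t)

theorem perf' (W : Wz fr1 fr2 A t) : ⁅G1, G1⁆ = G1 := by
  have h1 : (commutator ↥G1).map G1.subtype = ⁅G1, G1⁆ := by
    rw [commutator_def, Subgroup.map_commutator, ← MonoidHom.range_eq_map, Subgroup.range_subtype]
  rw [← h1, W.perf1, ← MonoidHom.range_eq_map, Subgroup.range_subtype]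

variable [CharP F 2] [Finite G]

theorem swap (W : Wz fr1 fr2 A t) (tt : t * t = 1) : Swap G1 t where
  tt := tt
  comm x hx y hy := by
    have h1 := W.comm x hx _ (W.t_G1 y hy)
    rwa [inv_eq_of_mul_eq_one_left tt] at h1
  perf := W.perf'
  two := le_closure_two fr1 W.perf1 W.oddZ
  qs N hN hn := normal_cases fr1 W.perf1 N hN hn
  ne := by
    intro h
    obtain ⟨m, hm, hne⟩ := x_not_central fr1 W.oddZ (i := 0) (j := 1) (by decide)
    rw [h, mem_bot] at hm
    rw [hm, one_mul, mul_one] at hne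
    exact hne rfl

theorem M2_eq (W : Wz fr1 fr2 A t) (tt : t * t = 1) : M2 G1 t = G2 := by
  have ti : t⁻¹ = t := inv_eq_of_mul_eq_one_left tt
  ext x
  rw [(W.swap tt).mem_M2]
  constructor
  · intro h
    have h1 := W.t_G1 _ h
    rw [ti, (W.swap tt).tconj] at h1
    exact h1
  · intro h
    have h1 := W.t_G2 _ h
    rwa [ti] at h1

theorem YZ_eq (W : Wz fr1 fr2 A t) (tt : t * t = 1) : YZ G1 t = NN G1 G2 := by
  unfold YZ NN
  rw [W.M2_eq tt]

theorem dia (W : Wz fr1 fr2 A t) {L : Subgroup G} (C : Conf L A t)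
    (hS : Cfsg.Agent.Schreier.Basic.Sch ↥A) : Swap.Dia (W.swap (tt C.ht)) A where
  eq := by
    have ti : t⁻¹ = t := inv_eq_of_mul_eq_one_left (tt C.ht)
    ext a
    rw [W.diag]
    constructor
    · rintro ⟨x, hx, rfl⟩
      refine ⟨⟨x, hx⟩, ?_⟩
      rw [Swap.dg_t, ti]
    · rintro ⟨x, rfl⟩
      exact ⟨x, x.2, by rw [Swap.dg_t, ti]⟩
  inA K hK hK2 hKt := Cfsg.Agent.StdEven.Perf.le_of_perfect C.std C.ht C.htA C.cyc hS hK hKt hK2

/-- **(H)** -/
theorem fix (W : Wz fr1 fr2 A t) {L : Subgroup G} (C : Conf L A t)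
    (hS : Cfsg.Agent.Schreier.Basic.Sch ↥A) (hF1 : ∀ g : G, g⁻¹ * t * g ∉ NN G1 G2) (g : G)
    (h : g⁻¹ * t * g ∈ NN G1 G2 ∨ t * (g⁻¹ * t * g) ∈ NN G1 G2) : g ∈ NN G1 G2 ∨ t * g ∈ NN G1 G2 := by
  have S := W.swap (tt C.ht)
  have hYZ := W.YZ_eq (tt C.ht)
  replace h := h.resolve_left (hF1 g)
  rw [← hYZ] at h ⊢
  have hu := S.swap_of h
  obtain ⟨m, hm, hne⟩ := x_not_central fr1 W.oddZ (i := 0) (j := 1) (by decide)
  have key : ∀ x ∈ G1 ⊔ M2 G1 t, g⁻¹ * x * g ∈ G1 ⊔ M2 G1 t := fun x hx =>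
    Swap.mem_normalizer_MM (W.swap (tt C.ht)) (W.dia C hS) (v := fr1.x 0 1 1) (fr1.mem (by decide) 1)
      (fr1.two (by decide) 1) ⟨m, hm, hne⟩ hu hx
  have h1 : g⁻¹ ∈ YY G1 t := mem_normalizer_of_conj_le (fun x hx => by
    rw [inv_inv]; exact key x hx)
  have h2 : g ∈ YY G1 t := by
    have := inv_mem h1
    rwa [inv_inv] at this
  exact S.YY_or h2

theorem half (W : Wz fr1 fr2 A t) {L : Subgroup G} (C : Conf L A t)
    (hS : Cfsg.Agent.Schreier.Basic.Sch ↥A) (hF1 : ∀ g : G, g⁻¹ * t * g ∉ NN G1 G2)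
    (hperf : commutator ↥L = ⊤) (hgen : ∀ g : G, g ∈ L ∨ t * g ∈ L) : Half L (YY G1 t) (NN G1 G2) t where
  perf := hperf
  gen := hgen
  tt := tt C.ht
  tY := (W.swap (tt C.ht)).t_mem_YY
  tY0 := by
    have := hF1 1
    rwa [inv_one, one_mul, mul_one] at this
  Y0_le := by
    rw [← W.YZ_eq (tt C.ht)]
    exact (W.swap (tt C.ht)).YZ_le
  Y_or y hy := by
    rw [← W.YZ_eq (tt C.ht)]
    exact (W.swap (tt C.ht)).YY_or hy
  t_Y0 y hy := by
    rw [← W.YZ_eq (tt C.ht)] at hy ⊢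
    exact (W.swap (tt C.ht)).t_YZ hy
  fix g hg := by
    have S := W.swap (tt C.ht)
    have h1 : g⁻¹ * t * g ∈ NN G1 G2 ∨ t * (g⁻¹ * t * g) ∈ NN G1 G2 := by
      rw [← W.YZ_eq (tt C.ht)]
      exact S.YY_or hg
    rcases W.fix C hS hF1 g h1 with h | h
    · rw [← W.YZ_eq (tt C.ht)] at h
      exact S.YZ_le h
    · rw [← W.YZ_eq (tt C.ht)] at h
      have h2 := mul_mem S.t_mem_YY (S.YZ_le h)
      rwa [← mul_assoc, S.tt, one_mul] at h2

/-- an involution of `C_G(G₁G₂) ∩ C_G(t)` is trivial -/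
theorem oddC (W : Wz fr1 fr2 A t) {L : Subgroup G} (C : Conf L A t) (c : G)
    (hc : ∀ m ∈ G1 ⊔ M2 G1 t, c * m = m * c) (hct : c * t = t * c) (hcc : c * c = 1) : c = 1 := by
  have : Fact (Nat.Prime 2) := ⟨Nat.prime_two⟩
  have S := W.swap (tt C.ht)
  have htt := tt C.ht
  have hti : t⁻¹ = t := inv_eq_of_mul_eq_one_left htt
  have hcA : c ∈ centralizer (A : Set G) := by
    rw [mem_centralizer_iff]
    intro a ha
    obtain ⟨x, hx, rfl⟩ := (W.diag a).mp ha
    have h1 := hc x (mem_sup_left hx)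
    have h2 := hc _ (mem_sup_right (S.conj_mem_M2 hx))
    rw [hti]
    calc x * (t * x * t) * c = x * (c * (t * x * t)) := by rw [h2]; group
      _ = c * (x * (t * x * t)) := by rw [← mul_assoc, ← h1, mul_assoc]
  by_contra hc1
  -- `⟨c, t⟩` is a 2-subgroup of `C(A)`
  have hp : ∀ z : G, z * z = 1 → IsPGroup 2 (zpowers z) := by
    intro z hz
    rintro ⟨x, hx⟩
    obtain ⟨i, rfl⟩ := mem_zpowers_iff.mp hx
    refine ⟨1, Subtype.ext ?_⟩
    show (z ^ i) ^ 2 ^ 1 = 1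
    rw [← zpow_natCast, ← zpow_mul, mul_comm, zpow_mul, zpow_natCast, pow_one, pow_two, hz, one_zpow]
  have hnorm : zpowers t ≤ normalizer (zpowers c : Set G) := by
    rw [zpowers_le, mem_normalizer_iff]
    have key : ∀ y ∈ zpowers c, t * y * t⁻¹ = y := by
      intro y hy
      obtain ⟨i, rfl⟩ := mem_zpowers_iff.mp hy
      have h1 : Commute c t := hct
      rw [← (h1.zpow_left i).eq, mul_inv_cancel_right]
    intro y
    constructor
    · intro hy
      rw [key y hy]; exact hy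
    · intro hy
      have h1 := key _ hy
      have h2 : t * y * t⁻¹ = y := by
        have h3 : t * (t * y * t⁻¹) * t⁻¹ = y := by
          rw [hti]; exact S.tconj y
        rw [h3] at h1
        exact h1.symm
      rwa [h2] at hy
  have hQ : IsPGroup 2 (zpowers c ⊔ zpowers t : Subgroup G) := (hp c hcc).to_sup_of_normal_left' (hp t htt) hnorm
  have hQle : zpowers c ⊔ zpowers t ≤ centralizer (A : Set G) :=
    sup_le (by rw [zpowers_le]; exact hcA) (by rw [zpowers_le]; exact C.htA)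
  have hcyc := Cfsg.Agent.StdSz.FromStd.isCyclic_of_le C.cyc hQ hQle
  have hct' : c = t := Cfsg.Agent.StdSz.FromStd.involution_unique hcyc (mem_sup_left (mem_zpowers c))
    (mem_sup_right (mem_zpowers t)) hcc htt hc1 (t_ne C.ht)
  -- but `t` does not centralise `G₁`
  obtain ⟨m, hm, hne⟩ := x_not_central fr1 W.oddZ (i := 0) (j := 1) (by decide)
  apply hne
  have hx := fr1.mem (i := 0) (j := 1) (by decide) 1
  have h1 := hc _ (mem_sup_left hx)
  rw [hct'] at h1
  have h2 : fr1.x 0 1 1 ∈ G2 := by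
    have h3 := W.t_G1 _ hx
    rwa [h1, mul_inv_cancel_right] at h3
  exact (W.comm m hm _ h2).symm

/-- `C_G(G₁G₂)` has odd order. -/
theorem odd_cent (W : Wz fr1 fr2 A t) {L : Subgroup G} (C : Conf L A t) :
    Odd (Nat.card (centralizer ((G1 ⊔ M2 G1 t : Subgroup G) : Set G))) := by
  classical
  have S := W.swap (tt C.ht)
  set K := centralizer ((G1 ⊔ M2 G1 t : Subgroup G) : Set G) with hK
  have hmem : ∀ {x : G}, x ∈ K ↔ ∀ m ∈ G1 ⊔ M2 G1 t, x * m = m * x := by
    intro x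
    rw [hK, mem_centralizer_iff]
    exact ⟨fun h m hm => (h m hm).symm, fun h m hm => (h m hm).symm⟩
  have htK : ∀ {x : G}, x ∈ K → t * x * t ∈ K := by
    intro x hx
    rw [hmem] at hx ⊢
    intro m hm
    exact S.tswap (hx _ (S.t_MM hm))
  have := Fintype.ofFinite K
  have h1 := card_mod_two (α := K) (fun x => x⁻¹) (fun x => inv_inv x)
  have := Fintype.ofFinite {x : K // x⁻¹ = x}
  have key : ∀ x : {x : K // x⁻¹ = x}, (⟨t * (x.1 : G) * t, htK x.1.2⟩ : K)⁻¹ = ⟨t * (x.1 : G) * t, htK x.1.2⟩ := by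
    rintro ⟨x, hx⟩
    apply Subtype.ext
    show (t * (x : G) * t)⁻¹ = t * (x : G) * t
    rw [← S.tinv]
    have : (x : G)⁻¹ = x := congrArg Subtype.val hx
    rw [this]
  have h2 := card_mod_two (α := {x : K // x⁻¹ = x}) (fun x => ⟨⟨t * (x.1 : G) * t, htK x.1.2⟩, key x⟩)
    (fun x => Subtype.ext (Subtype.ext (S.tconj _)))
  have h3 : Fintype.card {x : {x : K // x⁻¹ = x} //
      (⟨⟨t * (x.1 : G) * t, htK x.1.2⟩, key x⟩ : {x : K // x⁻¹ = x}) = x} = 1 := by
    rw [Fintype.card_eq_one_iff]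
    refine ⟨⟨⟨1, inv_one⟩, ?_⟩, ?_⟩
    · apply Subtype.ext
      apply Subtype.ext
      show t * ((1 : K) : G) * t = ((1 : K) : G)
      rw [Subgroup.coe_one, mul_one, S.tt]
    · rintro ⟨⟨⟨x, hx⟩, hxi⟩, hxt⟩
      apply Subtype.ext
      apply Subtype.ext
      apply Subtype.ext
      show x = 1
      have h4 : x⁻¹ = x := congrArg Subtype.val hxi
      have h5 : t * x * t = x := congrArg (fun z : {x : K // x⁻¹ = x} => ((z : K) : G)) hxt
      refine W.oddC C x (hmem.mp hx) ?_ ?_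
      · calc x * t = t * x * t * t := by rw [h5]
          _ = t * x := by rw [mul_assoc, S.tt, mul_one]
      · calc x * x = x⁻¹ * x := by rw [h4]
          _ = 1 := inv_mul_cancel x
  rw [Nat.card_eq_fintype_card, Nat.odd_iff, h1]
  have h4 : ∀ (i j : Fintype {x : K // x⁻¹ = x}), @Fintype.card _ i = @Fintype.card _ j := fun i j => by
    rw [← @Nat.card_eq_fintype_card _ i, ← @Nat.card_eq_fintype_card _ j]
  rw [h4 _ this, h2, h3]

theorem eq_one_of_cent (W : Wz fr1 fr2 A t) {L : Subgroup G} (C : Conf L A t) {c : G}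
    (h1 : ∀ x ∈ G1, c * x = x * c) (h2 : ∀ x ∈ G2, c * x = x * c) (hk : ∃ k : ℕ, c ^ 2 ^ k = 1) : c = 1 := by
  obtain ⟨k, hk⟩ := hk
  refine eq_one_of_two_odd (W.odd_cent C) ?_ hk
  rw [mem_centralizer_iff]
  intro m hm
  have S := W.swap (tt C.ht)
  obtain ⟨a, ha, b, hb, rfl⟩ := S.mem_MM.mp hm
  rw [W.M2_eq (tt C.ht)] at hb
  rw [mul_assoc, ← h2 b hb, ← mul_assoc, ← h1 a ha, mul_assoc]

end Wz

/-! ### `Conf` -/

section Conf

variable {G : Type*} [Group G] [Finite G] {L A : Subgroup G} {t : G}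

theorem conf_gen (C : Conf L A t) (g : G) : g ∈ L ∨ t * g ∈ L := by
  have hL := C.normal
  have htt : t * t = 1 := tt C.ht
  let K : Subgroup G :=
    { carrier := {g | g ∈ L ∨ t * g ∈ L}
      mul_mem' := by
        rintro a b (ha | ha) (hb | hb)
        · exact Or.inl (mul_mem ha hb)
        · right
          have h2 := hL.conj_mem a ha t
          have h3 : t * (a * b) = (t * a * t⁻¹) * (t * b) := by group
          rw [h3]; exact mul_mem h2 hb
        · right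
          have h3 : t * (a * b) = t * a * b := by group
          rw [h3]; exact mul_mem ha hb
        · left
          have h2 := hL.conj_mem _ ha t
          have h3 : a * b = (t * (t * a) * t⁻¹) * (t * b) := by
            calc a * b = (t * t) * a * b := by rw [htt, one_mul]
              _ = _ := by group
          rw [h3]; exact mul_mem h2 hb
      one_mem' := Or.inl (one_mem _)
      inv_mem' := by
        rintro a (ha | ha)
        · exact Or.inl (inv_mem ha)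
        · right
          have h2 := hL.conj_mem _ (inv_mem ha) t
          have h3 : t * a⁻¹ = t * (t * a)⁻¹ * t⁻¹ * (t * t) := by group
          rw [h3, htt, mul_one]; exact h2 }
  have h2 : L ⊔ zpowers t ≤ K := sup_le (fun x hx => Or.inl hx) (by
    rw [zpowers_le]
    right
    rw [htt]; exact one_mem _)
  rw [C.gen] at h2
  exact h2 (mem_top g)

theorem conf_perfect (C : Conf L A t) : commutator ↥L = ⊤ := by
  have := C.simple
  rcases (inferInstance : (commutator ↥L).Normal).eq_bot_or_eq_top with h | h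
  · exfalso
    apply C.not_comm
    rw [commutator_eq_bot_iff_center_eq_top] at h
    refine ⟨⟨fun a b => ?_⟩⟩
    have : b ∈ center ↥L := by rw [h]; exact mem_top _
    exact mem_center_iff.mp this a
  · exact h

/-- perfect subgroups lie in `L` -/
theorem conf_perf_le (C : Conf L A t) {K : Subgroup G} (hK : ⁅K, K⁆ = K) : K ≤ L := by
  have hL := C.normal
  have htt : t * t = 1 := tt C.ht
  rw [← hK, commutator_le]
  intro x _ y _
  rw [commutatorElement_def]
  have h1 := QuotientGroup.eq_one_iff (N := L) (x * y * x⁻¹ * y⁻¹)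
  rw [← h1]
  have hq : ∀ g : G, (g : G ⧸ L) = 1 ∨ (g : G ⧸ L) = (t : G ⧸ L) := by
    intro g
    rcases conf_gen C g with h | h
    · exact Or.inl ((QuotientGroup.eq_one_iff g).mpr h)
    · right
      have h2 : ((t * g : G) : G ⧸ L) = 1 := (QuotientGroup.eq_one_iff _).mpr h
      have h3 : (t : G ⧸ L) * (t : G ⧸ L) = 1 := by rw [← QuotientGroup.mk_mul, htt, QuotientGroup.mk_one]
      rw [QuotientGroup.mk_mul] at h2
      exact mul_left_cancel (h2.trans h3.symm)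
  rw [QuotientGroup.mk_mul, QuotientGroup.mk_mul, QuotientGroup.mk_mul, QuotientGroup.mk_inv, QuotientGroup.mk_inv]
  rcases hq x with hx | hx <;> rcases hq y with hy | hy <;> rw [hx, hy] <;> group

end Conf

/-! ### The main theorem -/

section Main

variable {G : Type*} [Group G] [Finite G] {F : Type*} [Field F] [Finite F] [CharP F 2] {L A G1 G2 : Subgroup G}
  {t : G} {fr1 : FrameL3 G1 F} {fr2 : FrameL3 G2 F}

/-- conjugation of `Adapted` by `t`. -/
theorem adapted_conj (tt : t * t = 1) {fr : FrameL3 G1 F} {fr' : FrameL3 G2 F}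
    (hx : ∀ (i j : Fin 3) (s : F), fr'.x i j s = t * fr.x i j s * t⁻¹) {T : Subgroup G}
    (hT : ∀ y ∈ T, t * y * t ∈ T) (had : Adapted fr T) : Adapted fr' T := by
  have ti : t⁻¹ = t := inv_eq_of_mul_eq_one_left tt
  intro y hy
  obtain ⟨u, hu, σ, hσ, h⟩ := had _ (hT y hy)
  have hU : ∀ u ∈ fr.U, t * u * t⁻¹ ∈ fr'.U := by
    intro u hu
    have h1 : fr.U ≤ fr'.U.comap (MulAut.conj t).toMonoidHom := by
      rw [FrameL3.U, closure_le]
      rintro _ ⟨i, j, hij, s, rfl⟩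
      show t * fr.x i j s * t⁻¹ ∈ fr'.U
      rw [← hx]
      exact fr'.x_mem_U hij s
    exact h1 hu
  refine ⟨t * u * t⁻¹, hU u hu, σ, hσ, ?_⟩
  have e : ∀ z : G, (t * u * t⁻¹ * y) * (t * z * t⁻¹) * (t * u * t⁻¹ * y)⁻¹ = t * ((u * (t * y * t)) * z * (u * (t * y * t))⁻¹) * t⁻¹ := by
    intro z
    have h1 : t * u * t⁻¹ * y = t * (u * (t * y * t)) * t⁻¹ := by
      calc t * u * t⁻¹ * y = t * u * t⁻¹ * y * (t * t) * (t⁻¹ * t⁻¹) := by rw [tt, ti, tt, mul_one, mul_one]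
        _ = t * (u * (t⁻¹ * y * t)) * t⁻¹ := by group
        _ = _ := by rw [ti]
    rw [h1]; group
  rcases h with h | h
  · left
    intro i j hij s
    rw [hx, e, h i j hij s, hx]
  · right
    intro i j hij s
    rw [hx, e, h i j hij s, hx]

/-- **The complete wreath configuration.** -/
theorem exists_wr (C : Conf L A t) (W : Wz fr1 fr2 A t) (hS : Cfsg.Agent.Schreier.Basic.Sch ↥A)
    (hF1 : ∀ g : G, g⁻¹ * t * g ∉ NN G1 G2) :
    ∃ (fr : FrameL3 G1 F) (fr' : FrameL3 G2 F) (P : Sylow 2 G), Wr fr fr' L P t := by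
  have htt := tt C.ht
  have ti : t⁻¹ = t := inv_eq_of_mul_eq_one_left htt
  have S := W.swap htt
  have hM2 := W.M2_eq htt
  have hYZ := W.YZ_eq htt
  have H := W.half C hS hF1 (conf_perfect C) (conf_gen C)
  have hp1 := W.perf'
  have hp2 : ⁅G2, G2⁆ = G2 := by
    rw [← hM2]
    show ⁅G1.map (MulAut.conj t).toMonoidHom, G1.map (MulAut.conj t).toMonoidHom⁆ = G1.map (MulAut.conj t).toMonoidHom
    rw [← Subgroup.map_commutator, hp1]
  have hperf2 : commutator ↥G2 = ⊤ := by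
    apply Subgroup.map_injective G2.subtype_injective
    rw [commutator_def, Subgroup.map_commutator, ← MonoidHom.range_eq_map, Subgroup.range_subtype, hp2]
  have hZ2 : Odd (Nat.card (center ↥G2)) := by
    have h1 := map_center_equiv (cjT htt W.t_G1 W.t_G2)
    rw [← h1]
    have h2 : Nat.card ((center ↥G1).map (cjT htt W.t_G1 W.t_G2).toMonoidHom) = Nat.card (center ↥G1) :=
      Nat.card_congr ((center ↥G1).equivMapOfInjective _ (cjT htt W.t_G1 W.t_G2).injective).toEquiv.symm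
    rw [h2]
    exact W.oddZ
  -- the 2-group `U₁ U₂ ⟨t⟩`
  have hG1Y : G1 ≤ YY G1 t := (le_sup_left.trans S.MM_le_YZ).trans S.YZ_le
  have hU1 : fr1.U ≤ G1 := fr1.U_le
  have hU1p : IsPGroup 2 fr1.U := fr1.isPGroup_U W.oddZ
  set U2 : Subgroup G := fr1.U.map (MulAut.conj t).toMonoidHom with hU2
  have hU2le : U2 ≤ M2 G1 t := Subgroup.map_mono hU1
  have hU2mem : ∀ u ∈ fr1.U, t * u * t⁻¹ ∈ U2 := fun u hu => ⟨u, hu, rfl⟩
  have hcomm12 : U2 ≤ normalizer (fr1.U : Set G) := by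
    intro w hw
    rw [mem_normalizer_iff]
    intro x
    constructor
    · intro hx
      rw [← S.commM (hU1 hx) (hU2le hw), mul_inv_cancel_right]
      exact hx
    · intro hx
      have h1 := S.commM (hU1 hx) (hU2le hw)
      have h2 : w * x * w⁻¹ = x := by
        have : w * (w * x * w⁻¹) = w * x := by rw [← h1]; group
        exact mul_left_cancel this
      rwa [h2] at hx
  have hQ0 : IsPGroup 2 (fr1.U ⊔ U2 : Subgroup G) := hU1p.to_sup_of_normal_left' (hU1p.map _) hcomm12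
  have htU2 : ∀ x ∈ fr1.U ⊔ U2, t * x * t⁻¹ ∈ fr1.U ⊔ U2 := by
    intro x hx
    have h1 : fr1.U ⊔ U2 ≤ (fr1.U ⊔ U2).comap (MulAut.conj t).toMonoidHom := by
      refine sup_le (fun u hu => mem_sup_right (hU2mem u hu)) ?_
      rintro _ ⟨u, hu, rfl⟩
      refine mem_sup_left ?_
      show t * (t * u * t⁻¹) * t⁻¹ ∈ fr1.U
      rw [ti, S.tconj]
      exact hu
    exact h1 hx
  have htN : zpowers t ≤ normalizer ((fr1.U ⊔ U2 : Subgroup G) : Set G) := by
    rw [zpowers_le]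
    exact mem_normalizer_of_conj_le htU2
  have hQ : IsPGroup 2 (fr1.U ⊔ U2 ⊔ zpowers t : Subgroup G) :=
    hQ0.to_sup_of_normal_left' (isPGroup_zpowers C.ht) htN
  have hQY : fr1.U ⊔ U2 ⊔ zpowers t ≤ YY G1 t :=
    sup_le (sup_le (hU1.trans hG1Y) (hU2le.trans ((le_sup_right.trans S.MM_le_YZ).trans S.YZ_le)))
      (by rw [zpowers_le]; exact S.t_mem_YY)
  obtain ⟨P, hPY, hQP⟩ := H.exists_sylow hQ hQY
  have htP : t ∈ (P : Subgroup G) := hQP (mem_sup_right (mem_zpowers t))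
  have hU1P : fr1.U ≤ (P : Subgroup G) := (le_sup_left.trans le_sup_left).trans hQP
  have hU2P : U2 ≤ (P : Subgroup G) := (le_sup_right.trans le_sup_left).trans hQP
  set S0 : Subgroup G := (P : Subgroup G) ⊓ NN G1 G2 with hS0
  have hS02 : IsPGroup 2 S0 := P.isPGroup'.to_le inf_le_left
  have hG1N : G1 ≤ NN G1 G2 := by
    rw [← hYZ]; exact le_sup_left.trans S.MM_le_YZ
  have hPG1 : (P : Subgroup G) ⊓ G1 = fr1.U :=
    (L3Data.isSyl_U W.oddZ fr1).max _ (P.isPGroup'.to_le inf_le_left) inf_le_right (le_inf hU1P hU1)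
  obtain ⟨c, hc⟩ := OutL3Je.exists_adapted fr1 W.oddZ S0 hS02
    (inf_le_right.trans inf_le_left) (by
      intro y hy u hu
      rw [← hPG1] at hu ⊢
      obtain ⟨hy1, hy2⟩ := mem_inf.mp hy
      exact mem_inf.mpr ⟨mul_mem (mul_mem hy1 hu.1) (inv_mem hy1),
        conj_mem_of_mem_normalizer (mem_inf.mp hy2).1 hu.2⟩)
  set fr : FrameL3 G1 F := fr1.rescale c with hfr
  set fr' : FrameL3 G2 F := conjFrame fr htt W.t_G1 W.t_G2 with hfr'
  have hframe : ∀ (i j : Fin 3) (s : F), fr'.x i j s = t * fr.x i j s * t⁻¹ := fun _ _ _ => rfl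
  have htS0 : ∀ y ∈ S0, t * y * t ∈ S0 := by
    intro y hy
    obtain ⟨hy1, hy2⟩ := mem_inf.mp hy
    refine mem_inf.mpr ⟨mul_mem (mul_mem htP hy1) htP, H.t_Y0 y hy2⟩
  refine ⟨fr, fr', P, ?_⟩
  exact {
    normal := C.normal
    perf := conf_perfect C
    gen := conf_gen C
    tE := H.t_not_mem
    tt := htt
    oddZ := W.oddZ
    oddZ' := hZ2
    perf1 := W.perf1
    perf2 := hperf2
    t_G1 := W.t_G1
    t_G2 := W.t_G2
    frame := hframe
    comm := W.comm
    le_E := conf_perf_le C hp1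
    le_E' := conf_perf_le C hp2
    tP := htP
    U_le := by rw [hfr, FrameL3.rescale_U]; exact hU1P
    U'_le := by
      rw [FrameL3.U, closure_le]
      rintro _ ⟨i, j, hij, s, rfl⟩
      rw [hframe]
      exact mul_mem (mul_mem htP (hU1P (fr1.x_mem_U hij _))) (inv_mem htP)
    P_le := fun x hx => H.Y_or x (hPY hx)
    adapted := hc
    adapted' := adapted_conj htt hframe htS0 hc
    cent := fun c h1 h2 hk => W.eq_one_of_cent C h1 h2 hk
    F1 := hF1
    fix := fun g hg => W.fix C hS hF1 g hg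
    inv_E := fun x hx hxx hxt => H.f_mem hx hxx hxt }

end Main

end Cfsg.Agent.StdRank2.L3W
end
end
end
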