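import Cfsg.Agent.StdRank2.L3Asm_mg_m3
import Cfsg.Agent.StdSpFour.SplitA.OutFuse_m3
import Mathlib
import Cfsg.Agent.StdRank2.UClose.Aut_m3
import Cfsg.Agent.StdEven.Red_m3
import Cfsg.Agent.Wreath.DOneTransfer
import Cfsg.Agent.StdRank2.L3W.Glue_m3
import Cfsg.Agent.StdRank2.UFour.GrowA2_m3
import Cfsg.Agent.StdRank2.B2Mover_m3
import Cfsg.Agent.StdSpFour.CloseMain_mg_m3
import Cfsg.Agent.SplitTwo.QuadEnd
import Cfsg.Agent.TitsThree.CharCN
import Cfsg.Agent.StdSpFour.CaseBFld_mg_m3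
import Cfsg.Agent.StdSpFour.Trich_mg_m3
import Cfsg.Agent.StdSpFour.SpEnv_m3
import Cfsg.Agent.StdSpFour.Fld_m3
import Cfsg.Agent.StdRank2.UTFour_m3
import Cfsg.Agent.StdL2.Assemble_m3
import Mathlib.SetTheory.Cardinal.Finite
import Mathlib.Algebra.Group.Subgroup.Basic
import Mathlib.GroupTheory.QuotientGroup.Basic
import Mathlib.GroupTheory.Subgroup.Centralizer
import Mathlib.Algebra.Group.Subgroup.Map
import Mathlib.GroupTheory.Commutator.Basic
import Mathlib.Algebra.Group.Subgroup.Finite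
import Cfsg.Agent.StdSpFour.SplitA.InstEnd_m3
import Cfsg.Agent.StdRank2.SchQuot_m3
import Cfsg.Agent.Schreier.ClassPSp
import Mathlib.GroupTheory.Perm.Cycle.Type
import Mathlib.GroupTheory.Index
import Cfsg.Agent.StdSpFour.CaseCDefs_m3
import Cfsg.Agent.FastGrp
import Cfsg.Agent.Prune
set_option linter.all false

section
prune_inst 0x7fbcfcfbadf82ddfdfff7e7ffe99dffc3dd4dfffffdffb4bbfeca1ef8fdf030a19e52b8d1de058fd0ee3629630b87813f9ffcabfea6bdc7ffffd1ff45ffbee0fe5f7bd09511688340fbc0ff703f07f8e7f3fffffffffffffffffffffffffffbeffffffffffff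

-- part: StdRank2/L3W/WrMain_mg
section
prune_inst 0x822000000000004200000000000000200400001008000000000424000000001000000100002000000000000024400400000000004000000000100000008000800000100020080000004000000000000000000000000000000000000000000000
set_option linter.all false
open scoped Cfsg.Agent.FastGrp

-- part: StdRank2/L3W0z
section
/-!
# Type `L₃(q)`, wreath case: the output `Wr0` in the form `L3W.Wz`
-/

set_option autoImplicit false
set_option linter.unusedSectionVars false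

namespace Cfsg.Agent.StdRank2.L3W0z

open Subgroup Cfsg.Agent.StdRank2.L3G Cfsg.Agent.StdRank2.L3Roots Cfsg.Agent.StdRank2.L3W0

variable {G : Type*} [Group G] {A : Subgroup G} {t : G} {F : Type*} [Field F] {fr : FrameL3 A F}

theorem wz (W : Wr0 t fr) : L3W.Wz W.fr1 W.fr2 A t where
  oddZ := W.odd1
  perf1 := W.perf1
  t_G1 := W.t12
  t_G2 := W.t21
  frame _ _ hij s := (W.tx hij s).symm
  comm := W.comm
  diag a := ⟨fun ha => W.onto a ha, by rintro ⟨x, hx, rfl⟩; exact W.diag x hx⟩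

theorem exists_wz [Finite G] {L : Subgroup G} {T : Subgroup G} [Finite F] [CharP F 2]
    (B : L3Inst.Both L A t T fr)
    {Ag Bg Zg : Subgroup (Cfsg.Agent.StdEven.CoreQuot.XQ A t)} (I : Input B.xsit Ag Bg Zg)
    (hc : ∃ c : F, c * c + c = I.K.g) : ∃ (G1 G2 : Subgroup G) (fr1 : FrameL3 G1 F) (fr2 : FrameL3 G2 F),
      L3W.Wz fr1 fr2 A t := by
  obtain ⟨W⟩ := exists_wr0 B I hc
  exact ⟨W.A1, W.A2, W.fr1, W.fr2, wz W⟩

end Cfsg.Agent.StdRank2.L3W0z
end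

-- part: StdRank2/L3W/GoodIn
section
/-!
# Perfect subgroups of `A` centralised by an outer involution, type `L₃(q)`

Variant of `OutL3Outer.Good` with the subgroup inside of `A`; the graph-field involutions for `q = 4`.
-/

set_option autoImplicit false
set_option linter.unusedSectionVars false
set_option linter.dupNamespace false

namespace Cfsg.Agent.StdRank2.L3W.GoodIn

open Subgroup
open scoped commutatorElement
open Cfsg.Agent.StdRank2.OutL3Rel Cfsg.Agent.StdRank2.OutField Cfsg.Agent.StdRank2.OutL3Inv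
open Cfsg.Agent.StdRank2.OutL3Je Cfsg.Agent.StdRank2.OutL3Outer

variable {G : Type*} [Group G]

/-- a perfect subgroup of `A`, generated by 2-elements, containing an involution, commuting with `f`. -/
def GoodIn (A : Subgroup G) (f : G) : Prop :=
  ∃ B : Subgroup G, B ≤ A ∧ ⁅B, B⁆ = B ∧ (∀ x ∈ B, x * f = f * x) ∧
    B ≤ closure {x | x ∈ B ∧ ∃ k : ℕ, x ^ 2 ^ k = 1} ∧ ∃ w ∈ B, w * w = 1 ∧ w ≠ 1

theorem GoodIn.conj {A : Subgroup G} {f : G} {g : G} (hg : g ∈ A) (h : GoodIn A (g * f * g⁻¹)) : GoodIn A f := by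
  obtain ⟨B, h0, h1, h2, h3, w, hw, h4, h5⟩ := h
  have hmem : ∀ x, x ∈ B → g⁻¹ * x * g ∈ B.map (MulAut.conj g⁻¹).toMonoidHom := by
    intro x hx
    refine ⟨x, hx, ?_⟩
    show g⁻¹ * x * g⁻¹⁻¹ = _
    rw [inv_inv]
  have hpow : ∀ (x : G) (k : ℕ), (g⁻¹ * x * g) ^ k = g⁻¹ * x ^ k * g := by
    intro x k
    have := (map_pow (MulAut.conj g⁻¹) x k)
    rw [MulAut.conj_apply, MulAut.conj_apply, inv_inv] at this
    exact this.symm
  refine ⟨B.map (MulAut.conj g⁻¹).toMonoidHom, ?_, ?_, ?_, ?_, g⁻¹ * w * g, hmem w hw, ?_, ?_⟩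
  · rintro _ ⟨x, hx, rfl⟩
    exact mul_mem (mul_mem (inv_mem hg) (h0 hx)) (inv_mem (inv_mem hg))
  · rw [← Subgroup.map_commutator, h1]
  · rintro _ ⟨x, hx, rfl⟩
    show g⁻¹ * x * g⁻¹⁻¹ * f = f * (g⁻¹ * x * g⁻¹⁻¹)
    rw [inv_inv]
    have := h2 x hx
    calc g⁻¹ * x * g * f = g⁻¹ * (x * (g * f * g⁻¹)) * g := by group
      _ = g⁻¹ * ((g * f * g⁻¹) * x) * g := by rw [this]
      _ = f * (g⁻¹ * x * g) := by group
  · rw [Subgroup.map_le_iff_le_comap]
    refine h3.trans ?_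
    rw [closure_le]
    rintro x ⟨hx, k, hk⟩
    refine subset_closure ⟨⟨x, hx, rfl⟩, k, ?_⟩
    show (g⁻¹ * x * g⁻¹⁻¹) ^ 2 ^ k = 1
    rw [inv_inv, hpow, hk]
    group
  · have : g⁻¹ * w * g * (g⁻¹ * w * g) = g⁻¹ * (w * w) * g := by group
    rw [this, h4]
    group
  · intro h
    apply h5
    have : w = g * (g⁻¹ * w * g) * g⁻¹ := by group
    rw [this, h]
    group

variable [Finite G] {A : Subgroup G} {F : Type*} [Field F] [Finite F] [CharP F 2]
  {fr : FrameL3 A F} (hZ : Odd (Nat.card (Subgroup.center ↥A)))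
include hZ

/-- Field type. -/
theorem good_fld {f : G} {σ : F ≃+* F} (hf : Fld fr f σ) : GoodIn A f := by
  set S : Set G := {g | ∃ (i j : Fin 3) (_ : i ≠ j) (s : F), σ s = s ∧ g = fr.x i j s} with hS
  have hmem : ∀ {i j : Fin 3} (h : i ≠ j) {s : F}, σ s = s → fr.x i j s ∈ closure S :=
    fun h s hs => subset_closure ⟨_, _, h, _, hs, rfl⟩
  have hcomm : ∀ s ∈ S, s * f = f * s := by
    rintro _ ⟨i, j, h, s, hs, rfl⟩
    have := hf i j h s
    rw [hs, mul_inv_eq_iff_eq_mul] at this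
    exact this.symm
  have hper : ∀ g ∈ S, g ∈ ⁅closure S, closure S⁆ := by
    rintro _ ⟨i, j, h, s, hs, rfl⟩
    obtain ⟨k, hki, hkj⟩ : ∃ k : Fin 3, i ≠ k ∧ k ≠ j := by
      revert i j; decide
    have e1 := fr.conj hZ hki hkj h s 1
    have e2 : fr.x i j s = ⁅fr.x i k s, fr.x k j 1⁆ := by
      rw [commutatorElement_def, e1, mul_one, mul_inv_cancel_right]
    rw [e2]
    exact Subgroup.commutator_mem_commutator (hmem hki hs) (hmem hkj (map_one σ))
  have h02 : (0 : Fin 3) ≠ 2 := by decide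
  refine ⟨closure S, ?_, perfect_closure hper, centralizes_closure hcomm, closure_two ?_, fr.x 0 2 1,
    hmem h02 (map_one σ), fr.two h02 1, x_ne_one hZ h02⟩
  · rw [closure_le]
    rintro _ ⟨i, j, h, s, hs, rfl⟩
    exact fr.mem h s
  · rintro _ ⟨i, j, h, s, hs, rfl⟩
    exact x_pow hZ h s

/-- Graph or graph-field type, with a fixed element of the field. -/
theorem good_grf_of {f : G} {σ : F ≃+* F} (hf : Grf fr f σ) {v : F} (hv : σ v = v) (hv0 : v ≠ 0) (hv1 : v ≠ 1) :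
    GoodIn A f := by
  have h02 : (0 : Fin 3) ≠ 2 := by decide
  have h20 : (2 : Fin 3) ≠ 0 := by decide
  have hper := perfect_sl hZ (fr := fr) (σ := σ) hv hv0 hv1
  set S : Set G := {g | ∃ s : F, σ s = s ∧ (g = fr.x 0 2 s ∨ g = fr.x 2 0 s)} with hS
  have hcomm : ∀ s ∈ S, s * f = f * s := by
    rintro _ ⟨s, hs, rfl | rfl⟩
    · have := hf 0 2 h02 s
      rw [hs, mul_inv_eq_iff_eq_mul] at this
      exact this.symm
    · have := hf 2 0 h20 s
      rw [hs, mul_inv_eq_iff_eq_mul] at this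
      exact this.symm
  refine ⟨closure S, ?_, hper, centralizes_closure hcomm, closure_two ?_, fr.x 0 2 1,
    subset_closure ⟨1, map_one σ, Or.inl rfl⟩, fr.two h02 1, x_ne_one hZ h02⟩
  · rw [closure_le]
    rintro _ ⟨s, -, rfl | rfl⟩
    · exact fr.mem h02 s
    · exact fr.mem h20 s
  · rintro _ ⟨s, -, rfl | rfl⟩
    · exact x_pow hZ h02 s
    · exact x_pow hZ h20 s

omit hZ in
/-- if an automorphism of order dividing 2 fixes only `0`, `1`, and `4 ≤ |F|`, it is nontrivial and `|F| = 4` -/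
theorem exists_fixed_or {σ : F ≃+* F} (h2 : σ * σ = 1) (hq : 4 ≤ Nat.card F) :
    (∃ v, σ v = v ∧ v ≠ 0 ∧ v ≠ 1) ∨ (σ ≠ 1 ∧ Nat.card F = 4 ∧ ∀ v, σ v = v → v = 0 ∨ v = 1) := by
  by_cases hex : ∃ v, σ v = v ∧ v ≠ 0 ∧ v ≠ 1
  · exact Or.inl hex
  · right
    push Not at hex
    have hfix : ∀ v, σ v = v → v = 0 ∨ v = 1 := by
      intro v hv
      by_cases h0 : v = 0
      · exact Or.inl h0
      · exact Or.inr (hex v hv h0)
    have h1 : {x : F | σ x = x} ⊆ {0, 1} := fun v hv => hfix v hv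
    have hc2 : Nat.card {x : F // σ x = x} ≤ 2 := by
      have h3 : Nat.card {x : F // σ x = x} = ({x : F | σ x = x}).ncard := rfl
      rw [h3]
      exact (Set.ncard_le_ncard h1 (Set.toFinite _)).trans ((Set.ncard_insert_le _ _).trans (by simp))
    have hne : σ ≠ 1 := by
      rintro rfl
      have h3 : Nat.card {x : F // (1 : F ≃+* F) x = x} = Nat.card F :=
        Nat.card_congr (Equiv.subtypeUnivEquiv (fun _ => rfl))
      omega
    have hc := card_fix h2 hne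
    refine ⟨hne, ?_, hfix⟩
    have h5 : Nat.card {x : F // σ x = x} * Nat.card {x : F // σ x = x} ≤ 2 * 2 := Nat.mul_le_mul hc2 hc2
    omega

/-- graph-field involution over `F₄` -/
def GF (fr : FrameL3 A F) (f : G) : Prop :=
  ∃ w ∈ fr.U, ∃ σ : F ≃+* F, σ ≠ 1 ∧ σ * σ = 1 ∧ Nat.card F = 4 ∧ (∀ v, σ v = v → v = 0 ∨ v = 1) ∧
    Grf fr (w * f * w⁻¹) σ

/-- An involution of `T` inducing an outer automorphism, `q ≥ 4`. -/
theorem good_or {T : Subgroup G} (had : Adapted fr T) (hTA : T ≤ Subgroup.normalizer (A : Set G))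
    (hA : _root_.commutator ↥A = ⊤) (hq : 4 ≤ Nat.card F) {f : G} (hfT : f ∈ T) (hff : f * f = 1)
    (hout : ¬ ∃ a ∈ A, a⁻¹ * f ∈ centralizer (A : Set G)) : GoodIn A f ∨ GF fr f := by
  rcases had.invol hZ hTA hA hfT (by rw [hff]; exact one_mem _) with ⟨v, hv, h⟩ | ⟨w, hw, σ, h2, h⟩
  · exact absurd ⟨v, fr.U_le hv, h⟩ hout
  · rcases h with ⟨h1, h⟩ | h
    · exact Or.inl ((good_fld hZ h).conj (fr.U_le hw))
    · rcases exists_fixed_or h2 hq with ⟨v, hv, hv0, hv1⟩ | ⟨h1, h4, hfix⟩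
      · exact Or.inl ((good_grf_of hZ h hv hv0 hv1).conj (fr.U_le hw))
      · exact Or.inr ⟨w, hw, σ, h1, h2, h4, hfix, h⟩

end Cfsg.Agent.StdRank2.L3W.GoodIn
end

-- part: StdRank2/L3W/NoFix
section
/-!
# S1778, type `L₃(q)`, wreath case, (W1): no conjugate of `t` normalises `G₁` and `G₂`

`CtFacts A t q`: facts on `C_G(t)`.  `no_fix`: if `G₁`, `G₂` commute and are of type `L₃(q)` (frames `fr₁`, `fr₂`), no
`d` with `CtFacts A' d q` normalises both.
-/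

set_option autoImplicit false
set_option linter.unusedSectionVars false

namespace Cfsg.Agent.StdRank2.L3W.NoFix

open Subgroup
open scoped commutatorElement
open Cfsg.Agent.StdEven.Syl
open Cfsg.Agent.StdRank2.OutL3Rel Cfsg.Agent.StdRank2.OutField Cfsg.Agent.StdRank2.OutL3Inv
open Cfsg.Agent.StdRank2.OutL3Je Cfsg.Agent.StdRank2.OutL3Outer
open Cfsg.Agent.StdRank2.L3W.GoodIn

variable {G : Type*} [Group G]

/-- Facts on `C_G(t)`, `q = |F|`. -/
structure CtFacts (A : Subgroup G) (t : G) (q : ℕ) : Prop where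
  tt : t * t = 1
  t_ne : t ≠ 1
  perf : ∀ X : Subgroup G, ⁅X, X⁆ = X → (∀ x ∈ X, x * t = t * x) →
    X ≤ closure {x | x ∈ X ∧ ∃ k : ℕ, x ^ 2 ^ k = 1} → X ≤ A
  rank : ∀ V : Subgroup G, (∀ x ∈ V, x * x = 1) → (∀ x ∈ V, x * t = t * x) → Nat.card V ≤ 2 * q ^ 2
  inv : ∀ X : Subgroup G, ⁅X, X⁆ = X → X ≤ A → ∀ w ∈ A, w * w = 1 → w ≠ 1 → (∀ x ∈ X, x * w = w * x) → X = ⊥
  sq : q = 4 → ∀ x : G, (∃ k : ℕ, x ^ 2 ^ k = 1) → x * t = t * x → x * x ∈ A ∨ t * (x * x) ∈ A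
  q8 : q = 4 → ∀ P : Subgroup G, IsPGroup 2 P → (∀ x ∈ P, x * t = t * x) → t ∉ P → 64 ≤ Nat.card P →
    {x | x ∈ P ∧ x * x = 1}.ncard ≤ 4 → (∀ x ∈ P, ∀ z ∈ P, z * z = 1 → x * z = z * x) → False

theorem conj_pow' (g x : G) (n : ℕ) : (g * x * g⁻¹) ^ n = g * x ^ n * g⁻¹ := conj_pow

theorem CtFacts.conj [Finite G] {A : Subgroup G} {t : G} {q : ℕ} (h : CtFacts A t q) (g : G) :
    CtFacts (A.map (MulAut.conj g).toMonoidHom) (g * t * g⁻¹) q := by
  have hcom : ∀ {x : G}, x * (g * t * g⁻¹) = (g * t * g⁻¹) * x → (g⁻¹ * x * g) * t = t * (g⁻¹ * x * g) := by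
    intro x hx
    calc g⁻¹ * x * g * t = g⁻¹ * (x * (g * t * g⁻¹)) * g := by group
      _ = g⁻¹ * ((g * t * g⁻¹) * x) * g := by rw [hx]
      _ = _ := by group
  -- the conjugate of a subgroup
  have hmem : ∀ {X : Subgroup G} {x : G}, x ∈ X.map (MulAut.conj g⁻¹).toMonoidHom ↔ g * x * g⁻¹ ∈ X := by
    intro X x
    rw [mem_map_conj, inv_inv]
  have hback : ∀ {X : Subgroup G} {x : G}, x ∈ X → g⁻¹ * x * g ∈ X.map (MulAut.conj g⁻¹).toMonoidHom := by
    intro X x hx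
    rw [hmem]
    have : g * (g⁻¹ * x * g) * g⁻¹ = x := by group
    rwa [this]
  have hcard : ∀ X : Subgroup G, Nat.card (X.map (MulAut.conj g⁻¹).toMonoidHom : Subgroup G) = Nat.card X :=
    fun X => (Nat.card_congr (X.equivMapOfInjective (MulAut.conj g⁻¹).toMonoidHom (MulAut.conj g⁻¹).injective).toEquiv).symm
  have hper : ∀ X : Subgroup G, ⁅X, X⁆ = X →
      ⁅(X.map (MulAut.conj g⁻¹).toMonoidHom : Subgroup G), (X.map (MulAut.conj g⁻¹).toMonoidHom : Subgroup G)⁆ =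
        X.map (MulAut.conj g⁻¹).toMonoidHom := by
    intro X hX
    rw [← map_commutator, hX]
  refine ⟨?_, ?_, ?_, ?_, ?_, ?_, ?_⟩
  · calc g * t * g⁻¹ * (g * t * g⁻¹) = g * (t * t) * g⁻¹ := by group
      _ = 1 := by rw [h.tt]; group
  · intro e
    exact h.t_ne (conj_eq_one_iff.1 e)
  · intro X hX hXt hX2
    have h1 := h.perf (X.map (MulAut.conj g⁻¹).toMonoidHom) (hper X hX) (by
      rintro _ ⟨x, hx, rfl⟩
      show g⁻¹ * x * g⁻¹⁻¹ * t = t * (g⁻¹ * x * g⁻¹⁻¹)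
      rw [inv_inv]
      exact hcom (hXt x hx)) (by
      rw [Subgroup.map_le_iff_le_comap]
      refine hX2.trans ?_
      rw [closure_le]
      rintro x ⟨hx, k, hk⟩
      refine subset_closure ⟨⟨x, hx, rfl⟩, k, ?_⟩
      show (g⁻¹ * x * g⁻¹⁻¹) ^ 2 ^ k = 1
      rw [conj_pow', hk]
      group)
    intro x hx
    rw [mem_map_conj]
    exact h1 (hback hx)
  · intro V hV hVt
    rw [← hcard V]
    refine h.rank _ ?_ ?_
    · intro x hx
      rw [hmem] at hx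
      have h1 := hV _ hx
      have h2 : g * x * g⁻¹ * (g * x * g⁻¹) = g * (x * x) * g⁻¹ := by group
      rw [h2] at h1
      exact conj_eq_one_iff.1 h1
    · intro x hx
      rw [hmem] at hx
      have h1 := hcom (hVt _ hx)
      have h2 : g⁻¹ * (g * x * g⁻¹) * g = x := by group
      rwa [h2] at h1
  · intro X hX hXA w hw hww hw1 hc
    rw [mem_map_conj] at hw
    have h1 := h.inv (X.map (MulAut.conj g⁻¹).toMonoidHom) (hper X hX) (by
      intro x hx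
      rw [hmem] at hx
      have h2 := mem_map_conj.1 (hXA hx)
      have h3 : g⁻¹ * (g * x * g⁻¹) * g = x := by group
      rwa [h3] at h2) _ hw (by
        calc g⁻¹ * w * g * (g⁻¹ * w * g) = g⁻¹ * (w * w) * g := by group
          _ = 1 := by rw [hww]; group) (by
        intro e
        apply hw1
        have h3 : w = g * (g⁻¹ * w * g) * g⁻¹ := by group
        rw [h3, e]; group) (by
      intro x hx
      rw [hmem] at hx
      have h2 := hc _ hx
      calc x * (g⁻¹ * w * g) = g⁻¹ * ((g * x * g⁻¹) * w) * g := by group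
        _ = g⁻¹ * (w * (g * x * g⁻¹)) * g := by rw [h2]
        _ = _ := by group)
    exact (Subgroup.map_eq_bot_iff_of_injective _ (MulAut.conj g⁻¹).injective).1 h1
  · intro hq x hx2 hxt
    obtain ⟨k, hk⟩ := hx2
    have h1 := h.sq hq (g⁻¹ * x * g) ⟨k, by
      have := conj_pow' g⁻¹ x (2 ^ k)
      rw [inv_inv] at this
      rw [this, hk]; group⟩ (hcom hxt)
    rw [mem_map_conj, mem_map_conj]
    have e1 : g⁻¹ * x * g * (g⁻¹ * x * g) = g⁻¹ * (x * x) * g := by group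
    have e2 : t * (g⁻¹ * x * g * (g⁻¹ * x * g)) = g⁻¹ * (g * t * g⁻¹ * (x * x)) * g := by group
    rw [e2, e1] at h1
    exact h1
  · intro hq P hP hPt htP h64 hinv hcen
    refine h.q8 hq (P.map (MulAut.conj g⁻¹).toMonoidHom) (hP.map _) ?_ ?_ ?_ ?_ ?_
    · intro x hx
      rw [hmem] at hx
      have h1 := hcom (hPt _ hx)
      have h2 : g⁻¹ * (g * x * g⁻¹) * g = x := by group
      rwa [h2] at h1
    · intro ht
      rw [hmem] at ht
      exact htP ht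
    · rw [hcard]; exact h64
    · refine le_trans ?_ hinv
      have h1 : {x | x ∈ P.map (MulAut.conj g⁻¹).toMonoidHom ∧ x * x = 1} ⊆
          (fun x => g⁻¹ * x * g) '' {x | x ∈ P ∧ x * x = 1} := by
        rintro x ⟨hx, hxx⟩
        rw [hmem] at hx
        refine ⟨g * x * g⁻¹, ⟨hx, ?_⟩, by group⟩
        calc g * x * g⁻¹ * (g * x * g⁻¹) = g * (x * x) * g⁻¹ := by group
          _ = 1 := by rw [hxx]; group
      exact (Set.ncard_le_ncard h1 (Set.toFinite _)).trans (Set.ncard_image_le (Set.toFinite _))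
    · intro x hx z hz hzz
      rw [hmem] at hx hz
      have h1 := hcen _ hx _ hz (by
        calc g * z * g⁻¹ * (g * z * g⁻¹) = g * (z * z) * g⁻¹ := by group
          _ = 1 := by rw [hzz]; group)
      calc x * z = g⁻¹ * ((g * x * g⁻¹) * (g * z * g⁻¹)) * g := by group
        _ = g⁻¹ * ((g * z * g⁻¹) * (g * x * g⁻¹)) * g := by rw [h1]
        _ = z * x := by group

/-! ### Lemmas on elementary abelian subgroups -/

section elem

/-- join of two commuting elementary abelian subgroups -/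
theorem elem_sup {V W : Subgroup G} (hc : ∀ x ∈ V, ∀ y ∈ W, x * y = y * x) : ∀ x ∈ V ⊔ W, ∃ v ∈ V, ∃ w ∈ W, x = v * w := by
  intro x hx
  have hn : W ≤ normalizer (V : Set G) := by
    intro w hw
    rw [mem_normalizer_iff]
    intro v
    constructor
    · intro hv
      rw [← hc v hv w hw, mul_inv_cancel_right]
      exact hv
    · intro hv
      have h1 := hc _ hv w hw
      have h2 : w * v * w⁻¹ * w = w * (w * v * w⁻¹) := h1
      have h3 : v = w * v * w⁻¹ := by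
        have : w * v = w * (w * v * w⁻¹) := by rw [← h2]; group
        exact mul_left_cancel this
      rw [h3]; exact hv
  have h1 : x ∈ ((V ⊔ W : Subgroup G) : Set G) := hx
  rw [coe_mul_of_right_le_normalizer_left V W hn] at h1
  obtain ⟨v, hv, w, hw, h⟩ := h1
  exact ⟨v, hv, w, hw, h.symm⟩

theorem sup_sq {V W : Subgroup G} (hV : ∀ x ∈ V, x * x = 1) (hW : ∀ x ∈ W, x * x = 1)
    (hc : ∀ x ∈ V, ∀ y ∈ W, x * y = y * x) : ∀ x ∈ V ⊔ W, x * x = 1 := by
  intro x hx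
  obtain ⟨v, hv, w, hw, rfl⟩ := elem_sup hc x hx
  calc v * w * (v * w) = v * (w * v) * w := by group
    _ = v * (v * w) * w := by rw [hc v hv w hw]
    _ = (v * v) * (w * w) := by group
    _ = 1 := by rw [hV v hv, hW w hw, one_mul]

theorem sup_comm {V W : Subgroup G} {d : G} (hV : ∀ x ∈ V, x * d = d * x) (hW : ∀ x ∈ W, x * d = d * x) :
    ∀ x ∈ V ⊔ W, x * d = d * x := by
  have h1 : V ⊔ W ≤ centralizer {d} := sup_le
    (fun x hx => mem_centralizer_singleton_iff.2 (hV x hx)) (fun x hx => mem_centralizer_singleton_iff.2 (hW x hx))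
  exact fun x hx => mem_centralizer_singleton_iff.1 (h1 hx)

theorem card_sup_ge [Finite G] {V W : Subgroup G} (hd : ∀ x ∈ V, x ∈ W → x = 1) :
    Nat.card V * Nat.card W ≤ Nat.card (V ⊔ W : Subgroup G) := by
  rw [← Nat.card_prod]
  refine Nat.card_le_card_of_injective (fun p : V × W =>
    (⟨p.1 * p.2, mul_mem (mem_sup_left p.1.2) (mem_sup_right p.2.2)⟩ : (V ⊔ W : Subgroup G))) ?_
  rintro ⟨⟨v, hv⟩, ⟨w, hw⟩⟩ ⟨⟨v', hv'⟩, ⟨w', hw'⟩⟩ h
  have h1 : v * w = v' * w' := congrArg Subtype.val h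
  have h2 : v'⁻¹ * v = w' * w⁻¹ := by
    rw [inv_mul_eq_iff_eq_mul, ← mul_assoc, ← h1, mul_inv_cancel_right]
  have h3 : v'⁻¹ * v = 1 := hd _ (mul_mem (inv_mem hv') hv) (by rw [h2]; exact mul_mem hw' (inv_mem hw))
  have h4 : v = v' := (inv_mul_eq_one.1 h3).symm
  subst h4
  have h5 : w = w' := mul_left_cancel h1
  subst h5
  rfl

end elem

/-- an involution normalising a nontrivial subgroup of exponent two centralises an involution of it -/
theorem exists_fixed {W : Subgroup G} (hW : ∀ x ∈ W, x * x = 1) {d : G} (hdd : d * d = 1)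
    (hd : ∀ x ∈ W, d * x * d⁻¹ ∈ W) {z : G} (hz : z ∈ W) (hz1 : z ≠ 1) :
    ∃ i ∈ W, i * i = 1 ∧ i ≠ 1 ∧ i * d = d * i := by
  have hdi : d⁻¹ = d := inv_eq_of_mul_eq_one_left hdd
  have hc : ∀ x ∈ W, ∀ y ∈ W, x * y = y * x := fun x hx y hy => FrameL3.comm_of_sq hW hx hy
  by_cases h1 : z * (d * z * d⁻¹) = 1
  · refine ⟨z, hz, hW z hz, hz1, ?_⟩
    have h2 : d * z * d⁻¹ = z := by
      have h3 : d * z * d⁻¹ = z⁻¹ := eq_inv_of_mul_eq_one_right h1
      rw [h3]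
      exact inv_eq_of_mul_eq_one_left (hW z hz)
    rw [mul_inv_eq_iff_eq_mul] at h2
    exact h2.symm
  · refine ⟨z * (d * z * d⁻¹), mul_mem hz (hd z hz), hW _ (mul_mem hz (hd z hz)), h1, ?_⟩
    have h2 : d * (z * (d * z * d⁻¹)) * d⁻¹ = z * (d * z * d⁻¹) := by
      calc d * (z * (d * z * d⁻¹)) * d⁻¹ = (d * z * d⁻¹) * ((d * d) * z * (d⁻¹ * d⁻¹)) := by group
        _ = (d * z * d⁻¹) * z := by rw [hdi, hdd, one_mul, mul_one]
        _ = z * (d * z * d⁻¹) := by rw [hc _ (hd z hz) z hz]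
    rw [mul_inv_eq_iff_eq_mul] at h2
    exact h2.symm

section main

variable [Finite G] {F : Type*} [Field F] [Finite F] [CharP F 2]

/-- common elements of two commuting groups with odd centre, of order 2 -/
theorem eq_one_of_both {G₁ G₂ : Subgroup G} (hZ₁ : Odd (Nat.card (center ↥G₁)))
    (hcomm : ∀ x ∈ G₁, ∀ y ∈ G₂, x * y = y * x) {x : G} (h1 : x ∈ G₁) (h2 : x ∈ G₂) {k : ℕ} (hx : x ^ 2 ^ k = 1) :
    x = 1 := by
  have h3 : (⟨x, h1⟩ : G₁) ∈ center ↥G₁ := by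
    rw [mem_center_iff]
    rintro ⟨y, hy⟩
    exact Subtype.ext (hcomm y hy x h2)
  have h4 : orderOf (⟨⟨x, h1⟩, h3⟩ : center ↥G₁) ∣ Nat.card (center ↥G₁) := orderOf_dvd_natCard _
  have h5 : orderOf (⟨⟨x, h1⟩, h3⟩ : center ↥G₁) ∣ 2 ^ k := by
    rw [orderOf_dvd_iff_pow_eq_one]
    exact Subtype.ext (Subtype.ext hx)
  obtain ⟨j, -, hj⟩ := (Nat.dvd_prime_pow Nat.prime_two).1 h5
  have h6 : j = 0 := by
    by_contra hne
    have h7 : 2 ∣ Nat.card (center ↥G₁) := (dvd_pow_self 2 hne).trans (hj ▸ h4)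
    exact (Nat.not_even_iff_odd.mpr hZ₁) (even_iff_two_dvd.mpr h7)
  rw [h6, pow_zero, orderOf_eq_one_iff] at hj
  exact congrArg (fun z : center ↥G₁ => ((z : G₁) : G)) hj

/-- an elementary abelian subgroup of order `q²` containing a given element with square 1 -/
theorem exists_elem {A : Subgroup G} (fr : FrameL3 A F) (hZ : Odd (Nat.card (center ↥A))) {a : G} (ha : a ∈ A)
    (haa : a * a = 1) : ∃ V : Subgroup G, V ≤ A ∧ (∀ x ∈ V, x * x = 1) ∧ a ∈ V ∧ Nat.card V = Nat.card F ^ 2 := by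
  by_cases ha1 : a = 1
  · exact ⟨fr.Row 0, fr.Row_le 0, fun x hx => fr.Row_sq hZ hx, by rw [ha1]; exact one_mem _, fr.card_Row hZ 0⟩
  · obtain ⟨y, hy, h⟩ := fr.involution_conj hZ ha haa ha1
    refine ⟨(fr.Row 0).map (MulAut.conj y⁻¹).toMonoidHom, ?_, ?_, ?_, ?_⟩
    · rintro _ ⟨x, hx, rfl⟩
      exact mul_mem (mul_mem (inv_mem hy) (fr.Row_le 0 hx)) (inv_mem (inv_mem hy))
    · rintro _ ⟨x, hx, rfl⟩
      rw [← map_mul, fr.Row_sq hZ hx, map_one]
    · rw [mem_map_conj, inv_inv, h]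
      exact fr.x_mem_Row (by decide) 1
    · rw [← fr.card_Row hZ 0]
      exact (Nat.card_congr ((fr.Row 0).equivMapOfInjective (MulAut.conj y⁻¹).toMonoidHom
        (MulAut.conj y⁻¹).injective).toEquiv).symm

/-- an involution inducing an inner automorphism: the inner part can be chosen with square 1. -/
theorem exists_sq_one {A : Subgroup G} (hZ : Odd (Nat.card (center ↥A))) {d : G} (hdd : d * d = 1)
    (h : ∃ a ∈ A, a⁻¹ * d ∈ centralizer (A : Set G)) :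
    ∃ a ∈ A, a * a = 1 ∧ a⁻¹ * d ∈ centralizer (A : Set G) := by
  obtain ⟨a, ha, hc⟩ := h
  have hc' : ∀ x ∈ A, x * (a⁻¹ * d) = (a⁻¹ * d) * x := fun x hx => mem_centralizer_iff.1 hc x hx
  set z := a⁻¹ * d with hz
  have hd : d = a * z := by rw [hz]; group
  have haz : a * z = z * a := hc' a ha
  have h1 : (a * a) * (z * z) = 1 := by
    calc (a * a) * (z * z) = a * (a * z) * z := by group
      _ = a * (z * a) * z := by rw [haz]
      _ = (a * z) * (a * z) := by group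
      _ = 1 := by rw [← hd, hdd]
  have h2 : a * a ∈ centralizer (A : Set G) := by
    rw [eq_inv_of_mul_eq_one_left h1]
    exact inv_mem (mul_mem hc hc)
  have h3 : (⟨a * a, mul_mem ha ha⟩ : A) ∈ center ↥A := by
    rw [mem_center_iff]
    rintro ⟨y, hy⟩
    exact Subtype.ext (mem_centralizer_iff.1 h2 y hy)
  obtain ⟨m, hm⟩ := hZ
  have h4 : (a * a) ^ (2 * m + 1) = 1 := by
    have := pow_card_eq_one' (x := (⟨⟨a * a, mul_mem ha ha⟩, h3⟩ : center ↥A))
    rw [hm] at this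
    exact congrArg (fun z : center ↥A => ((z : A) : G)) this
  refine ⟨a ^ (2 * m + 1), pow_mem ha _, ?_, ?_⟩
  · rw [← (Commute.refl a).mul_pow]; exact h4
  · have h5 : (a ^ (2 * m + 1))⁻¹ * d = ((a * a) ^ m)⁻¹ * z := by
      rw [hd, pow_succ', pow_mul, pow_two]
      group
    rw [h5]
    exact mul_mem (inv_mem (pow_mem h2 m)) hc

/-- **inner case** -/
theorem inner_false {A' : Subgroup G} {d : G} (C : CtFacts A' d (Nat.card F)) {G₁ G₂ : Subgroup G}
    (fr₁ : FrameL3 G₁ F) (fr₂ : FrameL3 G₂ F) (hZ₁ : Odd (Nat.card (center ↥G₁))) (hZ₂ : Odd (Nat.card (center ↥G₂)))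
    (hcomm : ∀ x ∈ G₁, ∀ y ∈ G₂, x * y = y * x) (hq : 4 ≤ Nat.card F)
    (hd₂ : ∀ u ∈ fr₂.U, d * u * d⁻¹ ∈ fr₂.U)
    (hin : ∃ a ∈ G₁, a⁻¹ * d ∈ centralizer (G₁ : Set G)) : False := by
  obtain ⟨a, ha, haa, hc⟩ := exists_sq_one hZ₁ C.tt hin
  have hc' : ∀ x ∈ G₁, x * (a⁻¹ * d) = (a⁻¹ * d) * x := fun x hx => mem_centralizer_iff.1 hc x hx
  obtain ⟨V, hVG, hV2, haV, hVc⟩ := exists_elem fr₁ hZ₁ ha haa
  have hVcomm : ∀ x ∈ V, ∀ y ∈ V, x * y = y * x := fun x hx y hy => FrameL3.comm_of_sq hV2 hx hy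
  -- `d` centralises `V`
  have hVd : ∀ x ∈ V, x * d = d * x := by
    intro x hx
    have h1 := hc' x (hVG hx)
    have h2 := hVcomm x hx a haV
    calc x * d = x * a * (a⁻¹ * d) := by group
      _ = a * (x * (a⁻¹ * d)) := by rw [h2]; group
      _ = a * ((a⁻¹ * d) * x) := by rw [h1]
      _ = d * x := by group
  -- an involution of `Z(U₂)` centralised by `d`
  set W₂ : Subgroup G := fr₂.U ⊓ centralizer (fr₂.U : Set G) with hW₂
  have hW₂mem : ∀ {x : G}, x ∈ W₂ → ∃ c, x = fr₂.x 0 2 c := by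
    rintro x ⟨h1, h2⟩
    exact fr₂.mem_center_U hZ₂ h1 fun v hv => (mem_centralizer_iff.1 h2 v hv).symm
  have hW₂sq : ∀ x ∈ W₂, x * x = 1 := by
    intro x hx
    obtain ⟨c, rfl⟩ := hW₂mem hx
    exact fr₂.two (by decide) c
  have hx02 : fr₂.x 0 2 1 ∈ W₂ := by
    refine ⟨fr₂.x_mem_U (by decide) 1, ?_⟩
    show fr₂.x 0 2 1 ∈ centralizer _
    rw [mem_centralizer_iff]
    intro v hv
    obtain ⟨r, s, t, rfl⟩ := (mem_U fr₂ hZ₂).1 hv
    rw [← u_t fr₂ hZ₂, u_comm_iff fr₂ hZ₂, mul_zero, zero_mul]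
  have hnorm : ∀ x ∈ W₂, d * x * d⁻¹ ∈ W₂ := by
    rintro x ⟨h1, h2⟩
    refine ⟨hd₂ x h1, ?_⟩
    show d * x * d⁻¹ ∈ centralizer _
    rw [mem_centralizer_iff]
    intro v hv
    have h3 : d⁻¹ * v * d ∈ fr₂.U := conj_inv_mem_of_mem_normalizer (mem_normalizer_of_conj_le hd₂) hv
    have h4 := mem_centralizer_iff.1 h2 _ h3
    calc v * (d * x * d⁻¹) = d * ((d⁻¹ * v * d) * x) * d⁻¹ := by group
      _ = d * (x * (d⁻¹ * v * d)) * d⁻¹ := by rw [h4]
      _ = _ := by group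
  obtain ⟨i, hiW, hii, hi1, hid⟩ := exists_fixed hW₂sq C.tt hnorm hx02 (x_ne_one hZ₂ (by decide))
  obtain ⟨c, hic⟩ := hW₂mem hiW
  have hi2 : i ∈ G₂ := fr₂.U_le hiW.1
  -- the elementary abelian group `V₂` of `G₂`
  set V₂ := fr₂.Row 0 with hV₂
  have hiV₂ : i ∈ V₂ := by rw [hic]; exact fr₂.x_mem_Row (by decide) c
  have hV₂2 : ∀ x ∈ V₂, x * x = 1 := fun x hx => fr₂.Row_sq hZ₂ hx
  have hV₂c : Nat.card V₂ = Nat.card F ^ 2 := fr₂.card_Row hZ₂ 0
  have hdis : ∀ x ∈ V, x ∈ V₂ → x = 1 := fun x hx hx2 =>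
    eq_one_of_both hZ₁ hcomm (hVG hx) (fr₂.Row_le 0 hx2) (k := 1) (by rw [pow_one, pow_two, hV2 x hx])
  have hVV₂ : ∀ x ∈ V, ∀ y ∈ V₂, x * y = y * x := fun x hx y hy => hcomm x (hVG hx) y (fr₂.Row_le 0 hy)
  -- `E₁ = V ⟨i⟩`
  have hzi : ∀ x ∈ zpowers i, x = 1 ∨ x = i := by
    intro x hx
    obtain ⟨n, rfl⟩ := mem_zpowers_iff.1 hx
    rcases Int.even_or_odd n with ⟨m, rfl⟩ | ⟨m, rfl⟩
    · left; rw [zpow_add, ← (Commute.refl i).mul_zpow, hii, one_zpow]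
    · right; rw [zpow_add, zpow_one, two_mul, zpow_add, ← (Commute.refl i).mul_zpow, hii, one_zpow, one_mul]
  have hzi2 : ∀ x ∈ zpowers i, x * x = 1 := by
    intro x hx
    rcases hzi x hx with rfl | rfl
    · exact one_mul 1
    · exact hii
  have hVzi : ∀ x ∈ V, ∀ y ∈ zpowers i, x * y = y * x := by
    intro x hx y hy
    rcases hzi y hy with rfl | rfl
    · rw [mul_one, one_mul]
    · exact hcomm x (hVG hx) _ hi2
  have hzid : ∀ x ∈ zpowers i, x * d = d * x := by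
    intro x hx
    rcases hzi x hx with rfl | rfl
    · rw [mul_one, one_mul]
    · exact hid
  have hcardzi : Nat.card (zpowers i) = 2 := by
    rw [Nat.card_zpowers]
    exact orderOf_eq_prime (by rw [pow_two, hii]) hi1
  have hdzi : ∀ x ∈ V, x ∈ zpowers i → x = 1 := by
    intro x hx hxi
    rcases hzi x hxi with h | h
    · exact h
    · exact hdis x hx (h ▸ hiV₂)
  set E₁ := V ⊔ zpowers i with hE₁
  have hE₁2 := sup_sq hV2 hzi2 hVzi
  have hE₁d := sup_comm hVd hzid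
  have hE₁c := card_sup_ge hdzi
  rw [hVc, hcardzi] at hE₁c
  by_cases hdE : d ∈ E₁
  · -- `d ∈ G₁ G₂`
    obtain ⟨v, hv, w, hw, hvw⟩ := elem_sup hVzi d hdE
    have hwV₂ : w ∈ V₂ := by
      rcases hzi w hw with rfl | rfl
      · exact one_mem _
      · exact hiV₂
    have hV₂d : ∀ x ∈ V₂, x * d = d * x := by
      intro x hx
      rw [hvw, ← mul_assoc, ← hVV₂ v hv x hx, mul_assoc, FrameL3.comm_of_sq hV₂2 hx hwV₂, ← mul_assoc]
    have h1 := C.rank (V ⊔ V₂) (sup_sq hV2 hV₂2 hVV₂) (sup_comm hVd hV₂d)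
    have h2 := card_sup_ge hdis
    rw [hVc, hV₂c] at h2
    have h3 : 4 * 4 ≤ Nat.card F ^ 2 := by rw [pow_two]; exact Nat.mul_le_mul hq hq
    nlinarith only [h1, h2, h3]
  · -- `⟨d⟩ V ⟨i⟩` has order `4 q²`
    have hzd : ∀ x ∈ zpowers d, x * x = 1 := by
      intro x hx
      obtain ⟨n, rfl⟩ := mem_zpowers_iff.1 hx
      rw [← (Commute.refl d).mul_zpow, C.tt, one_zpow]
    have hE₁zd : ∀ x ∈ E₁, ∀ y ∈ zpowers d, x * y = y * x := by
      intro x hx y hy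
      obtain ⟨n, rfl⟩ := mem_zpowers_iff.1 hy
      exact (show Commute x d from hE₁d x hx).zpow_right n
    have hzdd : ∀ x ∈ zpowers d, x * d = d * x := by
      intro x hx
      obtain ⟨n, rfl⟩ := mem_zpowers_iff.1 hx
      exact ((Commute.refl d).zpow_left n)
    have hdis2 : ∀ x ∈ E₁, x ∈ zpowers d → x = 1 := by
      intro x hx hxd
      obtain ⟨n, rfl⟩ := mem_zpowers_iff.1 hxd
      rcases Int.even_or_odd n with ⟨m, rfl⟩ | ⟨m, rfl⟩
      · rw [zpow_add, ← (Commute.refl d).mul_zpow, C.tt, one_zpow]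
      · exfalso
        apply hdE
        have h1 : d ^ (2 * m + 1) = d := by
          rw [zpow_add, zpow_one, two_mul, zpow_add, ← (Commute.refl d).mul_zpow, C.tt, one_zpow, one_mul]
        rwa [h1] at hx
    have h1 := C.rank (E₁ ⊔ zpowers d) (sup_sq hE₁2 hzd hE₁zd) (sup_comm hE₁d hzdd)
    have h2 := card_sup_ge hdis2
    have h3 : Nat.card (zpowers d) = 2 := by
      rw [Nat.card_zpowers]
      exact orderOf_eq_prime (by rw [pow_two, C.tt]) C.t_ne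
    rw [h3] at h2
    have h4 : 4 * 4 ≤ Nat.card F ^ 2 := by rw [pow_two]; exact Nat.mul_le_mul hq hq
    linarith only [hE₁c, h1, h2, h4]

/-- an outer involution normalising `U` -/
theorem side {A : Subgroup G} (fr : FrameL3 A F) (hZ : Odd (Nat.card (center ↥A))) (hA : _root_.commutator ↥A = ⊤)
    (hq : 4 ≤ Nat.card F) {d : G} (hdd : d * d = 1) (hdA : d ∈ normalizer (A : Set G))
    (hdU : ∀ u ∈ fr.U, d * u * d⁻¹ ∈ fr.U) (hout : ¬ ∃ a ∈ A, a⁻¹ * d ∈ centralizer (A : Set G)) :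
    GoodIn A d ∨ ∃ fr' : FrameL3 A F, GF fr' d := by
  set T := fr.U ⊔ zpowers d with hT
  have hdn : d ∈ normalizer (fr.U : Set G) := mem_normalizer_of_conj_le hdU
  have hzn : zpowers d ≤ normalizer (fr.U : Set G) := (zpowers_le).2 hdn
  have hz2 : IsPGroup 2 (zpowers d) := by
    rintro ⟨x, hx⟩
    obtain ⟨n, rfl⟩ := mem_zpowers_iff.1 hx
    refine ⟨1, Subtype.ext ?_⟩
    show (d ^ n) ^ 2 ^ 1 = 1
    rw [pow_one, pow_two, ← (Commute.refl d).mul_zpow, hdd, one_zpow]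
  have hTp : IsPGroup 2 T := by
    have h1 := IsPGroup.to_sup_of_normal_left' (fr.isPGroup_U hZ) hz2 hzn
    exact h1
  have hTA : T ≤ normalizer (A : Set G) := sup_le (fr.U_le.trans le_normalizer) ((zpowers_le).2 hdA)
  have hTU : ∀ y ∈ T, ∀ u ∈ fr.U, y * u * y⁻¹ ∈ fr.U := by
    intro y hy u hu
    have h1 : T ≤ normalizer (fr.U : Set G) := sup_le le_normalizer hzn
    exact conj_mem_of_mem_normalizer (h1 hy) hu
  obtain ⟨c, hc⟩ := OutL3Je.exists_adapted fr hZ T hTp hTA hTU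
  rcases GoodIn.good_or hZ hc hTA hA hq (mem_sup_right (mem_zpowers d)) hdd hout with h | h
  · exact Or.inl h
  · exact Or.inr ⟨_, h⟩

/-- the element of order 4 centralised by a graph-field involution over `F₄` -/
theorem gf_order4 {A : Subgroup G} {fr : FrameL3 A F} (hZ : Odd (Nat.card (center ↥A))) {d : G} (h : GF fr d) :
    ∃ x ∈ A, x * d = d * x ∧ x * x ≠ 1 ∧ (x * x) * (x * x) = 1 := by
  obtain ⟨w, hw, σ, h1, h2, h4, hfix, hf⟩ := h
  obtain ⟨t, ht⟩ := exists_trace h2 h1 (map_one σ)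
  have h5 : (w * d * w⁻¹) * u fr 1 1 t = u fr 1 1 t * (w * d * w⁻¹) := by
    rw [comm_iff_grf hZ hf]
    refine ⟨map_one σ, map_one σ, ?_⟩
    rw [map_add, mul_one, map_one, ← ht]
    have h6 : σ t + (t + σ t) = t + (σ t + σ t) := by ring
    rw [h6, CharTwo.add_self_eq_zero, add_zero]
  have h02 : (0 : Fin 3) ≠ 2 := by decide
  have h6 : u fr 1 1 t * u fr 1 1 t = fr.x 0 2 1 := by rw [u_sq fr hZ, mul_one, u_t fr hZ]
  have h7 : w⁻¹ * u fr 1 1 t * w * (w⁻¹ * u fr 1 1 t * w) = w⁻¹ * fr.x 0 2 1 * w := by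
    rw [← h6]; group
  refine ⟨w⁻¹ * u fr 1 1 t * w, mul_mem (mul_mem (inv_mem (fr.U_le hw)) (fr.U_le (u_mem fr _ _ _))) (fr.U_le hw), ?_,
    ?_, ?_⟩
  · calc w⁻¹ * u fr 1 1 t * w * d = w⁻¹ * (u fr 1 1 t * (w * d * w⁻¹)) * w := by group
      _ = w⁻¹ * ((w * d * w⁻¹) * u fr 1 1 t) * w := by rw [h5]
      _ = _ := by group
  · rw [h7]
    intro h8
    apply x_ne_one hZ (fr := fr) h02
    have h9 : fr.x 0 2 1 = w * (w⁻¹ * fr.x 0 2 1 * w) * w⁻¹ := by group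
    rw [h9, h8]; group
  · rw [h7]
    calc w⁻¹ * fr.x 0 2 1 * w * (w⁻¹ * fr.x 0 2 1 * w) = w⁻¹ * (fr.x 0 2 1 * fr.x 0 2 1) * w := by group
      _ = 1 := by rw [fr.two h02 1]; group

/-- the quaternion group centralised by a graph-field involution over `F₄` -/
theorem gf_q8 {A : Subgroup G} {fr : FrameL3 A F} (hZ : Odd (Nat.card (center ↥A))) {d : G} (h : GF fr d) :
    ∃ Q : Subgroup G, Q ≤ A ∧ IsPGroup 2 Q ∧ (∀ x ∈ Q, x * d = d * x) ∧ 8 ≤ Nat.card Q ∧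
      ∃ z ∈ A, (∀ x ∈ Q, x * x = 1 → x = 1 ∨ x = z) ∧ ∀ x ∈ Q, x * z = z * x := by
  obtain ⟨w, hw, σ, h1, h2, h4, hfix, hf⟩ := h
  have h02 : (0 : Fin 3) ≠ 2 := by decide
  have hσσ : ∀ r, σ (σ r) = r := fun r => by
    have := congrArg (fun τ : F ≃+* F => τ r) h2
    exact this
  have hcen : ∀ v ∈ fr.U, v * fr.x 0 2 1 = fr.x 0 2 1 * v := by
    intro v hv
    obtain ⟨r, s, t, rfl⟩ := (mem_U fr hZ).1 hv
    rw [← u_t fr hZ, u_comm_iff fr hZ, mul_zero, zero_mul]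
  refine ⟨fr.U ⊓ centralizer {d}, inf_le_left.trans fr.U_le, (fr.isPGroup_U hZ).to_le inf_le_left,
    fun x hx => mem_centralizer_singleton_iff.1 hx.2, ?_, fr.x 0 2 1, fr.mem h02 1, ?_, fun x hx => hcen x hx.1⟩
  · -- eight elements
    have htr : ∀ r : F, ∃ t : F, t + σ t = r * σ r := fun r =>
      exists_trace h2 h1 (by rw [map_mul, hσσ, mul_comm])
    choose τ hτ using htr
    have hcard : Nat.card (F × Bool) = 8 := by rw [Nat.card_prod, h4, Nat.card_eq_fintype_card, Fintype.card_bool]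
    rw [← hcard]
    have hmem : ∀ p : F × Bool, w⁻¹ * u fr p.1 (σ p.1) (τ p.1 + if p.2 then 1 else 0) * w ∈ fr.U ⊓ centralizer {d} := by
      rintro ⟨r, b⟩
      have h5 : (w * d * w⁻¹) * u fr r (σ r) (τ r + if b then 1 else 0) =
          u fr r (σ r) (τ r + if b then 1 else 0) * (w * d * w⁻¹) := by
        rw [comm_iff_grf hZ hf]
        refine ⟨hσσ r, rfl, ?_⟩
        have h6 : σ (if b then (1 : F) else 0) = if b then 1 else 0 := by
          cases b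
          · exact map_zero σ
          · exact map_one σ
        rw [map_add, map_add, h6, map_mul, hσσ, mul_comm (σ r), ← hτ r]
        have h7 : σ (τ r) + (if b then (1 : F) else 0) + (τ r + σ (τ r)) =
            τ r + (if b then 1 else 0) + (σ (τ r) + σ (τ r)) := by ring
        rw [h7, CharTwo.add_self_eq_zero, add_zero]
      refine ⟨fr.U.mul_mem (fr.U.mul_mem (fr.U.inv_mem hw) (u_mem fr _ _ _)) hw, ?_⟩
      show _ ∈ centralizer {d}
      rw [mem_centralizer_singleton_iff]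
      show w⁻¹ * u fr r (σ r) (τ r + if b then 1 else 0) * w * d = d * (w⁻¹ * u fr r (σ r) (τ r + if b then 1 else 0) * w)
      generalize u fr r (σ r) (τ r + if b then 1 else 0) = y at h5
      calc w⁻¹ * y * w * d = w⁻¹ * (y * (w * d * w⁻¹)) * w := by group
        _ = w⁻¹ * ((w * d * w⁻¹) * y) * w := by rw [h5]
        _ = _ := by group
    refine Nat.card_le_card_of_injective (fun p : F × Bool =>
      (⟨_, hmem p⟩ : (fr.U ⊓ centralizer {d} : Subgroup G))) ?_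
    rintro ⟨r, b⟩ ⟨r', b'⟩ he
    have h5 : w⁻¹ * u fr r (σ r) (τ r + if b then 1 else 0) * w =
      w⁻¹ * u fr r' (σ r') (τ r' + if b' then 1 else 0) * w := congrArg Subtype.val he
    have h6 := mul_left_cancel (mul_right_cancel h5)
    obtain ⟨rfl, -, h7⟩ := u_inj fr h6
    have h8 := add_left_cancel h7
    have h9 : b = b' := by
      cases b <;> cases b' <;> simp at h8 ⊢
    rw [h9]
  · intro x hx hxx
    have hxU : w * x * w⁻¹ ∈ fr.U := mul_mem (mul_mem hw hx.1) (inv_mem hw)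
    obtain ⟨r, s, t, he⟩ := (mem_U fr hZ).1 hxU
    have h5 : (w * d * w⁻¹) * u fr r s t = u fr r s t * (w * d * w⁻¹) := by
      rw [← he]
      have h6 := mem_centralizer_singleton_iff.1 hx.2
      calc w * d * w⁻¹ * (w * x * w⁻¹) = w * (d * x) * w⁻¹ := by group
        _ = w * (x * d) * w⁻¹ := by rw [h6]
        _ = _ := by group
    rw [comm_iff_grf hZ hf] at h5
    obtain ⟨h6, h7, h8⟩ := h5
    have h9 : u fr r s t * u fr r s t = 1 := by
      rw [← he]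
      calc w * x * w⁻¹ * (w * x * w⁻¹) = w * (x * x) * w⁻¹ := by group
        _ = 1 := by rw [hxx]; group
    rw [u_sq fr hZ, u_t fr hZ, fr.x_eq_one hZ h02] at h9
    have h10 : r = 0 := by
      rcases mul_eq_zero.1 h9 with h | h
      · exact h
      · rw [h, map_zero] at h6; exact h6.symm
    subst h10
    rw [map_zero] at h7
    subst h7
    rw [mul_zero, add_zero] at h8
    have h11 : x = w⁻¹ * (w * x * w⁻¹) * w := by group
    rcases hfix t h8 with rfl | rfl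
    · left
      rw [h11, he, u_zero fr hZ]; group
    · right
      rw [h11, he, u_t fr hZ, mul_assoc, ← hcen w hw]; group

/-- the main case: `d` normalises `U₁` and `U₂`. -/
theorem no_fix_aux {A' : Subgroup G} {d : G} (C : CtFacts A' d (Nat.card F)) {G₁ G₂ : Subgroup G}
    (fr₁ : FrameL3 G₁ F) (fr₂ : FrameL3 G₂ F) (hZ₁ : Odd (Nat.card (center ↥G₁))) (hZ₂ : Odd (Nat.card (center ↥G₂)))
    (hG₁ : _root_.commutator ↥G₁ = ⊤) (hG₂ : _root_.commutator ↥G₂ = ⊤)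
    (hcomm : ∀ x ∈ G₁, ∀ y ∈ G₂, x * y = y * x) (hq : 4 ≤ Nat.card F)
    (hN₁ : d ∈ normalizer (G₁ : Set G)) (hN₂ : d ∈ normalizer (G₂ : Set G))
    (hd₁ : ∀ u ∈ fr₁.U, d * u * d⁻¹ ∈ fr₁.U) (hd₂ : ∀ u ∈ fr₂.U, d * u * d⁻¹ ∈ fr₂.U) : False := by
  have hcomm' : ∀ x ∈ G₂, ∀ y ∈ G₁, x * y = y * x := fun x hx y hy => (hcomm y hy x hx).symm
  by_cases hin₁ : ∃ a ∈ G₁, a⁻¹ * d ∈ centralizer (G₁ : Set G)
  · exact inner_false C fr₁ fr₂ hZ₁ hZ₂ hcomm hq hd₂ hin₁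
  by_cases hin₂ : ∃ a ∈ G₂, a⁻¹ * d ∈ centralizer (G₂ : Set G)
  · exact inner_false C fr₂ fr₁ hZ₂ hZ₁ hcomm' hq hd₁ hin₂
  -- one side good, the other contains an element of order 4
  have mixed : ∀ {K L : Subgroup G}, (∀ x ∈ K, ∀ y ∈ L, x * y = y * x) → GoodIn K d →
      (¬ ∃ a ∈ L, a⁻¹ * d ∈ centralizer (L : Set G)) → ∀ fr : FrameL3 L F, Odd (Nat.card (center ↥L)) → GF fr d →
      False := by
    intro K L hKL hK hL fr hZL hgf
    obtain ⟨B, hBK, hB1, hBd, hB2, w, hwB, hww, hw1⟩ := hK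
    have h4 : Nat.card F = 4 := by obtain ⟨_, _, _, _, _, h4, _⟩ := hgf; exact h4
    obtain ⟨x, hxL, hxd, hxx, hxxx⟩ := gf_order4 hZL hgf
    have hBA := C.perf B hB1 hBd hB2
    have hxc : ∀ y ∈ B, y * (x * x) = (x * x) * y := fun y hy => by
      have := hKL y (hBK hy) x hxL
      rw [← mul_assoc, this, mul_assoc, this, ← mul_assoc]
    have hbot : B ≠ ⊥ := by
      rintro rfl
      exact hw1 (mem_bot.1 hwB)
    rcases C.sq h4 x ⟨2, by rw [show (2 : ℕ) ^ 2 = 2 + 2 by norm_num, pow_add, pow_two]; exact hxxx⟩ hxd with h | h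
    · exact hbot (C.inv B hB1 hBA (x * x) h hxxx hxx hxc)
    · refine hbot (C.inv B hB1 hBA (d * (x * x)) h ?_ ?_ ?_)
      · have h5 : (x * x) * d = d * (x * x) := by rw [mul_assoc, hxd, ← mul_assoc, hxd, mul_assoc]
        calc d * (x * x) * (d * (x * x)) = d * ((x * x) * d) * (x * x) := by group
          _ = (d * d) * ((x * x) * (x * x)) := by rw [h5]; group
          _ = 1 := by rw [C.tt, hxxx, one_mul]
      · intro h5
        apply hL
        refine ⟨x * x, mul_mem hxL hxL, ?_⟩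
        have h6 : d = x * x := by
          have h7 : d = (x * x)⁻¹ := eq_inv_of_mul_eq_one_left h5
          rw [h7]
          exact inv_eq_of_mul_eq_one_left hxxx
        rw [h6, inv_mul_cancel]
        exact one_mem _
      · intro y hy
        rw [← mul_assoc, hBd y hy, mul_assoc, hxc y hy, ← mul_assoc]
  rcases side fr₁ hZ₁ hG₁ hq C.tt hN₁ hd₁ hin₁ with g₁ | ⟨f₁, g₁⟩
  · rcases side fr₂ hZ₂ hG₂ hq C.tt hN₂ hd₂ hin₂ with g₂ | ⟨f₂, g₂⟩
    · -- both good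
      obtain ⟨B, hBK, hB1, hBd, hB2, w, hwB, hww, hw1⟩ := g₁
      obtain ⟨B', hBK', hB1', hBd', hB2', w', hwB', hww', hw1'⟩ := g₂
      have hBA := C.perf B hB1 hBd hB2
      have hBA' := C.perf B' hB1' hBd' hB2'
      have h1 := C.inv B hB1 hBA w' (hBA' hwB') hww' hw1' (fun x hx => hcomm x (hBK hx) w' (hBK' hwB'))
      rw [h1] at hwB
      exact hw1 (mem_bot.1 hwB)
    · exact mixed hcomm g₁ hin₂ f₂ hZ₂ g₂
  · rcases side fr₂ hZ₂ hG₂ hq C.tt hN₂ hd₂ hin₂ with g₂ | ⟨f₂, g₂⟩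
    · exact mixed hcomm' g₂ hin₁ f₁ hZ₁ g₁
    · -- both graph-field
      have h4 : Nat.card F = 4 := by obtain ⟨_, _, _, _, _, h4, _⟩ := g₁; exact h4
      obtain ⟨Q₁, hQA₁, hQp₁, hQd₁, hQ8₁, z₁, hz₁, hQz₁, hQc₁⟩ := gf_q8 hZ₁ g₁
      obtain ⟨Q₂, hQA₂, hQp₂, hQd₂, hQ8₂, z₂, hz₂, hQz₂, hQc₂⟩ := gf_q8 hZ₂ g₂
      have hQQ : ∀ x ∈ Q₁, ∀ y ∈ Q₂, x * y = y * x := fun x hx y hy => hcomm x (hQA₁ hx) y (hQA₂ hy)
      have hdec := elem_sup hQQ
      have hsq : ∀ x₁ ∈ Q₁, ∀ x₂ ∈ Q₂, (x₁ * x₂) * (x₁ * x₂) = 1 → x₁ * x₁ = 1 ∧ x₂ * x₂ = 1 := by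
        intro x₁ hx₁ x₂ hx₂ h5
        have h6 : (x₁ * x₁) * (x₂ * x₂) = 1 := by
          rw [← h5]
          calc (x₁ * x₁) * (x₂ * x₂) = x₁ * (x₁ * x₂) * x₂ := by group
            _ = x₁ * (x₂ * x₁) * x₂ := by rw [hQQ x₁ hx₁ x₂ hx₂]
            _ = _ := by group
        obtain ⟨k, hk⟩ := hQp₁ ⟨x₁ * x₁, mul_mem hx₁ hx₁⟩
        have h7 : x₁ * x₁ = 1 := by
          refine eq_one_of_both hZ₁ hcomm (mul_mem (hQA₁ hx₁) (hQA₁ hx₁)) ?_ (k := k) (congrArg Subtype.val hk)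
          rw [eq_inv_of_mul_eq_one_left h6]
          exact inv_mem (mul_mem (hQA₂ hx₂) (hQA₂ hx₂))
        rw [h7, one_mul] at h6
        exact ⟨h7, h6⟩
      have hinv : ∀ x ∈ Q₁ ⊔ Q₂, x * x = 1 → ∃ a b : G, (a = 1 ∨ a = z₁) ∧ (b = 1 ∨ b = z₂) ∧ x = a * b := by
        intro x hx hxx
        obtain ⟨x₁, hx₁, x₂, hx₂, rfl⟩ := hdec x hx
        obtain ⟨h5, h6⟩ := hsq x₁ hx₁ x₂ hx₂ hxx
        exact ⟨x₁, x₂, hQz₁ x₁ hx₁ h5, hQz₂ x₂ hx₂ h6, rfl⟩
      refine C.q8 h4 (Q₁ ⊔ Q₂) ?_ (sup_comm hQd₁ hQd₂) ?_ ?_ ?_ ?_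
      · rintro ⟨x, hx⟩
        obtain ⟨x₁, hx₁, x₂, hx₂, rfl⟩ := hdec x hx
        obtain ⟨k₁, hk₁⟩ := hQp₁ ⟨x₁, hx₁⟩
        obtain ⟨k₂, hk₂⟩ := hQp₂ ⟨x₂, hx₂⟩
        have e₁ : x₁ ^ 2 ^ k₁ = 1 := congrArg Subtype.val hk₁
        have e₂ : x₂ ^ 2 ^ k₂ = 1 := congrArg Subtype.val hk₂
        refine ⟨k₁ + k₂, Subtype.ext ?_⟩
        show (x₁ * x₂) ^ 2 ^ (k₁ + k₂) = 1
        rw [(show Commute x₁ x₂ from hQQ x₁ hx₁ x₂ hx₂).mul_pow, pow_add, pow_mul, e₁, one_pow, one_mul, mul_comm,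
          pow_mul, e₂, one_pow]
      · intro hd
        obtain ⟨x₁, hx₁, x₂, hx₂, he⟩ := hdec d hd
        apply hin₁
        refine ⟨x₁, hQA₁ hx₁, ?_⟩
        rw [he, inv_mul_cancel_left, mem_centralizer_iff]
        exact fun y hy => hcomm y hy x₂ (hQA₂ hx₂)
      · have h5 : ∀ x ∈ Q₁, x ∈ Q₂ → x = 1 := by
          intro x hx hx'
          obtain ⟨k, hk⟩ := hQp₁ ⟨x, hx⟩
          exact eq_one_of_both hZ₁ hcomm (hQA₁ hx) (hQA₂ hx') (k := k) (congrArg Subtype.val hk)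
        have h6 := card_sup_ge h5
        have h7 := Nat.mul_le_mul hQ8₁ hQ8₂
        omega
      · have h5 : {x | x ∈ Q₁ ⊔ Q₂ ∧ x * x = 1} ⊆ {1, z₂, z₁, z₁ * z₂} := by
          rintro x ⟨hx, hxx⟩
          obtain ⟨a, b, rfl | rfl, rfl | rfl, rfl⟩ := hinv x hx hxx
          · left; rw [one_mul]
          · right; left; rw [one_mul]
          · right; right; left; rw [mul_one]
          · right; right; right; rfl
        refine (Set.ncard_le_ncard h5 (Set.toFinite _)).trans ?_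
        refine (Set.ncard_insert_le _ _).trans ?_
        have h6 := Set.ncard_insert_le z₂ ({z₁, z₁ * z₂} : Set G)
        have h7 := Set.ncard_insert_le z₁ ({z₁ * z₂} : Set G)
        rw [Set.ncard_singleton] at h7
        omega
      · intro x hx z hz hzz
        obtain ⟨x₁, hx₁, x₂, hx₂, rfl⟩ := hdec x hx
        obtain ⟨a, b, ha, hb, rfl⟩ := hinv z hz hzz
        have e1 : x₁ * a = a * x₁ := by
          rcases ha with rfl | rfl
          · rw [mul_one, one_mul]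
          · exact hQc₁ x₁ hx₁
        have e2 : x₂ * b = b * x₂ := by
          rcases hb with rfl | rfl
          · rw [mul_one, one_mul]
          · exact hQc₂ x₂ hx₂
        have e3 : x₂ * a = a * x₂ := by
          rcases ha with rfl | rfl
          · rw [mul_one, one_mul]
          · exact hcomm' x₂ (hQA₂ hx₂) _ hz₁
        have e4 : x₁ * b = b * x₁ := by
          rcases hb with rfl | rfl
          · rw [mul_one, one_mul]
          · exact hcomm x₁ (hQA₁ hx₁) _ hz₂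
        calc x₁ * x₂ * (a * b) = x₁ * (x₂ * a) * b := by group
          _ = (x₁ * a) * (x₂ * b) := by rw [e3]; group
          _ = (a * x₁) * (b * x₂) := by rw [e1, e2]
          _ = a * (x₁ * b) * x₂ := by group
          _ = _ := by rw [e4]; group

/-- an involution normalising `A` normalises a conjugate of `U` -/
theorem exists_norm_U {A : Subgroup G} (fr : FrameL3 A F) (hZ : Odd (Nat.card (center ↥A))) {d : G} (hdd : d * d = 1)
    (hdA : d ∈ normalizer (A : Set G)) :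
    ∃ a ∈ A, ∀ u ∈ fr.U, (a⁻¹ * d * a) * u * (a⁻¹ * d * a)⁻¹ ∈ fr.U := by
  have hz2 : IsPGroup 2 (zpowers d) := by
    rintro ⟨x, hx⟩
    obtain ⟨n, rfl⟩ := mem_zpowers_iff.1 hx
    refine ⟨1, Subtype.ext ?_⟩
    show (d ^ n) ^ 2 ^ 1 = 1
    rw [pow_one, pow_two, ← (Commute.refl d).mul_zpow, hdd, one_zpow]
  have hN : A ⊔ zpowers d ≤ normalizer (A : Set G) := sup_le le_normalizer ((zpowers_le).2 hdA)
  obtain ⟨S, hS, hdS⟩ := exists_isSyl hz2 (le_sup_right : zpowers d ≤ A ⊔ zpowers d)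
  have hSA : IsSyl (S ⊓ A) A := hS.inf_normal le_sup_left hN
  have hU := L3Data.isSyl_U hZ fr
  obtain ⟨n, hn, hc⟩ := hSA.exists_conj hU.two hU.le
  have he : fr.U.map (MulAut.conj n).toMonoidHom = S ⊓ A := by
    apply Subgroup.eq_of_le_of_card_ge
    · rintro _ ⟨x, hx, rfl⟩
      exact hc x hx
    · rw [← Nat.card_congr (fr.U.equivMapOfInjective (MulAut.conj n).toMonoidHom (MulAut.conj n).injective).toEquiv]
      exact hU.card_le hSA.two hSA.le
  refine ⟨n, hn, fun u hu => ?_⟩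
  have h1 : n * u * n⁻¹ ∈ S ⊓ A := hc u hu
  have hdS' : d ∈ S := hdS (mem_zpowers d)
  have h2 : d * (n * u * n⁻¹) * d⁻¹ ∈ S ⊓ A :=
    ⟨S.mul_mem (S.mul_mem hdS' h1.1) (S.inv_mem hdS'), conj_mem_of_mem_normalizer hdA h1.2⟩
  rw [← he, mem_map_conj] at h2
  have h3 : n⁻¹ * (d * (n * u * n⁻¹) * d⁻¹) * n = (n⁻¹ * d * n) * u * (n⁻¹ * d * n)⁻¹ := by group
  rwa [h3] at h2

/-- **(W1)**: no conjugate of `t` normalises both `G₁` and `G₂`. -/
theorem no_fix {A : Subgroup G} {t : G} (C : CtFacts A t (Nat.card F)) {G₁ G₂ : Subgroup G}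
    (fr₁ : FrameL3 G₁ F) (fr₂ : FrameL3 G₂ F) (hZ₁ : Odd (Nat.card (center ↥G₁))) (hZ₂ : Odd (Nat.card (center ↥G₂)))
    (hG₁ : _root_.commutator ↥G₁ = ⊤) (hG₂ : _root_.commutator ↥G₂ = ⊤)
    (hcomm : ∀ x ∈ G₁, ∀ y ∈ G₂, x * y = y * x) (hq : 4 ≤ Nat.card F) (g : G)
    (hN₁ : g * t * g⁻¹ ∈ normalizer (G₁ : Set G)) (hN₂ : g * t * g⁻¹ ∈ normalizer (G₂ : Set G)) : False := by
  have hdd : (g * t * g⁻¹) * (g * t * g⁻¹) = 1 := (C.conj g).tt
  obtain ⟨a₁, ha₁, h₁⟩ := exists_norm_U fr₁ hZ₁ hdd hN₁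
  obtain ⟨a₂, ha₂, h₂⟩ := exists_norm_U fr₂ hZ₂ hdd hN₂
  have hc2 : G₂ ≤ centralizer (G₁ : Set G) := fun y hy => mem_centralizer_iff.2 fun x hx => hcomm x hx y hy
  have hc1 : G₁ ≤ centralizer (G₂ : Set G) := fun x hx => mem_centralizer_iff.2 fun y hy => (hcomm x hx y hy).symm
  have hcn : ∀ K : Subgroup G, centralizer (K : Set G) ≤ normalizer (K : Set G) := by
    intro K x hx
    rw [mem_normalizer_iff]
    intro y
    constructor
    · intro hy
      rw [← mem_centralizer_iff.1 hx y hy, mul_inv_cancel_right]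
      exact hy
    · intro hy
      have h3 := mem_centralizer_iff.1 hx _ hy
      have h4 : y = x * y * x⁻¹ := by
        have h5 : x * y = x * (x * y * x⁻¹) := by rw [← h3]; group
        exact mul_left_cancel h5
      rw [h4]; exact hy
  have hbN₁ : a₁ * a₂ ∈ normalizer (G₁ : Set G) := mul_mem (le_normalizer ha₁) (hcn _ (hc2 ha₂))
  have hbN₂ : a₁ * a₂ ∈ normalizer (G₂ : Set G) := mul_mem (hcn _ (hc1 ha₁)) (le_normalizer ha₂)
  set d := g * t * g⁻¹ with hd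
  have e0 : ((a₁ * a₂)⁻¹ * g) * t * ((a₁ * a₂)⁻¹ * g)⁻¹ = (a₁ * a₂)⁻¹ * d * (a₁ * a₂) := by rw [hd]; group
  have C' := C.conj ((a₁ * a₂)⁻¹ * g)
  rw [e0] at C'
  refine no_fix_aux C' fr₁ fr₂ hZ₁ hZ₂ hG₁ hG₂ hcomm hq (mul_mem (mul_mem (inv_mem hbN₁) hN₁) hbN₁)
    (mul_mem (mul_mem (inv_mem hbN₂) hN₂) hbN₂) ?_ ?_
  · intro u hu
    have h3 := h₁ u hu
    have h4 : a₂ * u * a₂⁻¹ = u := by rw [← hcomm u (fr₁.U_le hu) a₂ ha₂, mul_inv_cancel_right]
    have h5 := hcomm _ (fr₁.U_le h3) a₂ ha₂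
    have e1 : (a₁ * a₂)⁻¹ * d * (a₁ * a₂) * u * ((a₁ * a₂)⁻¹ * d * (a₁ * a₂))⁻¹ =
        a₂⁻¹ * ((a₁⁻¹ * d * a₁) * (a₂ * u * a₂⁻¹) * (a₁⁻¹ * d * a₁)⁻¹) * a₂ := by group
    rw [e1, h4, mul_assoc, h5, inv_mul_cancel_left]
    exact h3
  · intro u hu
    have h3 := h₂ u hu
    have h4 : a₁ * u * a₁⁻¹ = u := by rw [hcomm a₁ ha₁ u (fr₂.U_le hu), mul_inv_cancel_right]
    have h5 := hcomm a₁ ha₁ _ (fr₂.U_le h3)
    have e1 : (a₁ * a₂)⁻¹ * d * (a₁ * a₂) * u * ((a₁ * a₂)⁻¹ * d * (a₁ * a₂))⁻¹ =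
        a₁⁻¹ * ((a₂⁻¹ * d * a₂) * (a₁ * u * a₁⁻¹) * (a₂⁻¹ * d * a₂)⁻¹) * a₁ := by
      rw [hcomm a₁ ha₁ a₂ ha₂]; group
    rw [e1, h4, mul_assoc, ← h5, inv_mul_cancel_left]
    exact h3

end main

end Cfsg.Agent.StdRank2.L3W.NoFix
end

-- part: StdRank2/L3W/CtFacts
section
/-!
# S1778, type `L₃(q)`: the facts `CtFacts` on `C_G(t)`
-/

set_option autoImplicit false
set_option linter.unusedSectionVars false
set_option linter.dupNamespace false

namespace Cfsg.Agent.StdRank2.L3W.CtFacts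

open Subgroup
open scoped commutatorElement
open Cfsg.Agent.SignalizersComponents Cfsg.Agent.StdEven.Syl Cfsg.Agent.StdEven.Loc
open Cfsg.Agent.StdRank2.OutL3Rel Cfsg.Agent.StdRank2.OutField Cfsg.Agent.StdRank2.OutL3Inv
open Cfsg.Agent.StdRank2.OutL3Je Cfsg.Agent.StdRank2.L3Data
open Cfsg.Agent.StdRank2.L3W.NoFix

variable {G : Type*} [Group G] [Finite G] {L A : Subgroup G} {t : G} {T : Subgroup G}
  {F : Type*} [Field F] [Finite F] [CharP F 2] {fr : FrameL3 A F}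

/-! ### Two counting lemmas -/

omit [Finite G] in
theorem card_le_fib [Finite G] {E : Type*} [Finite E] (R : Subgroup G) (S : Set G) (f : G → E)
    (h : ∀ x ∈ R, ∀ y ∈ R, f x = f y → x⁻¹ * y ∈ S) : Nat.card R ≤ Nat.card E * S.ncard := by
  classical
  let rep : E → G := fun b => if hb : ∃ y ∈ R, f y = b then hb.choose else 1
  have hrep : ∀ x ∈ R, rep (f x) ∈ R ∧ f (rep (f x)) = f x := by
    intro x hx
    have hb : ∃ y ∈ R, f y = f x := ⟨x, hx, rfl⟩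
    have e : rep (f x) = hb.choose := dif_pos hb
    rw [e]
    exact hb.choose_spec
  have h1 : Nat.card (E × ↥S) = Nat.card E * S.ncard := by
    rw [Nat.card_prod]; rfl
  rw [← h1]
  apply Nat.card_le_card_of_injective (fun x : R => ((f x, ⟨(rep (f x))⁻¹ * x,
    h _ (hrep x x.2).1 x x.2 (hrep x x.2).2⟩) : E × ↥S))
  rintro ⟨x, hx⟩ ⟨y, hy⟩ hxy
  have h2 := congrArg Prod.fst hxy
  have h3 := congrArg (fun p => ((Prod.snd p : ↥S) : G)) hxy
  simp only at h2 h3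
  rw [h2] at h3
  exact Subtype.ext (mul_left_cancel h3)

omit [CharP F 2] in
/-- Automorphisms of `F₄` are involutive. -/
theorem aut_sq [CharP F 2] (hq : Nat.card F = 4) (σ : F ≃+* F) : σ * σ = 1 := by
  classical
  ext v
  show σ (σ v) = v
  by_cases h0 : v = 0
  · rw [h0, map_zero, map_zero]
  by_cases h1 : v = 1
  · rw [h1, map_one, map_one]
  have hs0 : σ v ≠ 0 := fun e => h0 (σ.injective (by rw [e, map_zero]))
  have hs1 : σ v ≠ 1 := fun e => h1 (σ.injective (by rw [e, map_one]))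
  have h11 : (1 : F) + 1 = 0 := CharTwo.add_self_eq_zero 1
  have hv1 : v + 1 ≠ 0 := fun e => h1 (by
    calc v = v + (1 + 1) := by rw [h11, add_zero]
      _ = (v + 1) + 1 := by rw [add_assoc]
      _ = 1 := by rw [e, zero_add])
  have hv2 : v + 1 ≠ 1 := fun e => h0 (by
    calc v = (v + 1) + 1 := by rw [add_assoc, h11, add_zero]
      _ = 0 := by rw [e, h11])
  have hv3 : v ≠ v + 1 := fun e => one_ne_zero (α := F) (by
    have : v + 0 = v + 1 := by rw [add_zero]; exact e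
    exact (add_left_cancel this).symm)
  have key : σ v = v ∨ σ v = v + 1 := by
    by_contra hcon
    push Not at hcon
    have hF : Fintype F := Fintype.ofFinite F
    have hcard : ({0, 1, v, v + 1, σ v} : Finset F).card = 5 := by
      rw [Finset.card_insert_of_notMem, Finset.card_insert_of_notMem, Finset.card_insert_of_notMem,
        Finset.card_insert_of_notMem, Finset.card_singleton]
      · simp only [Finset.mem_singleton]
        exact fun e => hcon.2 e.symm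
      · simp only [Finset.mem_singleton, Finset.mem_insert, not_or]
        exact ⟨hv3, fun e => hcon.1 e.symm⟩
      · simp only [Finset.mem_singleton, Finset.mem_insert, not_or]
        exact ⟨fun e => h1 e.symm, fun e => hv2 e.symm, fun e => hs1 e.symm⟩
      · simp only [Finset.mem_singleton, Finset.mem_insert, not_or]
        exact ⟨fun e => one_ne_zero e.symm, fun e => h0 e.symm, fun e => hv1 e.symm, fun e => hs0 e.symm⟩
    have h2 := Finset.card_le_univ ({0, 1, v, v + 1, σ v} : Finset F)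
    rw [hcard, ← Nat.card_eq_fintype_card, hq] at h2
    omega
  rcases key with e | e
  · rw [e, e]
  · rw [e, map_add, map_one, e, add_assoc, h11, add_zero]

/-! ### `T` and `C(t)` -/

/-- 2-subgroups of `C(t)` are conjugate into `T`. -/
theorem exists_conj_T (h : Sit L A t T fr) {P : Subgroup G} (hP : IsPGroup 2 P) (hPt : ∀ x ∈ P, x * t = t * x) :
    ∃ n : G, n * t = t * n ∧ n ∈ normalizer (A : Set G) ∧ ∀ x ∈ P, n * x * n⁻¹ ∈ T := by
  have hle : centralizer ({t} : Set G) ≤ normalizer (A : Set G) := fun x hx =>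
    mem_normalizer_of_comm h.conf.std h.conf.ht h.conf.htA (mem_centralizer_singleton_iff.1 hx)
  have hT : T ≤ centralizer ({t} : Set G) := fun x hx => mem_centralizer_singleton_iff.2 (h.isT.cent x hx)
  have hs : IsSyl T (centralizer ({t} : Set G)) := h.isT.syl.mono hT hle
  obtain ⟨n, hn, hc⟩ := hs.exists_conj hP (fun x hx => mem_centralizer_singleton_iff.2 (hPt x hx))
  exact ⟨n, mem_centralizer_singleton_iff.1 hn, hle hn, hc⟩

theorem rank (h : Sit L A t T fr) {V : Subgroup G} (hV : ∀ x ∈ V, x * x = 1) (hVt : ∀ x ∈ V, x * t = t * x) :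
    Nat.card V ≤ 2 * Nat.card F ^ 2 := by
  have hP : IsPGroup 2 V := fun x => ⟨1, by
    apply Subtype.ext
    rw [pow_one, pow_two]
    exact hV x x.2⟩
  obtain ⟨n, hnt, hnA, hc⟩ := exists_conj_T h hP hVt
  set E := V.map (MulAut.conj n).toMonoidHom with hE
  have hcard : Nat.card E = Nat.card V :=
    (Nat.card_congr (V.equivMapOfInjective (MulAut.conj n).toMonoidHom (MulAut.conj n).injective).toEquiv).symm
  rw [← hcard]
  by_contra hlt
  push Not at hlt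
  have hET : E ≤ T := by
    rintro _ ⟨x, hx, rfl⟩
    exact hc x hx
  have hE2 : ∀ x ∈ E, x * x = 1 := by
    rintro _ ⟨x, hx, rfl⟩
    show n * x * n⁻¹ * (n * x * n⁻¹) = 1
    calc n * x * n⁻¹ * (n * x * n⁻¹) = n * (x * x) * n⁻¹ := by group
      _ = 1 := by rw [hV x hx]; group
  have h0 : (E : Set G).ncard = Nat.card E := rfl
  rcases OutL3JeMain.je h.hZ h.perfect h.isT.syl.le h.had h.U_le h.conf.htA h.isT.uniq h.four
        h.isT.mem h.t_ne h.tt hET (fun x hx y hy => FrameL3.comm_of_sq hE2 hx hy) hE2 hlt.le with h1 | h1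
  · have h2 : (E : Set G).ncard ≤ 2 * (OutL3JeMain.S1 fr).ncard := by
      apply OutField.ncard_le_two t
      intro y hy
      obtain ⟨r, z, h3 | h3⟩ := (h1 y).1 hy
      · exact Or.inl ⟨r, z, h3⟩
      · exact Or.inr ⟨r, z, by rw [h3, inv_mul_cancel_left]⟩
    rw [OutL3JeMain.ncard_S1] at h2
    exact absurd h2 (not_le.2 hlt)
  · have h2 : (E : Set G).ncard ≤ 2 * (OutL3JeMain.S2 fr).ncard := by
      apply OutField.ncard_le_two t
      intro y hy
      obtain ⟨r, z, h3 | h3⟩ := (h1 y).1 hy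
      · exact Or.inl ⟨r, z, h3⟩
      · exact Or.inr ⟨r, z, by rw [h3, inv_mul_cancel_left]⟩
    rw [OutL3JeMain.ncard_S2] at h2
    exact absurd h2 (not_le.2 hlt)

/-! ### The centraliser of an involution of `A` -/

/-- `U Z(A)` -/
def UZ (fr : FrameL3 A F) : Subgroup G where
  carrier := {g | ∃ u ∈ fr.U, ∃ z ∈ A, (∀ a ∈ A, z * a = a * z) ∧ g = u * z}
  mul_mem' := by
    rintro x y ⟨u, hu, z, hz, hc, rfl⟩ ⟨u', hu', z', hz', hc', rfl⟩
    refine ⟨u * u', mul_mem hu hu', z * z', mul_mem hz hz', fun a ha => ?_, ?_⟩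
    · rw [mul_assoc, hc' a ha, ← mul_assoc, hc a ha, mul_assoc]
    · calc u * z * (u' * z') = u * (z * u') * z' := by group
        _ = u * (u' * z) * z' := by rw [hc u' (fr.U_le hu')]
        _ = _ := by group
  one_mem' := ⟨1, one_mem _, 1, one_mem _, fun a _ => by rw [one_mul, mul_one], by rw [one_mul]⟩
  inv_mem' := by
    rintro x ⟨u, hu, z, hz, hc, rfl⟩
    refine ⟨u⁻¹, inv_mem hu, z⁻¹, inv_mem hz, fun a ha => ?_, ?_⟩
    · have := hc _ (inv_mem ha)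
      calc z⁻¹ * a = (a⁻¹ * z)⁻¹ := by group
        _ = (z * a⁻¹)⁻¹ := by rw [this]
        _ = a * z⁻¹ := by group
    · have := hc _ (fr.U_le hu)
      calc (u * z)⁻¹ = (z * u)⁻¹ := by rw [this]
        _ = u⁻¹ * z⁻¹ := by group

/-- the group `x 0 2 F` -/
def X02 (hZ : Odd (Nat.card (center ↥A))) (fr : FrameL3 A F) : Subgroup G where
  carrier := {g | ∃ c, g = u fr 0 0 c}
  mul_mem' := by
    rintro _ _ ⟨c, rfl⟩ ⟨d, rfl⟩
    exact ⟨c + d, by rw [u_mul fr hZ, add_zero, zero_mul, add_zero]⟩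
  one_mem' := ⟨0, (u_zero fr hZ).symm⟩
  inv_mem' := by
    rintro _ ⟨c, rfl⟩
    exact ⟨c, by rw [u_inv fr hZ, zero_mul, add_zero]⟩

theorem inv (hZ : Odd (Nat.card (center ↥A))) (fr : FrameL3 A F) {X : Subgroup G} (hX : ⁅X, X⁆ = X) (hXA : X ≤ A)
    {w : G} (hw : w ∈ A) (hww : w * w = 1) (hw1 : w ≠ 1) (hc : ∀ x ∈ X, x * w = w * x) : X = ⊥ := by
  -- reduce to w = x02 1
  obtain ⟨y, hy, hyw⟩ := fr.involution_conj hZ hw hww hw1
  suffices hmain : ∀ X : Subgroup G, ⁅X, X⁆ = X → X ≤ A → (∀ x ∈ X, x * fr.x 0 2 1 = fr.x 0 2 1 * x) → X = ⊥ by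
    have h1 := hmain (X.map (MulAut.conj y).toMonoidHom) (by rw [← map_commutator, hX]) (by
      rintro _ ⟨x, hx, rfl⟩
      exact mul_mem (mul_mem hy (hXA hx)) (inv_mem hy)) (by
      rintro _ ⟨x, hx, rfl⟩
      show y * x * y⁻¹ * _ = _ * (y * x * y⁻¹)
      rw [← hyw]
      calc y * x * y⁻¹ * (y * w * y⁻¹) = y * (x * w) * y⁻¹ := by group
        _ = y * (w * x) * y⁻¹ := by rw [hc x hx]
        _ = _ := by group)
    exact (Subgroup.map_eq_bot_iff_of_injective _ (MulAut.conj y).injective).1 h1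
  clear hX hXA hw hww hw1 hc hy hyw
  clear w X y
  intro X hX hXA hc
  have h02 : (0 : Fin 3) ≠ 2 := by decide
  have h01 : (0 : Fin 3) ≠ 1 := by decide
  have h12 : (1 : Fin 3) ≠ 2 := by decide
  have hB : ∀ x ∈ X, ∃ v ∈ fr.U, ∃ (c : Fin 3 → F) (y : G), fr.Tor y c ∧ x = v * y := by
    intro x hx
    obtain ⟨a, b, d, c, y, hy, -, he⟩ := fr.borel hZ h02 h01 h12 (hXA hx) one_ne_zero (t := 1) (by
      rw [hc x hx]; group)
    refine ⟨_, ?_, c, y, hy, he⟩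
    exact mul_mem (mul_mem (fr.x_mem_U (by decide) d) (fr.x_mem_U (by decide) a))
      (fr.x_mem_U (by decide) b)
  have h1 : X ≤ UZ fr := by
    rw [← hX, commutator_le]
    intro x hx y hy
    obtain ⟨v, hv, c, k, hk, rfl⟩ := hB x hx
    obtain ⟨v', hv', c', k', hk', rfl⟩ := hB y hy
    have n1 := mem_normalizer_iff.1 (hk.normalizes hZ)
    have n2 := mem_normalizer_iff.1 (hk'.normalizes hZ)
    have hT : fr.Tor (k * k' * k⁻¹ * k'⁻¹) (fun i => c i * c' i * (c i)⁻¹ * (c' i)⁻¹) := ((hk.mul hk').mul hk.inv).mul hk'.inv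
    have hone : ∀ i, c i * c' i * (c i)⁻¹ * (c' i)⁻¹ = 1 := by
      intro i
      have e1 := hk.ne_zero i
      have e2 := hk'.ne_zero i
      field_simp
    have hcen : ∀ a ∈ A, (k * k' * k⁻¹ * k'⁻¹) * a = a * (k * k' * k⁻¹ * k'⁻¹) :=
      hT.central (by rw [hone, hone]) (by rw [hone, hone])
    have e : ⁅v * k, v' * k'⁆ = v * (k * v' * k⁻¹) * (k * k' * k⁻¹ * k'⁻¹) * (k' * v⁻¹ * k'⁻¹) * v'⁻¹ := by
      rw [commutatorElement_def]; group
    have hU : ∀ g ∈ fr.U, g ∈ UZ fr := fun g hg =>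
      ⟨g, hg, 1, one_mem _, fun a _ => by rw [one_mul, mul_one], by rw [mul_one]⟩
    rw [e]
    refine mul_mem (mul_mem (mul_mem (hU _ (mul_mem hv ((n1 _).1 hv'))) ?_) (hU _ ((n2 _).1 (inv_mem hv)))) (hU _ (inv_mem hv'))
    exact ⟨1, one_mem _, _, hT.mem, hcen, by rw [one_mul]⟩
  have h2 : X ≤ X02 hZ fr := by
    conv_lhs => rw [← hX]
    rw [commutator_le]
    intro x hx y hy
    obtain ⟨v, hv, z, hz, hcz, rfl⟩ := h1 hx
    obtain ⟨v', hv', z', hz', hcz', rfl⟩ := h1 hy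
    have e : ⁅v * z, v' * z'⁆ = v * v' * v⁻¹ * v'⁻¹ := by
      rw [commutatorElement_def]
      have e1 := hcz _ (fr.U_le hv')
      have e2 := hcz' _ (fr.U_le hv)
      have e2' := hcz' _ (fr.U_le (inv_mem hv))
      have e3 := hcz _ hz'
      calc v * z * (v' * z') * (v * z)⁻¹ * (v' * z')⁻¹ = v * (z * v') * z' * z⁻¹ * v⁻¹ * z'⁻¹ * v'⁻¹ := by group
        _ = v * (v' * z) * z' * z⁻¹ * v⁻¹ * z'⁻¹ * v'⁻¹ := by rw [e1]
        _ = v * v' * (z * z') * z⁻¹ * v⁻¹ * z'⁻¹ * v'⁻¹ := by group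
        _ = v * v' * (z' * z) * z⁻¹ * v⁻¹ * z'⁻¹ * v'⁻¹ := by rw [e3]
        _ = v * v' * (z' * v⁻¹) * z'⁻¹ * v'⁻¹ := by group
        _ = v * v' * (v⁻¹ * z') * z'⁻¹ * v'⁻¹ := by rw [e2']
        _ = _ := by group
    rw [e]
    obtain ⟨a, b, c, rfl⟩ := (mem_U fr hZ).1 hv
    obtain ⟨a', b', c', rfl⟩ := (mem_U fr hZ).1 hv'
    rw [u_inv fr hZ, u_inv fr hZ, u_mul fr hZ, u_mul fr hZ, u_mul fr hZ]
    have ea : ∀ a a' : F, a + a' + a + a' = 0 := by
      intro a a'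
      have := CharTwo.add_self_eq_zero (a + a')
      linear_combination this
    rw [ea, ea]
    exact ⟨_, rfl⟩
  have h3 : ⁅X, X⁆ = ⊥ := by
    rw [commutator_eq_bot_iff_le_centralizer]
    intro x hx
    rw [mem_centralizer_iff]
    intro y hy
    obtain ⟨c, rfl⟩ := h2 hx
    obtain ⟨d, rfl⟩ := h2 hy
    rw [u_comm_iff fr hZ]
  rw [← hX]
  exact h3

/-! ### Squares, `q = 4` -/

theorem ft_sq (h : Sit L A t T fr) (hq : Nat.card F = 4) {y : G} (hy : y ∈ T) : FT fr (y * y) 1 := by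
  rcases h.had.cases hy with ⟨σ, h1⟩ | ⟨σ, h1⟩
  · have := h1.mul h.hZ h1
    rwa [aut_sq hq σ] at this
  · have := h1.mul h.hZ h1
    rwa [aut_sq hq σ] at this

/-- elements of `T` of type 1 -/
theorem of_ft_one (h : Sit L A t T fr) (hR : ∀ r ∈ T, r ∈ centralizer (A : Set G) → r = 1 ∨ r = t) {y : G}
    (hy : y ∈ T) (h1 : FT fr y 1) : y ∈ fr.U ∨ t * y ∈ fr.U := by
  obtain ⟨v, hv, hc⟩ := FT.exists_of_one h.hZ h.perfect (h.isT.norm hy) h1
  have hT : v⁻¹ * y ∈ T := mul_mem (inv_mem (h.U_le hv)) hy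
  rcases hR _ hT hc with e | e
  · left
    have : y = v := (inv_mul_eq_one.1 e).symm
    rwa [this]
  · right
    have e1 : y = v * t := by rw [← e]; group
    have e2 : t * y = v := by
      rw [e1, ← h.t_comm (fr.U_le hv), ← mul_assoc, h.tt, one_mul]
    rwa [e2]

theorem sq (h : Sit L A t T fr) (hR : ∀ r ∈ T, r ∈ centralizer (A : Set G) → r = 1 ∨ r = t)
    (hq : Nat.card F = 4) {x : G} (hx2 : ∃ k : ℕ, x ^ 2 ^ k = 1) (hxt : x * t = t * x) :
    x * x ∈ A ∨ t * (x * x) ∈ A := by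
  obtain ⟨k, hk⟩ := hx2
  have hP : IsPGroup 2 (zpowers x) := by
    rintro ⟨y, hy⟩
    obtain ⟨m, rfl⟩ := mem_zpowers_iff.1 hy
    refine ⟨k, Subtype.ext ?_⟩
    show (x ^ m) ^ 2 ^ k = 1
    rw [← zpow_natCast, ← zpow_mul, mul_comm, zpow_mul, zpow_natCast, hk, one_zpow]
  have hPt : ∀ y ∈ zpowers x, y * t = t * y := by
    intro y hy
    obtain ⟨m, rfl⟩ := mem_zpowers_iff.1 hy
    exact (Commute.zpow_left hxt m)
  obtain ⟨n, hnt, hnA, hc⟩ := exists_conj_T h hP hPt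
  have hy := hc x (mem_zpowers x)
  have h1 := of_ft_one h hR (mul_mem hy hy) (ft_sq h hq hy)
  have e1 : n * x * n⁻¹ * (n * x * n⁻¹) = n * (x * x) * n⁻¹ := by group
  rw [e1] at h1
  rcases h1 with h1 | h1
  · left
    exact (mem_normalizer_iff.1 hnA _).2 (fr.U_le h1)
  · right
    rw [mem_normalizer_iff.1 hnA]
    have e2 : t * (n * (x * x) * n⁻¹) = n * (t * (x * x)) * n⁻¹ := by
      calc t * (n * (x * x) * n⁻¹) = (t * n) * (x * x) * n⁻¹ := by group
        _ = (n * t) * (x * x) * n⁻¹ := by rw [hnt]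
        _ = _ := by group
    rw [← e2]
    exact fr.U_le h1

/-! ### `q = 4`: no group of order 64 with at most three involutions, all central -/

/-- elements of field type -/
def Kf (h : Sit L A t T fr) : Subgroup G where
  carrier := {y | ∃ σ, FT fr y σ}
  mul_mem' := by
    rintro x y ⟨σ, hx⟩ ⟨τ, hy⟩
    exact ⟨_, hx.mul h.hZ hy⟩
  one_mem' := ⟨1, FT.one⟩
  inv_mem' := by
    rintro x ⟨σ, hx⟩
    exact ⟨_, hx.inv h.hZ⟩

/-- elements of type one -/
def K1 (h : Sit L A t T fr) : Subgroup G where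
  carrier := {y | FT fr y 1}
  mul_mem' := by
    intro x y hx hy
    have := FT.mul h.hZ hx hy
    rwa [mul_one] at this
  one_mem' := FT.one
  inv_mem' := by
    intro x hx
    have := FT.inv h.hZ hx
    rwa [inv_one] at this

/-- the `r`, `s` coordinates -/
noncomputable def rr (fr : FrameL3 A F) (t x : G) : F :=
  open Classical in if hb : ∃ r s z, x = u fr r s z ∨ x = t * u fr r s z then hb.choose else 0

noncomputable def ss (fr : FrameL3 A F) (t x : G) : F :=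
  open Classical in if hb : ∃ s r z, x = u fr r s z ∨ x = t * u fr r s z then hb.choose else 0

theorem quot_mem (h : Sit L A t T fr) {x y : G} {r s z r' s' z' : F}
    (hx : x = u fr r s z ∨ x = t * u fr r s z) (hy : y = u fr r' s' z' ∨ y = t * u fr r' s' z') :
    ∃ c, x⁻¹ * y = u fr (r + r') (s + s') c ∨ x⁻¹ * y = t * u fr (r + r') (s + s') c := by
  have hti : t⁻¹ = t := inv_eq_of_mul_eq_one_left h.tt
  have hcm : ∀ a b c, t * u fr a b c = u fr a b c * t := fun a b c => h.t_comm (fr.U_le (u_mem fr _ _ _))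
  have key : ∃ c, (u fr r s z)⁻¹ * u fr r' s' z' = u fr (r + r') (s + s') c := by
    rw [u_inv fr h.hZ, u_mul fr h.hZ]
    exact ⟨_, rfl⟩
  obtain ⟨c, hc⟩ := key
  refine ⟨c, ?_⟩
  rcases hx with rfl | rfl <;> rcases hy with rfl | rfl
  · exact Or.inl hc
  · right
    rw [← hc, ← mul_assoc, ← mul_assoc]
    congr 1
    have := h.t_comm (inv_mem (fr.U_le (u_mem fr r s z)))
    exact this.symm
  · right
    rw [← hc, mul_inv_rev, hti, ← mul_assoc]
    congr 1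
    have := h.t_comm (inv_mem (fr.U_le (u_mem fr r s z)))
    exact this.symm
  · left
    rw [← hc]
    group

theorem q8_T (h : Sit L A t T fr) (hR : ∀ r ∈ T, r ∈ centralizer (A : Set G) → r = 1 ∨ r = t)
    (hq : Nat.card F = 4) {P : Subgroup G} (hPT : P ≤ T) (htP : t ∉ P) (h64 : 64 ≤ Nat.card P)
    (hinv : {x | x ∈ P ∧ x * x = 1}.ncard ≤ 4) (hcen : ∀ x ∈ P, ∀ z ∈ P, z * z = 1 → x * z = z * x) : False := by
  classical
  have c1 : Nat.card P ≤ 2 * Nat.card (P ⊓ Kf h : Subgroup G) := by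
    apply Wreath.DOneTransfer.card_le_two
    intro x hx y hy hxK hyK
    rcases h.had.cases (hPT hx) with hx1 | ⟨σ, hx1⟩
    · exact absurd hx1 hxK
    rcases h.had.cases (hPT hy) with hy1 | ⟨τ, hy1⟩
    · exact absurd hy1 hyK
    exact ⟨_, hx1.mul h.hZ hy1⟩
  have c2 : Nat.card (P ⊓ Kf h : Subgroup G) ≤ 2 * Nat.card ((P ⊓ Kf h) ⊓ K1 h : Subgroup G) := by
    apply Wreath.DOneTransfer.card_le_two
    rintro x ⟨hx, σ, hxσ⟩ y ⟨hy, τ, hyτ⟩ hxK hyK
    have hσ : σ ≠ 1 := by rintro rfl; exact hxK hxσ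
    have hτ : τ ≠ 1 := by rintro rfl; exact hyK hyτ
    have e : σ = τ := unique_invol (aut_sq hq σ) (aut_sq hq τ) hσ hτ
    subst e
    have := hxσ.mul h.hZ hyτ
    rw [aut_sq hq σ] at this
    exact this
  set R : Subgroup G := (P ⊓ Kf h) ⊓ K1 h with hRdef
  have hform : ∀ x ∈ R, ∃ r s z, x = u fr r s z ∨ x = t * u fr r s z := by
    intro x hx
    rcases of_ft_one h hR (hPT hx.1.1) hx.2 with h1 | h1
    · obtain ⟨r, s, z, e⟩ := (mem_U fr h.hZ).1 h1
      exact ⟨r, s, z, Or.inl e⟩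
    · obtain ⟨r, s, z, e⟩ := (mem_U fr h.hZ).1 h1
      exact ⟨r, s, z, Or.inr (by rw [← e, ← mul_assoc, h.tt, one_mul])⟩
  set S₁ : Set G := {x | x ∈ P ∧ ∃ r z, x = u fr r 0 z ∨ x = t * u fr r 0 z} with hS₁
  set S₂ : Set G := {x | x ∈ P ∧ ∃ s z, x = u fr 0 s z ∨ x = t * u fr 0 s z} with hS₂
  set I : Set G := {x | x ∈ P ∧ x * x = 1} with hI
  have c3 : Nat.card R ≤ Nat.card F * S₁.ncard := by
    apply card_le_fib R S₁ (ss fr t)
    intro x hx y hy hxy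
    have hbx : ∃ s r z, x = u fr r s z ∨ x = t * u fr r s z := by
      obtain ⟨r, s, z, e⟩ := hform x hx
      exact ⟨s, r, z, e⟩
    have hby : ∃ s r z, y = u fr r s z ∨ y = t * u fr r s z := by
      obtain ⟨r, s, z, e⟩ := hform y hy
      exact ⟨s, r, z, e⟩
    have ex : ss fr t x = hbx.choose := dif_pos hbx
    have ey : ss fr t y = hby.choose := dif_pos hby
    obtain ⟨r, z, e⟩ := hbx.choose_spec
    obtain ⟨r', z', e'⟩ := hby.choose_spec
    rw [← ex] at e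
    rw [← ey, ← hxy] at e'
    obtain ⟨c, hc⟩ := quot_mem h e e'
    rw [CharTwo.add_self_eq_zero] at hc
    exact ⟨mul_mem (inv_mem hx.1.1) hy.1.1, _, _, hc⟩
  have c4 : Nat.card R ≤ Nat.card F * S₂.ncard := by
    apply card_le_fib R S₂ (rr fr t)
    intro x hx y hy hxy
    have hbx := hform x hx
    have hby := hform y hy
    have ex : rr fr t x = hbx.choose := dif_pos hbx
    have ey : rr fr t y = hby.choose := dif_pos hby
    obtain ⟨s, z, e⟩ := hbx.choose_spec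
    obtain ⟨s', z', e'⟩ := hby.choose_spec
    rw [← ex] at e
    rw [← ey, ← hxy] at e'
    obtain ⟨c, hc⟩ := quot_mem h e e'
    rw [CharTwo.add_self_eq_zero] at hc
    exact ⟨mul_mem (inv_mem hx.1.1) hy.1.1, _, _, hc⟩
  have htu : ∀ r s z, u fr r s z * u fr r s z = 1 → (t * u fr r s z) * (t * u fr r s z) = 1 := by
    intro r s z e
    have := h.t_comm (fr.U_le (u_mem fr r s z))
    calc (t * u fr r s z) * (t * u fr r s z) = t * (u fr r s z * t) * u fr r s z := by group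
      _ = t * (t * u fr r s z) * u fr r s z := by rw [this]
      _ = (t * t) * (u fr r s z * u fr r s z) := by group
      _ = 1 := by rw [h.tt, e, one_mul]
  have i1 : S₁ ⊆ I := by
    rintro x ⟨hx, r, z, rfl | rfl⟩
    · exact ⟨hx, by rw [u_sq fr h.hZ, mul_zero, u_zero fr h.hZ]⟩
    · exact ⟨hx, htu _ _ _ (by rw [u_sq fr h.hZ, mul_zero, u_zero fr h.hZ])⟩
  have i2 : S₂ ⊆ I := by
    rintro x ⟨hx, r, z, rfl | rfl⟩
    · exact ⟨hx, by rw [u_sq fr h.hZ, zero_mul, u_zero fr h.hZ]⟩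
    · exact ⟨hx, htu _ _ _ (by rw [u_sq fr h.hZ, zero_mul, u_zero fr h.hZ])⟩
  have n1 := Set.ncard_le_ncard i1 (Set.toFinite _)
  have n2 := Set.ncard_le_ncard i2 (Set.toFinite _)
  rw [hq] at c3 c4
  have e1 : S₁ = I := Set.eq_of_subset_of_ncard_le i1 (by omega) (Set.toFinite _)
  have e2 : S₂ = I := Set.eq_of_subset_of_ncard_le i2 (by omega) (Set.toFinite _)
  have htU : ∀ r s z r' s' z', u fr r s z ≠ t * u fr r' s' z' := by
    intro r s z r' s' z' e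
    apply h.t_not
    have : t = u fr r s z * (u fr r' s' z')⁻¹ := by rw [e]; group
    rw [this]
    exact mul_mem (fr.U_le (u_mem fr _ _ _)) (inv_mem (fr.U_le (u_mem fr _ _ _)))
  have hIform : ∀ x ∈ I, ∃ z, x = u fr 0 0 z ∨ x = t * u fr 0 0 z := by
    intro x hx
    have h1 : x ∈ S₁ := by rw [e1]; exact hx
    have h2 : x ∈ S₂ := by rw [e2]; exact hx
    obtain ⟨-, r, z, ha⟩ := h1
    obtain ⟨-, s, z', hb⟩ := h2
    rcases ha with ha | ha <;> rcases hb with hb | hb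
    · rw [ha] at hb
      have := (u_inj fr hb).1
      subst this
      exact ⟨z, Or.inl ha⟩
    · rw [ha] at hb
      exact absurd hb (htU _ _ _ _ _ _)
    · rw [hb] at ha
      exact absurd ha (htU _ _ _ _ _ _)
    · rw [ha] at hb
      have := (u_inj fr (mul_left_cancel hb)).1
      subst this
      exact ⟨z, Or.inr ha⟩
  -- an element of type `σ ≠ 1`
  obtain ⟨y, hyP, σ, hσ, hyσ⟩ : ∃ y ∈ P, ∃ σ, σ ≠ 1 ∧ FT fr y σ := by
    by_contra hcon
    push Not at hcon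
    have h1 : P ⊓ Kf h ≤ R := by
      rintro y ⟨hy, σ, hyσ⟩
      refine ⟨⟨hy, σ, hyσ⟩, ?_⟩
      by_cases hσ : σ = 1
      · subst hσ; exact hyσ
      · exact absurd hyσ (hcon y hy σ hσ)
    have h2 : Nat.card (P ⊓ Kf h : Subgroup G) ≤ Nat.card R :=
      Nat.card_le_card_of_injective _ (Subgroup.inclusion_injective h1)
    omega
  have hfix := card_fix (aut_sq hq σ) hσ
  have hz01 : ∀ z, σ z = z → z = 0 ∨ z = 1 := by
    intro z hz
    by_contra hcon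
    push Not at hcon
    have h3 : ({0, 1, z} : Set F) ⊆ {x : F | σ x = x} := by
      rintro x (rfl | rfl | rfl)
      · exact map_zero σ
      · exact map_one σ
      · exact hz
    have h4 := Set.ncard_le_ncard h3 (Set.toFinite _)
    have h5 : ({0, 1, z} : Set F).ncard = 3 := by
      rw [Set.ncard_eq_three]
      exact ⟨0, 1, z, zero_ne_one, fun e => hcon.1 e.symm, fun e => hcon.2 e.symm, rfl⟩
    have h6 : ({x : F | σ x = x}).ncard = Nat.card {x : F // σ x = x} := rfl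
    rw [h5, h6] at h4
    rw [hq] at hfix
    nlinarith only [hfix, h4]
  have hI3 : I ⊆ {1, u fr 0 0 1, t * u fr 0 0 1} := by
    intro x hx
    obtain ⟨z, hxz⟩ := hIform x hx
    have hc := hcen y hyP x hx.1 hx.2
    have hyt := h.isT.cent y (hPT hyP)
    have hz : σ z = z := by
      have h1 := hyσ.conj_zero h.hZ z
      rcases hxz with e | e
      · rw [e] at hc
        rw [hc, mul_inv_cancel_right] at h1
        exact (u_inj fr h1).2.2.symm
      · rw [e] at hc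
        have h2 : y * u fr 0 0 z = u fr 0 0 z * y := by
          have e1 : y * (t * u fr 0 0 z) = t * (y * u fr 0 0 z) := by
            rw [← mul_assoc, hyt, mul_assoc]
          rw [e1, mul_assoc] at hc
          exact mul_left_cancel hc
        rw [h2, mul_inv_cancel_right] at h1
        exact (u_inj fr h1).2.2.symm
    rcases hz01 z hz with rfl | rfl
    · rcases hxz with e | e
      · rw [u_zero fr h.hZ] at e
        exact Or.inl e
      · rw [u_zero fr h.hZ, mul_one] at e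
        exact absurd (e ▸ hx.1) htP
    · rcases hxz with e | e
      · exact Or.inr (Or.inl e)
      · exact Or.inr (Or.inr e)
  have h7 := Set.ncard_le_ncard hI3 (Set.toFinite _)
  have h8 : ({1, u fr 0 0 1, t * u fr 0 0 1} : Set G).ncard ≤ 3 :=
    (Set.ncard_insert_le _ _).trans (by
      have := Set.ncard_insert_le (u fr 0 0 1) ({t * u fr 0 0 1} : Set G)
      rw [Set.ncard_singleton] at this
      omega)
  rw [← e1] at h7
  omega

theorem q8 (h : Sit L A t T fr) (hR : ∀ r ∈ T, r ∈ centralizer (A : Set G) → r = 1 ∨ r = t)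
    (hq : Nat.card F = 4) {P : Subgroup G} (hP : IsPGroup 2 P) (hPt : ∀ x ∈ P, x * t = t * x) (htP : t ∉ P)
    (h64 : 64 ≤ Nat.card P) (hinv : {x | x ∈ P ∧ x * x = 1}.ncard ≤ 4)
    (hcen : ∀ x ∈ P, ∀ z ∈ P, z * z = 1 → x * z = z * x) : False := by
  obtain ⟨n, hnt, hnA, hc⟩ := exists_conj_T h hP hPt
  have hmem : ∀ {x : G}, x ∈ P.map (MulAut.conj n).toMonoidHom ↔ n⁻¹ * x * n ∈ P := mem_map_conj
  refine q8_T h hR hq (P := P.map (MulAut.conj n).toMonoidHom) ?_ ?_ ?_ ?_ ?_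
  · rintro _ ⟨x, hx, rfl⟩
    exact hc x hx
  · intro ht
    rw [hmem] at ht
    have e : n⁻¹ * t * n = t := by rw [mul_assoc, ← hnt, inv_mul_cancel_left]
    rw [e] at ht
    exact htP ht
  · rw [← Nat.card_congr (P.equivMapOfInjective (MulAut.conj n).toMonoidHom (MulAut.conj n).injective).toEquiv]
    exact h64
  · refine le_trans ?_ hinv
    have h1 : {x | x ∈ P.map (MulAut.conj n).toMonoidHom ∧ x * x = 1} ⊆
        (fun x => n * x * n⁻¹) '' {x | x ∈ P ∧ x * x = 1} := by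
      rintro x ⟨hx, hxx⟩
      rw [hmem] at hx
      refine ⟨n⁻¹ * x * n, ⟨hx, ?_⟩, by group⟩
      calc n⁻¹ * x * n * (n⁻¹ * x * n) = n⁻¹ * (x * x) * n := by group
        _ = 1 := by rw [hxx]; group
    exact (Set.ncard_le_ncard h1 (Set.toFinite _)).trans (Set.ncard_image_le (Set.toFinite _))
  · rintro _ ⟨x, hx, rfl⟩ _ ⟨z, hz, rfl⟩ hzz
    have h1 : z * z = 1 := by
      have e : (MulAut.conj n).toMonoidHom z * (MulAut.conj n).toMonoidHom z = n * (z * z) * n⁻¹ := by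
        show n * z * n⁻¹ * (n * z * n⁻¹) = _
        group
      rw [e] at hzz
      exact conj_eq_one_iff.1 hzz
    rw [← map_mul, ← map_mul, hcen x hx z hz h1]

/-- **The facts on `C_G(t)`.** -/
theorem ctFacts (h : Sit L A t T fr) (hS : Schreier.Basic.Sch ↥A)
    (hR : ∀ r ∈ T, r ∈ centralizer (A : Set G) → r = 1 ∨ r = t) : CtFacts A t (Nat.card F) where
  tt := h.tt
  t_ne := h.t_ne
  perf := fun _ hX hXt hX2 => StdEven.Perf.le_of_perfect h.conf.std h.conf.ht h.conf.htA h.conf.cyc hS hX hXt hX2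
  rank := fun _ hV hVt => rank h hV hVt
  inv := fun _ hX hXA _ hw hww hw1 hc => inv h.hZ fr hX hXA hw hww hw1 hc
  sq := fun hq _ hx hxt => sq h hR hq hx hxt
  q8 := fun hq _ hP hPt htP h64 hinv hcen => q8 h hR hq hP hPt htP h64 hinv hcen

end Cfsg.Agent.StdRank2.L3W.CtFacts
end

-- part: StdRank2/L3W/FOne
section
/-!
# S1778, type `L₃(q)`, wreath case: (F1) for `Wz`
-/

set_option autoImplicit false
set_option linter.unusedSectionVars false
set_option linter.dupNamespace false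

namespace Cfsg.Agent.StdRank2.L3W.FOne

open Subgroup
open Cfsg.Agent.StdRank2.L3Data
open Cfsg.Agent.StdRank2.L3W.NoFix

variable {G : Type*} [Group G]

section Conj

variable {G1 G2 : Subgroup G} {t : G} (h1 : ∀ x ∈ G1, t * x * t⁻¹ ∈ G2) (h2 : ∀ x ∈ G2, t * x * t⁻¹ ∈ G1)
  (htt : t * t = 1)
include h1 h2 htt

theorem map_eq : G1.map (MulAut.conj t).toMonoidHom = G2 := by
  apply le_antisymm
  · rintro _ ⟨x, hx, rfl⟩
    exact h1 x hx
  · intro y hy
    refine ⟨t * y * t⁻¹, h2 y hy, ?_⟩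
    show t * (t * y * t⁻¹) * t⁻¹ = y
    have hti : t⁻¹ = t := inv_eq_of_mul_eq_one_left htt
    calc t * (t * y * t⁻¹) * t⁻¹ = (t * t) * y * (t⁻¹ * t⁻¹) := by group
      _ = y := by rw [hti, htt]; group

/-- `G₁ ≃ G₂` -/
theorem exists_equiv : Nonempty (↥G1 ≃* ↥G2) := by
  have h := map_eq h1 h2 htt
  exact ⟨(G1.equivMapOfInjective (MulAut.conj t).toMonoidHom (MulAut.conj t).injective).trans
    (MulEquiv.subgroupCongr h)⟩

end Conj

theorem commutator_top_of_equiv {X Y : Type*} [Group X] [Group Y] (e : X ≃* Y) (h : commutator X = ⊤) :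
    commutator Y = ⊤ := by
  have h1 : (⁅(⊤ : Subgroup X), (⊤ : Subgroup X)⁆).map e.toMonoidHom = ⁅(⊤ : Subgroup Y), (⊤ : Subgroup Y)⁆ := by
    rw [map_commutator, ← MonoidHom.range_eq_map, MonoidHom.range_eq_top.2 e.surjective]
  rw [commutator_def] at h ⊢
  rw [← h1, h, ← MonoidHom.range_eq_map, MonoidHom.range_eq_top.2 e.surjective]

theorem card_center_of_equiv {X Y : Type*} [Group X] [Group Y] (e : X ≃* Y) :
    Nat.card (center Y) = Nat.card (center X) :=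
  (Nat.card_congr (centerCongr e).toEquiv).symm

variable [Finite G] {F : Type*} [Field F] [Finite F] [CharP F 2]

theorem f1_of {A : Subgroup G} {t : G} (C : CtFacts A t (Nat.card F)) (hq : 4 ≤ Nat.card F) {G1 G2 : Subgroup G}
    {fr : FrameL3 G1 F} {fr' : FrameL3 G2 F} (W : Wz fr fr' A t) (g : G) : g⁻¹ * t * g ∉ NN G1 G2 := by
  intro hg
  obtain ⟨e⟩ := exists_equiv W.t_G1 W.t_G2 C.tt
  obtain ⟨hg1, hg2⟩ := mem_inf.1 hg
  have hZ2 : Odd (Nat.card (center ↥G2)) := by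
    rw [card_center_of_equiv e]; exact W.oddZ
  refine no_fix C fr fr' W.oddZ hZ2 W.perf1 (commutator_top_of_equiv e W.perf1) W.comm hq g⁻¹ ?_ ?_
  · rw [inv_inv]; exact hg1
  · rw [inv_inv]; exact hg2

/-- **(F1)** -/
theorem f1 {L A : Subgroup G} {t : G} {T : Subgroup G} {fr₀ : FrameL3 A F} (h : Sit L A t T fr₀)
    (hS : Schreier.Basic.Sch ↥A) (hR : ∀ r ∈ T, r ∈ centralizer (A : Set G) → r = 1 ∨ r = t)
    {G1 G2 : Subgroup G} {fr : FrameL3 G1 F} {fr' : FrameL3 G2 F} (W : Wz fr fr' A t) :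
    ∀ g : G, g⁻¹ * t * g ∉ NN G1 G2 :=
  fun g => f1_of (CtFacts.ctFacts h hS hR) h.four W g

end Cfsg.Agent.StdRank2.L3W.FOne
end

-- part: StdRank2/L3WJ/Elem
section
/-!
# Elementary abelian groups acting on `A`, type `L₃(q)`, `q ≥ 4` even: orders modulo the kernel

`X` an elementary abelian 2-group all of whose elements have a type with respect to the frame `fr` of `A`:

* `card_le` : `|X| ≤ |C_X(A)| q²`;
* `card_le_of_outer` : `|X| ≤ |C_X(A)| (2 q)` if some element of `X` is not of type `1`.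
-/

set_option autoImplicit false

namespace Cfsg.Agent.StdRank2.L3WJ.Elem

open Subgroup Cfsg.Agent.StdRank2.OutL3Rel Cfsg.Agent.StdRank2.OutField Cfsg.Agent.StdRank2.OutL3Inv
  Cfsg.Agent.StdRank2.OutL3Je Cfsg.Agent.StdRank2.OutL3JeMain

variable {G : Type*} [Group G] [Finite G] {A : Subgroup G} {F : Type*} [Field F] [Finite F] [CharP F 2]
  {fr : FrameL3 A F} (hZ : Odd (Nat.card (Subgroup.center ↥A))) (hA : _root_.commutator ↥A = ⊤)

/-- The projections to `U` of the elements of `X` in `U C(A)`. -/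
def tr (fr : FrameL3 A F) (X : Subgroup G) (hX : X ≤ normalizer (A : Set G)) : Subgroup G where
  carrier := {v | v ∈ fr.U ∧ ∃ y ∈ X, v⁻¹ * y ∈ centralizer (A : Set G)}
  one_mem' := ⟨one_mem _, 1, one_mem _, by rw [inv_one, mul_one]; exact one_mem _⟩
  mul_mem' := by
    rintro a b ⟨ha, y, hy, hay⟩ ⟨hb, z, hz, hbz⟩
    refine ⟨mul_mem ha hb, y * z, mul_mem hy hz, ?_⟩
    have h1 : (a * b)⁻¹ * (y * z) = (b⁻¹ * (a⁻¹ * y) * b) * (b⁻¹ * z) := by group
    rw [h1]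
    refine mul_mem ?_ hbz
    rw [mem_centralizer_iff]
    intro g hg
    have h2 : b * g * b⁻¹ ∈ A := mul_mem (mul_mem (fr.U_le hb) hg) (inv_mem (fr.U_le hb))
    have h3 := mem_centralizer_iff.1 hay _ h2
    calc g * (b⁻¹ * (a⁻¹ * y) * b) = b⁻¹ * ((b * g * b⁻¹) * (a⁻¹ * y)) * b := by group
      _ = b⁻¹ * ((a⁻¹ * y) * (b * g * b⁻¹)) * b := by rw [h3]
      _ = b⁻¹ * (a⁻¹ * y) * b * g := by group
  inv_mem' := by
    rintro a ⟨ha, y, hy, hay⟩
    refine ⟨inv_mem ha, y⁻¹, inv_mem hy, ?_⟩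
    rw [inv_inv]
    have h1 : a * y⁻¹ = a * ((a⁻¹ * y)⁻¹) * a⁻¹ := by group
    rw [h1, mem_centralizer_iff]
    intro g hg
    have h2 : a⁻¹ * g * a ∈ A := mul_mem (mul_mem (inv_mem (fr.U_le ha)) hg) (fr.U_le ha)
    have h3 := mem_centralizer_iff.1 (inv_mem hay) _ h2
    calc g * (a * (a⁻¹ * y)⁻¹ * a⁻¹) = a * ((a⁻¹ * g * a) * (a⁻¹ * y)⁻¹) * a⁻¹ := by group
      _ = a * ((a⁻¹ * y)⁻¹ * (a⁻¹ * g * a)) * a⁻¹ := by rw [h3]
      _ = a * (a⁻¹ * y)⁻¹ * a⁻¹ * g := by group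

variable {X : Subgroup G} (hX : X ≤ normalizer (A : Set G))

omit [Finite G] [Finite F] [CharP F 2] in
theorem mem_tr {v : G} : v ∈ tr fr X hX ↔ v ∈ fr.U ∧ ∃ y ∈ X, v⁻¹ * y ∈ centralizer (A : Set G) := Iff.rfl

omit [Finite G] [Finite F] [CharP F 2] in
/-- conjugates of elements of the centraliser -/
theorem conj_cent {c y : G} (hy : y ∈ normalizer (A : Set G)) (hc : c ∈ centralizer (A : Set G)) :
    y * c * y⁻¹ ∈ centralizer (A : Set G) := by
  rw [mem_centralizer_iff]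
  intro a ha
  have h2 : y⁻¹ * a * y ∈ A := (mem_normalizer_iff''.1 hy a).1 ha
  have h3 := mem_centralizer_iff.1 hc _ h2
  calc a * (y * c * y⁻¹) = y * ((y⁻¹ * a * y) * c) * y⁻¹ := by group
    _ = y * (c * (y⁻¹ * a * y)) * y⁻¹ := by rw [h3]
    _ = y * c * y⁻¹ * a := by group

include hZ in
/-- two elements of `U` which are congruent modulo the centraliser are equal -/
theorem eq_of_cent {v w : G} (hv : v ∈ fr.U) (hw : w ∈ fr.U) (h : v⁻¹ * w ∈ centralizer (A : Set G)) : v = w := by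
  have := eq_one_of_centralizer hZ (mul_mem (inv_mem hv) hw) h
  rwa [inv_mul_eq_one] at this

section

variable (had : ∀ y ∈ X, (∃ σ, FT fr y σ) ∨ ∃ σ, GT fr y σ) (hXc : ∀ x ∈ X, ∀ y ∈ X, x * y = y * x)
  (hX2 : ∀ x ∈ X, x * x = 1)

include hZ hXc in
/-- the elements of `X` normalising `U` commute with the elements of `tr X` -/
theorem comm_tr {x : G} (hx : x ∈ X) (hxU : ∀ v ∈ fr.U, x * v * x⁻¹ ∈ fr.U) {v : G} (hv : v ∈ tr fr X hX) :
    x * v = v * x := by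
  obtain ⟨hvU, y, hy, hc⟩ := hv
  have h1 := conj_cent (hX hx) hc
  have h2 : x * (v⁻¹ * y) * x⁻¹ = (x * v * x⁻¹)⁻¹ * y := by
    calc x * (v⁻¹ * y) * x⁻¹ = x * v⁻¹ * (y * x⁻¹) := by group
      _ = x * v⁻¹ * (x⁻¹ * y) := by
        rw [hXc y hy _ (inv_mem hx)]
      _ = (x * v * x⁻¹)⁻¹ * y := by group
  rw [h2] at h1
  have h3 : v⁻¹ * (x * v * x⁻¹) = (v⁻¹ * y) * ((x * v * x⁻¹)⁻¹ * y)⁻¹ := by group
  have h4 : v⁻¹ * (x * v * x⁻¹) ∈ centralizer (A : Set G) := by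
    rw [h3]
    exact mul_mem hc (inv_mem h1)
  have h5 := eq_of_cent hZ hvU (hxU v hvU) h4
  rw [eq_mul_inv_iff_mul_eq] at h5
  exact h5.symm

include hZ hXc in
theorem tr_comm : ∀ v ∈ tr fr X hX, ∀ w ∈ tr fr X hX, v * w = w * v := by
  rintro v ⟨hvU, y, hy, hc⟩ w ⟨hwU, z, hz, hd⟩
  apply eq_of_cent hZ (mul_mem hvU hwU) (mul_mem hwU hvU)
  -- `(vw)⁻¹ wv` is the product of elements of the centraliser
  have hyz := hXc y hy z hz
  have hvN : v ∈ normalizer (A : Set G) := le_normalizer (fr.U_le hvU)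
  have hwN : w ∈ normalizer (A : Set G) := le_normalizer (fr.U_le hwU)
  -- y = v c, z = w d
  have e1 : (v * w)⁻¹ * (y * z) = (w⁻¹ * (v⁻¹ * y) * w⁻¹⁻¹) * (w⁻¹ * z) := by group
  have e2 : (w * v)⁻¹ * (z * y) = (v⁻¹ * (w⁻¹ * z) * v⁻¹⁻¹) * (v⁻¹ * y) := by group
  have h1 : (v * w)⁻¹ * (y * z) ∈ centralizer (A : Set G) := by
    rw [e1]
    exact mul_mem (conj_cent (inv_mem hwN) hc) hd
  have h2 : (w * v)⁻¹ * (z * y) ∈ centralizer (A : Set G) := by
    rw [e2]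
    exact mul_mem (conj_cent (inv_mem hvN) hd) hc
  have e3 : (v * w)⁻¹ * (w * v) = ((v * w)⁻¹ * (y * z)) * ((w * v)⁻¹ * (z * y))⁻¹ := by
    rw [hyz]
    group
  rw [e3]
  exact mul_mem h1 (inv_mem h2)

include hZ hX2 in
theorem tr_two : ∀ v ∈ tr fr X hX, v * v = 1 := by
  rintro v ⟨hvU, y, hy, hc⟩
  symm
  apply eq_of_cent hZ (one_mem _) (mul_mem hvU hvU)
  have hvN : v ∈ normalizer (A : Set G) := le_normalizer (fr.U_le hvU)
  have e1 : (1 : G)⁻¹ * (v * v) = ((v⁻¹ * (v⁻¹ * y) * v⁻¹⁻¹) * (v⁻¹ * y))⁻¹ := by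
    have h2 := hX2 y hy
    have h3 : (v⁻¹ * (v⁻¹ * y) * v⁻¹⁻¹) * (v⁻¹ * y) = v⁻¹ * v⁻¹ * (y * y) := by group
    rw [h3, h2, mul_one, mul_inv_rev, inv_inv, inv_one, one_mul]
  rw [e1]
  exact inv_mem (mul_mem (conj_cent (inv_mem hvN) hc) hc)

include hZ hA in
/-- the elements of type `1` -/
theorem card_type_one : {y | y ∈ X ∧ FT fr y 1}.ncard ≤
    Nat.card (X ⊓ centralizer (A : Set G) : Subgroup G) * Nat.card (tr fr X hX) := by
  classical
  set N : Subgroup G := X ⊓ centralizer (A : Set G) with hN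
  set W := tr fr X hX with hW
  have h1 : ∀ y, y ∈ X → FT fr y 1 → ∃ v ∈ W, v⁻¹ * y ∈ centralizer (A : Set G) := by
    intro y hy h
    obtain ⟨v, hv, hc⟩ := FT.exists_of_one hZ hA (hX hy) h
    exact ⟨v, ⟨hv, y, hy, hc⟩, hc⟩
  have h2 : ∀ w : G, ∃ z : G, w ∈ W → z ∈ X ∧ w⁻¹ * z ∈ centralizer (A : Set G) := by
    intro w
    by_cases hw : w ∈ W
    · obtain ⟨-, y, hy, hc⟩ := id hw
      exact ⟨y, fun _ => ⟨hy, hc⟩⟩
    · exact ⟨1, fun h => absurd h hw⟩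
  choose s hs using h2
  have h3 : ∀ y : G, ∃ v : G, y ∈ X → FT fr y 1 → v ∈ W ∧ v⁻¹ * y ∈ centralizer (A : Set G) := by
    intro y
    by_cases hy : y ∈ X ∧ FT fr y 1
    · obtain ⟨v, hv, hc⟩ := h1 y hy.1 hy.2
      exact ⟨v, fun _ _ => ⟨hv, hc⟩⟩
    · exact ⟨1, fun h h' => absurd ⟨h, h'⟩ hy⟩
  choose p hp using h3
  have h4 : {y | y ∈ X ∧ FT fr y 1}.ncard ≤ ((N : Set G) ×ˢ (W : Set G)).ncard := by
    apply Set.ncard_le_ncard_of_injOn (fun y => ((s (p y))⁻¹ * y, p y))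
    · rintro y ⟨hy, h⟩
      obtain ⟨h5, h6⟩ := hp y hy h
      obtain ⟨h7, h8⟩ := hs (p y) h5
      refine Set.mem_prod.2 ⟨mem_inf.2 ⟨mul_mem (inv_mem h7) hy, ?_⟩, h5⟩
      have e : (s (p y))⁻¹ * y = ((p y)⁻¹ * s (p y))⁻¹ * ((p y)⁻¹ * y) := by group
      rw [e]
      exact mul_mem (inv_mem h8) h6
    · rintro y ⟨hy, h⟩ y' ⟨hy', h'⟩ e
      have e1 : (s (p y))⁻¹ * y = (s (p y'))⁻¹ * y' := (Prod.mk.inj e).1
      have e2 : p y = p y' := (Prod.mk.inj e).2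
      rw [e2] at e1
      exact mul_left_cancel e1
  rwa [Set.ncard_prod] at h4

include hX hZ hA had hXc hX2

/-- The bound in the presence of an element which is not of type `1`. -/
theorem card_le_of_outer (hq : 4 ≤ Nat.card F) {y0 : G} (hy0 : y0 ∈ X) (hn : ¬ FT fr y0 1) :
    Nat.card X ≤ Nat.card (X ⊓ centralizer (A : Set G) : Subgroup G) * (2 * Nat.card F) := by
  classical
  set W := tr fr X hX with hW
  set N : Subgroup G := X ⊓ centralizer (A : Set G) with hN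
  have hWU : W ≤ fr.U := fun v hv => hv.1
  have hWc : ∀ x ∈ W, ∀ y ∈ W, x * y = y * x := tr_comm hZ hX hXc
  have hW2 : ∀ x ∈ W, x * x = 1 := tr_two hZ hX hX2
  have hWn : Nat.card W = (W : Set G).ncard := rfl
  have hEn : Nat.card X = (X : Set G).ncard := rfl
  set E0 : Set G := {y | y ∈ X ∧ FT fr y 1} with hE0
  set Eγ : Set G := {y | y ∈ X ∧ ∃ σ, FT fr y σ} with hEγ
  have hc0 : E0.ncard ≤ Nat.card N * Nat.card W := card_type_one hZ hA hX
  set q := Nat.card F with hqd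
  have hcomF : ∀ {x : G} {σ : F ≃+* F}, x ∈ X → FT fr x σ → ∀ w ∈ W, x * w = w * x := by
    intro x σ hx h w hw
    exact comm_tr hZ hX hXc hx (fun v hv => h.norm hZ hv) hw
  have hcomG : ∀ {x : G} {σ : F ≃+* F}, x ∈ X → GT fr x σ → ∀ w ∈ W, x * w = w * x := by
    intro x σ hx h w hw
    exact comm_tr hZ hX hXc hx (fun v hv => h.norm hZ hv) hw
  have hstep : ∀ {x : G} {σ : F ≃+* F}, x ∈ X → σ ≠ 1 → FT fr x σ → Eγ.ncard ≤ 2 * E0.ncard := by
    intro x σ hx hσ1 hxσ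
    have hσ2 : σ * σ = 1 := hxσ.sq_eq_one hZ (hX2 x hx)
    apply ncard_le_two x
    rintro y ⟨hy, τ, hτ⟩
    by_cases h1 : τ = 1
    · subst h1
      exact Or.inl ⟨hy, hτ⟩
    · right
      have h2 : τ = σ := unique_invol (hτ.sq_eq_one hZ (hX2 y hy)) hσ2 h1 hσ1
      have h3 := (hxσ.inv hZ).mul hZ hτ
      rw [h2, inv_mul_cancel] at h3
      exact ⟨mul_mem (inv_mem hx) hy, h3⟩
  by_cases hG : ∃ z ∈ X, ∃ ρ, GT fr z ρ
  · obtain ⟨z, hz, ρ, hzρ⟩ := hG
    have hc1 : Nat.card X ≤ 2 * Eγ.ncard := by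
      rw [hEn]
      apply ncard_le_two z
      intro y hy
      rcases had y hy with ⟨σ, h⟩ | ⟨σ, h⟩
      · exact Or.inl ⟨hy, σ, h⟩
      · exact Or.inr ⟨mul_mem (inv_mem hz) hy, _, (hzρ.inv hZ).mul hZ h⟩
    have hW0 := subset_of_gt hZ hWU hWc hW2 hzρ (hcomG hz hzρ)
    by_cases hF : ∃ x ∈ X, ∃ σ, σ ≠ 1 ∧ FT fr x σ
    · obtain ⟨x, hx, σ, hσ1, hxσ⟩ := hF
      have hσ2 : σ * σ = 1 := hxσ.sq_eq_one hZ (hX2 x hx)
      have hc2 := hstep hx hσ1 hxσ
      have hc3 : Nat.card W ≤ Nat.card {x : F // σ x = x} := by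
        have h1 : (W : Set G) ⊆ (fun p : F => u fr 0 0 p) '' {p | σ p = p} := by
          intro w hw
          obtain ⟨t', rfl⟩ := hW0 hw
          refine ⟨t', ?_, rfl⟩
          have h2 := hxσ.conj_zero hZ t'
          rw [hcomF hx hxσ _ hw, mul_inv_cancel_right] at h2
          exact (u_inj fr h2).2.2.symm
        have h2 := Set.ncard_le_ncard h1 (Set.toFinite _)
        have h3 := Set.ncard_image_le (f := fun p : F => u fr 0 0 p) (s := {p | σ p = p}) (Set.toFinite _)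
        exact (hWn.le.trans h2).trans h3
      have hf := card_fix hσ2 hσ1
      set f := Nat.card {x : F // σ x = x} with hfd
      have hf2 : 2 ≤ f := by
        by_contra h
        have : f ≤ 1 := by omega
        have : f * f ≤ 1 := Nat.mul_le_mul this this
        omega
      have h6 : Nat.card N * Nat.card W ≤ Nat.card N * f := Nat.mul_le_mul_left _ hc3
      have h7 : 4 * f ≤ 2 * q := by
        rw [hqd, ← hf]
        have : 2 * f ≤ f * f := Nat.mul_le_mul_right _ hf2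
        omega
      have h8 : Nat.card N * (4 * f) ≤ Nat.card N * (2 * q) := Nat.mul_le_mul_left _ h7
      have h9 : Nat.card N * (4 * f) = 4 * (Nat.card N * f) := by ring
      omega
    · push Not at hF
      have hsub : Eγ ⊆ E0 := by
        rintro y ⟨hy, τ, hτ⟩
        have h1 : τ = 1 := by
          by_contra h
          exact hF y hy τ h hτ
        subst h1
        exact ⟨hy, hτ⟩
      have hc2 := Set.ncard_le_ncard hsub (Set.toFinite _)
      have hc3 : Nat.card W ≤ q := by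
        rw [hWn, hqd, ← ncard_S0 (fr := fr)]
        exact Set.ncard_le_ncard hW0 (Set.toFinite _)
      have h6 : Nat.card N * Nat.card W ≤ Nat.card N * q := Nat.mul_le_mul_left _ hc3
      have h9 : Nat.card N * (2 * q) = 2 * (Nat.card N * q) := by ring
      omega
  · push Not at hG
    have hEγE : (X : Set G) ⊆ Eγ := by
      intro y hy
      rcases had y hy with ⟨σ, h⟩ | ⟨σ, h⟩
      · exact ⟨hy, σ, h⟩
      · exact absurd h (hG y hy σ)
    obtain ⟨-, σ, hxσ⟩ := hEγE hy0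
    have hσ1 : σ ≠ 1 := fun h => hn (by rw [← h]; exact hxσ)
    have hσ2 : σ * σ = 1 := hxσ.sq_eq_one hZ (hX2 _ hy0)
    have hc2 := hstep hy0 hσ1 hxσ
    have hc3 := card_le_of_ft hZ hWU hWc hW2 hxσ (hcomF hy0 hxσ)
    rw [card_fix hσ2 hσ1] at hc3
    have hc1 := Set.ncard_le_ncard hEγE (Set.toFinite _)
    have h6 : Nat.card N * Nat.card W ≤ Nat.card N * q := Nat.mul_le_mul_left _ hc3
    have h9 : Nat.card N * (2 * q) = 2 * (Nat.card N * q) := by ring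
    omega

/-- The general bound. -/
theorem card_le (hq : 4 ≤ Nat.card F) :
    Nat.card X ≤ Nat.card (X ⊓ centralizer (A : Set G) : Subgroup G) * Nat.card F ^ 2 := by
  classical
  by_cases h : ∃ y ∈ X, ¬ FT fr y 1
  · obtain ⟨y, hy, hn⟩ := h
    refine (card_le_of_outer hZ hA hX had hXc hX2 hq hy hn).trans (Nat.mul_le_mul_left _ ?_)
    rw [pow_two]
    exact Nat.mul_le_mul_right _ (by omega)
  · push Not at h
    have h1 := card_type_one (fr := fr) hZ hA hX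
    have h2 : (X : Set G) ⊆ {y | y ∈ X ∧ FT fr y 1} := fun y hy => ⟨hy, h y hy⟩
    have h3 : Nat.card X = (X : Set G).ncard := rfl
    have h4 := Set.ncard_le_ncard h2 (Set.toFinite _)
    have h5 : Nat.card (tr fr X hX) ≤ Nat.card F ^ 2 := by
      have h6 : Nat.card (tr fr X hX) = (tr fr X hX : Set G).ncard := rfl
      rw [h6]
      rcases subset_or hZ (W := tr fr X hX) (fun v hv => hv.1) (tr_comm hZ hX hXc) (tr_two hZ hX hX2) with h7 | h7
      · rw [← ncard_S1 (fr := fr)]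
        exact Set.ncard_le_ncard (fun x hx => h7 x hx) (Set.toFinite _)
      · rw [← ncard_S2 (fr := fr)]
        exact Set.ncard_le_ncard (fun x hx => h7 x hx) (Set.toFinite _)
    have h6 := Nat.mul_le_mul_left (Nat.card (X ⊓ centralizer (A : Set G) : Subgroup G)) h5
    omega

end

end Cfsg.Agent.StdRank2.L3WJ.Elem
end

-- part: StdRank2/L3WJ/Je
section
/-!
# Type `L₃(q)`, the wreath case: the 2-group `S` acting on `A₁ A₂`, large elementary abelian subgroups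

`Pre t fr1 fr2 S` : `A₁`, `A₂` commute and are interchanged by the involution `t ∈ S`, frames `fr1`, `fr2` with
`fr1.x i j s ^ t = fr2.x i j s`, the 2-group `S` permutes `A₁`, `A₂`, is adapted and acts faithfully.

* `Pre.S0 = S ∩ N(A₁) ∩ N(A₂)`, `Pre.Uh = U₁ U₂`;
* `Pre.je` : elementary abelian subgroups of `S` of order `≥ q⁴` lie in `Uh`;
* `Pre.weak` : `Uh` is weakly closed in `S`.
-/

set_option autoImplicit false

namespace Cfsg.Agent.StdRank2.L3WJ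

open Subgroup Cfsg.Agent.StdRank2.OutL3Rel Cfsg.Agent.StdRank2.OutField Cfsg.Agent.StdRank2.OutL3Inv
  Cfsg.Agent.StdRank2.OutL3Je Cfsg.Agent.StdRank2.OutL3JeMain

variable {G : Type*} [Group G]

/-- The elements of `S` which normalise `A₁` and `A₂`. -/
def S0 (A1 A2 S : Subgroup G) : Subgroup G := S ⊓ (normalizer (A1 : Set G) ⊓ normalizer (A2 : Set G))

theorem mem_S0 {A1 A2 S : Subgroup G} {x : G} :
    x ∈ S0 A1 A2 S ↔ x ∈ S ∧ x ∈ normalizer (A1 : Set G) ∧ x ∈ normalizer (A2 : Set G) := by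
  rw [S0, mem_inf, mem_inf]

/-- The wreath situation for type `L₃(q)`. -/
structure Pre {F : Type*} [Field F] (t : G) {A1 A2 : Subgroup G} (fr1 : FrameL3 A1 F) (fr2 : FrameL3 A2 F)
    (S : Subgroup G) : Prop where
  Z1 : Odd (Nat.card (center ↥A1))
  p1 : _root_.commutator ↥A1 = ⊤
  comm : ∀ a ∈ A1, ∀ b ∈ A2, a * b = b * a
  tt : t * t = 1
  swap : ∀ a, a ∈ A1 ↔ t * a * t ∈ A2
  x : ∀ i j : Fin 3, i ≠ j → ∀ s, t * fr1.x i j s * t = fr2.x i j s
  tS : t ∈ S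
  two : IsPGroup 2 S
  U1 : fr1.U ≤ S
  perm : ∀ y ∈ S, y ∈ S0 A1 A2 S ∨ t * y ∈ S0 A1 A2 S
  ad1 : Adapted fr1 (S0 A1 A2 S)
  triv : ∀ y ∈ S, y ∈ centralizer (A1 : Set G) → y ∈ centralizer (A2 : Set G) → y = 1
  four : 4 ≤ Nat.card F

namespace Pre

variable {F : Type*} [Field F] {t : G} {A1 A2 : Subgroup G} {fr1 : FrameL3 A1 F} {fr2 : FrameL3 A2 F}
  {S : Subgroup G} (P : Pre t fr1 fr2 S)

include P

theorem ti : t⁻¹ = t := inv_eq_of_mul_eq_one_right P.tt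

theorem tct (x : G) : t * (t * x * t) * t = x := by
  calc t * (t * x * t) * t = (t * t) * x * (t * t) := by group
    _ = x := by rw [P.tt]; group

theorem tmul (x y : G) : t * (x * y) * t = (t * x * t) * (t * y * t) := by
  calc t * (x * y) * t = t * x * (t * t) * y * t := by rw [P.tt]; group
    _ = (t * x * t) * (t * y * t) := by group

theorem tinv (x : G) : t * x⁻¹ * t = (t * x * t)⁻¹ := by
  rw [mul_inv_rev, mul_inv_rev, P.ti]; group

theorem swap' (a : G) : a ∈ A2 ↔ t * a * t ∈ A1 := by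
  rw [P.swap (t * a * t), P.tct]

/-- conjugation by `t` as an isomorphism `A₁ ≃ A₂` -/
def iso : A1 ≃* A2 where
  toFun a := ⟨t * a * t, (P.swap a).1 a.2⟩
  invFun a := ⟨t * a * t, (P.swap' a).1 a.2⟩
  left_inv a := Subtype.ext (P.tct a)
  right_inv a := Subtype.ext (P.tct a)
  map_mul' a b := Subtype.ext (P.tmul a b)

theorem Z2 : Odd (Nat.card (center ↥A2)) := by
  rw [← Nat.card_congr (Subgroup.centerCongr P.iso).toEquiv]
  exact P.Z1

theorem p2 : _root_.commutator ↥A2 = ⊤ := by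
  have h1 : (_root_.commutator ↥A1).map P.iso.toMonoidHom = _root_.commutator ↥A2 := by
    rw [_root_.commutator_def, Subgroup.map_commutator, ← MonoidHom.range_eq_map,
      MonoidHom.range_eq_top.2 P.iso.surjective, _root_.commutator_def]
  rw [← h1, P.p1, ← MonoidHom.range_eq_map, MonoidHom.range_eq_top.2 P.iso.surjective]

theorem norm_swap {y : G} : y ∈ normalizer (A1 : Set G) ↔ t * y * t ∈ normalizer (A2 : Set G) := by
  rw [mem_normalizer_iff, mem_normalizer_iff]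
  constructor
  · intro h g
    have e : t * y * t * g * (t * y * t)⁻¹ = t * (y * (t * g * t) * y⁻¹) * t := by
      rw [mul_inv_rev, mul_inv_rev, P.ti]; group
    rw [e, ← P.swap, ← h (t * g * t), ← P.swap']
  · intro h g
    have e : t * y * t * (t * g * t) * (t * y * t)⁻¹ = t * (y * g * y⁻¹) * t := by
      rw [mul_inv_rev, mul_inv_rev, P.ti]
      calc t * y * t * (t * g * t) * (t * (y⁻¹ * t)) = t * y * (t * t) * g * (t * t) * y⁻¹ * t := by group
        _ = t * (y * g * y⁻¹) * t := by rw [P.tt]; group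
    have h1 := h (t * g * t)
    rw [e] at h1
    exact (P.swap g).trans (h1.trans (P.swap _).symm)

theorem norm_swap' {y : G} : y ∈ normalizer (A2 : Set G) ↔ t * y * t ∈ normalizer (A1 : Set G) := by
  rw [P.norm_swap (y := t * y * t), P.tct]

theorem S0_swap {y : G} (hy : y ∈ S0 A1 A2 S) : t * y * t ∈ S0 A1 A2 S := by
  rw [mem_S0] at hy ⊢
  exact ⟨mul_mem (mul_mem P.tS hy.1) P.tS, P.norm_swap'.1 hy.2.2, P.norm_swap.1 hy.2.1⟩

theorem S0_le : S0 A1 A2 S ≤ S := inf_le_left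

theorem S0_n1 : S0 A1 A2 S ≤ normalizer (A1 : Set G) := fun _ h => (mem_S0.1 h).2.1

theorem S0_n2 : S0 A1 A2 S ≤ normalizer (A2 : Set G) := fun _ h => (mem_S0.1 h).2.2

theorem x' {i j : Fin 3} (h : i ≠ j) (s : F) : t * fr2.x i j s * t = fr1.x i j s := by
  rw [← P.x i j h s, P.tct]

theorem fld_swap {f : G} {σ : F ≃+* F} (h : Fld fr1 f σ) : Fld fr2 (t * f * t) σ := by
  intro i j hij s
  rw [← P.x i j hij, ← P.x i j hij, ← h i j hij s, ← P.tinv, ← P.tmul, ← P.tmul]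

theorem fld_swap' {f : G} {σ : F ≃+* F} (h : Fld fr2 f σ) : Fld fr1 (t * f * t) σ := by
  intro i j hij s
  rw [← P.x' hij, ← P.x' hij, ← h i j hij s, ← P.tinv, ← P.tmul, ← P.tmul]

theorem grf_swap {f : G} {σ : F ≃+* F} (h : Grf fr1 f σ) : Grf fr2 (t * f * t) σ := by
  intro i j hij s
  have hr : j.rev ≠ i.rev := fun e => hij (Fin.rev_injective e).symm
  rw [← P.x i j hij, ← P.x _ _ hr, ← h i j hij s, ← P.tinv, ← P.tmul, ← P.tmul]

theorem grf_swap' {f : G} {σ : F ≃+* F} (h : Grf fr2 f σ) : Grf fr1 (t * f * t) σ := by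
  intro i j hij s
  have hr : j.rev ≠ i.rev := fun e => hij (Fin.rev_injective e).symm
  rw [← P.x' hij, ← P.x' hr, ← h i j hij s, ← P.tinv, ← P.tmul, ← P.tmul]

theorem u_swap (r s c : F) : t * u fr1 r s c * t = u fr2 r s c := by
  unfold u
  rw [P.tmul, P.tmul, P.x 0 1 (by decide), P.x 1 2 (by decide), P.x 0 2 (by decide)]

theorem u_swap' (r s c : F) : t * u fr2 r s c * t = u fr1 r s c := by
  rw [← P.u_swap, P.tct]

section Fin

variable [Finite G] [Finite F] [CharP F 2]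

theorem U_swap {v : G} : v ∈ fr1.U ↔ t * v * t ∈ fr2.U := by
  rw [mem_U fr1 P.Z1, mem_U fr2 P.Z2]
  constructor
  · rintro ⟨r, s, c, rfl⟩
    exact ⟨r, s, c, P.u_swap r s c⟩
  · rintro ⟨r, s, c, h⟩
    refine ⟨r, s, c, ?_⟩
    rw [← P.u_swap', ← h, P.tct]

theorem U_swap' {v : G} : v ∈ fr2.U ↔ t * v * t ∈ fr1.U := by
  rw [P.U_swap (v := t * v * t), P.tct]

theorem ft_swap {y : G} {σ : F ≃+* F} (h : FT fr1 y σ) : FT fr2 (t * y * t) σ := by
  obtain ⟨v, hv, h⟩ := h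
  refine ⟨t * v * t, P.U_swap.1 hv, ?_⟩
  rw [← P.tmul]
  exact P.fld_swap h

theorem gt_swap {y : G} {σ : F ≃+* F} (h : GT fr1 y σ) : GT fr2 (t * y * t) σ := by
  obtain ⟨v, hv, h⟩ := h
  refine ⟨t * v * t, P.U_swap.1 hv, ?_⟩
  rw [← P.tmul]
  exact P.grf_swap h

/-- `S₀` is adapted to the second frame. -/
theorem ad2 : Adapted fr2 (S0 A1 A2 S) := by
  intro y hy
  obtain ⟨v, hv, σ, hσ, h⟩ := P.ad1 _ (P.S0_swap hy)
  refine ⟨t * v * t, P.U_swap.1 hv, σ, hσ, ?_⟩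
  have e : t * (v * (t * y * t)) * t = t * v * t * y := by
    rw [P.tmul, P.tct]
  rcases h with h | h
  · left
    rw [← e]
    exact P.fld_swap h
  · right
    rw [← e]
    exact P.grf_swap h

omit [Finite G] [Finite F] [CharP F 2] in
theorem cent1 {v : G} (hv : v ∈ A1) : v ∈ centralizer (A2 : Set G) := by
  rw [mem_centralizer_iff]
  intro g hg
  exact (P.comm v hv g hg).symm

omit [Finite G] [Finite F] [CharP F 2] in
theorem cent2 {v : G} (hv : v ∈ A2) : v ∈ centralizer (A1 : Set G) := by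
  rw [mem_centralizer_iff]
  intro g hg
  exact P.comm g hg v hv

theorem U1_S0 : fr1.U ≤ S0 A1 A2 S := by
  intro v hv
  rw [mem_S0]
  refine ⟨P.U1 hv, le_normalizer (fr1.U_le hv), ?_⟩
  exact Subgroup.centralizer_le_normalizer _ (P.cent1 (fr1.U_le hv))

theorem U2_S0 : fr2.U ≤ S0 A1 A2 S := by
  intro v hv
  have h1 := P.U1_S0 (P.U_swap'.1 hv)
  have h2 := P.S0_swap h1
  rwa [P.tct] at h2

/-- `U₁ U₂` -/
def Uh (_P : Pre t fr1 fr2 S) : Subgroup G where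
  carrier := {g | ∃ a ∈ fr1.U, ∃ b ∈ fr2.U, g = a * b}
  one_mem' := ⟨1, one_mem _, 1, one_mem _, (one_mul 1).symm⟩
  mul_mem' := by
    rintro _ _ ⟨a, ha, b, hb, rfl⟩ ⟨a', ha', b', hb', rfl⟩
    refine ⟨a * a', mul_mem ha ha', b * b', mul_mem hb hb', ?_⟩
    have h1 := _P.comm _ (fr1.U_le ha') _ (fr2.U_le hb)
    calc a * b * (a' * b') = a * (b * a') * b' := by group
      _ = a * (a' * b) * b' := by rw [h1]
      _ = a * a' * (b * b') := by group
  inv_mem' := by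
    rintro _ ⟨a, ha, b, hb, rfl⟩
    refine ⟨a⁻¹, inv_mem ha, b⁻¹, inv_mem hb, ?_⟩
    rw [mul_inv_rev, _P.comm _ (inv_mem (fr1.U_le ha)) _ (inv_mem (fr2.U_le hb))]

omit [Finite G] [Finite F] [CharP F 2] in
theorem mem_Uh {g : G} : g ∈ P.Uh ↔ ∃ a ∈ fr1.U, ∃ b ∈ fr2.U, g = a * b := Iff.rfl

omit [Finite G] [Finite F] [CharP F 2] in
theorem U1_le : fr1.U ≤ P.Uh := fun v hv => ⟨v, hv, 1, one_mem _, (mul_one v).symm⟩

omit [Finite G] [Finite F] [CharP F 2] in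
theorem U2_le : fr2.U ≤ P.Uh := fun v hv => ⟨1, one_mem _, v, hv, (one_mul v).symm⟩

theorem Uh_S0 : P.Uh ≤ S0 A1 A2 S := by
  rintro _ ⟨a, ha, b, hb, rfl⟩
  exact mul_mem (P.U1_S0 ha) (P.U2_S0 hb)

/-- elements of trivial type -/
theorem mem_Uh_of_ft {y : G} (hy : y ∈ S0 A1 A2 S) (h1 : FT fr1 y 1) (h2 : FT fr2 y 1) : y ∈ P.Uh := by
  obtain ⟨v, hv, hc⟩ := FT.exists_of_one P.Z1 P.p1 (P.S0_n1 hy) h1
  obtain ⟨w, hw, hd⟩ := FT.exists_of_one P.Z2 P.p2 (P.S0_n2 hy) h2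
  have h3 : w⁻¹ * (v⁻¹ * y) = 1 := by
    apply P.triv
    · exact mul_mem (inv_mem (P.S0_le (P.U2_S0 hw))) (mul_mem (inv_mem (P.U1 hv)) (P.S0_le hy))
    · exact mul_mem (inv_mem (P.cent2 (fr2.U_le hw))) hc
    · have e : w⁻¹ * (v⁻¹ * y) = v⁻¹ * (w⁻¹ * y) := by
        rw [← mul_assoc, ← mul_assoc, P.comm _ (inv_mem (fr1.U_le hv)) _ (inv_mem (fr2.U_le hw))]
      rw [e]
      exact mul_mem (inv_mem (P.cent1 (fr1.U_le hv))) hd
  refine ⟨v, hv, w, hw, ?_⟩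
  rw [inv_mul_eq_one] at h3
  rw [h3, mul_inv_cancel_left]

theorem inter {v : G} (h1 : v ∈ fr1.U) (h2 : v ∈ fr2.U) : v = 1 :=
  P.triv v (P.U1 h1) (P.cent2 (fr2.U_le h2)) (P.cent1 (fr1.U_le h1))

/-- uniqueness of the components -/
theorem comp_unique {a a' b b' : G} (ha : a ∈ fr1.U) (ha' : a' ∈ fr1.U) (hb : b ∈ fr2.U) (hb' : b' ∈ fr2.U)
    (h : a * b = a' * b') : a = a' ∧ b = b' := by
  have h1 : a'⁻¹ * a = b' * b⁻¹ := by
    rw [inv_mul_eq_iff_eq_mul, ← mul_assoc, ← h, mul_inv_cancel_right]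
  have h2 := P.inter (mul_mem (inv_mem ha') ha) (by rw [h1]; exact mul_mem hb' (inv_mem hb))
  rw [inv_mul_eq_one] at h2
  subst h2
  exact ⟨rfl, mul_left_cancel h⟩

theorem not_S0 {y : G} (hy : y ∈ S) (h : y ∉ S0 A1 A2 S) : t * y ∈ S0 A1 A2 S := (P.perm y hy).resolve_left h

theorem U1_normal {y v : G} (hy : y ∈ S0 A1 A2 S) (hv : v ∈ fr1.U) : y * v * y⁻¹ ∈ fr1.U := by
  rcases P.ad1.cases hy with ⟨σ, h⟩ | ⟨σ, h⟩
  · exact h.norm P.Z1 hv
  · exact h.norm P.Z1 hv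

theorem U2_normal {y v : G} (hy : y ∈ S0 A1 A2 S) (hv : v ∈ fr2.U) : y * v * y⁻¹ ∈ fr2.U := by
  rcases P.ad2.cases hy with ⟨σ, h⟩ | ⟨σ, h⟩
  · exact h.norm P.Z2 hv
  · exact h.norm P.Z2 hv

theorem swap_A2 {y a : G} (hy : t * y ∈ S0 A1 A2 S) (ha : a ∈ A2) : y * a * y⁻¹ ∈ A1 := by
  have h1 := (mem_normalizer_iff.1 (P.S0_n2 hy) a).1 ha
  have h2 := (P.swap' _).1 h1
  have e : t * (t * y * a * (t * y)⁻¹) * t = y * a * y⁻¹ := by
    rw [mul_inv_rev, P.ti]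
    calc t * (t * y * a * (y⁻¹ * t)) * t = (t * t) * (y * a * y⁻¹) * (t * t) := by group
      _ = y * a * y⁻¹ := by rw [P.tt]; group
  rwa [e] at h2

theorem swap_U1 {y a : G} (hy : t * y ∈ S0 A1 A2 S) (ha : a ∈ fr1.U) : y * a * y⁻¹ ∈ fr2.U := by
  have h1 := P.U1_normal hy ha
  have h2 := P.U_swap.1 h1
  have e : t * (t * y * a * (t * y)⁻¹) * t = y * a * y⁻¹ := by
    rw [mul_inv_rev, P.ti]
    calc t * (t * y * a * (y⁻¹ * t)) * t = (t * t) * (y * a * y⁻¹) * (t * t) := by group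
      _ = y * a * y⁻¹ := by rw [P.tt]; group
  rwa [e] at h2

theorem swap_U2 {y a : G} (hy : t * y ∈ S0 A1 A2 S) (ha : a ∈ fr2.U) : y * a * y⁻¹ ∈ fr1.U := by
  have h1 := P.U2_normal hy ha
  have h2 := P.U_swap'.1 h1
  have e : t * (t * y * a * (t * y)⁻¹) * t = y * a * y⁻¹ := by
    rw [mul_inv_rev, P.ti]
    calc t * (t * y * a * (y⁻¹ * t)) * t = (t * t) * (y * a * y⁻¹) * (t * t) := by group
      _ = y * a * y⁻¹ := by rw [P.tt]; group
  rwa [e] at h2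

/-- the inverse of a swapping element is swapping -/
theorem swap_inv {y : G} (hy : t * y ∈ S0 A1 A2 S) : t * y⁻¹ ∈ S0 A1 A2 S := by
  have h1 := inv_mem (P.S0_swap hy)
  have e : (t * (t * y) * t)⁻¹ = t * y⁻¹ := by
    rw [← mul_assoc, P.tt, one_mul, mul_inv_rev, P.ti]
  rwa [e] at h1

/-- **Elementary abelian subgroups of `S` of order at least `q⁴` lie in `Uh`.** -/
theorem je {X : Subgroup G} (hXS : X ≤ S) (hXc : ∀ x ∈ X, ∀ y ∈ X, x * y = y * x) (hX2 : ∀ x ∈ X, x * x = 1)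
    (hcard : Nat.card F ^ 4 ≤ Nat.card X) : X ≤ P.Uh := by
  classical
  have hq := P.four
  set q := Nat.card F with hqd
  -- the bound for a subgroup of `S₀`
  have hb1 : ∀ Y : Subgroup G, Y ≤ S0 A1 A2 S → Y ≤ X →
      Nat.card Y ≤ Nat.card (Y ⊓ centralizer (A1 : Set G) : Subgroup G) * q ^ 2 := fun Y hY hYX =>
    Elem.card_le (fr := fr1) P.Z1 P.p1 (fun y hy => P.S0_n1 (hY hy)) (fun y hy => P.ad1.cases (hY hy))
      (fun x hx y hy => hXc x (hYX hx) y (hYX hy)) (fun x hx => hX2 x (hYX hx)) hq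
  have hb2 : ∀ Y : Subgroup G, Y ≤ S0 A1 A2 S → Y ≤ X →
      Nat.card Y ≤ Nat.card (Y ⊓ centralizer (A2 : Set G) : Subgroup G) * q ^ 2 := fun Y hY hYX =>
    Elem.card_le (fr := fr2) P.Z2 P.p2 (fun y hy => P.S0_n2 (hY hy)) (fun y hy => P.ad2.cases (hY hy))
      (fun x hx y hy => hXc x (hYX hx) y (hYX hy)) (fun x hx => hX2 x (hYX hx)) hq
  by_cases hsw : ∃ x ∈ X, x ∉ S0 A1 A2 S
  · exfalso
    obtain ⟨x, hx, hxn⟩ := hsw
    have htx := P.not_S0 (hXS hx) hxn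
    have h1 : Nat.card X ≤ 2 * Nat.card (X ⊓ S0 A1 A2 S : Subgroup G) := by
      have e1 : Nat.card X = (X : Set G).ncard := rfl
      have e2 : Nat.card (X ⊓ S0 A1 A2 S : Subgroup G) = ((X ⊓ S0 A1 A2 S : Subgroup G) : Set G).ncard := rfl
      rw [e1, e2]
      apply ncard_le_two x
      intro y hy
      by_cases h : y ∈ S0 A1 A2 S
      · exact Or.inl (mem_inf.2 ⟨hy, h⟩)
      · right
        have h2 := P.not_S0 (hXS hy) h
        have e : x⁻¹ * y = (t * x)⁻¹ * (t * y) := by group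
        exact mem_inf.2 ⟨mul_mem (inv_mem hx) hy, by rw [e]; exact mul_mem (inv_mem htx) h2⟩
    have h2 := hb1 _ (inf_le_right : X ⊓ S0 A1 A2 S ≤ _) inf_le_left
    have h3 : (X ⊓ S0 A1 A2 S ⊓ centralizer (A1 : Set G) : Subgroup G) = ⊥ := by
      rw [eq_bot_iff]
      intro y hy
      obtain ⟨hy1, hyc⟩ := mem_inf.1 hy
      obtain ⟨hyX, hy0⟩ := mem_inf.1 hy1
      rw [mem_bot]
      apply P.triv y (hXS hyX) hyc
      rw [mem_centralizer_iff]
      intro b hb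
      have h4 : x⁻¹ * b * x ∈ A1 := by
        have := P.swap_A2 (P.swap_inv htx) hb
        rwa [inv_inv] at this
      have h5 := mem_centralizer_iff.1 hyc _ h4
      have h6 := hXc x hx y hyX
      calc b * y = x * ((x⁻¹ * b * x) * (x⁻¹ * y * x)) * x⁻¹ := by group
        _ = x * ((x⁻¹ * b * x) * y) * x⁻¹ := by
          have : x⁻¹ * y * x = y := by rw [mul_assoc, ← h6, inv_mul_cancel_left]
          rw [this]
        _ = x * (y * (x⁻¹ * b * x)) * x⁻¹ := by rw [h5]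
        _ = (x * y * x⁻¹) * b := by group
        _ = y * b := by rw [h6, mul_inv_cancel_right]
    rw [h3, card_bot, one_mul] at h2
    have h4 : q ^ 4 ≤ 2 * q ^ 2 := by omega
    have h5 : q ^ 4 = q ^ 2 * q ^ 2 := by ring
    rw [h5] at h4
    have h6 : q ^ 2 ≤ 2 := Nat.le_of_mul_le_mul_right h4 (by positivity)
    have h7 : 4 * 4 ≤ q ^ 2 := by rw [pow_two]; exact Nat.mul_le_mul hq hq
    omega
  · push Not at hsw
    have hX0 : X ≤ S0 A1 A2 S := fun x hx => hsw x hx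
    have hbot : ∀ Y : Subgroup G, Y ≤ X → ∀ (h1 : Y ≤ centralizer (A1 : Set G)) (h2 : Y ≤ centralizer (A2 : Set G)),
        Nat.card Y = 1 := by
      intro Y hY h1 h2
      have : Y = ⊥ := by
        rw [eq_bot_iff]
        intro y hy
        rw [mem_bot]
        exact P.triv y (hXS (hY hy)) (h1 hy) (h2 hy)
      rw [this, card_bot]
    have hfin : ¬ (q ^ 4 ≤ q ^ 2 * (2 * q)) := by
      intro h
      have h5 : q ^ 4 = (q ^ 2 * q) * q := by ring
      have h6 : q ^ 2 * (2 * q) = (q ^ 2 * q) * 2 := by ring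
      rw [h5, h6] at h
      have := Nat.le_of_mul_le_mul_left h (by positivity)
      omega
    by_cases h1 : ∃ y ∈ X, ¬ FT fr1 y 1
    · exfalso
      obtain ⟨y, hy, hn⟩ := h1
      have h2 := Elem.card_le_of_outer (fr := fr1) P.Z1 P.p1 (fun y hy => P.S0_n1 (hX0 hy))
        (fun y hy => P.ad1.cases (hX0 hy)) hXc hX2 hq hy hn
      have h3 := hb2 (X ⊓ centralizer (A1 : Set G)) (inf_le_left.trans hX0) inf_le_left
      rw [hbot _ (inf_le_left.trans inf_le_left) (inf_le_left.trans inf_le_right) inf_le_right, one_mul] at h3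
      exact hfin (hcard.trans (h2.trans (Nat.mul_le_mul_right _ h3)))
    by_cases h2 : ∃ y ∈ X, ¬ FT fr2 y 1
    · exfalso
      obtain ⟨y, hy, hn⟩ := h2
      have h2 := Elem.card_le_of_outer (fr := fr2) P.Z2 P.p2 (fun y hy => P.S0_n2 (hX0 hy))
        (fun y hy => P.ad2.cases (hX0 hy)) hXc hX2 hq hy hn
      have h3 := hb1 (X ⊓ centralizer (A2 : Set G)) (inf_le_left.trans hX0) inf_le_left
      rw [hbot _ (inf_le_left.trans inf_le_left) inf_le_right (inf_le_left.trans inf_le_right), one_mul] at h3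
      exact hfin (hcard.trans (h2.trans (Nat.mul_le_mul_right _ h3)))
    push Not at h1 h2
    intro y hy
    exact P.mem_Uh_of_ft (hX0 hy) (h1 y hy) (h2 y hy)

end Fin

end Pre

end Cfsg.Agent.StdRank2.L3WJ
end

-- part: StdRank2/L3WJ/Weak
section
/-!
# Type `L₃(q)`, the wreath case: `Uh = U₁ U₂` is weakly closed; its normaliser permutes `Z(U₁)`, `Z(U₂)`

* `Pre.weak` : `Uh ^ g ≤ S` implies `Uh ^ g ≤ Uh`;
* `Pre.center_perm` : if `n` normalises `Uh`, then `n z n⁻¹ ∈ Z(U₁) ∪ Z(U₂)` for `z ∈ Z(U₁)`.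
-/

set_option autoImplicit false

namespace Cfsg.Agent.StdRank2.L3WJ

open Subgroup Cfsg.Agent.StdRank2.OutL3Rel Cfsg.Agent.StdRank2.OutField Cfsg.Agent.StdRank2.OutL3Inv
  Cfsg.Agent.StdRank2.OutL3Je Cfsg.Agent.StdRank2.OutL3JeMain

variable {G : Type*} [Group G] {F : Type*} [Field F] {t : G} {A1 A2 : Subgroup G} {fr1 : FrameL3 A1 F}
  {fr2 : FrameL3 A2 F} {S : Subgroup G}

namespace Pre

variable (P : Pre t fr1 fr2 S)

/-- The product of subgroups of `A₁` and `A₂`. -/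
def pr (P : Pre t fr1 fr2 S) (R1 R2 : Subgroup G) (h1 : R1 ≤ A1) (h2 : R2 ≤ A2) : Subgroup G where
  carrier := {g | ∃ a ∈ R1, ∃ b ∈ R2, g = a * b}
  one_mem' := ⟨1, one_mem _, 1, one_mem _, (one_mul 1).symm⟩
  mul_mem' := by
    rintro _ _ ⟨a, ha, b, hb, rfl⟩ ⟨a', ha', b', hb', rfl⟩
    refine ⟨a * a', mul_mem ha ha', b * b', mul_mem hb hb', ?_⟩
    have h3 := P.comm _ (h1 ha') _ (h2 hb)
    calc a * b * (a' * b') = a * (b * a') * b' := by group
      _ = a * (a' * b) * b' := by rw [h3]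
      _ = a * a' * (b * b') := by group
  inv_mem' := by
    rintro _ ⟨a, ha, b, hb, rfl⟩
    refine ⟨a⁻¹, inv_mem ha, b⁻¹, inv_mem hb, ?_⟩
    rw [mul_inv_rev, P.comm _ (inv_mem (h1 ha)) _ (inv_mem (h2 hb))]

variable [Finite G] [Finite F] [CharP F 2]

theorem card_pr {R1 R2 : Subgroup G} (h1 : R1 ≤ fr1.U) (h2 : R2 ≤ fr2.U) :
    Nat.card R1 * Nat.card R2 ≤ Nat.card (P.pr R1 R2 (h1.trans fr1.U_le) (h2.trans fr2.U_le)) := by
  rw [← Nat.card_prod]
  apply Nat.card_le_card_of_injective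
    (fun p : R1 × R2 => (⟨p.1 * p.2, p.1, p.1.2, p.2, p.2.2, rfl⟩ :
      P.pr R1 R2 (h1.trans fr1.U_le) (h2.trans fr2.U_le)))
  rintro ⟨⟨a, ha⟩, ⟨b, hb⟩⟩ ⟨⟨a', ha'⟩, ⟨b', hb'⟩⟩ h
  obtain ⟨e1, e2⟩ := P.comp_unique (h1 ha) (h1 ha') (h2 hb) (h2 hb') (congrArg Subtype.val h)
  exact Prod.ext (Subtype.ext e1) (Subtype.ext e2)

/-- weak closure for a product -/
theorem weak_pr {R1 R2 : Subgroup G} (h1 : R1 ≤ fr1.U) (h2 : R2 ≤ fr2.U) (hs1 : ∀ x ∈ R1, x * x = 1)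
    (hs2 : ∀ x ∈ R2, x * x = 1) (hc1 : Nat.card R1 = Nat.card F ^ 2) (hc2 : Nat.card R2 = Nat.card F ^ 2) {g : G}
    (hg : ∀ x ∈ P.Uh, g * x * g⁻¹ ∈ S) :
    (∀ x ∈ R1, g * x * g⁻¹ ∈ P.Uh) ∧ ∀ x ∈ R2, g * x * g⁻¹ ∈ P.Uh := by
  set E := P.pr R1 R2 (h1.trans fr1.U_le) (h2.trans fr2.U_le) with hE
  have hEU : E ≤ P.Uh := by
    rintro _ ⟨a, ha, b, hb, rfl⟩
    exact ⟨a, h1 ha, b, h2 hb, rfl⟩
  have hE2 : ∀ x ∈ E, x * x = 1 := by
    rintro _ ⟨a, ha, b, hb, rfl⟩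
    have h3 := P.comm a (fr1.U_le (h1 ha)) b (fr2.U_le (h2 hb))
    calc a * b * (a * b) = a * (b * a) * b := by group
      _ = a * (a * b) * b := by rw [h3]
      _ = (a * a) * (b * b) := by group
      _ = 1 := by rw [hs1 a ha, hs2 b hb, one_mul]
  have hcard : Nat.card F ^ 4 ≤ Nat.card (E.map (MulAut.conj g).toMonoidHom) := by
    rw [Subgroup.card_map_of_injective (MulEquiv.injective _)]
    have := P.card_pr h1 h2
    rw [hc1, hc2, ← pow_add] at this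
    exact this
  have hX2 : ∀ x ∈ E.map (MulAut.conj g).toMonoidHom, x * x = 1 := by
    rintro _ ⟨a, ha, rfl⟩
    show g * a * g⁻¹ * (g * a * g⁻¹) = 1
    calc g * a * g⁻¹ * (g * a * g⁻¹) = g * (a * a) * g⁻¹ := by group
      _ = 1 := by rw [hE2 a ha]; group
  have hle := P.je (X := E.map (MulAut.conj g).toMonoidHom) (by
    rintro _ ⟨a, ha, rfl⟩
    exact hg a (hEU ha)) (fun x hx y hy => FrameL3.comm_of_sq hX2 hx hy) hX2 hcard
  constructor
  · intro x hx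
    exact hle ⟨x, ⟨x, hx, 1, one_mem _, (mul_one x).symm⟩, rfl⟩
  · intro x hx
    exact hle ⟨x, ⟨1, one_mem _, x, hx, (one_mul x).symm⟩, rfl⟩

/-- **`Uh` is weakly closed in `S`.** -/
theorem weak {g : G} (hg : ∀ x ∈ P.Uh, g * x * g⁻¹ ∈ S) : ∀ x ∈ P.Uh, g * x * g⁻¹ ∈ P.Uh := by
  obtain ⟨r1, r2⟩ := P.weak_pr fr1.Row_zero_le_U fr2.Row_zero_le_U (fun x hx => fr1.Row_sq P.Z1 hx)
    (fun x hx => fr2.Row_sq P.Z2 hx) (fr1.card_Row P.Z1 0) (fr2.card_Row P.Z2 0) hg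
  obtain ⟨c1, c2⟩ := P.weak_pr fr1.Col_two_le_U fr2.Col_two_le_U (fun x hx => fr1.Col_sq P.Z1 hx)
    (fun x hx => fr2.Col_sq P.Z2 hx) (fr1.card_Col P.Z1 2) (fr2.card_Col P.Z2 2) hg
  have hu1 : ∀ x ∈ fr1.U, g * x * g⁻¹ ∈ P.Uh := by
    intro x hx
    obtain ⟨r, s, c, rfl⟩ := (mem_U fr1 P.Z1).1 hx
    have h1 := r1 _ (fr1.x_mem_Row (i := 0) (j := 1) (by decide) r)
    have h2 := c1 _ (fr1.x_mem_Col (i := 1) (j := 2) (by decide) s)
    have h3 := r1 _ (fr1.x_mem_Row (i := 0) (j := 2) (by decide) (c - r * s))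
    have e : g * u fr1 r s c * g⁻¹ = (g * fr1.x 0 1 r * g⁻¹) * (g * fr1.x 1 2 s * g⁻¹) *
        (g * fr1.x 0 2 (c - r * s) * g⁻¹) := by
      unfold u
      group
    rw [e]
    exact mul_mem (mul_mem h1 h2) h3
  have hu2 : ∀ x ∈ fr2.U, g * x * g⁻¹ ∈ P.Uh := by
    intro x hx
    obtain ⟨r, s, c, rfl⟩ := (mem_U fr2 P.Z2).1 hx
    have h1 := r2 _ (fr2.x_mem_Row (i := 0) (j := 1) (by decide) r)
    have h2 := c2 _ (fr2.x_mem_Col (i := 1) (j := 2) (by decide) s)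
    have h3 := r2 _ (fr2.x_mem_Row (i := 0) (j := 2) (by decide) (c - r * s))
    have e : g * u fr2 r s c * g⁻¹ = (g * fr2.x 0 1 r * g⁻¹) * (g * fr2.x 1 2 s * g⁻¹) *
        (g * fr2.x 0 2 (c - r * s) * g⁻¹) := by
      unfold u
      group
    rw [e]
    exact mul_mem (mul_mem h1 h2) h3
  rintro _ ⟨a, ha, b, hb, rfl⟩
  have e : g * (a * b) * g⁻¹ = (g * a * g⁻¹) * (g * b * g⁻¹) := by group
  rw [e]
  exact mul_mem (hu1 a ha) (hu2 b hb)

omit [Finite F] [CharP F 2] in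
/-- the inverse also normalises -/
theorem inv_normal {n : G} (hn : ∀ x ∈ P.Uh, n * x * n⁻¹ ∈ P.Uh) : ∀ x ∈ P.Uh, n⁻¹ * x * n ∈ P.Uh := by
  intro x hx
  have h1 : P.Uh.map (MulAut.conj n).toMonoidHom ≤ P.Uh := by
    rintro _ ⟨a, ha, rfl⟩
    exact hn a ha
  have h2 : P.Uh.map (MulAut.conj n).toMonoidHom = P.Uh := by
    apply Subgroup.eq_of_le_of_card_ge h1
    rw [Subgroup.card_map_of_injective (MulEquiv.injective _)]
  rw [← h2] at hx
  obtain ⟨a, ha, rfl⟩ := hx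
  have : n⁻¹ * (MulAut.conj n).toMonoidHom a * n = a := by
    show n⁻¹ * (n * a * n⁻¹) * n = a
    group
  rw [this]
  exact ha

omit P in
/-- commutators in `U` -/
theorem comm_u {A : Subgroup G} (fr : FrameL3 A F) (hZ : Odd (Nat.card (center ↥A))) (r s c r' s' c' : F) :
    u fr r s c * u fr r' s' c' * (u fr r s c)⁻¹ * (u fr r' s' c')⁻¹ = u fr 0 0 (r * s' + r' * s) := by
  rw [mul_inv_eq_iff_eq_mul, mul_inv_eq_iff_eq_mul, u_mul fr hZ, u_mul fr hZ, u_mul fr hZ]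
  congr 1
  · ring
  · ring
  · have h1 : r' * s + r' * s = 0 := CharTwo.add_self_eq_zero _
    linear_combination -h1

include P in
/-- commutators in `Uh` -/
theorem comm_uu (r s c r' s' c' p q d p' q' d' : F) :
    (u fr1 r s c * u fr2 p q d) * (u fr1 r' s' c' * u fr2 p' q' d') * (u fr1 r s c * u fr2 p q d)⁻¹ *
      (u fr1 r' s' c' * u fr2 p' q' d')⁻¹ =
    u fr1 0 0 (r * s' + r' * s) * u fr2 0 0 (p * q' + p' * q) := by
  have hc : ∀ (r s c p q d : F), u fr1 r s c * u fr2 p q d = u fr2 p q d * u fr1 r s c := fun r s c p q d =>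
    P.comm _ (fr1.U_le (u_mem fr1 r s c)) _ (fr2.U_le (u_mem fr2 p q d))
  rw [← comm_u fr1 P.Z1 r s c r' s' c', ← comm_u fr2 P.Z2 p q d p' q' d']
  set a := u fr1 r s c
  set b := u fr2 p q d
  set a' := u fr1 r' s' c'
  set b' := u fr2 p' q' d'
  have h1 : Commute a b := hc ..
  have h2 : Commute a b' := hc ..
  have h3 : Commute a' b := hc ..
  have h4 : Commute a' b' := hc ..
  calc a * b * (a' * b') * (a * b)⁻¹ * (a' * b')⁻¹ = a * (b * a') * b' * (b⁻¹ * a⁻¹) * (b'⁻¹ * a'⁻¹) := by group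
    _ = a * (a' * b) * b' * (a⁻¹ * b⁻¹) * (a'⁻¹ * b'⁻¹) := by
      rw [h3.eq, h1.inv_inv.eq.symm, h4.inv_inv.eq.symm]
    _ = a * a' * (b * b' * a⁻¹) * (b⁻¹ * a'⁻¹) * b'⁻¹ := by group
    _ = a * a' * (a⁻¹ * (b * b')) * (a'⁻¹ * b⁻¹) * b'⁻¹ := by
      rw [((h1.mul_right h2).inv_left).eq.symm, (h3.inv_inv).eq]
    _ = a * a' * a⁻¹ * (b * b' * a'⁻¹) * b⁻¹ * b'⁻¹ := by group
    _ = a * a' * a⁻¹ * (a'⁻¹ * (b * b')) * b⁻¹ * b'⁻¹ := by
      rw [((h3.mul_right h4).inv_left).eq.symm]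
    _ = a * a' * a⁻¹ * a'⁻¹ * (b * b' * b⁻¹ * b'⁻¹) := by group

theorem mem_Uh_iff {g : G} : g ∈ P.Uh ↔ ∃ r s c p q d, g = u fr1 r s c * u fr2 p q d := by
  rw [P.mem_Uh]
  constructor
  · rintro ⟨a, ha, b, hb, rfl⟩
    obtain ⟨r, s, c, rfl⟩ := (mem_U fr1 P.Z1).1 ha
    obtain ⟨p, q, d, rfl⟩ := (mem_U fr2 P.Z2).1 hb
    exact ⟨r, s, c, p, q, d, rfl⟩
  · rintro ⟨r, s, c, p, q, d, rfl⟩
    exact ⟨_, u_mem fr1 _ _ _, _, u_mem fr2 _ _ _, rfl⟩

/-- **The normaliser of `Uh` permutes `Z(U₁)` and `Z(U₂)`.** -/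
theorem center_perm {n : G} (hn : ∀ x ∈ P.Uh, n * x * n⁻¹ ∈ P.Uh) (c : F) :
    (∃ c', n * u fr1 0 0 c * n⁻¹ = u fr1 0 0 c') ∨ ∃ c', n * u fr1 0 0 c * n⁻¹ = u fr2 0 0 c' := by
  classical
  have hni := P.inv_normal hn
  have hcon : ∀ x y : G, n * (x * y * x⁻¹ * y⁻¹) * n⁻¹ =
      (n * x * n⁻¹) * (n * y * n⁻¹) * (n * x * n⁻¹)⁻¹ * (n * y * n⁻¹)⁻¹ := by
    intro x y; group
  have h0 : u fr2 0 0 0 = 1 := u_zero fr2 P.Z2
  have h0' : u fr1 0 0 0 = 1 := u_zero fr1 P.Z1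
  have hx : u fr1 1 0 0 ∈ P.Uh := P.U1_le (u_mem fr1 1 0 0)
  obtain ⟨r, s, e, p, q, d, hxe⟩ := P.mem_Uh_iff.1 (hn _ hx)
  have hz : u fr1 0 0 c = u fr1 1 0 0 * u fr1 0 c 0 * (u fr1 1 0 0)⁻¹ * (u fr1 0 c 0)⁻¹ := by
    rw [comm_u fr1 P.Z1]
    congr 1
    ring
  obtain ⟨r', s', e', p', q', d', hye⟩ := P.mem_Uh_iff.1 (hn _ (P.U1_le (u_mem fr1 0 c 0)))
  have hnz : n * u fr1 0 0 c * n⁻¹ = u fr1 0 0 (r * s' + r' * s) * u fr2 0 0 (p * q' + p' * q) := by
    rw [hz, hcon, hxe, hye, P.comm_uu]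
  by_cases h1 : r = 0 ∧ s = 0
  · right
    refine ⟨p * q' + p' * q, ?_⟩
    rw [hnz, h1.1, h1.2, zero_mul, mul_zero, add_zero, h0', one_mul]
  by_cases h2 : p = 0 ∧ q = 0
  · left
    refine ⟨r * s' + r' * s, ?_⟩
    rw [hnz, h2.1, h2.2, zero_mul, mul_zero, add_zero, h0, mul_one]
  exfalso
  -- every element of `Z(U₁) Z(U₂)` is a commutator
  have hsol : ∀ (r s : F), ¬ (r = 0 ∧ s = 0) → ∀ a : F, ∃ r' s', r * s' + r' * s = a := by
    intro r s h a
    by_cases hr : r = 0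
    · have hs : s ≠ 0 := fun hs => h ⟨hr, hs⟩
      exact ⟨a * s⁻¹, 0, by rw [mul_zero, zero_add, inv_mul_cancel_right₀ hs]⟩
    · exact ⟨0, r⁻¹ * a, by rw [zero_mul, add_zero, mul_inv_cancel_left₀ hr]⟩
  have key : ∀ a b : F, ∃ k : F, n⁻¹ * (u fr1 0 0 a * u fr2 0 0 b) * n = u fr1 0 0 k := by
    intro a b
    obtain ⟨r1, s1, h3⟩ := hsol r s h1 a
    obtain ⟨p1, q1, h4⟩ := hsol p q h2 b
    have h5 : u fr1 r1 s1 0 * u fr2 p1 q1 0 ∈ P.Uh := ⟨_, u_mem fr1 _ _ _, _, u_mem fr2 _ _ _, rfl⟩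
    obtain ⟨r2, s2, c2, p2, q2, d2, h6⟩ := P.mem_Uh_iff.1 (hni _ h5)
    have h7 : n * (u fr1 r2 s2 c2 * u fr2 p2 q2 d2) * n⁻¹ = u fr1 r1 s1 0 * u fr2 p1 q1 0 := by
      rw [← h6]; group
    have h8 := hcon (u fr1 1 0 0) (u fr1 r2 s2 c2 * u fr2 p2 q2 d2)
    rw [h7, hxe, P.comm_uu, h3, h4] at h8
    have h9 : u fr1 1 0 0 = u fr1 1 0 0 * u fr2 0 0 0 := by rw [h0, mul_one]
    have h10 : (0 : F) * q2 + p2 * 0 = 0 := by ring
    rw [h9, P.comm_uu, h10, h0, mul_one] at h8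
    exact ⟨1 * s2 + r2 * 0, by rw [← h8]; group⟩
  choose k hk using key
  have hinj : Function.Injective (fun p : F × F => k p.1 p.2) := by
    rintro ⟨a, b⟩ ⟨a', b'⟩ h
    have h3 : u fr1 0 0 a * u fr2 0 0 b = u fr1 0 0 a' * u fr2 0 0 b' := by
      have h4 := (hk a b).trans ((congrArg (fun z => u fr1 0 0 z) h).trans (hk a' b').symm)
      have h5 := congrArg (fun z => n * z * n⁻¹) h4
      have e1 : ∀ z : G, n * (n⁻¹ * z * n) * n⁻¹ = z := fun z => by group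
      simpa only [e1] using h5
    obtain ⟨h4, h5⟩ := P.comp_unique (u_mem fr1 _ _ _) (u_mem fr1 _ _ _) (u_mem fr2 _ _ _) (u_mem fr2 _ _ _) h3
    exact Prod.ext (u_inj fr1 h4).2.2 (u_inj fr2 h5).2.2
  have h3 := Nat.card_le_card_of_injective _ hinj
  rw [Nat.card_prod] at h3
  have h4 := P.four
  have h5 : Nat.card F * 1 < Nat.card F * Nat.card F := Nat.mul_lt_mul_of_pos_left (by omega) (by omega)
  omega

end Pre

end Cfsg.Agent.StdRank2.L3WJ
end

-- part: StdRank2/L3WJ/TypeI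
section
/-!
# Type `L₃(q)`, the wreath case: involutions of type I

`Dc t x` : some conjugate of `t` commutes with `x`. `S` is a Sylow 2-subgroup of `G`, `Pre t fr1 fr2 S`, and no conjugate
of `t` lies in `S₀`.

* `no_comm` : no conjugate of `t` commutes with an involution of `A₁` or `A₂`;
* `mixed` : the products `b₁ b₂` of involutions `b_i ∈ A_i` commute with a conjugate of `t`;
* `diag` : so do the involutions of `S₀` which commute with an element of `S ∖ S₀`;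
* `swap_no` : no involution of `S ∖ S₀` is conjugate to an involution of `A₁`;
* `main` : `z = x₀₂(1)` commutes with `S₀` and no conjugate of `z` in `S` commutes with an element of `S ∖ S₀`.
-/

set_option autoImplicit false

namespace Cfsg.Agent.StdRank2.L3WJ

open Subgroup Cfsg.Agent.StdRank2.OutL3Rel Cfsg.Agent.StdRank2.OutField Cfsg.Agent.StdRank2.OutL3Inv
  Cfsg.Agent.StdRank2.OutL3Je Cfsg.Agent.StdRank2.OutL3JeMain

section General

variable {G : Type*} [Group G] [Finite G]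

/-- Two 2-subgroups of `C`, up to conjugation in `C` and `G` in a given Sylow subgroup. -/
theorem exists_common {C U D : Subgroup G} (hU : IsPGroup 2 U) (hUC : U ≤ C) (hD : IsPGroup 2 D) (hDC : D ≤ C)
    (S : Sylow 2 G) : ∃ c ∈ C, ∃ h : G, (∀ x ∈ U, h * x * h⁻¹ ∈ (S : Subgroup G)) ∧
      ∀ x ∈ D, h * (c * x * c⁻¹) * h⁻¹ ∈ (S : Subgroup G) := by
  have : Fact (Nat.Prime 2) := ⟨Nat.prime_two⟩
  have hU' : IsPGroup 2 (U.subgroupOf C) := hU.comap_of_injective C.subtype C.subtype_injective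
  have hD' : IsPGroup 2 (D.subgroupOf C) := hD.comap_of_injective C.subtype C.subtype_injective
  obtain ⟨P1, hP1⟩ := hU'.exists_le_sylow
  obtain ⟨P2, hP2⟩ := hD'.exists_le_sylow
  obtain ⟨c, hc⟩ := MulAction.exists_smul_eq C P2 P1
  have hQ : IsPGroup 2 ((P1 : Subgroup C).map C.subtype) := P1.isPGroup'.map _
  obtain ⟨Q, hQ⟩ := hQ.exists_le_sylow
  obtain ⟨h, hh⟩ := MulAction.exists_smul_eq G Q S
  have key : ∀ x ∈ (P1 : Subgroup C), h * (x : G) * h⁻¹ ∈ (S : Subgroup G) := by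
    intro x hx
    rw [← hh]
    show _ ∈ ((h • Q : Sylow 2 G) : Subgroup G)
    rw [Sylow.coe_subgroup_smul, Subgroup.mem_pointwise_smul_iff_inv_smul_mem]
    have : (MulAut.conj h)⁻¹ • (h * (x : G) * h⁻¹) = (x : G) := (MulAut.conj h).symm_apply_apply _
    rw [this]
    exact hQ ⟨x, hx, rfl⟩
  refine ⟨c, c.2, h, ?_, ?_⟩
  · intro x hx
    exact key ⟨x, hUC hx⟩ (hP1 (mem_subgroupOf.2 hx))
  · intro x hx
    refine key (c * ⟨x, hDC hx⟩ * c⁻¹ :) ?_
    rw [← hc, Sylow.coe_subgroup_smul, Subgroup.mem_pointwise_smul_iff_inv_smul_mem]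
    have : (MulAut.conj c)⁻¹ • (c * ⟨x, hDC hx⟩ * c⁻¹) = ⟨x, hDC hx⟩ := (MulAut.conj c).symm_apply_apply _
    rw [this]
    exact hP2 (mem_subgroupOf.2 hx)

omit [Finite G] in
/-- Some conjugate of `t` commutes with `x`. -/
def Dc (t x : G) : Prop := ∃ g : G, (g * t * g⁻¹) * x = x * (g * t * g⁻¹)

omit [Finite G] in
theorem Dc.conj {t x : G} (h : Dc t x) (k : G) : Dc t (k * x * k⁻¹) := by
  obtain ⟨g, hg⟩ := h
  refine ⟨k * g, ?_⟩
  calc (k * g) * t * (k * g)⁻¹ * (k * x * k⁻¹) = k * ((g * t * g⁻¹) * x) * k⁻¹ := by group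
    _ = k * (x * (g * t * g⁻¹)) * k⁻¹ := by rw [hg]
    _ = (k * x * k⁻¹) * ((k * g) * t * (k * g)⁻¹) := by group

omit [Finite G] in
theorem Dc.of_conj {t x : G} {k : G} (h : Dc t (k * x * k⁻¹)) : Dc t x := by
  have := h.conj k⁻¹
  have e : k⁻¹ * (k * x * k⁻¹) * k⁻¹⁻¹ = x := by group
  rwa [e] at this

end General

variable {G : Type*} [Group G] {F : Type*} [Field F] {t : G} {A1 A2 : Subgroup G} {fr1 : FrameL3 A1 F}
  {fr2 : FrameL3 A2 F}

namespace Pre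

section Elementary

variable {S : Subgroup G} (P : Pre t fr1 fr2 S) [Finite G] [Finite F] [CharP F 2]
include P

/-- **Mixed involutions commute with a conjugate of `t`.** -/
theorem mixed {b1 b2 : G} (h1 : b1 ∈ A1) (h2 : b2 ∈ A2) (s1 : b1 * b1 = 1) (s2 : b2 * b2 = 1) (n1 : b1 ≠ 1)
    (n2 : b2 ≠ 1) : Dc t (b1 * b2) := by
  obtain ⟨y1, hy1, e1⟩ := fr1.involution_conj P.Z1 h1 s1 n1
  obtain ⟨y2, hy2, e2⟩ := fr2.involution_conj P.Z2 h2 s2 n2
  apply Dc.of_conj (k := y1 * y2)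
  have hx1 : fr1.x 0 2 1 ∈ A1 := fr1.mem (by decide) 1
  have hx2 : fr2.x 0 2 1 ∈ A2 := fr2.mem (by decide) 1
  have e3 : y1 * y2 * (b1 * b2) * (y1 * y2)⁻¹ = fr1.x 0 2 1 * fr2.x 0 2 1 := by
    have c1 := P.comm _ h1 _ hy2
    have c2 := P.comm _ (inv_mem hy1) _ (mul_mem (mul_mem hy2 h2) (inv_mem hy2))
    calc y1 * y2 * (b1 * b2) * (y1 * y2)⁻¹ = y1 * (y2 * b1) * b2 * y2⁻¹ * y1⁻¹ := by group
      _ = y1 * (b1 * y2) * b2 * y2⁻¹ * y1⁻¹ := by rw [c1]
      _ = y1 * b1 * (y2 * b2 * y2⁻¹ * y1⁻¹) := by group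
      _ = y1 * b1 * (y1⁻¹ * (y2 * b2 * y2⁻¹)) := by rw [c2]
      _ = (y1 * b1 * y1⁻¹) * (y2 * b2 * y2⁻¹) := by group
      _ = _ := by rw [e1, e2]
  rw [e3]
  refine ⟨1, ?_⟩
  have e4 : t * (fr1.x 0 2 1 * fr2.x 0 2 1) * t = fr1.x 0 2 1 * fr2.x 0 2 1 := by
    rw [P.tmul, P.x 0 2 (by decide), P.x' (by decide), P.comm _ hx1 _ hx2]
  calc 1 * t * 1⁻¹ * (fr1.x 0 2 1 * fr2.x 0 2 1) = t * (fr1.x 0 2 1 * fr2.x 0 2 1) * (t * t) := by
        rw [P.tt]; group
    _ = (t * (fr1.x 0 2 1 * fr2.x 0 2 1) * t) * t := by group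
    _ = fr1.x 0 2 1 * fr2.x 0 2 1 * (1 * t * 1⁻¹) := by rw [e4]; group

theorem ft_conj {s y : G} {σ : F ≃+* F} (hs : s ∈ S0 A1 A2 S) (h : FT fr1 y σ) : FT fr1 (s * y * s⁻¹) σ := by
  rcases P.ad1.cases hs with ⟨τ, h1⟩ | ⟨τ, h1⟩
  · have h2 := (h1.mul P.Z1 h).mul P.Z1 (h1.inv P.Z1)
    rwa [OutField.comm τ σ, mul_inv_cancel_right] at h2
  · have h2 := (h1.mul_ft P.Z1 h).mul P.Z1 (h1.inv P.Z1)
    rwa [OutField.comm τ σ, mul_inv_cancel_right] at h2

theorem gt_conj {s y : G} {σ : F ≃+* F} (hs : s ∈ S0 A1 A2 S) (h : GT fr1 y σ) : GT fr1 (s * y * s⁻¹) σ := by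
  rcases P.ad1.cases hs with ⟨τ, h1⟩ | ⟨τ, h1⟩
  · have h2 := (h1.mul_gt P.Z1 h).mul_ft P.Z1 (h1.inv P.Z1)
    rwa [OutField.comm τ σ, mul_inv_cancel_right] at h2
  · have h2 := (h1.mul P.Z1 h).mul_gt P.Z1 (h1.inv P.Z1)
    rwa [OutField.comm τ σ, mul_inv_cancel_right] at h2

/-- an element commuting with a swapping element has the same type on both sides -/
theorem ft_of_comm {u y : G} {σ : F ≃+* F} (hu : t * u ∈ S0 A1 A2 S) (hc : u * y = y * u) (h : FT fr1 y σ) :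
    FT fr2 y σ := by
  have h1 := P.ft_swap (P.ft_conj hu h)
  have e : t * (t * u * y * (t * u)⁻¹) * t = y := by
    calc t * (t * u * y * (t * u)⁻¹) * t = (t * t) * (u * y) * u⁻¹ * (t⁻¹ * t) := by group
      _ = y := by rw [P.tt, hc]; group
  rwa [e] at h1

theorem gt_of_comm {u y : G} {σ : F ≃+* F} (hu : t * u ∈ S0 A1 A2 S) (hc : u * y = y * u) (h : GT fr1 y σ) :
    GT fr2 y σ := by
  have h1 := P.gt_swap (P.gt_conj hu h)
  have e : t * (t * u * y * (t * u)⁻¹) * t = y := by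
    calc t * (t * u * y * (t * u)⁻¹) * t = (t * t) * (u * y) * u⁻¹ * (t⁻¹ * t) := by group
      _ = y := by rw [P.tt, hc]; group
  rwa [e] at h1

omit [Finite G] [Finite F] in
/-- an element of `S` acting on both frames as the same standard automorphism commutes with `t` -/
theorem comm_t_fld {f : G} {σ : F ≃+* F} (hf : f ∈ S0 A1 A2 S) (h1 : Fld fr1 f σ) (h2 : Fld fr2 f σ) :
    t * f * t = f := by
  have hg := P.S0_swap hf
  have k1 : Fld fr1 (f⁻¹ * (t * f * t)) 1 := by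
    have := h1.inv.mul (P.fld_swap' h2)
    rwa [inv_mul_cancel] at this
  have k2 : Fld fr2 (f⁻¹ * (t * f * t)) 1 := by
    have := h2.inv.mul (P.fld_swap h1)
    rwa [inv_mul_cancel] at this
  have hm := mul_mem (inv_mem hf) hg
  have h3 := P.triv _ (P.S0_le hm) (mem_centralizer_of_fld_one P.p1 (P.S0_n1 hm) k1)
    (mem_centralizer_of_fld_one P.p2 (P.S0_n2 hm) k2)
  exact (inv_mul_eq_one.1 h3).symm

omit [Finite G] [Finite F] in
theorem comm_t_grf {f : G} {σ : F ≃+* F} (hf : f ∈ S0 A1 A2 S) (h1 : Grf fr1 f σ) (h2 : Grf fr2 f σ) :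
    t * f * t = f := by
  have hg := P.S0_swap hf
  have k1 : Fld fr1 (f⁻¹ * (t * f * t)) 1 := by
    have := h1.inv.mul (P.grf_swap' h2)
    rwa [inv_mul_cancel] at this
  have k2 : Fld fr2 (f⁻¹ * (t * f * t)) 1 := by
    have := h2.inv.mul (P.grf_swap h1)
    rwa [inv_mul_cancel] at this
  have hm := mul_mem (inv_mem hf) hg
  have h3 := P.triv _ (P.S0_le hm) (mem_centralizer_of_fld_one P.p1 (P.S0_n1 hm) k1)
    (mem_centralizer_of_fld_one P.p2 (P.S0_n2 hm) k2)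
  exact (inv_mul_eq_one.1 h3).symm

omit P in
omit [Finite G] [Finite F] [CharP F 2] in
theorem cent_fld {A : Subgroup G} {fr : FrameL3 A F} {f w : G} {σ : F ≃+* F} (hw : w ∈ centralizer (A : Set G))
    (hf : f ∈ normalizer (A : Set G)) (h : Fld fr f σ) : Fld fr (w * f * w⁻¹) σ := by
  intro i j hij s
  have h1 : w⁻¹ * fr.x i j s * w = fr.x i j s := by
    rw [mul_assoc, mem_centralizer_iff.1 hw _ (fr.mem hij s), inv_mul_cancel_left]
  have h2 : f * fr.x i j s * f⁻¹ ∈ A := (mem_normalizer_iff.1 hf _).1 (fr.mem hij s)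
  calc w * f * w⁻¹ * fr.x i j s * (w * f * w⁻¹)⁻¹ = w * (f * (w⁻¹ * fr.x i j s * w) * f⁻¹) * w⁻¹ := by group
    _ = w * (f * fr.x i j s * f⁻¹) * w⁻¹ := by rw [h1]
    _ = f * fr.x i j s * f⁻¹ := by rw [← mem_centralizer_iff.1 hw _ h2, mul_inv_cancel_right]
    _ = _ := h i j hij s

omit P in
omit [Finite G] [Finite F] [CharP F 2] in
theorem cent_grf {A : Subgroup G} {fr : FrameL3 A F} {f w : G} {σ : F ≃+* F} (hw : w ∈ centralizer (A : Set G))
    (hf : f ∈ normalizer (A : Set G)) (h : Grf fr f σ) : Grf fr (w * f * w⁻¹) σ := by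
  intro i j hij s
  have h1 : w⁻¹ * fr.x i j s * w = fr.x i j s := by
    rw [mul_assoc, mem_centralizer_iff.1 hw _ (fr.mem hij s), inv_mul_cancel_left]
  have h2 : f * fr.x i j s * f⁻¹ ∈ A := (mem_normalizer_iff.1 hf _).1 (fr.mem hij s)
  calc w * f * w⁻¹ * fr.x i j s * (w * f * w⁻¹)⁻¹ = w * (f * (w⁻¹ * fr.x i j s * w) * f⁻¹) * w⁻¹ := by group
    _ = w * (f * fr.x i j s * f⁻¹) * w⁻¹ := by rw [h1]
    _ = f * fr.x i j s * f⁻¹ := by rw [← mem_centralizer_iff.1 hw _ h2, mul_inv_cancel_right]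
    _ = _ := h i j hij s

/-- **Involutions of `S₀` commuting with a swapping element commute with a conjugate of `t`.** -/
theorem diag {u y : G} (hu : t * u ∈ S0 A1 A2 S) (hy : y ∈ S0 A1 A2 S) (hy2 : y * y = 1) (hy1 : y ≠ 1)
    (hc : u * y = y * u) : Dc t y := by
  have hyc1 : y * y ∈ centralizer (A1 : Set G) := by rw [hy2]; exact one_mem _
  have hyc2 : y * y ∈ centralizer (A2 : Set G) := by rw [hy2]; exact one_mem _
  by_cases hU : y ∈ P.Uh
  · -- inner case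
    obtain ⟨a, ha, b, hb, rfl⟩ := hU
    have hab := P.comm a (fr1.U_le ha) b (fr2.U_le hb)
    have h1 : (u * b * u⁻¹) * (u * a * u⁻¹) = a * b := by
      calc (u * b * u⁻¹) * (u * a * u⁻¹) = u * (b * a) * u⁻¹ := by group
        _ = u * (a * b) * u⁻¹ := by rw [hab]
        _ = a * b := by rw [hc, mul_inv_cancel_right]
    obtain ⟨e1, e2⟩ := P.comp_unique (P.swap_U2 hu hb) ha (P.swap_U1 hu ha) hb h1
    have h2 : (a * a) * (b * b) = 1 * 1 := by
      calc (a * a) * (b * b) = a * (a * b) * b := by group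
        _ = a * (b * a) * b := by rw [hab]
        _ = (a * b) * (a * b) := by group
        _ = 1 * 1 := by rw [hy2, one_mul]
    obtain ⟨e3, e4⟩ := P.comp_unique (mul_mem ha ha) (one_mem _) (mul_mem hb hb) (one_mem _) h2
    have ha1 : a ≠ 1 := by
      rintro rfl
      apply hy1
      rw [← e2]; group
    have hb1 : b ≠ 1 := by
      rintro rfl
      apply hy1
      rw [← e1]; group
    exact P.mixed (fr1.U_le ha) (fr2.U_le hb) e3 e4 ha1 hb1
  · rcases P.ad1.invol P.Z1 P.S0_n1 P.p1 hy hyc1 with ⟨v, hv, hvc⟩ | ⟨w1, hw1, σ, hσ2, h1⟩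
    · exfalso
      apply hU
      have h1 : FT fr1 y 1 := by
        have h2 := (FT.of_mem_U (fr := fr1) hv).mul P.Z1 (FT.of_centralizer (fr := fr1) hvc)
        rwa [one_mul, mul_inv_cancel_left] at h2
      exact P.mem_Uh_of_ft hy h1 (P.ft_of_comm hu hc h1)
    · have hty1 : (σ ≠ 1 ∧ FT fr1 y σ) ∨ GT fr1 y σ := by
        have e : y = w1⁻¹ * (w1 * y * w1⁻¹) * w1 := by group
        rcases h1 with ⟨hσ, h1⟩ | h1
        · left
          refine ⟨hσ, ?_⟩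
          have h2 : FT fr1 (w1 * y * w1⁻¹) σ := ⟨1, one_mem _, by rw [one_mul]; exact h1⟩
          have h3 := ((FT.of_mem_U (fr := fr1) (inv_mem hw1)).mul P.Z1 h2).mul P.Z1 (FT.of_mem_U (fr := fr1) hw1)
          rwa [one_mul, mul_one, ← e] at h3
        · right
          have h2 : GT fr1 (w1 * y * w1⁻¹) σ := ⟨1, one_mem _, by rw [one_mul]; exact h1⟩
          have h3 := ((FT.of_mem_U (fr := fr1) (inv_mem hw1)).mul_gt P.Z1 h2).mul_ft P.Z1
            (FT.of_mem_U (fr := fr1) hw1)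
          rwa [one_mul, mul_one, ← e] at h3
      have hw1A : w1 ∈ A1 := fr1.U_le hw1
      have hw1S := P.U1_S0 hw1
      rcases P.ad2.invol P.Z2 P.S0_n2 P.p2 hy hyc2 with ⟨v, hv, hvc⟩ | ⟨w2, hw2, τ, hτ2, h2⟩
      · exfalso
        have h1 : FT fr2 y 1 := by
          have h2 := (FT.of_mem_U (fr := fr2) hv).mul P.Z2 (FT.of_centralizer (fr := fr2) hvc)
          rwa [one_mul, mul_inv_cancel_left] at h2
        rcases hty1 with ⟨hσ, h3⟩ | h3
        · exact hσ ((P.ft_of_comm hu hc h3).eq_of P.Z2 h1)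
        · exact h1.not_gt P.Z2 (P.gt_of_comm hu hc h3)
      · have hw2A : w2 ∈ A2 := fr2.U_le hw2
        have hw2S := P.U2_S0 hw2
        have hcw : w1 * w2 = w2 * w1 := P.comm _ hw1A _ hw2A
        -- types on the second side
        have e : y = w2⁻¹ * (w2 * y * w2⁻¹) * w2 := by group
        have hf : w1 * w2 * y * (w1 * w2)⁻¹ ∈ S0 A1 A2 S :=
          mul_mem (mul_mem (mul_mem hw1S hw2S) hy) (inv_mem (mul_mem hw1S hw2S))
        have e1 : w1 * w2 * y * (w1 * w2)⁻¹ = w2 * (w1 * y * w1⁻¹) * w2⁻¹ := by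
          rw [hcw]; group
        have e2 : w1 * w2 * y * (w1 * w2)⁻¹ = w1 * (w2 * y * w2⁻¹) * w1⁻¹ := by group
        have n1 : w1 * y * w1⁻¹ ∈ normalizer (A1 : Set G) :=
          P.S0_n1 (mul_mem (mul_mem hw1S hy) (inv_mem hw1S))
        have n2 : w2 * y * w2⁻¹ ∈ normalizer (A2 : Set G) :=
          P.S0_n2 (mul_mem (mul_mem hw2S hy) (inv_mem hw2S))
        have main : t * (w1 * w2 * y * (w1 * w2)⁻¹) * t = w1 * w2 * y * (w1 * w2)⁻¹ := by
          rcases h1 with ⟨hσ, h1⟩ | h1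
          · have hty : FT fr1 y σ := by
              rcases hty1 with ⟨-, h⟩ | h
              · exact h
              · exfalso
                have h3 : FT fr1 (w1 * y * w1⁻¹) σ := ⟨1, one_mem _, by rw [one_mul]; exact h1⟩
                have h4 := ((FT.of_mem_U (fr := fr1) (inv_mem hw1)).mul P.Z1 h3).mul P.Z1
                  (FT.of_mem_U (fr := fr1) hw1)
                have e0 : w1⁻¹ * (w1 * y * w1⁻¹) * w1 = y := by group
                rw [e0] at h4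
                exact h4.not_gt P.Z1 h
            have hty2 := P.ft_of_comm hu hc hty
            rcases h2 with ⟨hτ, h2⟩ | h2
            · have h3 : FT fr2 (w2 * y * w2⁻¹) τ := ⟨1, one_mem _, by rw [one_mul]; exact h2⟩
              have h4 := ((FT.of_mem_U (fr := fr2) (inv_mem hw2)).mul P.Z2 h3).mul P.Z2
                (FT.of_mem_U (fr := fr2) hw2)
              rw [one_mul, mul_one, ← e] at h4
              have h5 : τ = σ := h4.eq_of P.Z2 hty2
              subst h5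
              refine P.comm_t_fld hf (σ := τ) ?_ ?_
              · rw [e1]; exact cent_fld (P.cent2 hw2A) n1 h1
              · rw [e2]; exact cent_fld (P.cent1 hw1A) n2 h2
            · exfalso
              have h3 : GT fr2 (w2 * y * w2⁻¹) τ := ⟨1, one_mem _, by rw [one_mul]; exact h2⟩
              have h4 := ((FT.of_mem_U (fr := fr2) (inv_mem hw2)).mul_gt P.Z2 h3).mul_ft P.Z2
                (FT.of_mem_U (fr := fr2) hw2)
              rw [one_mul, mul_one, ← e] at h4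
              exact hty2.not_gt P.Z2 h4
          · have hty : GT fr1 y σ := by
              have h3 : GT fr1 (w1 * y * w1⁻¹) σ := ⟨1, one_mem _, by rw [one_mul]; exact h1⟩
              have h4 := ((FT.of_mem_U (fr := fr1) (inv_mem hw1)).mul_gt P.Z1 h3).mul_ft P.Z1
                (FT.of_mem_U (fr := fr1) hw1)
              have e0 : w1⁻¹ * (w1 * y * w1⁻¹) * w1 = y := by group
              rwa [e0, one_mul, mul_one] at h4
            have hty2 := P.gt_of_comm hu hc hty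
            rcases h2 with ⟨hτ, h2⟩ | h2
            · exfalso
              have h3 : FT fr2 (w2 * y * w2⁻¹) τ := ⟨1, one_mem _, by rw [one_mul]; exact h2⟩
              have h4 := ((FT.of_mem_U (fr := fr2) (inv_mem hw2)).mul P.Z2 h3).mul P.Z2
                (FT.of_mem_U (fr := fr2) hw2)
              rw [one_mul, mul_one, ← e] at h4
              exact h4.not_gt P.Z2 hty2
            · have h3 : GT fr2 (w2 * y * w2⁻¹) τ := ⟨1, one_mem _, by rw [one_mul]; exact h2⟩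
              have h4 := ((FT.of_mem_U (fr := fr2) (inv_mem hw2)).mul_gt P.Z2 h3).mul_ft P.Z2
                (FT.of_mem_U (fr := fr2) hw2)
              rw [one_mul, mul_one, ← e] at h4
              have h5 : τ = σ := h4.eq_of P.Z2 hty2
              subst h5
              refine P.comm_t_grf hf (σ := τ) ?_ ?_
              · rw [e1]; exact cent_grf (P.cent2 hw2A) n1 h1
              · rw [e2]; exact cent_grf (P.cent1 hw1A) n2 h2
        apply Dc.of_conj (k := w1 * w2)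
        refine ⟨1, ?_⟩
        set f := w1 * w2 * y * (w1 * w2)⁻¹
        calc 1 * t * 1⁻¹ * f = t * f * (t * t) := by rw [P.tt]; group
          _ = (t * f * t) * t := by group
          _ = f * (1 * t * 1⁻¹) := by rw [main]; group

end Elementary

section Syl

variable [Finite G] [Finite F] [CharP F 2] {S : Sylow 2 G} (P : Pre t fr1 fr2 (S : Subgroup G))
  (hD : ∀ g : G, g * t * g⁻¹ ∉ S0 A1 A2 (S : Subgroup G))
include P

omit [Finite G] [Finite F] [CharP F 2] in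
theorem isPGroup_sub {D : Subgroup G} (hD : ∀ x ∈ D, x * x = 1) : IsPGroup 2 D := by
  intro x
  refine ⟨1, Subtype.ext ?_⟩
  rw [pow_one, pow_two]
  exact hD x x.2

theorem z_comm {x : G} (hx : x ∈ P.Uh) : x * fr1.x 0 2 1 = fr1.x 0 2 1 * x := by
  obtain ⟨a, ha, b, hb, rfl⟩ := hx
  have h1 := conj_U_zero fr1 P.Z1 ha 1
  rw [u_t fr1 P.Z1, mul_inv_eq_iff_eq_mul] at h1
  have h2 := P.comm _ (fr1.mem (i := 0) (j := 2) (by decide) 1) b (fr2.U_le hb)
  rw [mul_assoc, ← h2, ← mul_assoc, h1, mul_assoc]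

include hD in
/-- no conjugate of `t` commutes with `z` -/
theorem no_comm_z : ¬ Dc t (fr1.x 0 2 1) := by
  rintro ⟨g, hg⟩
  set z := fr1.x 0 2 1 with hz
  set d := g * t * g⁻¹ with hd
  have hdd : d * d = 1 := by
    calc d * d = g * (t * t) * g⁻¹ := by rw [hd]; group
      _ = 1 := by rw [P.tt]; group
  have hzp : ∀ x ∈ zpowers d, x * x = 1 := by
    intro x hx
    obtain ⟨n, rfl⟩ := mem_zpowers_iff.1 hx
    rw [← (Commute.refl d).mul_zpow, hdd, one_zpow]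
  have hUC : P.Uh ≤ centralizer {z} := by
    intro x hx
    rw [mem_centralizer_singleton_iff]
    exact P.z_comm hx
  have hDC : zpowers d ≤ centralizer {z} := by
    rw [zpowers_le, mem_centralizer_singleton_iff]
    exact hg
  have hU2 : IsPGroup 2 P.Uh := P.two.to_le (P.Uh_S0.trans P.S0_le)
  obtain ⟨c, hc, h, h1, h2⟩ := exists_common hU2 hUC (P.isPGroup_sub hzp) hDC S
  have h3 := P.weak h1
  have h4 := h2 d (mem_zpowers d)
  -- the conjugate of `d` swaps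
  have h5 : h * (c * d * c⁻¹) * h⁻¹ ∉ S0 A1 A2 (S : Subgroup G) := by
    have e : h * (c * d * c⁻¹) * h⁻¹ = (h * c * g) * t * (h * c * g)⁻¹ := by rw [hd]; group
    rw [e]
    exact hD _
  have h6 := P.not_S0 h4 h5
  set d' := h * (c * d * c⁻¹) * h⁻¹ with hd'
  have hcz : c * z = z * c := mem_centralizer_singleton_iff.1 hc
  have h7 : d' * (h * z * h⁻¹) * d'⁻¹ = h * z * h⁻¹ := by
    have e1 : c⁻¹ * z * c = z := by rw [mul_assoc, ← hcz, inv_mul_cancel_left]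
    calc d' * (h * z * h⁻¹) * d'⁻¹ = h * (c * (d * (c⁻¹ * z * c) * d⁻¹) * c⁻¹) * h⁻¹ := by rw [hd']; group
      _ = h * (c * z * c⁻¹) * h⁻¹ := by rw [e1, hg, mul_inv_cancel_right]
      _ = h * z * h⁻¹ := by rw [hcz, mul_inv_cancel_right]
  have hz1 : h * z * h⁻¹ ≠ 1 := by
    intro e
    have : z = 1 := by
      calc z = h⁻¹ * (h * z * h⁻¹) * h := by group
        _ = 1 := by rw [e]; group
    rw [hz, fr1.x_eq_one P.Z1 (by decide)] at this
    exact one_ne_zero this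
  have h8 := P.center_perm h3 1
  rw [u_t fr1 P.Z1, ← hz] at h8
  rcases h8 with ⟨c', h9⟩ | ⟨c', h9⟩
  · apply hz1
    refine P.inter (by rw [h9]; exact u_mem fr1 _ _ _) ?_
    rw [← h7, h9]
    exact P.swap_U1 h6 (u_mem fr1 _ _ _)
  · apply hz1
    refine P.inter ?_ (by rw [h9]; exact u_mem fr2 _ _ _)
    rw [← h7, h9]
    exact P.swap_U2 h6 (u_mem fr2 _ _ _)

include hD in
/-- **No conjugate of `t` commutes with an involution of `A₁`.** -/
theorem no_comm1 {e : G} (he : e ∈ A1) (he2 : e * e = 1) (he1 : e ≠ 1) : ¬ Dc t e := by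
  intro h
  obtain ⟨y, hy, h1⟩ := fr1.involution_conj P.Z1 he he2 he1
  exact P.no_comm_z hD (by rw [← h1]; exact h.conj y)

include hD in
/-- **No conjugate of `t` commutes with an involution of `A₂`.** -/
theorem no_comm2 {e : G} (he : e ∈ A2) (he2 : e * e = 1) (he1 : e ≠ 1) : ¬ Dc t e := by
  intro h
  refine P.no_comm1 hD ((P.swap' e).1 he) ?_ ?_ ?_
  · rw [← P.tmul, he2, mul_one, P.tt]
  · intro h1
    apply he1
    rw [← P.tct e, h1, mul_one, P.tt]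
  · have := h.conj t
    rwa [P.ti] at this

end Syl

end Pre

end Cfsg.Agent.StdRank2.L3WJ
end

-- part: StdRank2/L3WJ/Conn
section
/-!
# Wreath case of type `L₃(q)`: `hW` and `hD` from the configuration `Wr`

* `pre` : `Wr` gives `Pre`;
* `hW` : `U₁ U₂` is weakly closed in `P`;
* `hD` : mixed involutions are not conjugate into `U₁ ∪ U₂`;
* `typeI` : an involution of `U₁` commutes with no conjugate of `t`;
* `hO` : the involutions of `S₀` commuting with a swapping element commute with a conjugate of `t`.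
-/

set_option autoImplicit false

namespace Cfsg.Agent.StdRank2.L3WJ

open Subgroup Cfsg.Agent.StdRank2.L3W

variable {G : Type*} [Group G] [Finite G] {F : Type*} [Field F] [Finite F] [CharP F 2] {G1 G2 : Subgroup G}
  {fr : FrameL3 G1 F} {fr' : FrameL3 G2 F} {E : Subgroup G} {P : Sylow 2 G} {t : G} (W : Wr fr fr' E P t)
  (hF : 4 ≤ Nat.card F)
include W

include hF

theorem pre : Pre t fr fr' (P : Subgroup G) where
  Z1 := W.oddZ
  p1 := W.perf1
  comm := W.comm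
  tt := W.tt
  swap := by
    intro a
    have ti := W.ti
    constructor
    · intro ha
      have := W.t_G1 a ha
      rwa [ti] at this
    · intro ha
      have := W.t_G2 _ ha
      have e : t * (t * a * t) * t⁻¹ = a := by
        calc t * (t * a * t) * t⁻¹ = (t * t) * a * (t * t⁻¹) := by group
          _ = a := by rw [W.tt]; group
      rwa [e] at this
  x := by
    intro i j _ s
    rw [W.frame, W.ti]
  tS := W.tP
  two := P.isPGroup'
  U1 := W.U_le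
  perm := by
    intro y hy
    rcases W.P_le y hy with h | h
    · exact Or.inl (mem_inf.2 ⟨hy, h⟩)
    · exact Or.inr (mem_inf.2 ⟨mul_mem W.tP hy, h⟩)
  ad1 := W.adapted
  triv := by
    intro y hy h1 h2
    obtain ⟨k, hk⟩ := P.isPGroup' ⟨y, hy⟩
    refine W.cent y (fun x hx => (mem_centralizer_iff.1 h1 x hx).symm)
      (fun x hx => (mem_centralizer_iff.1 h2 x hx).symm) ⟨k, ?_⟩
    exact congrArg Subtype.val hk
  four := hF

omit [Finite G] [Finite F] [CharP F 2] hF in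
theorem F1' (g : G) : g * t * g⁻¹ ∉ S0 G1 G2 (P : Subgroup G) := by
  intro h
  have := W.F1 g⁻¹
  rw [inv_inv] at this
  exact this (mem_inf.1 h).2

theorem Uh_eq : (pre W hF).Uh = fr.U ⊔ fr'.U := by
  apply le_antisymm
  · rintro _ ⟨a, ha, b, hb, rfl⟩
    exact mul_mem (mem_sup_left ha) (mem_sup_right hb)
  · exact sup_le (pre W hF).U1_le (pre W hF).U2_le

/-- weak closure -/
theorem hW : ∀ g : G, (∀ x ∈ fr.U ⊔ fr'.U, g⁻¹ * x * g ∈ (P : Subgroup G)) →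
      ∀ x ∈ fr.U ⊔ fr'.U, g⁻¹ * x * g ∈ fr.U ⊔ fr'.U := by
  intro g hg x hx
  rw [← Uh_eq W hF] at hg hx ⊢
  have := (pre W hF).weak (g := g⁻¹) (by
    intro x hx
    rw [inv_inv]
    exact hg x hx) x hx
  rwa [inv_inv] at this

/-- mixed involutions are not conjugate into `U₁ ∪ U₂` -/
theorem hD : ∀ a ∈ fr.U, ∀ b ∈ fr'.U, a ≠ 1 → b ≠ 1 → a * a = 1 → b * b = 1 → ∀ g : G,
      g⁻¹ * (a * b) * g ∉ fr.U ∧ g⁻¹ * (a * b) * g ∉ fr'.U := by
  intro a ha b hb ha1 hb1 ha2 hb2 g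
  have h1 := ((pre W hF).mixed (fr.U_le ha) (fr'.U_le hb) ha2 hb2 ha1 hb1).conj g⁻¹
  rw [inv_inv] at h1
  have hab := W.comm a (fr.U_le ha) b (fr'.U_le hb)
  have h2 : g⁻¹ * (a * b) * g * (g⁻¹ * (a * b) * g) = 1 := by
    calc g⁻¹ * (a * b) * g * (g⁻¹ * (a * b) * g) = g⁻¹ * (a * (b * a) * b) * g := by group
      _ = g⁻¹ * (a * (a * b) * b) * g := by rw [hab]
      _ = g⁻¹ * ((a * a) * (b * b)) * g := by group
      _ = 1 := by rw [ha2, hb2]; group
  have h3 : g⁻¹ * (a * b) * g ≠ 1 := by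
    intro h
    have h4 : a * b = 1 := by
      calc a * b = g * (g⁻¹ * (a * b) * g) * g⁻¹ := by group
        _ = 1 := by rw [h]; group
    have h5 : a = b⁻¹ := eq_inv_of_mul_eq_one_left h4
    exact ha1 ((pre W hF).inter ha (by rw [h5]; exact inv_mem hb))
  exact ⟨fun h => (pre W hF).no_comm1 (F1' W) (fr.U_le h) h2 h3 h1,
    fun h => (pre W hF).no_comm2 (F1' W) (fr'.U_le h) h2 h3 h1⟩

/-- involutions of `S₀` commuting with a swapping element commute with a conjugate of `t` -/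
theorem hO : ∀ w ∈ (P ⊓ NN G1 G2 : Subgroup G), w * w = 1 → w ≠ 1 → ∀ u ∈ (P : Subgroup G),
    u ∉ (P ⊓ NN G1 G2 : Subgroup G) → u * w = w * u → ∃ x : G, (x⁻¹ * t * x) * w = w * (x⁻¹ * t * x) := by
  intro w hw hw2 hw1 u hu hu0 hc
  have hu1 := (pre W hF).not_S0 hu hu0
  obtain ⟨g, hg⟩ := (pre W hF).diag hu1 hw hw2 hw1 hc
  refine ⟨g⁻¹, ?_⟩
  rw [inv_inv]
  exact hg

end Cfsg.Agent.StdRank2.L3WJ
end

-- part: StdRank2/L3WJ/Hilb
section
/-!
# Wreath case of type `L₃(q)`: `hilb` and `split`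

* `hilb` : the involutions of the coset `w U₂` are `U₂`-conjugate, for an involution `w ∈ S₀ ∖ U₁U₂` with
  `w (t w t) ∈ U₁U₂`;
* `split` : elements of `S₀` over involutory types `(s, s)` can be corrected to involutions.
-/

set_option autoImplicit false

namespace Cfsg.Agent.StdRank2.L3WJ

open Subgroup Cfsg.Agent.StdRank2.L3W Cfsg.Agent.StdRank2.OutL3Rel Cfsg.Agent.StdRank2.OutField
  Cfsg.Agent.StdRank2.OutL3Inv Cfsg.Agent.StdRank2.OutL3Je

section

variable {G : Type*} [Group G] {F : Type*} [Field F] {t : G} {A1 A2 : Subgroup G} {fr1 : FrameL3 A1 F}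
  {fr2 : FrameL3 A2 F} {S : Subgroup G} (P : Pre t fr1 fr2 S) [Finite G] [Finite F] [CharP F 2]
include P

namespace Pre

theorem ft_of_Uh1 {x : G} (hx : x ∈ P.Uh) : FT fr1 x 1 := by
  obtain ⟨a, ha, b, hb, rfl⟩ := hx
  have h1 := (FT.of_mem_U (fr := fr1) ha).mul P.Z1 (FT.of_centralizer (fr := fr1) (P.cent2 (fr2.U_le hb)))
  rwa [one_mul] at h1

theorem ft_of_Uh2 {x : G} (hx : x ∈ P.Uh) : FT fr2 x 1 := by
  obtain ⟨a, ha, b, hb, rfl⟩ := hx
  have h1 := (FT.of_centralizer (fr := fr2) (P.cent1 (fr1.U_le ha))).mul P.Z2 (FT.of_mem_U (fr := fr2) hb)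
  rwa [one_mul] at h1

theorem Uh_normal {x v : G} (hx : x ∈ S0 A1 A2 S) (hv : v ∈ P.Uh) : x * v * x⁻¹ ∈ P.Uh := by
  obtain ⟨a, ha, b, hb, rfl⟩ := hv
  refine ⟨_, P.U1_normal hx ha, _, P.U2_normal hx hb, ?_⟩
  group

/-- elements over involutory types `(s, s)` -/
theorem split {x : G} (hx : x ∈ S0 A1 A2 S) (hxx : x * x ∈ P.Uh) (hxt : x * (t * x * t) ∈ P.Uh) :
    ∃ n ∈ P.Uh, x * n * (x * n) = 1 := by
  -- it suffices to find `v ∈ Uh` with `(v x)² = 1`
  suffices h : ∃ v ∈ P.Uh, v * x * (v * x) = 1 by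
    obtain ⟨v, hv, h1⟩ := h
    refine ⟨x⁻¹ * v * x, ?_, ?_⟩
    · have := P.Uh_normal (inv_mem hx) hv
      rwa [inv_inv] at this
    · have e : x * (x⁻¹ * v * x) = v * x := by group
      rw [e]
      exact h1
  have hcU : ∀ v1 ∈ fr1.U, Fld fr2 v1 1 := by
    intro v1 hv1 i j hij a
    rw [← mem_centralizer_iff.1 (P.cent1 (fr1.U_le hv1)) _ (fr2.mem hij a), mul_inv_cancel_right]
    rfl
  have hcU' : ∀ v2 ∈ fr2.U, Fld fr1 v2 1 := by
    intro v2 hv2 i j hij a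
    rw [← mem_centralizer_iff.1 (P.cent2 (fr2.U_le hv2)) _ (fr1.mem hij a), mul_inv_cancel_right]
    rfl
  obtain ⟨v1, hv1, σ, -, h1 | h1⟩ := P.ad1 x hx
  · have k0 : FT fr1 x σ := ⟨v1, hv1, h1⟩
    have hσ : σ * σ = 1 := (k0.mul P.Z1 k0).eq_of P.Z1 (P.ft_of_Uh1 hxx)
    have h2 : FT fr2 x σ := by
      have h3 := P.ft_swap k0
      have h4 := (P.ft_of_Uh2 hxt).mul P.Z2 (h3.inv P.Z2)
      rwa [one_mul, mul_inv_cancel_right, inv_eq_of_mul_eq_one_left hσ] at h4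
    obtain ⟨v2, hv2, h2⟩ := h2
    have hw : v1 * v2 * x ∈ S0 A1 A2 S := mul_mem (mul_mem (P.U1_S0 hv1) (P.U2_S0 hv2)) hx
    have hc := P.comm _ (fr1.U_le hv1) _ (fr2.U_le hv2)
    have m1 : Fld fr1 (v1 * v2 * x) σ := by
      have h4 := (hcU' v2 hv2).mul h1
      rw [one_mul] at h4
      have e : v1 * v2 * x = v2 * (v1 * x) := by rw [hc, mul_assoc]
      rwa [e]
    have m2 : Fld fr2 (v1 * v2 * x) σ := by
      have h4 := (hcU v1 hv1).mul h2
      rw [one_mul] at h4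
      have e : v1 * v2 * x = v1 * (v2 * x) := by rw [mul_assoc]
      rwa [e]
    refine ⟨v1 * v2, ⟨v1, hv1, v2, hv2, rfl⟩, ?_⟩
    have n1 := m1.mul m1
    have n2 := m2.mul m2
    rw [hσ] at n1 n2
    exact P.triv _ (P.S0_le (mul_mem hw hw)) (mem_centralizer_of_fld_one P.p1 (P.S0_n1 (mul_mem hw hw)) n1)
      (mem_centralizer_of_fld_one P.p2 (P.S0_n2 (mul_mem hw hw)) n2)
  · have k0 : GT fr1 x σ := ⟨v1, hv1, h1⟩
    have hσ : σ * σ = 1 := (k0.mul P.Z1 k0).eq_of P.Z1 (P.ft_of_Uh1 hxx)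
    have h2 : GT fr2 x σ := by
      have h3 := P.gt_swap k0
      have h4 := (P.ft_of_Uh2 hxt).mul_gt P.Z2 (h3.inv P.Z2)
      rwa [one_mul, mul_inv_cancel_right, inv_eq_of_mul_eq_one_left hσ] at h4
    obtain ⟨v2, hv2, h2⟩ := h2
    have hw : v1 * v2 * x ∈ S0 A1 A2 S := mul_mem (mul_mem (P.U1_S0 hv1) (P.U2_S0 hv2)) hx
    have hc := P.comm _ (fr1.U_le hv1) _ (fr2.U_le hv2)
    have m1 : Grf fr1 (v1 * v2 * x) σ := by
      have h4 := (hcU' v2 hv2).mul_grf h1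
      rw [one_mul] at h4
      have e : v1 * v2 * x = v2 * (v1 * x) := by rw [hc, mul_assoc]
      rwa [e]
    have m2 : Grf fr2 (v1 * v2 * x) σ := by
      have h4 := (hcU v1 hv1).mul_grf h2
      rw [one_mul] at h4
      have e : v1 * v2 * x = v1 * (v2 * x) := by rw [mul_assoc]
      rwa [e]
    refine ⟨v1 * v2, ⟨v1, hv1, v2, hv2, rfl⟩, ?_⟩
    have n1 := m1.mul m1
    have n2 := m2.mul m2
    rw [hσ] at n1 n2
    exact P.triv _ (P.S0_le (mul_mem hw hw)) (mem_centralizer_of_fld_one P.p1 (P.S0_n1 (mul_mem hw hw)) n1)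
      (mem_centralizer_of_fld_one P.p2 (P.S0_n2 (mul_mem hw hw)) n2)

end Pre

end

variable {G : Type*} [Group G] [Finite G] {F : Type*} [Field F] [Finite F] [CharP F 2] {G1 G2 : Subgroup G}
  {fr : FrameL3 G1 F} {fr' : FrameL3 G2 F} {E : Subgroup G} {P : Sylow 2 G} {t : G} (W : Wr fr fr' E P t)
  (hF : 4 ≤ Nat.card F)
include W hF

end Cfsg.Agent.StdRank2.L3WJ
end

-- part: StdRank2/L3WJ/Le
section
/-!
# Wreath case of type `L₃(q)`: `S₀ ≤ E`

* `hab` : `[S₀, S₀] ≤ U₁U₂`;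
* `swapData` : `SwapData` for `P`, `S₀ = P ∩ N(G₁) ∩ N(G₂)`, `N = U₁U₂`;
* `le` : **`S₀ ≤ E`**.
-/

set_option autoImplicit false

namespace Cfsg.Agent.StdRank2.L3WJ

open Subgroup Cfsg.Agent.StdRank2.L3W Cfsg.Agent.StdRank2.OutL3Rel Cfsg.Agent.StdRank2.OutField
  Cfsg.Agent.StdRank2.OutL3Inv Cfsg.Agent.StdRank2.OutL3Je Cfsg.Agent.StdRank2.OutSplit
open scoped commutatorElement

/-- commutators have trivial type -/
theorem ft_commutator {G : Type*} [Group G] [Finite G] {F : Type*} [Field F] [Finite F] [CharP F 2] {A : Subgroup G}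
    {fr : FrameL3 A F} (hZ : Odd (Nat.card (center ↥A))) {a b : G} (ha : (∃ σ, FT fr a σ) ∨ ∃ σ, GT fr a σ)
    (hb : (∃ σ, FT fr b σ) ∨ ∃ σ, GT fr b σ) : FT fr ⁅a, b⁆ 1 := by
  have key : ∀ σ τ : F ≃+* F, σ * τ * σ⁻¹ * τ⁻¹ = 1 := by
    intro σ τ
    rw [OutField.comm σ τ, mul_inv_cancel_right, mul_inv_cancel]
  rw [commutatorElement_def]
  rcases ha with ⟨σ, ha⟩ | ⟨σ, ha⟩ <;> rcases hb with ⟨τ, hb⟩ | ⟨τ, hb⟩
  · have := ((ha.mul hZ hb).mul hZ (ha.inv hZ)).mul hZ (hb.inv hZ)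
    rwa [key] at this
  · have := ((ha.mul_gt hZ hb).mul_ft hZ (ha.inv hZ)).mul hZ (hb.inv hZ)
    rwa [key] at this
  · have := ((ha.mul_ft hZ hb).mul hZ (ha.inv hZ)).mul hZ (hb.inv hZ)
    rwa [key] at this
  · have := ((ha.mul hZ hb).mul_gt hZ (ha.inv hZ)).mul hZ (hb.inv hZ)
    rwa [key] at this

variable {G : Type*} [Group G] [Finite G] {F : Type*} [Field F] [Finite F] [CharP F 2] {G1 G2 : Subgroup G}
  {fr : FrameL3 G1 F} {fr' : FrameL3 G2 F} {E : Subgroup G} {P : Sylow 2 G} {t : G} (W : Wr fr fr' E P t)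
  (hF : 4 ≤ Nat.card F)
include W hF

theorem hab : ∀ a ∈ (P ⊓ NN G1 G2 : Subgroup G), ∀ b ∈ (P ⊓ NN G1 G2 : Subgroup G), ⁅a, b⁆ ∈ fr.U ⊔ fr'.U := by
  intro a ha b hb
  rw [← Uh_eq W hF]
  have hm : ⁅a, b⁆ ∈ S0 G1 G2 (P : Subgroup G) :=
    mul_mem (mul_mem (mul_mem ha hb) (inv_mem ha)) (inv_mem hb)
  exact (pre W hF).mem_Uh_of_ft hm (ft_commutator W.oddZ (W.adapted.cases ha) (W.adapted.cases hb))
    (ft_commutator W.oddZ' (W.adapted'.cases ha) (W.adapted'.cases hb))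

theorem swapData : SwapData (P : Subgroup G) (P ⊓ NN G1 G2 : Subgroup G) (fr.U ⊔ fr'.U) fr.U fr'.U :=
  W.swapData (hW W hF) (hD W hF)

/-- **`S₀ ≤ E`.** -/
theorem le : (P ⊓ NN G1 G2 : Subgroup G) ≤ E := by
  have hO' : ∀ w ∈ (P ⊓ NN G1 G2 : Subgroup G), w ∉ fr.U ⊔ fr'.U → w * w = 1 → ∀ u ∈ (P : Subgroup G),
      u ∉ (P ⊓ NN G1 G2 : Subgroup G) → u * w = w * u → ∃ x : G, (x⁻¹ * t * x) * w = w * (x⁻¹ * t * x) := by
    intro w hw hwN hw2 u hu hu0 hc
    refine hO W hF w hw hw2 ?_ u hu hu0 hc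
    rintro rfl
    exact hwN (one_mem _)
  refine le_of_data (swapData W hF) W.tt W.tP (fun g h => W.F1 g (mem_inf.1 h).2) W.perf W.gen (hab W hF)
    (Z := ZU fr W.oddZ) ?_ ?_ ?_ ?_ ?_ ?_ hO'
  · rintro _ ⟨v, rfl⟩
    exact u_mem fr _ _ _
  · rintro _ ⟨v, rfl⟩ a ha
    obtain ⟨r, s, w, rfl⟩ := (mem_U fr W.oddZ).1 ha
    exact (u_comm_iff fr W.oddZ _ _ _ _ _ _).2 (by ring)
  · rintro _ ⟨v, rfl⟩
    have e : ⁅u fr v 0 0, u fr 0 1 0⁆ = u fr 0 0 v := by
      have := Pre.comm_u fr W.oddZ v 0 0 0 1 0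
      rw [commutatorElement_def, this]
      congr 1
      ring
    rw [← e]
    exact commutator_mem_commutator (u_mem fr _ _ _) (u_mem fr _ _ _)
  · rintro _ ⟨v, rfl⟩
    rw [u_sq fr W.oddZ, mul_zero, u_zero fr W.oddZ]
  · have : Fintype F := Fintype.ofFinite F
    rw [Nat.card_eq_fintype_card] at hF
    obtain ⟨a, ha0, ha1⟩ : ∃ a : F, a ≠ 0 ∧ a ≠ 1 := by
      classical
      by_contra h
      push Not at h
      have h2 : (Finset.univ : Finset F) ⊆ {0, 1} := by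
        intro a _
        by_cases h0 : a = 0
        · simp only [h0, _root_.Finset.mem_insert, _root_.Finset.mem_singleton, _root_.zero_ne_one, _root_.or_false]
        · simp only [h a h0, _root_.Finset.mem_insert, _root_.one_ne_zero, _root_.Finset.mem_singleton, _root_.or_true]
      have h3 := Finset.card_le_card h2
      rw [Finset.card_univ] at h3
      have h4 : ({0, 1} : Finset F).card ≤ 2 := Finset.card_le_two
      omega
    refine ⟨u fr 0 0 1, ⟨1, rfl⟩, u fr 0 0 a, ⟨a, rfl⟩, ?_, ?_, ?_⟩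
    · intro h
      rw [← u_zero fr W.oddZ] at h
      exact one_ne_zero (u_inj fr h).2.2
    · intro h
      rw [← u_zero fr W.oddZ] at h
      exact ha0 (u_inj fr h).2.2
    · intro h
      exact ha1 (u_inj fr h).2.2.symm
  · rintro l hl _ ⟨v, rfl⟩
    rcases W.adapted.cases hl with ⟨σ, h1⟩ | ⟨σ, h1⟩
    · exact ⟨σ v, h1.conj_zero W.oddZ v⟩
    · exact ⟨σ v, h1.conj_zero W.oddZ v⟩

end Cfsg.Agent.StdRank2.L3WJ
end

-- part: StdRank2/L3W6/Types
section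
/-!
# The type homomorphism `N_G(A) → Aut(F) × {±1}` for `A` of type `L₃(F)`

`typ : Aut(PSL₃(F)) →* Aut(F) × {±1}` with kernel the inner-diagonal automorphisms; `om fr y` is the type of
`y ∈ N_G(A)`.  It is invariant under conjugation by all of `N_G(A)`.
-/

set_option autoImplicit false

namespace Cfsg.Agent.StdRank2.L3W6.Types

open Matrix
open Cfsg.Agent.ClassicalGeometry.AutPSL.Root
open Cfsg.Agent.ClassicalGeometry.AutPSL.Auto
open Cfsg.Agent.ClassicalGeometry.AutPSL.Main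
open Cfsg.Agent.StdRank2.OutL3
open Cfsg.Agent.StdRank2.OutAct hiding cj
open Cfsg.Agent.StdRank2.OutL3Rel Cfsg.Agent.StdRank2.OutL3Inv Cfsg.Agent.StdRank2.OutL3Je

section Rules

variable {ι F : Type*} [Fintype ι] [DecidableEq ι] [Field F]

/-- field automorphism applied to an invertible matrix -/
def mapGL (σ : F ≃+* F) (C : GL ι F) : GL ι F :=
  Matrix.GeneralLinearGroup.map (σ : F →+* F) C

theorem fld_mul_cj (σ : F ≃+* F) (C : GL ι F) : fld σ * cj C = cj (mapGL σ C) * fld σ := by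
  apply MulEquiv.ext
  intro g
  apply Subtype.ext
  have h1 : ((mapGL σ C : GL ι F) : Matrix ι ι F) = (C : Matrix ι ι F).map σ := rfl
  have h2 : (((mapGL σ C)⁻¹ : GL ι F) : Matrix ι ι F) = ((C⁻¹ : GL ι F) : Matrix ι ι F).map σ := rfl
  rw [MulAut.mul_apply, MulAut.mul_apply, coe_cj, h1, h2]
  have h3 : ((fld σ (cj C g) : Matrix.SpecialLinearGroup ι F) : Matrix ι ι F) =
      ((cj C g : Matrix.SpecialLinearGroup ι F) : Matrix ι ι F).map σ := rfl
  have h4 : ((fld σ g : Matrix.SpecialLinearGroup ι F) : Matrix ι ι F) =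
      (g : Matrix ι ι F).map σ := rfl
  rw [h3, h4, coe_cj]
  have h5 : ∀ P Q : Matrix ι ι F, (P * Q).map σ = P.map σ * Q.map σ := fun P Q =>
    Matrix.map_mul (f := (σ : F →+* F))
  rw [h5, h5]

/-- inverse transpose of an invertible matrix -/
def trGL (C : GL ι F) : GL ι F :=
  ⟨((C⁻¹ : GL ι F) : Matrix ι ι F)ᵀ, (C : Matrix ι ι F)ᵀ, by
    rw [← Matrix.transpose_mul, ← Units.val_mul, mul_inv_cancel, Units.val_one, Matrix.transpose_one], by
    rw [← Matrix.transpose_mul, ← Units.val_mul, inv_mul_cancel, Units.val_one, Matrix.transpose_one]⟩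

theorem itr_mul_cj (C : GL ι F) : itr * cj C = cj (trGL C) * itr := by
  apply MulEquiv.ext
  intro g
  apply Subtype.ext
  have h1 : ((trGL C : GL ι F) : Matrix ι ι F) = ((C⁻¹ : GL ι F) : Matrix ι ι F)ᵀ := rfl
  have h2 : (((trGL C)⁻¹ : GL ι F) : Matrix ι ι F) = (C : Matrix ι ι F)ᵀ := rfl
  rw [MulAut.mul_apply, MulAut.mul_apply, coe_cj, h1, h2, coe_itr, coe_itr, ← map_inv, coe_cj,
    Matrix.transpose_mul, Matrix.transpose_mul, mul_assoc]

theorem itr_mul_fld (σ : F ≃+* F) : (itr * fld σ : MulAut (Matrix.SpecialLinearGroup ι F)) = fld σ * itr := by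
  apply MulEquiv.ext
  intro g
  apply Subtype.ext
  rw [MulAut.mul_apply, MulAut.mul_apply, coe_itr, ← map_inv]
  rfl

/-- powers of the inverse transpose -/
def it (ε : ℤˣ) : MulAut (Matrix.SpecialLinearGroup ι F) := if ε = 1 then 1 else itr

theorem it_one : (it 1 : MulAut (Matrix.SpecialLinearGroup ι F)) = 1 := if_pos rfl

theorem it_neg_one : (it (-1) : MulAut (Matrix.SpecialLinearGroup ι F)) = itr := if_neg (by decide)

theorem it_mul (ε δ : ℤˣ) : (it (ε * δ) : MulAut (Matrix.SpecialLinearGroup ι F)) = it ε * it δ := by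
  rcases Int.units_eq_one_or ε with rfl | rfl <;> rcases Int.units_eq_one_or δ with rfl | rfl
  · rw [mul_one, it_one, mul_one]
  · rw [one_mul, it_one, one_mul]
  · rw [mul_one, it_one, mul_one]
  · rw [it_neg_one, itr_mul_itr, ← it_one]
    rfl

theorem it_mul_cj (ε : ℤˣ) (C : GL ι F) : ∃ D : GL ι F, it ε * cj C = cj D * it ε := by
  rcases Int.units_eq_one_or ε with rfl | rfl
  · exact ⟨C, by rw [it_one, mul_one, one_mul]⟩
  · exact ⟨trGL C, by rw [it_neg_one, itr_mul_cj]⟩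

theorem it_mul_fld (ε : ℤˣ) (σ : F ≃+* F) :
    (it ε * fld σ : MulAut (Matrix.SpecialLinearGroup ι F)) = fld σ * it ε := by
  rcases Int.units_eq_one_or ε with rfl | rfl
  · rw [it_one, mul_one, one_mul]
  · rw [it_neg_one, itr_mul_fld]

end Rules

section Typ

variable {F : Type*} [Field F]

/-- `α` has type `(σ, ε)`. -/
def HasTy (α : MulAut (Matrix.ProjectiveSpecialLinearGroup (Fin 3) F)) (p : (F ≃+* F) × ℤˣ) : Prop :=
  ∃ C : GL (Fin 3) F, α = lift (cj C * fld p.1 * it p.2)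

theorem HasTy.mul {α β : MulAut (Matrix.ProjectiveSpecialLinearGroup (Fin 3) F)} {p q : (F ≃+* F) × ℤˣ}
    (h1 : HasTy α p) (h2 : HasTy β q) : HasTy (α * β) (p * q) := by
  obtain ⟨C, rfl⟩ := h1
  obtain ⟨D, rfl⟩ := h2
  obtain ⟨D', hD'⟩ := it_mul_cj p.2 D
  refine ⟨C * mapGL p.1 D', ?_⟩
  rw [← map_mul]
  congr 1
  calc cj C * fld p.1 * it p.2 * (cj D * fld q.1 * it q.2)
      = cj C * fld p.1 * (it p.2 * cj D) * fld q.1 * it q.2 := by simp only [mul_assoc]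
    _ = cj C * (fld p.1 * cj D') * (it p.2 * fld q.1) * it q.2 := by rw [hD']; simp only [mul_assoc]
    _ = cj C * cj (mapGL p.1 D') * (fld p.1 * fld q.1) * (it p.2 * it q.2) := by
        rw [fld_mul_cj, it_mul_fld]; simp only [mul_assoc]
    _ = cj (C * mapGL p.1 D') * fld (p * q).1 * it (p * q).2 := by
        rw [← map_mul, ← map_mul, ← it_mul]; rfl

theorem HasTy.unique {α : MulAut (Matrix.ProjectiveSpecialLinearGroup (Fin 3) F)} {p q : (F ≃+* F) × ℤˣ}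
    (h1 : HasTy α p) (h2 : HasTy α q) : p = q := by
  obtain ⟨C, h1⟩ := h1
  obtain ⟨D, h2⟩ := h2
  have hmain : ∀ (C D : GL (Fin 3) F) (σ τ : F ≃+* F),
      lift (cj C * fld σ * itr) = lift (cj D * fld τ) → False := by
    intro C D σ τ h
    apply not_graph (ι := Fin 3) (by simp) (C := D⁻¹ * C) (σ := σ) (τ := τ)
    rw [map_mul cj, map_inv, mul_assoc, mul_assoc, map_mul, ← mul_assoc (cj C), h, ← map_mul, ← mul_assoc,
      inv_mul_cancel, one_mul]
  have hmain' : ∀ (C D : GL (Fin 3) F) (σ τ : F ≃+* F),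
      lift (cj C * fld σ) = lift (cj D * fld τ) → σ = τ := by
    intro C D σ τ h
    apply (injective_aux (ι := Fin 3) (C := D⁻¹ * C) (σ := σ) (τ := τ) ?_).2
    rw [map_mul cj, map_inv, mul_assoc, map_mul, h, ← map_mul, ← mul_assoc, inv_mul_cancel, one_mul]
  obtain ⟨σ, ε⟩ := p
  obtain ⟨τ, δ⟩ := q
  rcases Int.units_eq_one_or ε with rfl | rfl <;> rcases Int.units_eq_one_or δ with rfl | rfl
  · rw [h1, it_one, mul_one, mul_one] at h2
    exact Prod.ext (hmain' _ _ _ _ h2) rfl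
  · exfalso
    rw [h1, it_one, mul_one, it_neg_one] at h2
    exact hmain _ _ _ _ h2.symm
  · exfalso
    rw [h1, it_one, mul_one, it_neg_one] at h2
    exact hmain _ _ _ _ h2
  · rw [h1, it_neg_one, map_mul lift, map_mul lift (_ * _) itr] at h2
    exact Prod.ext (hmain' _ _ _ _ (mul_right_cancel h2)) rfl

variable [Finite F] [CharP F 2]

theorem HasTy.exists (α : MulAut (Matrix.ProjectiveSpecialLinearGroup (Fin 3) F)) :
    ∃ p, HasTy α p := by
  have : Fact (Nat.Prime 2) := ⟨Nat.prime_two⟩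
  have := Fintype.ofFinite F
  rcases surj_three 2 le_rfl α with ⟨C, σ, hC⟩ | ⟨C, σ, hC⟩
  · exact ⟨(σ, 1), C, by rw [hC, it_one, mul_one]⟩
  · exact ⟨(σ, -1), C, by rw [hC, it_neg_one]⟩

/-- **The type homomorphism.** -/
noncomputable def typ : MulAut (Matrix.ProjectiveSpecialLinearGroup (Fin 3) F) →* (F ≃+* F) × ℤˣ where
  toFun α := (HasTy.exists α).choose
  map_one' := (HasTy.exists 1).choose_spec.unique ⟨1, by
    show (1 : MulAut (Matrix.ProjectiveSpecialLinearGroup (Fin 3) F)) = lift (cj 1 * fld 1 * it 1)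
    rw [it_one, map_one, map_one, mul_one, mul_one, map_one]⟩
  map_mul' α β := (HasTy.exists (α * β)).choose_spec.unique
    ((HasTy.exists α).choose_spec.mul (HasTy.exists β).choose_spec)

theorem typ_eq {α : MulAut (Matrix.ProjectiveSpecialLinearGroup (Fin 3) F)} {p : (F ≃+* F) × ℤˣ}
    (h : HasTy α p) : typ α = p :=
  (HasTy.exists α).choose_spec.unique h

omit [Finite F] [CharP F 2] in
theorem conj_pr (x : Matrix.SpecialLinearGroup (Fin 3) F) :
    (MulAut.conj (pr x) : MulAut (Matrix.ProjectiveSpecialLinearGroup (Fin 3) F)) =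
      lift (cj (Matrix.SpecialLinearGroup.toGL x)) := by
  apply MulEquiv.ext
  intro y
  obtain ⟨y, rfl⟩ := pr_surjective y
  rw [MulAut.conj_apply, ← map_inv, ← map_mul, ← map_mul, lift_pr]
  congr 1

theorem typ_conj (x : Matrix.ProjectiveSpecialLinearGroup (Fin 3) F) : typ (MulAut.conj x) = 1 := by
  obtain ⟨x, rfl⟩ := pr_surjective x
  apply typ_eq
  refine ⟨Matrix.SpecialLinearGroup.toGL x, ?_⟩
  show _ = lift (_ * fld 1 * it 1)
  rw [it_one, map_one, mul_one, mul_one, conj_pr]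

theorem typ_fd (σ : F ≃+* F) : typ (fd σ) = (σ, 1) := by
  apply typ_eq
  refine ⟨1, ?_⟩
  show lift (fld σ) = lift (cj 1 * fld σ * it 1)
  rw [map_one, it_one, one_mul, mul_one]

theorem typ_gr : typ (gr : MulAut (Matrix.ProjectiveSpecialLinearGroup (Fin 3) F)) = (1, -1) := by
  apply typ_eq
  refine ⟨J, ?_⟩
  show lift (cj J * itr) = lift (cj J * fld 1 * it (-1))
  rw [map_one, mul_one, it_neg_one]

omit [Finite F] [CharP F 2] in
/-- the group of types is commutative -/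
theorem ty_comm [Finite F] [CharP F 2] (p q : (F ≃+* F) × ℤˣ) : p * q = q * p :=
  Prod.ext (OutField.comm p.1 q.1) (mul_comm p.2 q.2)

end Typ

section Om

variable {F : Type*} [Field F] [Finite F] [CharP F 2] {G : Type*} [Group G] {A : Subgroup G}
  (fr : FrameL3 A F)

open Classical in
/-- **The type of an element of `N_G(A)`** (with value `1` outside). -/
noncomputable def om (y : G) : (F ≃+* F) × ℤˣ :=
  if h : y ∈ Subgroup.normalizer (A : Set G) then typ (act A fr.e ⟨y, h⟩) else 1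

theorem om_eq {y : G} (h : y ∈ Subgroup.normalizer (A : Set G)) : om fr y = typ (act A fr.e ⟨y, h⟩) :=
  dif_pos h

theorem om_one : om fr 1 = 1 := by
  rw [om_eq fr (one_mem _)]
  have : (⟨1, one_mem _⟩ : ↥(Subgroup.normalizer (A : Set G))) = 1 := rfl
  rw [this, map_one, map_one]

theorem om_mul {y z : G} (hy : y ∈ Subgroup.normalizer (A : Set G)) (hz : z ∈ Subgroup.normalizer (A : Set G)) :
    om fr (y * z) = om fr y * om fr z := by
  rw [om_eq fr hy, om_eq fr hz, om_eq fr (mul_mem hy hz), ← map_mul, ← map_mul]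
  rfl

theorem om_inv {y : G} (hy : y ∈ Subgroup.normalizer (A : Set G)) : om fr y⁻¹ = (om fr y)⁻¹ := by
  rw [eq_inv_iff_mul_eq_one, ← om_mul fr (inv_mem hy) hy, inv_mul_cancel, om_one]

/-- **The type is invariant under conjugation in `N_G(A)`.** -/
theorem om_conj {y g : G} (hy : y ∈ Subgroup.normalizer (A : Set G)) (hg : g ∈ Subgroup.normalizer (A : Set G)) :
    om fr (g * y * g⁻¹) = om fr y := by
  rw [om_mul fr (mul_mem hg hy) (inv_mem hg), om_mul fr hg hy, om_inv fr hg, ty_comm (om fr g), mul_inv_cancel_right]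

theorem om_conj' {y g : G} (hy : y ∈ Subgroup.normalizer (A : Set G)) (hg : g ∈ Subgroup.normalizer (A : Set G)) :
    om fr (g⁻¹ * y * g) = om fr y := by
  have := om_conj fr hy (inv_mem hg)
  rwa [inv_inv] at this

theorem om_mem {a : G} (ha : a ∈ A) : om fr a = 1 := by
  rw [om_eq fr (Subgroup.le_normalizer ha), act_conj_mem fr.e ha (Subgroup.le_normalizer ha), typ_conj]

theorem om_centralizer {c : G} (hc : c ∈ Subgroup.centralizer (A : Set G)) (hcN : c ∈ Subgroup.normalizer (A : Set G)) :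
    om fr c = 1 := by
  rw [om_eq fr hcN, act_eq_one_of_mem_centralizer fr.e (y := ⟨c, hcN⟩) hc, map_one]

theorem om_fld {f : G} (hf : f ∈ Subgroup.normalizer (A : Set G)) {σ : F ≃+* F} (h : Fld fr f σ) :
    om fr f = (σ, 1) := by
  rw [om_eq fr hf]
  have h1 : act A fr.e ⟨f, hf⟩ = fd σ := by
    apply ext_X
    intro i j hij s
    rw [← fr.map_X hij, act_mk, fr.map_X hij, fd_X, ← fr.map_X hij]
    congr 2
    exact Subtype.ext (h i j hij s)
  rw [h1, typ_fd]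

theorem om_grf {f : G} (hf : f ∈ Subgroup.normalizer (A : Set G)) {σ : F ≃+* F} (h : Grf fr f σ) :
    om fr f = (σ, -1) := by
  rw [om_eq fr hf]
  have h1 : act A fr.e ⟨f, hf⟩ = fd σ * gr := by
    apply ext_X
    intro i j hij s
    rw [← fr.map_X hij, act_mk, fr.map_X hij, MulAut.mul_apply, gr_X, fd_X, ← fr.map_X (rev_ne hij.symm)]
    congr 2
    exact Subtype.ext (h i j hij s)
  rw [h1, map_mul, typ_fd, typ_gr]
  exact Prod.ext (mul_one _) (one_mul _)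

theorem om_ft {y : G} (hy : y ∈ Subgroup.normalizer (A : Set G)) {σ : F ≃+* F} (h : FT fr y σ) :
    om fr y = (σ, 1) := by
  obtain ⟨u, hu, h⟩ := h
  have huN := Subgroup.le_normalizer (fr.U_le hu)
  rw [← om_fld fr (mul_mem huN hy) h, om_mul fr huN hy, om_mem fr (fr.U_le hu), one_mul]

theorem om_gt {y : G} (hy : y ∈ Subgroup.normalizer (A : Set G)) {σ : F ≃+* F} (h : GT fr y σ) :
    om fr y = (σ, -1) := by
  obtain ⟨u, hu, h⟩ := h
  have huN := Subgroup.le_normalizer (fr.U_le hu)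
  rw [← om_grf fr (mul_mem huN hy) h, om_mul fr huN hy, om_mem fr (fr.U_le hu), one_mul]

variable {fr} {T : Subgroup G}

theorem ft_of_om (had : Adapted fr T) (hTA : T ≤ Subgroup.normalizer (A : Set G)) {y : G} (hy : y ∈ T)
    {σ : F ≃+* F} (h : om fr y = (σ, 1)) : FT fr y σ := by
  rcases had.cases hy with ⟨τ, h1⟩ | ⟨τ, h1⟩
  · rw [om_ft fr (hTA hy) h1] at h
    rwa [← (Prod.mk.inj h).1]
  · rw [om_gt fr (hTA hy) h1] at h
    exact absurd (Prod.mk.inj h).2 (by decide)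

theorem gt_of_om (had : Adapted fr T) (hTA : T ≤ Subgroup.normalizer (A : Set G)) {y : G} (hy : y ∈ T)
    {σ : F ≃+* F} (h : om fr y = (σ, -1)) : GT fr y σ := by
  rcases had.cases hy with ⟨τ, h1⟩ | ⟨τ, h1⟩
  · rw [om_ft fr (hTA hy) h1] at h
    exact absurd (Prod.mk.inj h).2 (by decide)
  · rw [om_gt fr (hTA hy) h1] at h
    rwa [← (Prod.mk.inj h).1]

/-- Elements of `T` of type `1` lie in `U C(A)`. -/
theorem exists_of_om_one [Finite G] (hZ : Odd (Nat.card (Subgroup.center ↥A))) (hA : _root_.commutator ↥A = ⊤)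
    (had : Adapted fr T) (hTA : T ≤ Subgroup.normalizer (A : Set G)) {y : G} (hy : y ∈ T)
    (h : om fr y = 1) : ∃ v ∈ fr.U, v⁻¹ * y ∈ Subgroup.centralizer (A : Set G) :=
  FT.exists_of_one hZ hA (hTA hy) (ft_of_om had hTA hy h)

end Om

end Cfsg.Agent.StdRank2.L3W6.Types
end

-- part: StdRank2/L3W/Count
section
/-!
# Counting for one factor of type `L₃(q)`

`x` an element of `N_G(A)` with `x²` centralising `A`.

* `J fr x` : the `v ∈ U` such that `(v x)²` centralises `A`; bounds by type.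
* `C fr x` : the `v ∈ U` commuting with `x`; bounds by type.
-/

set_option autoImplicit false

namespace Cfsg.Agent.StdRank2.L3W.Count

open Cfsg.Agent.StdRank2.OutL3Rel Cfsg.Agent.StdRank2.OutField Cfsg.Agent.StdRank2.OutL3Inv
open Cfsg.Agent.StdRank2.OutL3Je Cfsg.Agent.StdRank2.OutL3JeMain

/-- counting by fibres -/
theorem ncard_fib {α β : Type*} [Finite α] [Finite β] (P : Set (α × β)) (A0 : Set α) (n : ℕ)
    (h1 : ∀ p ∈ P, p.1 ∈ A0) (h2 : ∀ a, {b | (a, b) ∈ P}.ncard ≤ n) : P.ncard ≤ A0.ncard * n := by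
  classical
  have := Fintype.ofFinite α
  have := Fintype.ofFinite β
  have e1 : P.ncard = P.toFinset.card := Set.ncard_eq_toFinset_card' P
  rw [e1]
  have h3 := Finset.card_le_mul_card_image (f := Prod.fst) P.toFinset n (by
    intro a _
    have h4 : (P.toFinset.filter (fun p => p.1 = a)).card = {b | (a, b) ∈ P}.ncard := by
      rw [Set.ncard_eq_toFinset_card']
      refine Finset.card_bij (fun p _ => p.2) ?_ ?_ ?_
      · intro p hp
        obtain ⟨hp1, hp2⟩ := Finset.mem_filter.1 hp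
        rw [Set.mem_toFinset] at hp1 ⊢
        show (a, p.2) ∈ P
        rw [← hp2]; exact hp1
      · intro p hp p' hp' e
        exact Prod.ext ((Finset.mem_filter.1 hp).2.trans (Finset.mem_filter.1 hp').2.symm) e
      · intro b hb
        rw [Set.mem_toFinset] at hb
        exact ⟨(a, b), Finset.mem_filter.2 ⟨Set.mem_toFinset.2 hb, rfl⟩, rfl⟩
    rw [h4]; exact h2 a)
  have h5 : (P.toFinset.image Prod.fst).card ≤ A0.ncard := by
    rw [Set.ncard_eq_toFinset_card']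
    apply Finset.card_le_card
    intro a ha
    obtain ⟨p, hp, rfl⟩ := Finset.mem_image.1 ha
    rw [Set.mem_toFinset] at hp ⊢
    exact h1 p hp
  calc P.toFinset.card ≤ n * (P.toFinset.image Prod.fst).card := h3
    _ ≤ n * A0.ncard := Nat.mul_le_mul_left n h5
    _ = A0.ncard * n := mul_comm _ _

section Field

variable {F : Type*} [Field F] [Finite F] [CharP F 2]

/-- the size of the fixed field -/
noncomputable def fx (σ : F ≃+* F) : ℕ := Nat.card {x : F // σ x = x}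

theorem fx_sq {σ : F ≃+* F} (h2 : σ * σ = 1) (h1 : σ ≠ 1) : fx σ * fx σ = Nat.card F := card_fix h2 h1

omit [CharP F 2] in
theorem ncard_fix (σ : F ≃+* F) : {x : F | σ x = x}.ncard = fx σ := rfl

/-- solutions of `σ t + t = c` -/
theorem ncard_sol (σ : F ≃+* F) (c : F) : {t : F | σ t + t = c}.ncard ≤ fx σ := by
  by_cases h : ∃ t0, σ t0 + t0 = c
  · obtain ⟨t0, h0⟩ := h
    rw [← ncard_fix]
    apply Set.ncard_le_ncard_of_injOn (fun t => t + t0)
    · intro t ht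
      have ht' : σ t + t = c := ht
      show σ (t + t0) = t + t0
      rw [map_add]
      have e : σ t + σ t0 + (t + t0) = 0 := by
        calc σ t + σ t0 + (t + t0) = (σ t + t) + (σ t0 + t0) := by ring
          _ = 0 := by rw [ht', h0, CharTwo.add_self_eq_zero]
      exact CharTwo.add_eq_zero.1 e
    · intro t _ t' _ e
      exact add_right_cancel e
  · have : {t : F | σ t + t = c} = ∅ := by
      ext t
      constructor
      · intro ht; exact absurd ⟨t, ht⟩ h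
      · intro ht; exact absurd ht (Set.notMem_empty _)
    rw [this, Set.ncard_empty]
    exact Nat.zero_le _

end Field

variable {G : Type*} [Group G] [Finite G] {A : Subgroup G} {F : Type*} [Field F] [Finite F] [CharP F 2]
  {fr : FrameL3 A F} (hZ : Odd (Nat.card (Subgroup.center ↥A)))

/-- the `v ∈ U` such that `(v x)²` centralises `A` -/
def J (fr : FrameL3 A F) (x : G) : Set G :=
  {v | v ∈ fr.U ∧ (v * x) * (v * x) ∈ Subgroup.centralizer (A : Set G)}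

/-- the `v ∈ U` which commute with `x` -/
def C (fr : FrameL3 A F) (x : G) : Set G := {v | v ∈ fr.U ∧ v * x = x * v}

include hZ

/-- the set `J fr x` in coordinates -/
theorem J_sub {u x f : G} (hu : u ∈ fr.U) (hf : f = u * x) (hff : f * f ∈ Subgroup.centralizer (A : Set G))
    (φ : F → F → F → G) (hφ : ∀ r s t, f * OutL3Rel.u fr r s t * f⁻¹ = φ r s t) (hφU : ∀ r s t, φ r s t ∈ fr.U) :
    J fr x ⊆ (fun p : (F × F) × F => OutL3Rel.u fr p.1.1 p.1.2 p.2 * u) ''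
      {p | OutL3Rel.u fr p.1.1 p.1.2 p.2 * φ p.1.1 p.1.2 p.2 = 1} := by
  rintro v ⟨hv, hvx⟩
  obtain ⟨r, s, t, h⟩ := (mem_U fr hZ).1 (mul_mem hv (inv_mem hu))
  refine ⟨((r, s), t), ?_, ?_⟩
  · show OutL3Rel.u fr r s t * φ r s t = 1
    apply eq_one_of_centralizer hZ (mul_mem (OutL3Rel.u_mem fr r s t) (hφU r s t))
    rw [← hφ, ← h]
    have e : v * u⁻¹ * (f * (v * u⁻¹) * f⁻¹) = (v * x) * (v * x) * (f * f)⁻¹ := by
      rw [hf]; group
    rw [e]
    exact mul_mem hvx (inv_mem hff)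
  · show OutL3Rel.u fr r s t * u = v
    rw [← h]; group

theorem ncard_J_of {x : G} (u : G) (P : Set ((F × F) × F)) (n : ℕ) (hP : P.ncard ≤ n)
    (h : J fr x ⊆ (fun p : (F × F) × F => OutL3Rel.u fr p.1.1 p.1.2 p.2 * u) '' P) : (J fr x).ncard ≤ n := by
  have h1 := Set.ncard_le_ncard h (Set.toFinite _)
  have h2 := Set.ncard_image_le (f := fun p : (F × F) × F => OutL3Rel.u fr p.1.1 p.1.2 p.2 * u) (Set.toFinite P)
  omega

variable (hA : _root_.commutator ↥A = ⊤)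
include hA

/-- field type -/
theorem J_ft {x : G} (hxN : x ∈ Subgroup.normalizer (A : Set G)) (hxx : x * x ∈ Subgroup.centralizer (A : Set G))
    {σ : F ≃+* F} (h : FT fr x σ) : (J fr x).ncard ≤ fx σ * fx σ * fx σ := by
  obtain ⟨u, hu, hf⟩ := h
  have hff := sq_mem_fld hZ hA hu hxN hxx hf
  refine ncard_J_of hZ u _ _ ?_ (J_sub hZ hu rfl hff (fun r s t => OutL3Rel.u fr (σ r) (σ s) (σ t)) hf.u
    (fun r s t => u_mem fr _ _ _))
  have h1 : ∀ r s t, OutL3Rel.u fr r s t * OutL3Rel.u fr (σ r) (σ s) (σ t) = 1 →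
      σ r = r ∧ σ s = s ∧ σ t + t = r * s := by
    intro r s t h
    rw [u_mul fr hZ, ← u_zero fr hZ] at h
    obtain ⟨e1, e2, e3⟩ := u_inj fr h
    have e1' := CharTwo.add_eq_zero.1 e1
    have e2' := CharTwo.add_eq_zero.1 e2
    refine ⟨e1'.symm, e2'.symm, ?_⟩
    rw [← e2'] at e3
    have := CharTwo.add_eq_zero.1 e3
    rw [← this]; ring
  refine (ncard_fib _ ({r | σ r = r} ×ˢ {s | σ s = s}) (fx σ) ?_ ?_).trans ?_
  · rintro ⟨⟨r, s⟩, t⟩ hp
    obtain ⟨e1, e2, -⟩ := h1 r s t hp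
    exact ⟨e1, e2⟩
  · rintro ⟨r, s⟩
    refine (Set.ncard_le_ncard ?_ (Set.toFinite _)).trans (ncard_sol σ (r * s))
    intro t ht
    exact (h1 r s t ht).2.2
  · rw [Set.ncard_prod, ncard_fix]

/-- pure graph type -/
theorem J_gt_one {x : G} (hxN : x ∈ Subgroup.normalizer (A : Set G)) (hxx : x * x ∈ Subgroup.centralizer (A : Set G))
    (h : GT fr x 1) : (J fr x).ncard ≤ Nat.card F * Nat.card F := by
  obtain ⟨u, hu, hf⟩ := h
  have hff := sq_mem_grf hZ hA hu hxN hxx hf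
  refine ncard_J_of hZ u _ _ ?_ (J_sub hZ hu rfl hff
    (fun r s t => OutL3Rel.u fr ((1 : F ≃+* F) s) ((1 : F ≃+* F) r) ((1 : F ≃+* F) (t + r * s))) (hf.u hZ)
    (fun r s t => u_mem fr _ _ _))
  refine (ncard_fib _ {p | p.1 = p.2} (Nat.card F) ?_ ?_).trans ?_
  · rintro ⟨⟨r, s⟩, t⟩ hp
    have hp' : OutL3Rel.u fr r s t * OutL3Rel.u fr s r (t + r * s) = 1 := hp
    rw [u_mul fr hZ, ← u_zero fr hZ] at hp'
    exact CharTwo.add_eq_zero.1 (u_inj fr hp').1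
  · intro p
    refine (Set.ncard_le_ncard (Set.subset_univ _) (Set.toFinite _)).trans ?_
    rw [Set.ncard_univ]
  · refine Nat.mul_le_mul_right _ ?_
    rw [← Set.ncard_univ]
    apply Set.ncard_le_ncard_of_injOn (fun p : F × F => p.1)
    · intro p _; trivial
    · rintro ⟨a, b⟩ h1 ⟨c, d⟩ h2 e
      have h1' : a = b := h1
      have h2' : c = d := h2
      have e' : a = c := e
      exact Prod.ext e' (by show b = d; rw [← h1', ← h2']; exact e')

/-- graph-field type -/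
theorem J_gt {x : G} (hxN : x ∈ Subgroup.normalizer (A : Set G)) (hxx : x * x ∈ Subgroup.centralizer (A : Set G))
    {σ : F ≃+* F} (h : GT fr x σ) : (J fr x).ncard ≤ Nat.card F * fx σ := by
  obtain ⟨u, hu, hf⟩ := h
  have hff := sq_mem_grf hZ hA hu hxN hxx hf
  have hσσ := sq_eq_one_grf hf hff
  refine ncard_J_of hZ u _ _ ?_ (J_sub hZ hu rfl hff
    (fun r s t => OutL3Rel.u fr (σ s) (σ r) (σ (t + r * s))) (hf.u hZ) (fun r s t => u_mem fr _ _ _))
  have h1 : ∀ r s t, OutL3Rel.u fr r s t * OutL3Rel.u fr (σ s) (σ r) (σ (t + r * s)) = 1 →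
      r = σ s ∧ σ t + t = r * s + σ (r * s) := by
    intro r s t h
    rw [u_mul fr hZ, ← u_zero fr hZ] at h
    obtain ⟨e1, e2, e3⟩ := u_inj fr h
    have e1' := CharTwo.add_eq_zero.1 e1
    have e2' := CharTwo.add_eq_zero.1 e2
    refine ⟨e1', ?_⟩
    rw [map_add] at e3
    have : (σ t + t) + (r * s + σ (r * s)) = 0 := by
      rw [← e3, ← e2']; ring
    exact CharTwo.add_eq_zero.1 this
  refine (ncard_fib _ {p | p.1 = σ p.2} (fx σ) ?_ ?_).trans ?_
  · rintro ⟨⟨r, s⟩, t⟩ hp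
    exact (h1 r s t hp).1
  · rintro ⟨r, s⟩
    refine (Set.ncard_le_ncard ?_ (Set.toFinite _)).trans (ncard_sol σ (r * s + σ (r * s)))
    intro t ht
    exact (h1 r s t ht).2
  · refine Nat.mul_le_mul_right _ ?_
    rw [← Set.ncard_univ]
    apply Set.ncard_le_ncard_of_injOn (fun p : F × F => p.2)
    · intro p _; trivial
    · rintro ⟨a, b⟩ h1 ⟨c, d⟩ h2 e
      have h1' : a = σ b := h1
      have h2' : c = σ d := h2
      have e' : b = d := e
      exact Prod.ext (by show a = c; rw [h1', h2', e']) e'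

/-- inner type -/
theorem J_one {x : G} (hxN : x ∈ Subgroup.normalizer (A : Set G)) (hxx : x * x ∈ Subgroup.centralizer (A : Set G))
    (h : FT fr x 1) : (J fr x).ncard + Nat.card F ≤ 2 * Nat.card F * Nat.card F := by
  obtain ⟨u, hu, hf⟩ := h
  have hff := sq_mem_fld hZ hA hu hxN hxx hf
  suffices hs : (J fr x).ncard ≤ (2 * Nat.card F - 1) * Nat.card F by
    have h1 : 1 ≤ Nat.card F := Nat.card_pos
    have h2 : (2 * Nat.card F - 1) * Nat.card F + Nat.card F = 2 * Nat.card F * Nat.card F := by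
      rw [← Nat.succ_mul]
      congr 1
      omega
    omega
  refine ncard_J_of hZ u _ _ ?_ (J_sub hZ hu rfl hff
    (fun r s t => OutL3Rel.u fr ((1 : F ≃+* F) r) ((1 : F ≃+* F) s) ((1 : F ≃+* F) t)) hf.u
    (fun r s t => u_mem fr _ _ _))
  refine (ncard_fib _ {p | p.1 * p.2 = 0} (Nat.card F) ?_ ?_).trans ?_
  · rintro ⟨⟨r, s⟩, t⟩ hp
    have hp' : OutL3Rel.u fr r s t * OutL3Rel.u fr r s t = 1 := hp
    rw [u_sq fr hZ, ← u_zero fr hZ] at hp'
    exact (u_inj fr hp').2.2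
  · intro p
    refine (Set.ncard_le_ncard (Set.subset_univ _) (Set.toFinite _)).trans ?_
    rw [Set.ncard_univ]
  · refine Nat.mul_le_mul_right _ ?_
    have h3 : {p : F × F | p.1 * p.2 = 0} = (fun a => (a, 0)) '' Set.univ ∪ (fun b => (0, b)) '' {b | b ≠ 0} := by
      ext ⟨a, b⟩
      constructor
      · intro hab
        have hab' : a * b = 0 := hab
        by_cases hb : b = 0
        · left; exact ⟨a, trivial, by rw [hb]⟩
        · right
          refine ⟨b, hb, ?_⟩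
          have : a = 0 := (mul_eq_zero.1 hab').resolve_right hb
          rw [this]
      · rintro (⟨a', -, h⟩ | ⟨b', -, h⟩)
        · obtain ⟨-, rfl⟩ := Prod.mk.inj h
          exact mul_zero a
        · obtain ⟨rfl, -⟩ := Prod.mk.inj h
          exact zero_mul b
    rw [h3]
    refine (Set.ncard_union_le _ _).trans ?_
    have h4 : ((fun a : F => (a, (0 : F))) '' Set.univ).ncard = Nat.card F := by
      rw [Set.ncard_image_of_injective _ (fun a b h => (Prod.mk.inj h).1), Set.ncard_univ]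
    have h5 : ((fun b : F => ((0 : F), b)) '' {b | b ≠ 0}).ncard + 1 = Nat.card F := by
      rw [Set.ncard_image_of_injective _ (fun a b h => (Prod.mk.inj h).2)]
      have h6 : {b : F | b ≠ 0} = Set.univ \ {0} := by
        ext b; simp
      rw [h6, Set.ncard_sdiff_singleton_add_one (Set.mem_univ _) (Set.toFinite _), Set.ncard_univ]
    omega

/-! ### Centralisers in `U` -/

omit hA in
/-- the set `C fr x` in coordinates, type field -/
theorem C_ft {x : G} {σ : F ≃+* F} (h : FT fr x σ) : (C fr x).ncard ≤ fx σ * fx σ * fx σ := by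
  have h0 : C fr x = (fun p : (F × F) × F => OutL3Rel.u fr p.1.1 p.1.2 p.2) ''
      {p | OutL3Rel.u fr p.1.1 p.1.2 p.2 ∈ C fr x} := by
    ext v
    constructor
    · intro hv
      obtain ⟨r, s, t, rfl⟩ := (mem_U fr hZ).1 hv.1
      exact ⟨((r, s), t), hv, rfl⟩
    · rintro ⟨p, hp, rfl⟩
      exact hp
  rw [h0]
  refine (Set.ncard_image_le (Set.toFinite _)).trans ?_
  have h1 : ∀ r s t, OutL3Rel.u fr r s t ∈ C fr x → σ r = r ∧ σ s = s := by
    intro r s t hv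
    obtain ⟨t', ht'⟩ := h.conj hZ r s t
    rw [← hv.2, mul_inv_cancel_right] at ht'
    obtain ⟨e1, e2, -⟩ := u_inj fr ht'
    exact ⟨e1.symm, e2.symm⟩
  refine (ncard_fib _ ({r | σ r = r} ×ˢ {s | σ s = s}) (fx σ) ?_ ?_).trans ?_
  · rintro ⟨⟨r, s⟩, t⟩ hp
    exact h1 r s t hp
  · rintro ⟨r, s⟩
    by_cases he : ∃ t0, OutL3Rel.u fr r s t0 ∈ C fr x
    · obtain ⟨t0, ht0⟩ := he
      rw [← ncard_fix]
      apply Set.ncard_le_ncard_of_injOn (fun t => t + t0)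
      · intro t ht
        have ht' : OutL3Rel.u fr r s t ∈ C fr x := ht
        have h2 : OutL3Rel.u fr r s t * (OutL3Rel.u fr r s t0)⁻¹ = OutL3Rel.u fr 0 0 (t + t0) := by
          rw [u_inv fr hZ, u_mul fr hZ, CharTwo.add_self_eq_zero, CharTwo.add_self_eq_zero]
          congr 1
          calc t + (t0 + r * s) + r * s = t + t0 + (r * s + r * s) := by ring
            _ = t + t0 := by rw [CharTwo.add_self_eq_zero, add_zero]
        have h3 : OutL3Rel.u fr 0 0 (t + t0) * x = x * OutL3Rel.u fr 0 0 (t + t0) := by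
          rw [← h2]
          exact (show Commute _ _ from (show Commute (OutL3Rel.u fr r s t) x from ht'.2).mul_left
            (show Commute (OutL3Rel.u fr r s t0) x from ht0.2).inv_left)
        have h4 := h.conj_zero hZ (t + t0)
        rw [← h3, mul_inv_cancel_right] at h4
        exact (u_inj fr h4).2.2.symm
      · intro t _ t' _ e
        exact add_right_cancel e
    · have : {t | ((r, s), t) ∈ {p : (F × F) × F | OutL3Rel.u fr p.1.1 p.1.2 p.2 ∈ C fr x}} = ∅ := by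
        ext t
        constructor
        · intro ht; exact absurd ⟨t, ht⟩ he
        · intro ht; exact absurd ht (Set.notMem_empty _)
      rw [this, Set.ncard_empty]
      exact Nat.zero_le _
  · rw [Set.ncard_prod, ncard_fix]

omit hA in
/-- graph-field type -/
theorem C_gt {x : G} {σ : F ≃+* F} (h : GT fr x σ) : (C fr x).ncard ≤ Nat.card F * fx σ := by
  have h0 : C fr x = (fun p : (F × F) × F => OutL3Rel.u fr p.1.1 p.1.2 p.2) ''
      {p | OutL3Rel.u fr p.1.1 p.1.2 p.2 ∈ C fr x} := by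
    ext v
    constructor
    · intro hv
      obtain ⟨r, s, t, rfl⟩ := (mem_U fr hZ).1 hv.1
      exact ⟨((r, s), t), hv, rfl⟩
    · rintro ⟨p, hp, rfl⟩
      exact hp
  rw [h0]
  refine (Set.ncard_image_le (Set.toFinite _)).trans ?_
  have h1 : ∀ r s t, OutL3Rel.u fr r s t ∈ C fr x → r = σ s := by
    intro r s t hv
    obtain ⟨t', ht'⟩ := h.conj hZ r s t
    rw [← hv.2, mul_inv_cancel_right] at ht'
    exact (u_inj fr ht').1
  refine (ncard_fib _ {p | p.1 = σ p.2} (fx σ) ?_ ?_).trans ?_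
  · rintro ⟨⟨r, s⟩, t⟩ hp
    exact h1 r s t hp
  · rintro ⟨r, s⟩
    by_cases he : ∃ t0, OutL3Rel.u fr r s t0 ∈ C fr x
    · obtain ⟨t0, ht0⟩ := he
      rw [← ncard_fix]
      apply Set.ncard_le_ncard_of_injOn (fun t => t + t0)
      · intro t ht
        have ht' : OutL3Rel.u fr r s t ∈ C fr x := ht
        have h2 : OutL3Rel.u fr r s t * (OutL3Rel.u fr r s t0)⁻¹ = OutL3Rel.u fr 0 0 (t + t0) := by
          rw [u_inv fr hZ, u_mul fr hZ, CharTwo.add_self_eq_zero, CharTwo.add_self_eq_zero]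
          congr 1
          calc t + (t0 + r * s) + r * s = t + t0 + (r * s + r * s) := by ring
            _ = t + t0 := by rw [CharTwo.add_self_eq_zero, add_zero]
        have h3 : OutL3Rel.u fr 0 0 (t + t0) * x = x * OutL3Rel.u fr 0 0 (t + t0) := by
          rw [← h2]
          exact (show Commute _ _ from (show Commute (OutL3Rel.u fr r s t) x from ht'.2).mul_left
            (show Commute (OutL3Rel.u fr r s t0) x from ht0.2).inv_left)
        have h4 := h.conj_zero hZ (t + t0)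
        rw [← h3, mul_inv_cancel_right] at h4
        exact (u_inj fr h4).2.2.symm
      · intro t _ t' _ e
        exact add_right_cancel e
    · have : {t | ((r, s), t) ∈ {p : (F × F) × F | OutL3Rel.u fr p.1.1 p.1.2 p.2 ∈ C fr x}} = ∅ := by
        ext t
        constructor
        · intro ht; exact absurd ⟨t, ht⟩ he
        · intro ht; exact absurd ht (Set.notMem_empty _)
      rw [this, Set.ncard_empty]
      exact Nat.zero_le _
  · refine Nat.mul_le_mul_right _ ?_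
    rw [← Set.ncard_univ]
    apply Set.ncard_le_ncard_of_injOn (fun p : F × F => p.2)
    · intro p _; trivial
    · rintro ⟨a, b⟩ h1 ⟨c, d⟩ h2 e
      have h1' : a = σ b := h1
      have h2' : c = σ d := h2
      have e' : b = d := e
      exact Prod.ext (by show a = c; rw [h1', h2', e']) e'

/-- standardisation, graph type -/
theorem std_gt {x : G} (hxN : x ∈ Subgroup.normalizer (A : Set G)) (hxx : x * x ∈ Subgroup.centralizer (A : Set G))
    {σ : F ≃+* F} (h : GT fr x σ) : ∃ w ∈ fr.U, Grf fr (w * x * w⁻¹) σ := by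
  obtain ⟨u, hu, hf⟩ := h
  have h2 := sq_mem_grf hZ hA hu hxN hxx hf
  have hv : (u * x)⁻¹ * u⁻¹ * (u * x) ∈ fr.U := by
    rw [conj_inv_eq h2 (fr.U_le (inv_mem hu))]
    obtain ⟨a, b, c, hu'⟩ := (mem_U fr hZ).1 (inv_mem hu)
    rw [hu', hf.u hZ]
    exact u_mem fr _ _ _
  obtain ⟨w, hw, h4⟩ := conj_of_sq_grf hZ hf h2 hv (by
    have : u * x * ((u * x)⁻¹ * u⁻¹ * (u * x)) = x := by group
    rw [this]
    exact hxx)
  refine ⟨w⁻¹, inv_mem hw, ?_⟩
  have h5 : x = w * (u * x) * w⁻¹ := by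
    rw [← h4]
    group
  have h6 : w⁻¹ * x * w⁻¹⁻¹ = u * x := by
    conv_lhs => rw [h5]
    group
  rw [h6]
  exact hf

/-- standardisation, field type -/
theorem std_ft {x : G} (hxN : x ∈ Subgroup.normalizer (A : Set G)) (hxx : x * x ∈ Subgroup.centralizer (A : Set G))
    {σ : F ≃+* F} (h1 : σ ≠ 1) (h : FT fr x σ) : ∃ w ∈ fr.U, Fld fr (w * x * w⁻¹) σ := by
  obtain ⟨u, hu, hf⟩ := h
  have h2 := sq_mem_fld hZ hA hu hxN hxx hf
  have hv : (u * x)⁻¹ * u⁻¹ * (u * x) ∈ fr.U := by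
    rw [conj_inv_eq h2 (fr.U_le (inv_mem hu))]
    obtain ⟨a, b, c, hu'⟩ := (mem_U fr hZ).1 (inv_mem hu)
    rw [hu', hf.u]
    exact u_mem fr _ _ _
  obtain ⟨w, hw, h4⟩ := conj_of_sq_fld hZ hf h1 h2 hv (by
    have : u * x * ((u * x)⁻¹ * u⁻¹ * (u * x)) = x := by group
    rw [this]
    exact hxx)
  refine ⟨w⁻¹, inv_mem hw, ?_⟩
  have h5 : x = w * (u * x) * w⁻¹ := by
    rw [← h4]
    group
  have h6 : w⁻¹ * x * w⁻¹⁻¹ = u * x := by
    conv_lhs => rw [h5]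
    group
  rw [h6]
  exact hf

/-- pure graph type -/
theorem C_gt_one {x : G} (hxN : x ∈ Subgroup.normalizer (A : Set G))
    (hxx : x * x ∈ Subgroup.centralizer (A : Set G)) (h : GT fr x 1) : (C fr x).ncard ≤ Nat.card F := by
  obtain ⟨w, hw, hf⟩ := std_gt hZ hA hxN hxx h
  rw [← Set.ncard_univ]
  have h1 : C fr x ⊆ (fun t => w⁻¹ * OutL3Rel.u fr 0 0 t * w) '' Set.univ := by
    rintro v ⟨hv, hvx⟩
    obtain ⟨r, s, t, h2⟩ := (mem_U fr hZ).1 (mul_mem (mul_mem hw hv) (inv_mem hw))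
    have h3 : w * x * w⁻¹ * OutL3Rel.u fr r s t = OutL3Rel.u fr r s t * (w * x * w⁻¹) := by
      rw [← h2]
      calc w * x * w⁻¹ * (w * v * w⁻¹) = w * (x * v) * w⁻¹ := by group
        _ = w * (v * x) * w⁻¹ := by rw [hvx]
        _ = w * v * w⁻¹ * (w * x * w⁻¹) := by group
    obtain ⟨rfl, rfl⟩ := (comm_iff_graph hZ hf r s t).1 h3
    refine ⟨t, trivial, ?_⟩
    show w⁻¹ * OutL3Rel.u fr 0 0 t * w = v
    rw [← h2]; group
  exact (Set.ncard_le_ncard h1 (Set.toFinite _)).trans (Set.ncard_image_le (Set.toFinite _))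

end Cfsg.Agent.StdRank2.L3W.Count
end

-- part: StdRank2/L3W/Elem
section
/-!
# Elementary abelian subgroups, one factor of type `L₃(q)`

Upper bounds for `|om(X)| |W|` (`X ≤ T` elementary, `W ≤ U` elementary, centralised by `X`), and elementary subgroups
of `C_U(x)`.
-/

set_option autoImplicit false

namespace Cfsg.Agent.StdRank2.L3W.Elem

open Cfsg.Agent.StdRank2.OutL3Rel Cfsg.Agent.StdRank2.OutField Cfsg.Agent.StdRank2.OutL3Inv
open Cfsg.Agent.StdRank2.OutL3Je Cfsg.Agent.StdRank2.OutL3JeMain Cfsg.Agent.StdRank2.L3W6.Types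
open Cfsg.Agent.StdRank2.L3W.Count

variable {G : Type*} [Group G] [Finite G] {A : Subgroup G} {F : Type*} [Field F] [Finite F] [CharP F 2]
  {fr : FrameL3 A F} (hZ : Odd (Nat.card (Subgroup.center ↥A)))

/-- the types -/
abbrev Ty (F : Type*) [Field F] : Type _ := (F ≃+* F) × ℤˣ

omit [Finite F] [CharP F 2] in
theorem units_cases (ε : ℤˣ) : ε = 1 ∨ ε = -1 := Int.units_eq_one_or ε

section Upper

omit [Finite F] [CharP F 2] [Group G] [Finite G] in
theorem pair_le {α : Type*} (a b : α) : ({a, b} : Set α).ncard ≤ 2 := by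
  have h1 := Set.ncard_insert_le a {b}
  rw [Set.ncard_singleton] at h1
  exact h1

omit [Finite F] [CharP F 2] [Group G] [Finite G] in
theorem ncard_pair {α : Type*} (a b : α) (T : Set α) (h : ∀ x ∈ T, x = a ∨ x = b) : T.ncard ≤ 2 := by
  have h1 : T ⊆ {a, b} := fun x hx => h x hx
  exact (Set.ncard_le_ncard h1 (Set.toFinite _)).trans (pair_le a b)

theorem ncard_four (σ : F ≃+* F) (T : Set (Ty F)) (h : ∀ p ∈ T, p.1 = 1 ∨ p.1 = σ) : T.ncard ≤ 4 := by
  have h1 : T ⊆ ({1, σ} : Set (F ≃+* F)) ×ˢ ({1, -1} : Set ℤˣ) := by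
    rintro ⟨a, ε⟩ hp
    exact ⟨h _ hp, units_cases ε⟩
  refine (Set.ncard_le_ncard h1 (Set.toFinite _)).trans ?_
  rw [Set.ncard_prod]
  have h2 := pair_le (1 : F ≃+* F) σ
  have h3 := pair_le (1 : ℤˣ) (-1)
  calc _ ≤ 2 * 2 := Nat.mul_le_mul h2 h3
    _ = 4 := rfl

include hZ

/-- a subgroup of `Z(U)` centralised by an element with field part `σ` -/
theorem card_le_fx {W : Subgroup G} (hW : (W : Set G) ⊆ S0 fr) {x : G} {σ : F ≃+* F} (hx : FT fr x σ ∨ GT fr x σ)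
    (hxW : ∀ w ∈ W, x * w = w * x) : Nat.card W ≤ fx σ := by
  have h0 : ∀ t, x * u fr 0 0 t * x⁻¹ = u fr 0 0 (σ t) := by
    rcases hx with hx | hx
    · exact hx.conj_zero hZ
    · exact hx.conj_zero hZ
  have h1 : (W : Set G) ⊆ (fun t => u fr 0 0 t) '' {t | σ t = t} := by
    intro w hw
    obtain ⟨t, rfl⟩ := hW hw
    refine ⟨t, ?_, rfl⟩
    have h2 := h0 t
    rw [hxW _ hw, mul_inv_cancel_right] at h2
    exact (u_inj fr h2).2.2.symm
  have h2 : Nat.card W = (W : Set G).ncard := rfl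
  rw [h2]
  refine (Set.ncard_le_ncard h1 (Set.toFinite _)).trans ((Set.ncard_image_le (Set.toFinite _)).trans ?_)
  exact le_of_eq (ncard_fix σ)

omit hZ in
theorem card_le_q [CharP F 2] {W : Subgroup G} (hW : (W : Set G) ⊆ S0 fr) : Nat.card W ≤ Nat.card F := by
  have h2 : Nat.card W = (W : Set G).ncard := rfl
  rw [h2]
  exact (Set.ncard_le_ncard hW (Set.toFinite _)).trans (le_of_eq ncard_S0)

variable {T : Subgroup G} (had : Adapted fr T) (hTA : T ≤ Subgroup.normalizer (A : Set G))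
  {X W : Subgroup G} (hXT : X ≤ T) (hX2 : ∀ x ∈ X, x * x = 1) (hWU : W ≤ fr.U)
  (hW2 : ∀ w ∈ W, w * w = 1) (hXW : ∀ x ∈ X, ∀ w ∈ W, x * w = w * x)

include had hTA in
omit hZ in
theorem ft_or_gt {x : G} (hx : x ∈ T) : FT fr x (om fr x).1 ∨ GT fr x (om fr x).1 := by
  rcases units_cases (om fr x).2 with h | h
  · left
    exact ft_of_om had hTA hx (Prod.ext rfl h)
  · right
    exact gt_of_om had hTA hx (Prod.ext rfl h)

include had hTA hXT hX2 in
omit hZ [Finite G] in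
theorem om_sq {x : G} (hx : x ∈ X) : om fr x * om fr x = 1 := by
  rw [← om_mul fr (hTA (hXT hx)) (hTA (hXT hx)), hX2 x hx, om_one]

include had hTA hXT hX2 hWU hW2 hXW

/-- pure graph type -/
theorem bound_gt_one (hq : 4 ≤ Nat.card F) {y : G} (hy : y ∈ X) (hom : om fr y = (1, -1)) :
    (om fr '' (X : Set G)).ncard * Nat.card W ≤ 2 * Nat.card F := by
  have hW2' := hW2
  have hWc : ∀ x ∈ W, ∀ y ∈ W, x * y = y * x := by
    intro x hx y hy
    have h1 := hW2 _ (mul_mem hx hy)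
    have h2 := hW2 x hx
    have h3 := hW2 y hy
    calc x * y = x * y * ((x * y) * (y * x)) := by
          rw [show (x * y) * (y * x) = 1 by
            calc (x * y) * (y * x) = x * (y * y) * x := by group
              _ = 1 := by rw [h3, mul_one, h2], mul_one]
      _ = (x * y) * (x * y) * (y * x) := by group
      _ = y * x := by rw [h1, one_mul]
  have hWZ : (W : Set G) ⊆ S0 fr :=
    subset_of_gt hZ hWU hWc hW2 (gt_of_om had hTA (hXT hy) hom) (hXW y hy)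
  by_cases hall : ∀ x ∈ X, (om fr x).1 = 1
  · have h1 : (om fr '' (X : Set G)).ncard ≤ 2 := by
      apply ncard_pair ((1 : F ≃+* F), (1 : ℤˣ)) ((1 : F ≃+* F), (-1 : ℤˣ))
      rintro _ ⟨x, hx, rfl⟩
      rcases units_cases (om fr x).2 with h | h
      · left; exact Prod.ext (hall x hx) h
      · right; exact Prod.ext (hall x hx) h
    exact Nat.mul_le_mul h1 (card_le_q hWZ)
  · push Not at hall
    obtain ⟨x, hx, hσ1⟩ := hall
    set σ := (om fr x).1 with hσ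
    have hσσ : σ * σ = 1 := congrArg Prod.fst (om_sq had hTA hXT hX2 hx)
    have h1 : (om fr '' (X : Set G)).ncard ≤ 4 := by
      apply ncard_four σ
      rintro _ ⟨z, hz, rfl⟩
      by_cases h : (om fr z).1 = 1
      · exact Or.inl h
      · exact Or.inr (unique_invol (congrArg Prod.fst (om_sq had hTA hXT hX2 hz)) hσσ h hσ1)
    have h2 : Nat.card W ≤ fx σ := card_le_fx hZ hWZ (ft_or_gt had hTA (hXT hx)) (hXW x hx)
    have h3 := fx_sq hσσ hσ1
    have h4 : 2 ≤ fx σ := by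
      by_contra hcon
      have h5 : fx σ ≤ 1 := by omega
      have h6 : fx σ * fx σ ≤ 1 * 1 := Nat.mul_le_mul h5 h5
      omega
    calc (om fr '' (X : Set G)).ncard * Nat.card W ≤ 4 * fx σ := Nat.mul_le_mul h1 h2
      _ = 2 * (2 * fx σ) := by ring
      _ ≤ 2 * (fx σ * fx σ) := Nat.mul_le_mul_left 2 (Nat.mul_le_mul_right _ h4)
      _ = 2 * Nat.card F := by rw [h3]

/-- field type -/
theorem bound_ft (hq : 4 ≤ Nat.card F) {y : G} (hy : y ∈ X) {σ : F ≃+* F} (hσ1 : σ ≠ 1) (hom : om fr y = (σ, 1)) :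
    (om fr '' (X : Set G)).ncard * Nat.card W ≤ 2 * Nat.card F := by
  have hWc : ∀ x ∈ W, ∀ y ∈ W, x * y = y * x := by
    intro x hx y hy
    have h1 := hW2 _ (mul_mem hx hy)
    have h2 := hW2 x hx
    have h3 := hW2 y hy
    calc x * y = x * y * ((x * y) * (y * x)) := by
          rw [show (x * y) * (y * x) = 1 by
            calc (x * y) * (y * x) = x * (y * y) * x := by group
              _ = 1 := by rw [h3, mul_one, h2], mul_one]
      _ = (x * y) * (x * y) * (y * x) := by group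
      _ = y * x := by rw [h1, one_mul]
  have hσσ : σ * σ = 1 := by
    have := om_sq had hTA hXT hX2 hy
    rw [hom] at this
    exact congrArg Prod.fst this
  have hft := ft_of_om had hTA (hXT hy) hom
  have h3 := fx_sq hσσ hσ1
  have hdich : ∀ z ∈ X, (om fr z).1 = 1 ∨ (om fr z).1 = σ := by
    intro z hz
    by_cases h : (om fr z).1 = 1
    · exact Or.inl h
    · exact Or.inr (unique_invol (congrArg Prod.fst (om_sq had hTA hXT hX2 hz)) hσσ h hσ1)
  by_cases hall : ∀ x ∈ X, (om fr x).2 = 1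
  · have h1 : (om fr '' (X : Set G)).ncard ≤ 2 := by
      apply ncard_pair ((1 : F ≃+* F), (1 : ℤˣ)) (σ, (1 : ℤˣ))
      rintro _ ⟨x, hx, rfl⟩
      rcases hdich x hx with h | h
      · left; exact Prod.ext h (hall x hx)
      · right; exact Prod.ext h (hall x hx)
    have h2 : Nat.card W ≤ Nat.card F := by
      rw [← h3]
      exact card_le_of_ft hZ hWU hWc hW2 hft (hXW y hy)
    exact Nat.mul_le_mul h1 h2
  · push Not at hall
    obtain ⟨x, hx, hx2⟩ := hall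
    have hx2' : (om fr x).2 = -1 := (units_cases _).resolve_left hx2
    have hWZ : (W : Set G) ⊆ S0 fr :=
      subset_of_gt hZ hWU hWc hW2 (gt_of_om had hTA (hXT hx) (Prod.ext rfl hx2')) (hXW x hx)
    have h1 : (om fr '' (X : Set G)).ncard ≤ 4 := by
      apply ncard_four σ
      rintro _ ⟨z, hz, rfl⟩
      exact hdich z hz
    have h2 : Nat.card W ≤ fx σ := card_le_fx hZ hWZ (Or.inl hft) (hXW y hy)
    have h4 : 2 ≤ fx σ := by
      by_contra hcon
      have h5 : fx σ ≤ 1 := by omega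
      have h6 : fx σ * fx σ ≤ 1 * 1 := Nat.mul_le_mul h5 h5
      omega
    calc (om fr '' (X : Set G)).ncard * Nat.card W ≤ 4 * fx σ := Nat.mul_le_mul h1 h2
      _ = 2 * (2 * fx σ) := by ring
      _ ≤ 2 * (fx σ * fx σ) := Nat.mul_le_mul_left 2 (Nat.mul_le_mul_right _ h4)
      _ = 2 * Nat.card F := by rw [h3]

/-- graph-field type, all types in `{1, (σ, -1)}` -/
theorem bound_gt {y : G} (hy : y ∈ X) {σ : F ≃+* F} (hom : om fr y = (σ, -1))
    (hT : ∀ x ∈ X, om fr x = 1 ∨ om fr x = (σ, -1)) :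
    (om fr '' (X : Set G)).ncard * Nat.card W ≤ 2 * fx σ := by
  have hWc : ∀ x ∈ W, ∀ y ∈ W, x * y = y * x := by
    intro x hx y hy
    have h1 := hW2 _ (mul_mem hx hy)
    have h2 := hW2 x hx
    have h3 := hW2 y hy
    calc x * y = x * y * ((x * y) * (y * x)) := by
          rw [show (x * y) * (y * x) = 1 by
            calc (x * y) * (y * x) = x * (y * y) * x := by group
              _ = 1 := by rw [h3, mul_one, h2], mul_one]
      _ = (x * y) * (x * y) * (y * x) := by group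
      _ = y * x := by rw [h1, one_mul]
  have hgt := gt_of_om had hTA (hXT hy) hom
  have hWZ : (W : Set G) ⊆ S0 fr := subset_of_gt hZ hWU hWc hW2 hgt (hXW y hy)
  refine Nat.mul_le_mul ?_ (card_le_fx hZ hWZ (Or.inr hgt) (hXW y hy))
  apply ncard_pair (1 : Ty F) (σ, (-1 : ℤˣ))
  rintro _ ⟨x, hx, rfl⟩
  exact hT x hx

end Upper

section Lower

include hZ

/-- pure graph type: `Z(U)` -/
theorem exists_gt {x : G} {σ : F ≃+* F} (h : GT fr x σ) : ∃ W : Subgroup G, W ≤ fr.U ∧ (∀ w ∈ W, w * w = 1) ∧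
    (∀ w ∈ W, w * x = x * w) ∧ fx σ ≤ Nat.card W := by
  let W : Subgroup G :=
    { carrier := {g | ∃ t, σ t = t ∧ g = u fr 0 0 t}
      one_mem' := ⟨0, map_zero σ, (u_zero fr hZ).symm⟩
      mul_mem' := by
        rintro _ _ ⟨a, ha, rfl⟩ ⟨b, hb, rfl⟩
        refine ⟨a + b, by rw [map_add, ha, hb], ?_⟩
        rw [u_mul fr hZ, add_zero, mul_zero, add_zero]
      inv_mem' := by
        rintro _ ⟨a, ha, rfl⟩
        refine ⟨a, ha, ?_⟩
        rw [u_inv fr hZ, mul_zero, add_zero] }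
  refine ⟨W, ?_, ?_, ?_, ?_⟩
  · rintro _ ⟨t, -, rfl⟩
    exact u_mem fr _ _ _
  · rintro _ ⟨t, -, rfl⟩
    rw [u_sq fr hZ, mul_zero, u_zero fr hZ]
  · rintro _ ⟨t, ht, rfl⟩
    have h1 := h.conj_zero hZ t
    rw [ht] at h1
    rw [mul_inv_eq_iff_eq_mul] at h1
    exact h1.symm
  · have h1 : Function.Injective (fun t : {x : F // σ x = x} => (⟨u fr 0 0 t, t, t.2, rfl⟩ : W)) := by
      intro a b e
      exact Subtype.ext (u_inj fr (congrArg Subtype.val e)).2.2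
    exact Nat.card_le_card_of_injective _ h1

variable (hA : _root_.commutator ↥A = ⊤)
include hA

/-- field type: `{x(r) z(t) : r, t fixed}` up to conjugation -/
theorem exists_ft {x : G} (hxN : x ∈ Subgroup.normalizer (A : Set G)) (hxx : x * x ∈ Subgroup.centralizer (A : Set G))
    {σ : F ≃+* F} (h1 : σ ≠ 1) (h : FT fr x σ) : ∃ W : Subgroup G, W ≤ fr.U ∧ (∀ w ∈ W, w * w = 1) ∧
    (∀ w ∈ W, w * x = x * w) ∧ fx σ * fx σ ≤ Nat.card W := by
  obtain ⟨v, hv, hf⟩ := std_ft hZ hA hxN hxx h1 h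
  let W : Subgroup G :=
    { carrier := {g | ∃ r t, σ r = r ∧ σ t = t ∧ g = v⁻¹ * u fr r 0 t * v}
      one_mem' := ⟨0, 0, map_zero σ, map_zero σ, by rw [u_zero fr hZ]; group⟩
      mul_mem' := by
        rintro _ _ ⟨a, b, ha, hb, rfl⟩ ⟨c, d, hc, hd, rfl⟩
        refine ⟨a + c, b + d, by rw [map_add, ha, hc], by rw [map_add, hb, hd], ?_⟩
        have e : u fr (a + c) 0 (b + d) = u fr a 0 b * u fr c 0 d := by
          rw [u_mul fr hZ, add_zero, mul_zero, add_zero]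
        rw [e]; group
      inv_mem' := by
        rintro _ ⟨a, b, ha, hb, rfl⟩
        refine ⟨a, b, ha, hb, ?_⟩
        have e : (u fr a 0 b)⁻¹ = u fr a 0 b := by rw [u_inv fr hZ, mul_zero, add_zero]
        rw [mul_inv_rev, mul_inv_rev, inv_inv, e, mul_assoc] }
  refine ⟨W, ?_, ?_, ?_, ?_⟩
  · rintro _ ⟨r, t, -, -, rfl⟩
    exact mul_mem (mul_mem (inv_mem hv) (u_mem fr _ _ _)) hv
  · rintro _ ⟨r, t, -, -, rfl⟩
    have e := u_sq fr hZ r 0 t
    rw [mul_zero, u_zero fr hZ] at e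
    calc v⁻¹ * u fr r 0 t * v * (v⁻¹ * u fr r 0 t * v) = v⁻¹ * (u fr r 0 t * u fr r 0 t) * v := by group
      _ = 1 := by rw [e]; group
  · rintro _ ⟨r, t, hr, ht, rfl⟩
    have h2 := (comm_iff_fld hZ hf r 0 t).2 ⟨hr, map_zero σ, ht⟩
    calc v⁻¹ * u fr r 0 t * v * x = v⁻¹ * (u fr r 0 t * (v * x * v⁻¹)) * v := by group
      _ = v⁻¹ * (v * x * v⁻¹ * u fr r 0 t) * v := by rw [h2]
      _ = x * (v⁻¹ * u fr r 0 t * v) := by group
  · have h2 : Function.Injective (fun t : {x : F // σ x = x} × {x : F // σ x = x} =>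
        (⟨v⁻¹ * u fr t.1 0 t.2 * v, t.1, t.2, t.1.2, t.2.2, rfl⟩ : W)) := by
      intro a b e
      have e1 : v⁻¹ * u fr a.1 0 a.2 * v = v⁻¹ * u fr b.1 0 b.2 * v := congrArg Subtype.val e
      have e2 := u_inj fr (mul_left_cancel (mul_right_cancel e1))
      exact Prod.ext (Subtype.ext e2.1) (Subtype.ext e2.2.2)
    have h3 := Nat.card_le_card_of_injective _ h2
    rw [Nat.card_prod] at h3
    exact h3

/-- inner type -/
theorem exists_one {x : G} (hxN : x ∈ Subgroup.normalizer (A : Set G)) (hxx : x * x = 1)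
    (h : FT fr x 1) : ∃ W : Subgroup G, W ≤ fr.U ∧ (∀ w ∈ W, w * w = 1) ∧
    (∀ w ∈ W, w * x = x * w) ∧ Nat.card F * Nat.card F ≤ Nat.card W := by
  obtain ⟨v, hv, hc⟩ := FT.exists_of_one hZ hA hxN h
  have hcv : v * (v⁻¹ * x) = (v⁻¹ * x) * v := Subgroup.mem_centralizer_iff.1 hc v (fr.U_le hv)
  have hv2 : v * v = 1 := by
    apply eq_one_of_centralizer hZ (mul_mem hv hv)
    have e : v * v = ((v⁻¹ * x) * (v⁻¹ * x))⁻¹ := by
      rw [eq_inv_iff_mul_eq_one]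
      calc v * v * ((v⁻¹ * x) * (v⁻¹ * x)) = v * (v * (v⁻¹ * x)) * (v⁻¹ * x) := by group
        _ = v * ((v⁻¹ * x) * v) * (v⁻¹ * x) := by rw [hcv]
        _ = x * x := by group
        _ = 1 := hxx
    rw [e]
    exact inv_mem (mul_mem hc hc)
  have key : ∀ w ∈ fr.U, w * v = v * w → w * x = x * w := by
    intro w hw hwv
    have h1 : w * (v⁻¹ * x) = (v⁻¹ * x) * w := Subgroup.mem_centralizer_iff.1 hc w (fr.U_le hw)
    calc w * x = (w * v) * (v⁻¹ * x) := by group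
      _ = v * (w * (v⁻¹ * x)) := by rw [hwv]; group
      _ = x * w := by rw [h1]; group
  obtain ⟨a, b, c, rfl⟩ := (mem_U fr hZ).1 hv
  have hab : a * b = 0 := by
    rw [u_sq fr hZ, ← u_zero fr hZ] at hv2
    exact (u_inj fr hv2).2.2
  rcases mul_eq_zero.1 hab with ha | hb
  · subst ha
    let W : Subgroup G :=
      { carrier := {g | ∃ s t, g = u fr 0 s t}
        one_mem' := ⟨0, 0, (u_zero fr hZ).symm⟩
        mul_mem' := by
          rintro _ _ ⟨a, b, rfl⟩ ⟨c, d, rfl⟩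
          refine ⟨a + c, b + d, ?_⟩
          rw [u_mul fr hZ, add_zero, zero_mul, add_zero]
        inv_mem' := by
          rintro _ ⟨a, b, rfl⟩
          refine ⟨a, b, ?_⟩
          rw [u_inv fr hZ, zero_mul, add_zero] }
    refine ⟨W, ?_, ?_, ?_, ?_⟩
    · rintro _ ⟨s, t, rfl⟩
      exact u_mem fr _ _ _
    · rintro _ ⟨s, t, rfl⟩
      rw [u_sq fr hZ, zero_mul, u_zero fr hZ]
    · rintro _ ⟨s, t, rfl⟩
      refine key _ (u_mem fr _ _ _) ?_
      rw [u_comm_iff fr hZ, zero_mul, zero_mul]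
    · have h2 : Function.Injective (fun t : F × F => (⟨u fr 0 t.1 t.2, t.1, t.2, rfl⟩ : W)) := by
        intro a b e
        have e1 : u fr 0 a.1 a.2 = u fr 0 b.1 b.2 := congrArg Subtype.val e
        have e2 := u_inj fr e1
        exact Prod.ext e2.2.1 e2.2.2
      have h3 := Nat.card_le_card_of_injective _ h2
      rw [Nat.card_prod] at h3
      exact h3
  · subst hb
    let W : Subgroup G :=
      { carrier := {g | ∃ s t, g = u fr s 0 t}
        one_mem' := ⟨0, 0, (u_zero fr hZ).symm⟩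
        mul_mem' := by
          rintro _ _ ⟨a, b, rfl⟩ ⟨c, d, rfl⟩
          refine ⟨a + c, b + d, ?_⟩
          rw [u_mul fr hZ, add_zero, mul_zero, add_zero]
        inv_mem' := by
          rintro _ ⟨a, b, rfl⟩
          refine ⟨a, b, ?_⟩
          rw [u_inv fr hZ, mul_zero, add_zero] }
    refine ⟨W, ?_, ?_, ?_, ?_⟩
    · rintro _ ⟨s, t, rfl⟩
      exact u_mem fr _ _ _
    · rintro _ ⟨s, t, rfl⟩
      rw [u_sq fr hZ, mul_zero, u_zero fr hZ]
    · rintro _ ⟨s, t, rfl⟩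
      refine key _ (u_mem fr _ _ _) ?_
      rw [u_comm_iff fr hZ, mul_zero, mul_zero]
    · have h2 : Function.Injective (fun t : F × F => (⟨u fr t.1 0 t.2, t.1, t.2, rfl⟩ : W)) := by
        intro a b e
        have e1 : u fr a.1 0 a.2 = u fr b.1 0 b.2 := congrArg Subtype.val e
        have e2 := u_inj fr e1
        exact Prod.ext e2.1 e2.2.2
      have h3 := Nat.card_le_card_of_injective _ h2
      rw [Nat.card_prod] at h3
      exact h3

end Lower

end Cfsg.Agent.StdRank2.L3W.Elem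
end

-- part: StdRank2/L3W/Tab
section
/-!
# The order and rank table for `L₃(q)`, wreath case (`q ≥ 4`)

`Two fr1 fr2 S` : `S` normalises the commuting subgroups `A1`, `A2` of type `L₃(F)` and is adapted to both frames.

* `htab` : `y ∈ S` an involution of types `(s, s)`, `s ≠ 1`, `s` the pure graph type if this occurs, `g⁻¹ y g ∈ S` of
  types `a ≠ b`. Then `C_S(y) ^ g ≠ C_S(g⁻¹ y g)`.
-/

set_option autoImplicit false

namespace Cfsg.Agent.StdRank2.L3W.Tab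

open Cfsg.Agent.StdRank2.OutL3Rel Cfsg.Agent.StdRank2.OutField Cfsg.Agent.StdRank2.OutL3Inv
open Cfsg.Agent.StdRank2.OutL3Je Cfsg.Agent.StdRank2.OutL3JeMain Cfsg.Agent.StdRank2.L3W6.Types
open Cfsg.Agent.StdRank2.L3W.Count Cfsg.Agent.StdRank2.L3W.Elem Cfsg.Agent.StdRank2.OutSplit

variable {G : Type*} [Group G] {A1 A2 : Subgroup G} {F : Type*} [Field F]

/-- `S` acts on two commuting subgroups of type `L₃(F)`. -/
structure Two (fr1 : FrameL3 A1 F) (fr2 : FrameL3 A2 F) (S : Subgroup G) : Prop where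
  odd1 : Odd (Nat.card (Subgroup.center ↥A1))
  odd2 : Odd (Nat.card (Subgroup.center ↥A2))
  perf1 : _root_.commutator ↥A1 = ⊤
  perf2 : _root_.commutator ↥A2 = ⊤
  comm : ∀ x ∈ A1, ∀ y ∈ A2, x * y = y * x
  norm1 : S ≤ Subgroup.normalizer (A1 : Set G)
  norm2 : S ≤ Subgroup.normalizer (A2 : Set G)
  ad1 : Adapted fr1 S
  ad2 : Adapted fr2 S
  U1 : fr1.U ≤ S
  U2 : fr2.U ≤ S
  cent : ∀ c ∈ S, c ∈ Subgroup.centralizer (A1 : Set G) → c ∈ Subgroup.centralizer (A2 : Set G) → c = 1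

/-! ### Two counting lemmas -/

theorem card_le_orbit [Finite G] (S : Subgroup G) (x : G) (P : Set G) (hP : ∀ s ∈ S, s * x * s⁻¹ ∈ P) :
    Nat.card S ≤ Nat.card (cen S x) * P.ncard := by
  classical
  have := Fintype.ofFinite S
  have h1 := Finset.card_le_mul_card_image (f := fun s : S => (s : G) * x * (s : G)⁻¹) Finset.univ
    (Nat.card (cen S x)) (by
      intro a _
      have h2 : (Finset.univ.filter (fun s : S => (s : G) * x * (s : G)⁻¹ = a)).card =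
          Nat.card {s : S // (s : G) * x * (s : G)⁻¹ = a} := by
        rw [Nat.card_eq_fintype_card, Fintype.card_subtype]
      rw [h2]
      by_cases hne : Nonempty {s : S // (s : G) * x * (s : G)⁻¹ = a}
      · obtain ⟨⟨s0, hs0⟩⟩ := hne
        have hmem : ∀ s : {s : S // (s : G) * x * (s : G)⁻¹ = a}, (s0 : G)⁻¹ * (s.1 : G) ∈ cen S x := by
          rintro ⟨s, hs⟩
          refine mem_cen.2 ⟨mul_mem (inv_mem s0.2) s.2, ?_⟩
          show (s0 : G)⁻¹ * (s : G) * x = x * ((s0 : G)⁻¹ * (s : G))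
          have e : (s : G) * x * (s : G)⁻¹ = (s0 : G) * x * (s0 : G)⁻¹ := hs.trans hs0.symm
          calc (s0 : G)⁻¹ * (s : G) * x = (s0 : G)⁻¹ * ((s : G) * x * (s : G)⁻¹) * s := by group
            _ = (s0 : G)⁻¹ * ((s0 : G) * x * (s0 : G)⁻¹) * s := by rw [e]
            _ = x * ((s0 : G)⁻¹ * (s : G)) := by group
        refine Nat.card_le_card_of_injective (fun s => (⟨(s0 : G)⁻¹ * (s.1 : G), hmem s⟩ : cen S x)) ?_
        intro s s' e
        have e1 : (s0 : G)⁻¹ * (s.1 : G) = (s0 : G)⁻¹ * (s'.1 : G) := congrArg Subtype.val e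
        exact Subtype.ext (Subtype.ext (mul_left_cancel e1))
      · rw [not_nonempty_iff] at hne
        rw [Nat.card_of_isEmpty]
        exact Nat.zero_le _)
  have h3 : (Finset.univ.image (fun s : S => (s : G) * x * (s : G)⁻¹)).card ≤ P.ncard := by
    rw [← Set.ncard_coe_finset]
    apply Set.ncard_le_ncard
    · intro a ha
      obtain ⟨s, -, rfl⟩ := Finset.mem_image.1 (Finset.mem_coe.1 ha)
      exact hP s s.2
    · exact Set.toFinite _
  have h4 : (Finset.univ : Finset S).card = Nat.card S := by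
    rw [Nat.card_eq_fintype_card]; rfl
  rw [h4] at h1
  exact h1.trans (Nat.mul_le_mul_left _ h3)

theorem card_mul_le [Finite G] (S H U V : Subgroup G) (hH : H ≤ S) (hU : U ≤ S) (hV : V ≤ S)
    (P Q : Set G) (hUV : ∀ u ∈ U, ∀ v ∈ V, u * v = v * u)
    (h : ∀ u ∈ U, ∀ v ∈ V, u * v ∈ H → u ∈ P ∧ v ∈ Q) :
    Nat.card H * (Nat.card U * Nat.card V) ≤ P.ncard * Q.ncard * Nat.card S := by
  classical
  have := Fintype.ofFinite G
  have h1 := Finset.card_le_mul_card_image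
    (f := fun p : H × U × V => (⟨(p.1 : G) * ((p.2.1 : G) * p.2.2), mul_mem (hH p.1.2)
      (mul_mem (hU p.2.1.2) (hV p.2.2.2))⟩ : S)) Finset.univ (P.ncard * Q.ncard) (by
      intro a _
      rw [← Set.ncard_prod, ← Set.ncard_coe_finset]
      by_cases hne : ∃ p0 : H × U × V, (⟨(p0.1 : G) * ((p0.2.1 : G) * p0.2.2), mul_mem (hH p0.1.2)
      (mul_mem (hU p0.2.1.2) (hV p0.2.2.2))⟩ : S) = a
      · obtain ⟨⟨h0, u0, v0⟩, hp0⟩ := hne
        apply Set.ncard_le_ncard_of_injOn (fun p : H × U × V => ((u0 : G) * (p.2.1 : G)⁻¹, (v0 : G) * (p.2.2 : G)⁻¹))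
        · rintro ⟨h', u', v'⟩ hp
          have hp' : (⟨(h' : G) * ((u' : G) * v'), _⟩ : S) = a := (Finset.mem_filter.1 (Finset.mem_coe.1 hp)).2
          have e : (h' : G) * ((u' : G) * v') = (h0 : G) * ((u0 : G) * v0) := by
            have := hp'.trans hp0.symm
            exact congrArg Subtype.val this
          have e2 : ((u0 : G) * (u' : G)⁻¹) * ((v0 : G) * (v' : G)⁻¹) = (h0 : G)⁻¹ * h' := by
            have e3 : (v0 : G) * (v' : G)⁻¹ * (u' : G)⁻¹ = (u' : G)⁻¹ * ((v0 : G) * (v' : G)⁻¹) :=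
              (hUV _ (inv_mem u'.2) _ (mul_mem v0.2 (inv_mem v'.2))).symm
            calc ((u0 : G) * (u' : G)⁻¹) * ((v0 : G) * (v' : G)⁻¹)
                = (u0 : G) * ((u' : G)⁻¹ * ((v0 : G) * (v' : G)⁻¹)) := by group
              _ = (u0 : G) * ((v0 : G) * (v' : G)⁻¹ * (u' : G)⁻¹) := by rw [e3]
              _ = (h0 : G)⁻¹ * ((h0 : G) * ((u0 : G) * v0)) * ((v' : G)⁻¹ * (u' : G)⁻¹) := by group
              _ = (h0 : G)⁻¹ * ((h' : G) * ((u' : G) * v')) * ((v' : G)⁻¹ * (u' : G)⁻¹) := by rw [e]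
              _ = (h0 : G)⁻¹ * h' := by group
          exact h _ (mul_mem u0.2 (inv_mem u'.2)) _ (mul_mem v0.2 (inv_mem v'.2))
            (by rw [e2]; exact mul_mem (inv_mem h0.2) h'.2)
        · rintro ⟨h', u', v'⟩ hp ⟨h'', u'', v''⟩ hp2 e
          have hp' : (⟨(h' : G) * ((u' : G) * v'), _⟩ : S) = a := (Finset.mem_filter.1 (Finset.mem_coe.1 hp)).2
          have hp2' : (⟨(h'' : G) * ((u'' : G) * v''), _⟩ : S) = a := (Finset.mem_filter.1 (Finset.mem_coe.1 hp2)).2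
          have e1 : (u0 : G) * (u' : G)⁻¹ = (u0 : G) * (u'' : G)⁻¹ := congrArg Prod.fst e
          have e2 : (v0 : G) * (v' : G)⁻¹ = (v0 : G) * (v'' : G)⁻¹ := congrArg Prod.snd e
          have e3 : u' = u'' := Subtype.ext (inv_injective (mul_left_cancel e1))
          have e4 : v' = v'' := Subtype.ext (inv_injective (mul_left_cancel e2))
          subst e3 e4
          have e5 : (h' : G) * ((u' : G) * v') = (h'' : G) * ((u' : G) * v') :=
            congrArg Subtype.val (hp'.trans hp2'.symm)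
          have e6 : h' = h'' := Subtype.ext (mul_right_cancel e5)
          rw [e6]
      · have h0 : (Finset.univ.filter (fun p : H × U × V => (⟨(p.1 : G) * ((p.2.1 : G) * p.2.2), mul_mem (hH p.1.2)
      (mul_mem (hU p.2.1.2) (hV p.2.2.2))⟩ : S) = a)) = ∅ := by
          rw [Finset.filter_eq_empty_iff]
          intro p _ hp
          exact hne ⟨p, hp⟩
        rw [h0, Finset.coe_empty, Set.ncard_empty]
        exact Nat.zero_le _)
  have h3 : (Finset.univ : Finset (H × U × V)).card = Nat.card H * (Nat.card U * Nat.card V) := by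
    rw [Finset.card_univ, ← Nat.card_eq_fintype_card, Nat.card_prod, Nat.card_prod]
  rw [h3] at h1
  refine h1.trans (Nat.mul_le_mul_left _ ?_)
  rw [Nat.card_eq_fintype_card]
  exact Finset.card_le_univ _

namespace Two

variable {fr1 : FrameL3 A1 F} {fr2 : FrameL3 A2 F} {S : Subgroup G}

theorem symm (h : Two fr1 fr2 S) : Two fr2 fr1 S where
  odd1 := h.odd2
  odd2 := h.odd1
  perf1 := h.perf2
  perf2 := h.perf1
  comm := fun x hx y hy => (h.comm y hy x hx).symm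
  norm1 := h.norm2
  norm2 := h.norm1
  ad1 := h.ad2
  ad2 := h.ad1
  U1 := h.U2
  U2 := h.U1
  cent := fun c hc h1 h2 => h.cent c hc h2 h1

variable [Finite G] [Finite F] [CharP F 2] (h : Two fr1 fr2 S)
include h

omit [Finite G] [Finite F] [CharP F 2] in
theorem cA1 {y : G} (hy : y ∈ A2) : y ∈ Subgroup.centralizer (A1 : Set G) := by
  rw [Subgroup.mem_centralizer_iff]
  intro a ha
  exact h.comm a ha y hy

omit [Finite G] [Finite F] [CharP F 2] in
theorem cA2 {y : G} (hy : y ∈ A1) : y ∈ Subgroup.centralizer (A2 : Set G) := h.symm.cA1 hy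

theorem inter {v : G} (h1 : v ∈ fr1.U) (h2 : v ∈ fr2.U) : v = 1 :=
  eq_one_of_centralizer h.odd1 h1 (h.cA1 (fr2.U_le h2))

theorem uniq {a a' b b' : G} (ha : a ∈ fr1.U) (ha' : a' ∈ fr1.U) (hb : b ∈ fr2.U) (hb' : b' ∈ fr2.U)
    (e : a * b = a' * b') : a = a' ∧ b = b' := by
  have e1 : a'⁻¹ * a = b' * b⁻¹ := by
    calc a'⁻¹ * a = a'⁻¹ * (a * b) * b⁻¹ := by group
      _ = b' * b⁻¹ := by rw [e]; group
  have e2 := h.inter (mul_mem (inv_mem ha') ha) (by rw [e1]; exact mul_mem hb' (inv_mem hb))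
  have e3 : a = a' := (inv_mul_eq_one.1 e2).symm
  refine ⟨e3, ?_⟩
  rw [e3] at e
  exact mul_left_cancel e

theorem conjU1 {x v : G} (hx : x ∈ S) (hv : v ∈ fr1.U) : x * v * x⁻¹ ∈ fr1.U := by
  rcases h.ad1.cases hx with ⟨σ, hσ⟩ | ⟨σ, hσ⟩
  · exact hσ.norm h.odd1 hv
  · exact hσ.norm h.odd1 hv

theorem conjU2 {x v : G} (hx : x ∈ S) (hv : v ∈ fr2.U) : x * v * x⁻¹ ∈ fr2.U := h.symm.conjU1 hx hv

/-- components of an element of `U1 U2` commuting with `x` -/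
theorem comp {x a b : G} (hx : x ∈ S) (ha : a ∈ fr1.U) (hb : b ∈ fr2.U) (hc : a * b * x = x * (a * b)) :
    a * x = x * a ∧ b * x = x * b := by
  have e : x * a * x⁻¹ * (x * b * x⁻¹) = a * b := by
    calc x * a * x⁻¹ * (x * b * x⁻¹) = x * (a * b) * x⁻¹ := by group
      _ = a * b := by rw [← hc]; group
  obtain ⟨e1, e2⟩ := h.uniq (h.conjU1 hx ha) ha (h.conjU2 hx hb) hb e
  rw [mul_inv_eq_iff_eq_mul] at e1 e2
  exact ⟨e1.symm, e2.symm⟩

/-- the kernel of the types -/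
theorem exists_mul {z : G} (hz : z ∈ S) (h1 : om fr1 z = 1) (h2 : om fr2 z = 1) :
    ∃ v1 ∈ fr1.U, ∃ v2 ∈ fr2.U, z = v1 * v2 := by
  obtain ⟨v1, hv1, hc1⟩ := exists_of_om_one h.odd1 h.perf1 h.ad1 h.norm1 hz h1
  obtain ⟨v2, hv2, hc2⟩ := exists_of_om_one h.odd2 h.perf2 h.ad2 h.norm2 hz h2
  refine ⟨v1, hv1, v2, hv2, ?_⟩
  have hcomm : v1 * v2 = v2 * v1 := h.comm _ (fr1.U_le hv1) _ (fr2.U_le hv2)
  have e := h.cent (v2⁻¹ * (v1⁻¹ * z)) (mul_mem (inv_mem (h.U2 hv2)) (mul_mem (inv_mem (h.U1 hv1)) hz))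
    (mul_mem (inv_mem (h.cA1 (fr2.U_le hv2))) hc1) (by
      have e : v2⁻¹ * (v1⁻¹ * z) = v1⁻¹ * (v2⁻¹ * z) := by
        calc v2⁻¹ * (v1⁻¹ * z) = (v1 * v2)⁻¹ * z := by group
          _ = (v2 * v1)⁻¹ * z := by rw [hcomm]
          _ = v1⁻¹ * (v2⁻¹ * z) := by group
      rw [e]
      exact mul_mem (inv_mem (h.cA2 (fr1.U_le hv1))) hc2)
  calc z = v1 * v2 * (v2⁻¹ * (v1⁻¹ * z)) := by group
    _ = v1 * v2 := by rw [e, mul_one]

theorem om_comm1 {s x : G} (hs : s ∈ S) (hx : x ∈ S) : om fr1 (s * x * s⁻¹ * x⁻¹) = 1 := by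
  rw [om_mul fr1 (mul_mem (mul_mem (h.norm1 hs) (h.norm1 hx)) (inv_mem (h.norm1 hs))) (inv_mem (h.norm1 hx)),
    om_conj fr1 (h.norm1 hx) (h.norm1 hs), om_inv fr1 (h.norm1 hx), mul_inv_cancel]

/-- **lower bound for the order of a centraliser** -/
theorem card_le_cen {x : G} (hx : x ∈ S) (hxx : x * x = 1) :
    Nat.card S ≤ Nat.card (cen S x) * ((J fr1 x).ncard * (J fr2 x).ncard) := by
  have h1 := card_le_orbit S x ((fun p : G × G => p.1 * p.2 * x) '' (J fr1 x ×ˢ J fr2 x)) (by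
    intro s hs
    obtain ⟨v1, hv1, v2, hv2, e⟩ := h.exists_mul (mul_mem (mul_mem (mul_mem hs hx) (inv_mem hs)) (inv_mem hx))
      (h.om_comm1 hs hx) (h.symm.om_comm1 hs hx)
    have e' : s * x * s⁻¹ = v1 * v2 * x := by rw [← e]; group
    have hsq : (v1 * v2 * x) * (v1 * v2 * x) = 1 := by
      rw [← e']
      calc s * x * s⁻¹ * (s * x * s⁻¹) = s * (x * x) * s⁻¹ := by group
        _ = 1 := by rw [hxx]; group
    have hcomm : v1 * v2 = v2 * v1 := h.comm _ (fr1.U_le hv1) _ (fr2.U_le hv2)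
    refine ⟨(v1, v2), ⟨⟨hv1, ?_⟩, ⟨hv2, ?_⟩⟩, e'.symm⟩
    · -- `(v1 x)² = ((x v2 x⁻¹) v2)⁻¹ `-like element of `A2`
      have hw : x * v2 * x⁻¹ ∈ fr2.U := h.conjU2 hx hv2
      have e2 : v1 * x * (v1 * x) = v2⁻¹ * (v1 * (x * v2 * x⁻¹)⁻¹ * v1⁻¹) := by
        have e3 : v1 * v2 * x * (v1 * v2 * x) = v2 * ((v1 * x) * (v1 * x)) * (x⁻¹ * v2 * x) := by
          calc v1 * v2 * x * (v1 * v2 * x) = v2 * v1 * x * (v1 * v2 * x) := by rw [hcomm]
            _ = v2 * ((v1 * x) * (v1 * x)) * (x⁻¹ * v2 * x) := by group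
        rw [hsq] at e3
        have hxi : x⁻¹ = x := inv_eq_of_mul_eq_one_right hxx
        have e4 : v1 * x * (v1 * x) = v2⁻¹ * (x⁻¹ * v2 * x)⁻¹ := by
          calc v1 * x * (v1 * x) = v2⁻¹ * (v2 * (v1 * x * (v1 * x)) * (x⁻¹ * v2 * x)) * (x⁻¹ * v2 * x)⁻¹ := by group
            _ = v2⁻¹ * (x⁻¹ * v2 * x)⁻¹ := by rw [← e3, mul_one]
        rw [e4]
        congr 1
        have e5 : x⁻¹ * v2 * x = x * v2 * x⁻¹ := by rw [hxi]
        rw [e5]
        have e6 := h.comm _ (fr1.U_le hv1) _ (inv_mem (fr2.U_le hw))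
        rw [e6, mul_inv_cancel_right]
      rw [e2]
      refine mul_mem (inv_mem (h.cA1 (fr2.U_le hv2))) ?_
      have e6 := h.comm _ (fr1.U_le hv1) _ (inv_mem (fr2.U_le hw))
      rw [e6, mul_inv_cancel_right]
      exact inv_mem (h.cA1 (fr2.U_le hw))
    · have hw : x * v1 * x⁻¹ ∈ fr1.U := h.conjU1 hx hv1
      have hxi : x⁻¹ = x := inv_eq_of_mul_eq_one_right hxx
      have e3 : v1 * v2 * x * (v1 * v2 * x) = v1 * ((v2 * x) * (v2 * x)) * (x⁻¹ * v1 * x) := by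
        calc v1 * v2 * x * (v1 * v2 * x) = v1 * v2 * x * (v2 * v1 * x) := by rw [hcomm]
          _ = v1 * ((v2 * x) * (v2 * x)) * (x⁻¹ * v1 * x) := by group
      rw [hsq] at e3
      have e4 : v2 * x * (v2 * x) = v1⁻¹ * (x⁻¹ * v1 * x)⁻¹ := by
        calc v2 * x * (v2 * x) = v1⁻¹ * (v1 * (v2 * x * (v2 * x)) * (x⁻¹ * v1 * x)) * (x⁻¹ * v1 * x)⁻¹ := by group
          _ = v1⁻¹ * (x⁻¹ * v1 * x)⁻¹ := by rw [← e3, mul_one]
      rw [e4]
      have e5 : x⁻¹ * v1 * x = x * v1 * x⁻¹ := by rw [hxi]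
      rw [e5]
      exact mul_mem (inv_mem (h.cA2 (fr1.U_le hv1))) (inv_mem (h.cA2 (fr1.U_le hw))))
  refine h1.trans (Nat.mul_le_mul_left _ ?_)
  refine (Set.ncard_image_le (Set.toFinite _)).trans ?_
  rw [Set.ncard_prod]

/-- **upper bound for the order of a centraliser** -/
theorem cen_le {x : G} (hx : x ∈ S) :
    Nat.card (cen S x) * (Nat.card F ^ 3 * Nat.card F ^ 3) ≤
      (C fr1 x).ncard * (C fr2 x).ncard * Nat.card S := by
  have h1 := card_mul_le S (cen S x) fr1.U fr2.U inf_le_left h.U1 h.U2 (C fr1 x) (C fr2 x)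
    (fun u hu v hv => h.comm _ (fr1.U_le hu) _ (fr2.U_le hv)) (by
      intro u hu v hv huv
      obtain ⟨e1, e2⟩ := h.comp hx hu hv (mem_cen.1 huv).2
      exact ⟨⟨hu, e1⟩, ⟨hv, e2⟩⟩)
  rwa [fr1.card_U h.odd1, fr2.card_U h.odd2] at h1

end Two

end Cfsg.Agent.StdRank2.L3W.Tab
end

-- part: StdRank2/L3W/TabMain
section
/-!
# The order and rank table for `L₃(q)`, wreath case: the table
-/

set_option autoImplicit false

namespace Cfsg.Agent.StdRank2.L3W.Tab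

open Cfsg.Agent.StdRank2.OutL3Rel Cfsg.Agent.StdRank2.OutField Cfsg.Agent.StdRank2.OutL3Inv
open Cfsg.Agent.StdRank2.OutL3Je Cfsg.Agent.StdRank2.OutL3JeMain Cfsg.Agent.StdRank2.L3W6.Types
open Cfsg.Agent.StdRank2.L3W.Count Cfsg.Agent.StdRank2.L3W.Elem Cfsg.Agent.StdRank2.OutSplit

variable {G : Type*} [Group G] {A1 A2 : Subgroup G} {F : Type*} [Field F]

theorem comm_of_sq {X : Subgroup G} (h : ∀ x ∈ X, x * x = 1) {x y : G} (hx : x ∈ X) (hy : y ∈ X) :
    x * y = y * x := by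
  have h1 := h _ (mul_mem hx hy)
  have h2 := h x hx
  have h3 := h y hy
  calc x * y = x * y * ((x * y) * (y * x)) := by
        rw [show (x * y) * (y * x) = 1 by
          calc (x * y) * (y * x) = x * (y * y) * x := by group
            _ = 1 := by rw [h3, mul_one, h2], mul_one]
    _ = (x * y) * (x * y) * (y * x) := by group
    _ = y * x := by rw [h1, one_mul]

namespace Two

variable {fr1 : FrameL3 A1 F} {fr2 : FrameL3 A2 F} {S : Subgroup G}
variable [Finite G] [Finite F] [CharP F 2] (h : Two fr1 fr2 S)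
include h

/-- **decomposition of an elementary abelian subgroup** -/
theorem exists_parts {X : Subgroup G} (hX : X ≤ S) (hX2 : ∀ x ∈ X, x * x = 1) :
    ∃ W1 W2 : Subgroup G, W1 ≤ fr1.U ∧ W2 ≤ fr2.U ∧ (∀ w ∈ W1, w * w = 1) ∧ (∀ w ∈ W2, w * w = 1) ∧
      (∀ x ∈ X, ∀ w ∈ W1, x * w = w * x) ∧ (∀ x ∈ X, ∀ w ∈ W2, x * w = w * x) ∧
      Nat.card X ≤ ((om fr1 '' (X : Set G)).ncard * Nat.card W1) * ((om fr2 '' (X : Set G)).ncard * Nat.card W2) := by
  have hcU : ∀ a ∈ fr1.U, ∀ b ∈ fr2.U, a * b = b * a := fun a ha b hb => h.comm _ (fr1.U_le ha) _ (fr2.U_le hb)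
  let W1 : Subgroup G :=
    { carrier := {v | v ∈ fr1.U ∧ ∃ v' ∈ fr2.U, v * v' ∈ X}
      one_mem' := ⟨one_mem _, 1, one_mem _, by rw [mul_one]; exact one_mem X⟩
      mul_mem' := by
        rintro a b ⟨ha, a', ha', haX⟩ ⟨hb, b', hb', hbX⟩
        refine ⟨mul_mem ha hb, a' * b', mul_mem ha' hb', ?_⟩
        have e : a * b * (a' * b') = (a * a') * (b * b') := by
          have := hcU b hb a' ha'
          calc a * b * (a' * b') = a * (b * a') * b' := by group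
            _ = a * (a' * b) * b' := by rw [this]
            _ = (a * a') * (b * b') := by group
        rw [e]; exact mul_mem haX hbX
      inv_mem' := by
        rintro a ⟨ha, a', ha', haX⟩
        refine ⟨inv_mem ha, a'⁻¹, inv_mem ha', ?_⟩
        have e : a⁻¹ * a'⁻¹ = (a * a')⁻¹ := by
          rw [hcU a ha a' ha', mul_inv_rev]
        rw [e]; exact inv_mem haX }
  let W2 : Subgroup G :=
    { carrier := {v' | v' ∈ fr2.U ∧ ∃ v ∈ fr1.U, v * v' ∈ X}
      one_mem' := ⟨one_mem _, 1, one_mem _, by rw [mul_one]; exact one_mem X⟩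
      mul_mem' := by
        rintro a' b' ⟨ha', a, ha, haX⟩ ⟨hb', b, hb, hbX⟩
        refine ⟨mul_mem ha' hb', a * b, mul_mem ha hb, ?_⟩
        have e : a * b * (a' * b') = (a * a') * (b * b') := by
          have := hcU b hb a' ha'
          calc a * b * (a' * b') = a * (b * a') * b' := by group
            _ = a * (a' * b) * b' := by rw [this]
            _ = (a * a') * (b * b') := by group
        rw [e]; exact mul_mem haX hbX
      inv_mem' := by
        rintro a' ⟨ha', a, ha, haX⟩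
        refine ⟨inv_mem ha', a⁻¹, inv_mem ha, ?_⟩
        have e : a⁻¹ * a'⁻¹ = (a * a')⁻¹ := by
          rw [hcU a ha a' ha', mul_inv_rev]
        rw [e]; exact inv_mem haX }
  have hcomp : ∀ a ∈ fr1.U, ∀ a' ∈ fr2.U, a * a' ∈ X → ∀ x ∈ X, a * x = x * a ∧ a' * x = x * a' := by
    intro a ha a' ha' haX x hx
    exact h.comp (hX hx) ha ha' (comm_of_sq hX2 haX hx)
  have hsq : ∀ a ∈ fr1.U, ∀ a' ∈ fr2.U, a * a' ∈ X → a * a = 1 ∧ a' * a' = 1 := by
    intro a ha a' ha' haX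
    have e := hX2 _ haX
    have e2 : a * a * (a' * a') = 1 * 1 := by
      have := hcU a ha a' ha'
      calc a * a * (a' * a') = a * (a * a') * a' := by group
        _ = a * (a' * a) * a' := by rw [this]
        _ = (a * a') * (a * a') := by group
        _ = 1 * 1 := by rw [e, mul_one]
    exact h.uniq (mul_mem ha ha) (one_mem _) (mul_mem ha' ha') (one_mem _) e2
  refine ⟨W1, W2, fun v hv => hv.1, fun v hv => hv.1, ?_, ?_, ?_, ?_, ?_⟩
  · rintro a ⟨ha, a', ha', haX⟩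
    exact (hsq a ha a' ha' haX).1
  · rintro a' ⟨ha', a, ha, haX⟩
    exact (hsq a ha a' ha' haX).2
  · rintro x hx a ⟨ha, a', ha', haX⟩
    exact (hcomp a ha a' ha' haX x hx).1.symm
  · rintro x hx a' ⟨ha', a, ha, haX⟩
    exact (hcomp a ha a' ha' haX x hx).2.symm
  · classical
    have := Fintype.ofFinite X
    have h1 := Finset.card_le_mul_card_image (f := fun x : X => (om fr1 (x : G), om fr2 (x : G))) Finset.univ
      (Nat.card W1 * Nat.card W2) (by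
        intro p _
        have h2 : (Finset.univ.filter (fun x : X => (om fr1 (x : G), om fr2 (x : G)) = p)).card =
            Nat.card {x : X // (om fr1 (x : G), om fr2 (x : G)) = p} := by
          rw [Nat.card_eq_fintype_card, Fintype.card_subtype]
        rw [h2, ← Nat.card_prod]
        by_cases hne : Nonempty {x : X // (om fr1 (x : G), om fr2 (x : G)) = p}
        · obtain ⟨⟨x0, hx0⟩⟩ := hne
          have hdec : ∀ x : {x : X // (om fr1 (x : G), om fr2 (x : G)) = p}, ∃ q : W1 × W2,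
              (x0 : G)⁻¹ * (x.1 : G) = (q.1 : G) * q.2 := by
            rintro ⟨x, hx⟩
            have e := hx.trans hx0.symm
            have e1 : om fr1 (x : G) = om fr1 (x0 : G) := congrArg Prod.fst e
            have e2 : om fr2 (x : G) = om fr2 (x0 : G) := congrArg Prod.snd e
            have hm : (x0 : G)⁻¹ * (x : G) ∈ X := mul_mem (inv_mem x0.2) x.2
            obtain ⟨v1, hv1, v2, hv2, e3⟩ := h.exists_mul (hX hm)
              (by rw [om_mul fr1 (inv_mem (h.norm1 (hX x0.2))) (h.norm1 (hX x.2)),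
                om_inv fr1 (h.norm1 (hX x0.2)), e1, inv_mul_cancel])
              (by rw [om_mul fr2 (inv_mem (h.norm2 (hX x0.2))) (h.norm2 (hX x.2)),
                om_inv fr2 (h.norm2 (hX x0.2)), e2, inv_mul_cancel])
            rw [e3] at hm
            exact ⟨(⟨v1, hv1, v2, hv2, hm⟩, ⟨v2, hv2, v1, hv1, hm⟩), e3⟩
          choose q hq using hdec
          refine Nat.card_le_card_of_injective q ?_
          intro x x' e
          have e1 := hq x
          rw [e, ← hq x'] at e1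
          exact Subtype.ext (Subtype.ext (mul_left_cancel e1))
        · rw [not_nonempty_iff] at hne
          rw [Nat.card_of_isEmpty]
          exact Nat.zero_le _)
    have h3 : (Finset.univ.image (fun x : X => (om fr1 (x : G), om fr2 (x : G)))).card ≤
        (om fr1 '' (X : Set G)).ncard * (om fr2 '' (X : Set G)).ncard := by
      rw [← Set.ncard_prod, ← Set.ncard_coe_finset]
      apply Set.ncard_le_ncard _ (Set.toFinite _)
      intro a ha
      obtain ⟨x, -, rfl⟩ := Finset.mem_image.1 (Finset.mem_coe.1 ha)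
      exact ⟨⟨x, x.2, rfl⟩, ⟨x, x.2, rfl⟩⟩
    have h4 : (Finset.univ : Finset X).card = Nat.card X := by
      rw [Nat.card_eq_fintype_card]; rfl
    rw [h4] at h1
    refine h1.trans ((Nat.mul_le_mul_left _ h3).trans (le_of_eq ?_))
    ring

/-- **large elementary abelian subgroups of a centraliser** -/
theorem exists_big {x : G} (hx : x ∈ S) (hxx : x * x = 1) (hx1 : om fr1 x ≠ 1) {W V : Subgroup G}
    (hW : W ≤ fr1.U) (hV : V ≤ fr2.U) (hW2 : ∀ w ∈ W, w * w = 1) (hV2 : ∀ w ∈ V, w * w = 1)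
    (hWx : ∀ w ∈ W, w * x = x * w) (hVx : ∀ w ∈ V, w * x = x * w) :
    ∃ X : Subgroup G, X ≤ cen S x ∧ x ∈ X ∧ (∀ z ∈ X, z * z = 1) ∧ 2 * (Nat.card W * Nat.card V) ≤ Nat.card X := by
  have hcU : ∀ a ∈ W, ∀ b ∈ V, a * b = b * a := fun a ha b hb =>
    h.comm _ (fr1.U_le (hW ha)) _ (fr2.U_le (hV hb))
  have hWV : ∀ a ∈ W, ∀ b ∈ V, (a * b) * x = x * (a * b) := by
    intro a ha b hb
    calc (a * b) * x = a * (b * x) := by group
      _ = (a * x) * b := by rw [hVx b hb]; group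
      _ = x * (a * b) := by rw [hWx a ha]; group
  have hmulWV : ∀ a ∈ W, ∀ b ∈ V, ∀ a' ∈ W, ∀ b' ∈ V, a * b * (a' * b') = (a * a') * (b * b') := by
    intro a _ b hb a' ha' b' _
    have := hcU a' ha' b hb
    calc a * b * (a' * b') = a * (b * a') * b' := by group
      _ = a * (a' * b) * b' := by rw [this]
      _ = (a * a') * (b * b') := by group
  have hsq : ∀ a ∈ W, ∀ b ∈ V, a * b * (a * b) = 1 := by
    intro a ha b hb
    rw [hmulWV a ha b hb a ha b hb, hW2 a ha, hV2 b hb, mul_one]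
  let X : Subgroup G :=
    { carrier := {z | ∃ a ∈ W, ∃ b ∈ V, z = a * b ∨ z = x * (a * b)}
      one_mem' := ⟨1, one_mem _, 1, one_mem _, Or.inl (by rw [mul_one])⟩
      mul_mem' := by
        rintro _ _ ⟨a, ha, b, hb, rfl | rfl⟩ ⟨a', ha', b', hb', rfl | rfl⟩
        · exact ⟨a * a', mul_mem ha ha', b * b', mul_mem hb hb', Or.inl (hmulWV a ha b hb a' ha' b' hb')⟩
        · refine ⟨a * a', mul_mem ha ha', b * b', mul_mem hb hb', Or.inr ?_⟩
          rw [← mul_assoc, hWV a ha b hb, mul_assoc, hmulWV a ha b hb a' ha' b' hb']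
        · refine ⟨a * a', mul_mem ha ha', b * b', mul_mem hb hb', Or.inr ?_⟩
          rw [mul_assoc, hmulWV a ha b hb a' ha' b' hb']
        · refine ⟨a * a', mul_mem ha ha', b * b', mul_mem hb hb', Or.inl ?_⟩
          calc x * (a * b) * (x * (a' * b')) = x * ((a * b) * x) * (a' * b') := by group
            _ = x * (x * (a * b)) * (a' * b') := by rw [hWV a ha b hb]
            _ = (x * x) * (a * b * (a' * b')) := by group
            _ = (a * a') * (b * b') := by rw [hxx, one_mul, hmulWV a ha b hb a' ha' b' hb']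
      inv_mem' := by
        rintro _ ⟨a, ha, b, hb, rfl | rfl⟩
        · refine ⟨a, ha, b, hb, Or.inl ?_⟩
          exact inv_eq_of_mul_eq_one_right (hsq a ha b hb)
        · refine ⟨a, ha, b, hb, Or.inr ?_⟩
          apply inv_eq_of_mul_eq_one_right
          calc x * (a * b) * (x * (a * b)) = x * ((a * b) * x) * (a * b) := by group
            _ = x * (x * (a * b)) * (a * b) := by rw [hWV a ha b hb]
            _ = (x * x) * (a * b * (a * b)) := by group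
            _ = 1 := by rw [hxx, one_mul, hsq a ha b hb] }
  refine ⟨X, ?_, ⟨1, one_mem _, 1, one_mem _, Or.inr (by rw [mul_one, mul_one])⟩, ?_, ?_⟩
  · rintro _ ⟨a, ha, b, hb, rfl | rfl⟩
    · exact mem_cen.2 ⟨mul_mem (h.U1 (hW ha)) (h.U2 (hV hb)), hWV a ha b hb⟩
    · refine mem_cen.2 ⟨mul_mem hx (mul_mem (h.U1 (hW ha)) (h.U2 (hV hb))), ?_⟩
      rw [mul_assoc, hWV a ha b hb]
  · rintro _ ⟨a, ha, b, hb, rfl | rfl⟩
    · exact hsq a ha b hb
    · calc x * (a * b) * (x * (a * b)) = x * ((a * b) * x) * (a * b) := by group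
        _ = x * (x * (a * b)) * (a * b) := by rw [hWV a ha b hb]
        _ = (x * x) * (a * b * (a * b)) := by group
        _ = 1 := by rw [hxx, one_mul, hsq a ha b hb]
  · have hb2 : Nat.card Bool = 2 := by rw [Nat.card_eq_fintype_card, Fintype.card_bool]
    rw [← hb2, ← Nat.card_prod, ← Nat.card_prod]
    have hnot : ∀ a ∈ W, ∀ b ∈ V, ∀ a' ∈ W, ∀ b' ∈ V, a * b ≠ x * (a' * b') := by
      intro a ha b hb a' ha' b' hb' e
      apply hx1
      have e2 : x = a * b * (a' * b')⁻¹ := by rw [e]; group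
      have h5 : ∀ a ∈ W, ∀ b ∈ V, om fr1 (a * b) = 1 ∧ a * b ∈ Subgroup.normalizer (A1 : Set G) := by
        intro a ha b hb
        have n1 := Subgroup.le_normalizer (fr1.U_le (hW ha))
        have n2 := h.norm1 (h.U2 (hV hb))
        refine ⟨?_, mul_mem n1 n2⟩
        rw [om_mul fr1 n1 n2, om_mem fr1 (fr1.U_le (hW ha)), om_centralizer fr1 (h.cA1 (fr2.U_le (hV hb))) n2,
          mul_one]
      rw [e2, om_mul fr1 (h5 a ha b hb).2 (inv_mem (h5 a' ha' b' hb').2), om_inv fr1 (h5 a' ha' b' hb').2,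
        (h5 a ha b hb).1, (h5 a' ha' b' hb').1, inv_one, mul_one]
    refine Nat.card_le_card_of_injective (fun p : Bool × W × V =>
      (⟨if p.1 then x * ((p.2.1 : G) * p.2.2) else (p.2.1 : G) * p.2.2, p.2.1, p.2.1.2, p.2.2, p.2.2.2, by
        by_cases hp : p.1 = true
        · right; rw [if_pos hp]
        · left; rw [if_neg hp]⟩ : X)) ?_
    rintro ⟨i, a, b⟩ ⟨j, a', b'⟩ e
    have e1 := congrArg Subtype.val e
    have hu : ∀ a b a' b' : G, a ∈ W → b ∈ V → a' ∈ W → b' ∈ V → a * b = a' * b' → a = a' ∧ b = b' :=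
      fun a b a' b' ha hb ha' hb' e => h.uniq (hW ha) (hW ha') (hV hb) (hV hb') e
    cases i <;> cases j
    · have e2 : (a : G) * b = (a' : G) * b' := by simpa only [_root_.Bool.false_eq_true, ↓ _root_.reduceIte] using e1
      obtain ⟨e3, e4⟩ := hu _ _ _ _ a.2 b.2 a'.2 b'.2 e2
      rw [Subtype.ext e3, Subtype.ext e4]
    · exfalso
      have e2 : (a : G) * b = x * ((a' : G) * b') := by simpa only [_root_.Bool.false_eq_true, ↓ _root_.reduceIte] using e1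
      exact hnot _ a.2 _ b.2 _ a'.2 _ b'.2 e2
    · exfalso
      have e2 : x * ((a : G) * b) = (a' : G) * b' := by simpa only [↓ _root_.reduceIte, _root_.Bool.false_eq_true] using e1
      exact hnot _ a'.2 _ b'.2 _ a.2 _ b.2 e2.symm
    · have e2 : (a : G) * b = (a' : G) * b' := by
        have e3 : x * ((a : G) * b) = x * ((a' : G) * b') := by simpa only [_root_.mul_right_inj, ↓ _root_.reduceIte] using e1
        exact mul_left_cancel e3
      obtain ⟨e3, e4⟩ := hu _ _ _ _ a.2 b.2 a'.2 b'.2 e2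
      rw [Subtype.ext e3, Subtype.ext e4]

end Two

end Cfsg.Agent.StdRank2.L3W.Tab
end

-- part: StdRank2/L3W/TabEnd
section
/-!
# The order and rank table for `L₃(q)`, wreath case: `htab`
-/

set_option autoImplicit false

namespace Cfsg.Agent.StdRank2.L3W.Tab

open Cfsg.Agent.StdRank2.OutL3Rel Cfsg.Agent.StdRank2.OutField Cfsg.Agent.StdRank2.OutL3Inv
open Cfsg.Agent.StdRank2.OutL3Je Cfsg.Agent.StdRank2.OutL3JeMain Cfsg.Agent.StdRank2.L3W6.Types
open Cfsg.Agent.StdRank2.L3W.Count Cfsg.Agent.StdRank2.L3W.Elem Cfsg.Agent.StdRank2.OutSplit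

variable {G : Type*} [Group G] {A1 A2 : Subgroup G} {F : Type*} [Field F]

/-- the pure graph type -/
def gm (F : Type*) [Field F] : Ty F := (1, -1)

theorem fx_one [Finite F] [CharP F 2] : fx (1 : F ≃+* F) = Nat.card F := by
  have : {x : F | (1 : F ≃+* F) x = x} = Set.univ := by
    ext x; exact ⟨fun _ => trivial, fun _ => rfl⟩
  rw [← ncard_fix, this, Set.ncard_univ]

/-! ### arithmetic -/

theorem num1 {q : ℕ} (hq : 4 ≤ q) (h : 2 * (q * (q * q)) ≤ (2 * q) * (2 * q)) : False := by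
  have h1 : (2 * q) * (2 * q) = 4 * (q * q) := by ring
  have h2 : 2 * (q * (q * q)) = (2 * q) * (q * q) := by ring
  rw [h1, h2] at h
  have h3 : 0 < q * q := Nat.mul_pos (by omega) (by omega)
  have h4 := Nat.le_of_mul_le_mul_right h h3
  omega

theorem num2 {q f : ℕ} (hq : 4 ≤ q) (hf : f * f = q) (h : 2 * (f * (q * q)) ≤ (2 * f) * (2 * f)) : False := by
  have hf0 : 0 < f := by
    rcases Nat.eq_zero_or_pos f with h0 | h0
    · rw [h0] at hf; omega
    · exact h0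
  have h1 : (2 * f) * (2 * f) = (4 * f) * f := by ring
  have h2 : 2 * (f * (q * q)) = (2 * (q * q)) * f := by ring
  rw [h1, h2] at h
  have h4 := Nat.le_of_mul_le_mul_right h hf0
  have h5 : f ≤ q := by rw [← hf]; exact Nat.le_mul_of_pos_left f hf0
  have h6 : 4 * q ≤ q * q := Nat.mul_le_mul_right q hq
  omega

/-- `q⁶ |S| ≤ q² |S| J1 J2` gives `q⁴ ≤ J1 J2` -/
theorem num3 {q s c j1 j2 c1 c2 : ℕ} (hq : 4 ≤ q) (hs : 0 < s) (h1 : s ≤ c * (j1 * j2))
    (h2 : c * (q ^ 3 * q ^ 3) ≤ c1 * c2 * s) (hc1 : c1 ≤ q) (hc2 : c2 ≤ q) : q ^ 4 ≤ j1 * j2 := by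
  have h3 : c1 * c2 * s ≤ q * q * s := Nat.mul_le_mul_right s (Nat.mul_le_mul hc1 hc2)
  have h4 : (q ^ 4) * (q * q * s) ≤ (j1 * j2) * (q * q * s) := by
    calc (q ^ 4) * (q * q * s) = (q ^ 3 * q ^ 3) * s := by ring
      _ ≤ (q ^ 3 * q ^ 3) * (c * (j1 * j2)) := Nat.mul_le_mul_left _ h1
      _ = (c * (q ^ 3 * q ^ 3)) * (j1 * j2) := by ring
      _ ≤ (q * q * s) * (j1 * j2) := Nat.mul_le_mul_right _ (h2.trans h3)
      _ = (j1 * j2) * (q * q * s) := by ring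
  refine Nat.le_of_mul_le_mul_right h4 ?_
  exact Nat.mul_pos (Nat.mul_pos (by omega) (by omega)) hs

theorem num4 {q f j1 j2 : ℕ} (hq : 4 ≤ q) (hf : f * f = q) (h : q ^ 4 ≤ j1 * j2) (h1 : j1 ≤ f * f * f)
    (h2 : j2 + q ≤ 2 * q * q) : False := by
  have hf2 : 2 ≤ f := by
    by_contra hcon
    have h5 : f ≤ 1 := by omega
    have h6 : f * f ≤ 1 * 1 := Nat.mul_le_mul h5 h5
    omega
  have h3 : j2 < 2 * q * q := by omega
  have h4 : j1 * j2 < (f * f * f) * (2 * q * q) := by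
    calc j1 * j2 ≤ (f * f * f) * j2 := Nat.mul_le_mul_right _ h1
      _ < (f * f * f) * (2 * q * q) := Nat.mul_lt_mul_of_pos_left h3 (by positivity)
  have h5 : (f * f * f) * (2 * q * q) ≤ q ^ 4 := by
    calc (f * f * f) * (2 * q * q) = (2 * f) * (f * f) * (q * q) := by ring
      _ = (2 * f) * q * (q * q) := by rw [hf]
      _ ≤ (f * f) * q * (q * q) :=
          Nat.mul_le_mul_right _ (Nat.mul_le_mul_right _ (Nat.mul_le_mul_right _ hf2))
      _ = q ^ 4 := by rw [hf]; ring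
  omega

theorem num5 {q f j1 j2 : ℕ} (hq : 4 ≤ q) (hf : f * f = q) (h : q ^ 4 ≤ j1 * j2) (h1 : j1 ≤ f * f * f)
    (h2 : j2 ≤ f * f * f) : False := by
  have h3 : j1 * j2 ≤ (f * f * f) * (f * f * f) := Nat.mul_le_mul h1 h2
  have h4 : (f * f * f) * (f * f * f) = q ^ 3 := by
    rw [← hf]; ring
  have h5 : q ^ 3 < q ^ 4 := Nat.pow_lt_pow_right (by omega) (by omega)
  omega

theorem num6 {q f s c j1 j2 c1 c2 : ℕ} (hq : 4 ≤ q) (hf : f * f = q) (hs : 0 < s) (h1 : s ≤ c * (j1 * j2))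
    (hj1 : j1 ≤ f * f * f) (hj2 : j2 ≤ f * f * f)
    (h2 : c * (q ^ 3 * q ^ 3) ≤ c1 * c2 * s) (hc1 : c1 ≤ f * f * f) (hc2 : c2 ≤ q) : False := by
  have hf2 : 2 ≤ f := by
    by_contra hcon
    have h5 : f ≤ 1 := by omega
    have h6 : f * f ≤ 1 * 1 := Nat.mul_le_mul h5 h5
    omega
  have h3 : s * (q ^ 3 * q ^ 3) ≤ s * (f ^ 11) := by
    calc s * (q ^ 3 * q ^ 3) ≤ (c * (j1 * j2)) * (q ^ 3 * q ^ 3) := Nat.mul_le_mul_right _ h1
      _ ≤ (c * ((f * f * f) * (f * f * f))) * (q ^ 3 * q ^ 3) :=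
          Nat.mul_le_mul_right _ (Nat.mul_le_mul_left _ (Nat.mul_le_mul hj1 hj2))
      _ = (c * (q ^ 3 * q ^ 3)) * ((f * f * f) * (f * f * f)) := by ring
      _ ≤ (c1 * c2 * s) * ((f * f * f) * (f * f * f)) := Nat.mul_le_mul_right _ h2
      _ ≤ ((f * f * f) * (f * f) * s) * ((f * f * f) * (f * f * f)) :=
          Nat.mul_le_mul_right _ (Nat.mul_le_mul_right _ (Nat.mul_le_mul hc1 (by rw [hf]; exact hc2)))
      _ = s * (f ^ 11) := by ring
  have h4 := Nat.le_of_mul_le_mul_left h3 hs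
  have h5 : q ^ 3 * q ^ 3 = f ^ 12 := by rw [← hf]; ring
  rw [h5] at h4
  have h6 : f ^ 11 < f ^ 12 := Nat.pow_lt_pow_right (by omega) (by omega)
  omega

section Single

variable [Finite G] [Finite F] [CharP F 2] {fr : FrameL3 A1 F} {S : Subgroup G}

/-- the bound for `J` in the presence of a field part -/
theorem J_field (hZ : Odd (Nat.card (Subgroup.center ↥A1))) (hA : _root_.commutator ↥A1 = ⊤)
    (hS : S ≤ Subgroup.normalizer (A1 : Set G)) (had : Adapted fr S) {x : G} (hx : x ∈ S) (hxx : x * x = 1)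
    (h1 : (om fr x).1 ≠ 1) : (J fr x).ncard ≤ fx (om fr x).1 * fx (om fr x).1 * fx (om fr x).1 := by
  have hxc : x * x ∈ Subgroup.centralizer (A1 : Set G) := by rw [hxx]; exact one_mem _
  rcases units_cases (om fr x).2 with h | h
  · exact J_ft hZ hA (hS hx) hxc (ft_of_om had hS hx (Prod.ext rfl h))
  · have h2 : om fr x * om fr x = 1 := by rw [← om_mul fr (hS hx) (hS hx), hxx, om_one]
    rw [fx_sq (congrArg Prod.fst h2) h1]
    exact J_gt hZ hA (hS hx) hxc (gt_of_om had hS hx (Prod.ext rfl h))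

/-- the bound for `C` in the presence of a field part -/
theorem C_field (hZ : Odd (Nat.card (Subgroup.center ↥A1)))
    (hS : S ≤ Subgroup.normalizer (A1 : Set G)) (had : Adapted fr S) {x : G} (hx : x ∈ S) (hxx : x * x = 1)
    (h1 : (om fr x).1 ≠ 1) : (C fr x).ncard ≤ fx (om fr x).1 * fx (om fr x).1 * fx (om fr x).1 := by
  rcases units_cases (om fr x).2 with h | h
  · exact C_ft hZ (ft_of_om had hS hx (Prod.ext rfl h))
  · have h2 : om fr x * om fr x = 1 := by rw [← om_mul fr (hS hx) (hS hx), hxx, om_one]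
    rw [fx_sq (congrArg Prod.fst h2) h1]
    exact C_gt hZ (gt_of_om had hS hx (Prod.ext rfl h))

/-- the bound for `J` without field part -/
theorem J_nofield (hZ : Odd (Nat.card (Subgroup.center ↥A1))) (hA : _root_.commutator ↥A1 = ⊤)
    (hS : S ≤ Subgroup.normalizer (A1 : Set G)) (had : Adapted fr S) {x : G} (hx : x ∈ S) (hxx : x * x = 1)
    (h1 : (om fr x).1 = 1) : (J fr x).ncard + Nat.card F ≤ 2 * Nat.card F * Nat.card F := by
  have hxc : x * x ∈ Subgroup.centralizer (A1 : Set G) := by rw [hxx]; exact one_mem _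
  rcases units_cases (om fr x).2 with h | h
  · exact J_one hZ hA (hS hx) hxc (ft_of_om had hS hx (Prod.ext h1 h))
  · have h3 := J_gt_one hZ hA (hS hx) hxc (gt_of_om had hS hx (Prod.ext h1 h))
    have h4 : 1 ≤ Nat.card F := Nat.card_pos
    have h5 : Nat.card F ≤ Nat.card F * Nat.card F := Nat.le_mul_of_pos_left _ h4
    have h6 : 2 * Nat.card F * Nat.card F = Nat.card F * Nat.card F + Nat.card F * Nat.card F := by ring
    omega

end Single

/-- transport of an elementary abelian subgroup -/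
theorem move {S X : Subgroup G} {x y g : G} (hX : X ≤ cen S x) (hx : x ∈ X) (hX2 : ∀ z ∈ X, z * z = 1)
    (hxe : x = g⁻¹ * y * g) (hmap : ∀ z ∈ cen S x, g * z * g⁻¹ ∈ cen S y) :
    ∃ X' : Subgroup G, X' ≤ S ∧ y ∈ X' ∧ (∀ z ∈ X', z * z = 1) ∧ Nat.card X' = Nat.card X := by
  refine ⟨X.map (MulAut.conj g).toMonoidHom, ?_, ?_, ?_, ?_⟩
  · rintro _ ⟨z, hz, rfl⟩
    exact (mem_cen.1 (hmap z (hX hz))).1
  · refine ⟨x, hx, ?_⟩
    show g * x * g⁻¹ = y
    rw [hxe]; group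
  · rintro _ ⟨z, hz, rfl⟩
    show g * z * g⁻¹ * (g * z * g⁻¹) = 1
    calc g * z * g⁻¹ * (g * z * g⁻¹) = g * (z * z) * g⁻¹ := by group
      _ = 1 := by rw [hX2 z hz]; group
  · exact Subgroup.card_map_of_injective (MulEquiv.injective _)

namespace Two

variable {fr1 : FrameL3 A1 F} {fr2 : FrameL3 A2 F} {S : Subgroup G}
variable [Finite G] [Finite F] [CharP F 2] (h : Two fr1 fr2 S)
include h

/-- types `(γ, γ)` against `(γ, 1)` -/
theorem rank_gm (hq : 4 ≤ Nat.card F) {x y g : G} (hx : x ∈ S) (hxx : x * x = 1)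
    (hxe : x = g⁻¹ * y * g) (hmap : ∀ z ∈ cen S x, g * z * g⁻¹ ∈ cen S y)
    (hy1 : om fr1 y = gm F) (hy2 : om fr2 y = gm F) (hx1 : om fr1 x = gm F) (hx2 : om fr2 x = 1) : False := by
  obtain ⟨W, hW, hW2, hWx, hWc⟩ := exists_gt h.odd1 (gt_of_om h.ad1 h.norm1 hx hx1)
  obtain ⟨V, hV, hV2, hVx, hVc⟩ := exists_one h.odd2 h.perf2 (h.norm2 hx) hxx (ft_of_om h.ad2 h.norm2 hx hx2)
  obtain ⟨X, hXc, hxX, hX2, hXcard⟩ := h.exists_big hx hxx (by
    rw [hx1]; intro he; exact absurd (congrArg Prod.snd he) (by show ¬ ((-1 : ℤˣ) = 1); decide)) hW hV hW2 hV2 hWx hVx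
  obtain ⟨X', hXS, hyX, hX'2, hcard⟩ := move hXc hxX hX2 hxe hmap
  obtain ⟨W1, W2, hU1, hU2, hs1, hs2, hc1, hc2, hbound⟩ := h.exists_parts hXS hX'2
  have b1 := bound_gt_one h.odd1 h.ad1 h.norm1 hXS hX'2 hU1 hs1 hc1 hq hyX hy1
  have b2 := bound_gt_one h.odd2 h.ad2 h.norm2 hXS hX'2 hU2 hs2 hc2 hq hyX hy2
  rw [fx_one] at hWc
  apply num1 hq
  calc 2 * (Nat.card F * (Nat.card F * Nat.card F)) ≤ 2 * (Nat.card W * Nat.card V) :=
        Nat.mul_le_mul_left _ (Nat.mul_le_mul hWc hVc)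
    _ ≤ Nat.card X := hXcard
    _ = Nat.card X' := hcard.symm
    _ ≤ _ := hbound
    _ ≤ (2 * Nat.card F) * (2 * Nat.card F) := Nat.mul_le_mul b1 b2

/-- types `(φ, φ)` against `(φ, 1)` -/
theorem rank_ft (hq : 4 ≤ Nat.card F) {x y g : G} (hx : x ∈ S) (hxx : x * x = 1)
    (hxe : x = g⁻¹ * y * g) (hmap : ∀ z ∈ cen S x, g * z * g⁻¹ ∈ cen S y) {σ : F ≃+* F} (hσ1 : σ ≠ 1)
    (hσσ : σ * σ = 1)
    (hy1 : om fr1 y = (σ, 1)) (hy2 : om fr2 y = (σ, 1)) (hx1 : om fr1 x = (σ, 1)) (hx2 : om fr2 x = 1) : False := by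
  obtain ⟨W, hW, hW2, hWx, hWc⟩ := exists_ft h.odd1 h.perf1 (h.norm1 hx) (by rw [hxx]; exact one_mem _) hσ1
    (ft_of_om h.ad1 h.norm1 hx hx1)
  obtain ⟨V, hV, hV2, hVx, hVc⟩ := exists_one h.odd2 h.perf2 (h.norm2 hx) hxx (ft_of_om h.ad2 h.norm2 hx hx2)
  obtain ⟨X, hXc, hxX, hX2, hXcard⟩ := h.exists_big hx hxx (by
    rw [hx1]; intro he; exact hσ1 (congrArg Prod.fst he)) hW hV hW2 hV2 hWx hVx
  obtain ⟨X', hXS, hyX, hX'2, hcard⟩ := move hXc hxX hX2 hxe hmap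
  obtain ⟨W1, W2, hU1, hU2, hs1, hs2, hc1, hc2, hbound⟩ := h.exists_parts hXS hX'2
  have b1 := bound_ft h.odd1 h.ad1 h.norm1 hXS hX'2 hU1 hs1 hc1 hq hyX hσ1 hy1
  have b2 := bound_ft h.odd2 h.ad2 h.norm2 hXS hX'2 hU2 hs2 hc2 hq hyX hσ1 hy2
  rw [fx_sq hσσ hσ1] at hWc
  apply num1 hq
  calc 2 * (Nat.card F * (Nat.card F * Nat.card F)) ≤ 2 * (Nat.card W * Nat.card V) :=
        Nat.mul_le_mul_left _ (Nat.mul_le_mul hWc hVc)
    _ ≤ Nat.card X := hXcard
    _ = Nat.card X' := hcard.symm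
    _ ≤ _ := hbound
    _ ≤ (2 * Nat.card F) * (2 * Nat.card F) := Nat.mul_le_mul b1 b2

/-- types `(φγ, φγ)` against `(φγ, 1)` -/
theorem rank_gt (hq : 4 ≤ Nat.card F) {x y g : G} (hx : x ∈ S) (hxx : x * x = 1)
    (hxe : x = g⁻¹ * y * g) (hmap : ∀ z ∈ cen S x, g * z * g⁻¹ ∈ cen S y) {σ : F ≃+* F} (hσ1 : σ ≠ 1)
    (hσσ : σ * σ = 1)
    (hT : ∀ z ∈ S, z * z = 1 → (om fr1 z = 1 ∨ om fr1 z = (σ, -1)) ∧ (om fr2 z = 1 ∨ om fr2 z = (σ, -1)))
    (hy1 : om fr1 y = (σ, -1)) (hy2 : om fr2 y = (σ, -1)) (hx1 : om fr1 x = (σ, -1)) (hx2 : om fr2 x = 1) :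
    False := by
  obtain ⟨W, hW, hW2, hWx, hWc⟩ := exists_gt h.odd1 (gt_of_om h.ad1 h.norm1 hx hx1)
  obtain ⟨V, hV, hV2, hVx, hVc⟩ := exists_one h.odd2 h.perf2 (h.norm2 hx) hxx (ft_of_om h.ad2 h.norm2 hx hx2)
  obtain ⟨X, hXc, hxX, hX2, hXcard⟩ := h.exists_big hx hxx (by
    rw [hx1]; intro he; exact hσ1 (congrArg Prod.fst he)) hW hV hW2 hV2 hWx hVx
  obtain ⟨X', hXS, hyX, hX'2, hcard⟩ := move hXc hxX hX2 hxe hmap
  obtain ⟨W1, W2, hU1, hU2, hs1, hs2, hc1, hc2, hbound⟩ := h.exists_parts hXS hX'2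
  have b1 := bound_gt h.odd1 h.ad1 h.norm1 hXS hX'2 hU1 hs1 hc1 hyX hy1 (fun z hz => (hT z (hXS hz) (hX'2 z hz)).1)
  have b2 := bound_gt h.odd2 h.ad2 h.norm2 hXS hX'2 hU2 hs2 hc2 hyX hy2 (fun z hz => (hT z (hXS hz) (hX'2 z hz)).2)
  apply num2 hq (fx_sq hσσ hσ1)
  calc 2 * (fx σ * (Nat.card F * Nat.card F)) ≤ 2 * (Nat.card W * Nat.card V) :=
        Nat.mul_le_mul_left _ (Nat.mul_le_mul hWc hVc)
    _ ≤ Nat.card X := hXcard
    _ = Nat.card X' := hcard.symm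
    _ ≤ _ := hbound
    _ ≤ (2 * fx σ) * (2 * fx σ) := Nat.mul_le_mul b1 b2

/-! ### the types of involutions -/

/-- `c` occurs as the type `(c, c)` -/
def D (fr1 : FrameL3 A1 F) (fr2 : FrameL3 A2 F) (S : Subgroup G) (c : Ty F) : Prop :=
  ∃ z ∈ S, om fr1 z = c ∧ om fr2 z = c

omit [Finite G] in
theorem D_mul {c d : Ty F} (hc : D fr1 fr2 S c) (hd : D fr1 fr2 S d) : D fr1 fr2 S (c * d) := by
  obtain ⟨z, hz, e1, e2⟩ := hc
  obtain ⟨w, hw, e3, e4⟩ := hd
  exact ⟨z * w, mul_mem hz hw, by rw [om_mul fr1 (h.norm1 hz) (h.norm1 hw), e1, e3],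
    by rw [om_mul fr2 (h.norm2 hz) (h.norm2 hw), e2, e4]⟩

omit [Finite G] in
theorem diag_eq {s c : Ty F} (hD : D fr1 fr2 S s) (hg : ¬ D fr1 fr2 S (gm F)) (hs : s * s = 1) (hs1 : s.1 ≠ 1)
    (hc : D fr1 fr2 S c) (hcc : c * c = 1) : c = 1 ∨ c = s := by
  by_cases h1 : c.1 = 1
  · left
    rcases units_cases c.2 with h2 | h2
    · exact Prod.ext h1 h2
    · exfalso
      apply hg
      have : c = gm F := Prod.ext h1 h2
      rwa [this] at hc
  · right
    have h2 : c.1 = s.1 := unique_invol (congrArg Prod.fst hcc) (congrArg Prod.fst hs) h1 hs1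
    by_contra hne
    apply hg
    have h3 : c * s = gm F := by
      refine Prod.ext ?_ ?_
      · show c.1 * s.1 = 1
        rw [h2]; exact congrArg Prod.fst hs
      · show c.2 * s.2 = -1
        have h4 : c.2 ≠ s.2 := fun e => hne (Prod.ext h2 e)
        rcases units_cases c.2 with e | e <;> rcases units_cases s.2 with e' | e' <;> rw [e, e'] at h4 ⊢ <;>
          first | rfl | exact absurd rfl h4
    rw [← h3]
    exact h.D_mul hc hD

omit [Finite G] in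
theorem mixed_eq {s : Ty F} (hD : D fr1 fr2 S s) (hg : ¬ D fr1 fr2 S (gm F)) (hs : s * s = 1) (hs1 : s.1 ≠ 1)
    (hsw : ∀ z ∈ S, ∃ z' ∈ S, om fr1 z' = om fr2 z ∧ om fr2 z' = om fr1 z) {z : G} (hz : z ∈ S) (hzz : z * z = 1) :
    om fr1 z * om fr2 z = 1 ∨ om fr1 z * om fr2 z = s := by
  have e1 : om fr1 z * om fr1 z = 1 := by rw [← om_mul fr1 (h.norm1 hz) (h.norm1 hz), hzz, om_one]
  have e2 : om fr2 z * om fr2 z = 1 := by rw [← om_mul fr2 (h.norm2 hz) (h.norm2 hz), hzz, om_one]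
  obtain ⟨z', hz', e3, e4⟩ := hsw z hz
  refine h.diag_eq hD hg hs hs1 ⟨z * z', mul_mem hz hz', ?_, ?_⟩ ?_
  · rw [om_mul fr1 (h.norm1 hz) (h.norm1 hz'), e3]
  · rw [om_mul fr2 (h.norm2 hz) (h.norm2 hz'), e4, ty_comm]
  · calc om fr1 z * om fr2 z * (om fr1 z * om fr2 z) = om fr1 z * (om fr2 z * om fr1 z) * om fr2 z := by group
      _ = om fr1 z * (om fr1 z * om fr2 z) * om fr2 z := by rw [ty_comm (om fr2 z)]
      _ = (om fr1 z * om fr1 z) * (om fr2 z * om fr2 z) := by group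
      _ = 1 := by rw [e1, e2, mul_one]

omit [Finite G] in
/-- if `(s, 1)` occurs, the types of all involutions have components in `{1, s}` -/
theorem types_of {s : Ty F} (hD : D fr1 fr2 S s) (hg : ¬ D fr1 fr2 S (gm F)) (hs : s * s = 1) (hs1 : s.1 ≠ 1)
    (hsw : ∀ z ∈ S, ∃ z' ∈ S, om fr1 z' = om fr2 z ∧ om fr2 z' = om fr1 z) {x : G} (hx : x ∈ S)
    (hx1 : om fr1 x = s) (hx2 : om fr2 x = 1) {z : G} (hz : z ∈ S) (hzz : z * z = 1) :
    (om fr1 z = 1 ∨ om fr1 z = s) ∧ (om fr2 z = 1 ∨ om fr2 z = s) := by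
  have e1 : om fr1 z * om fr1 z = 1 := by rw [← om_mul fr1 (h.norm1 hz) (h.norm1 hz), hzz, om_one]
  have e2 : om fr2 z * om fr2 z = 1 := by rw [← om_mul fr2 (h.norm2 hz) (h.norm2 hz), hzz, om_one]
  rcases h.mixed_eq hD hg hs hs1 hsw hz hzz with e | e
  · have e3 : om fr2 z = om fr1 z := by
      calc om fr2 z = (om fr1 z * om fr1 z) * om fr2 z := by rw [e1, one_mul]
        _ = om fr1 z * (om fr1 z * om fr2 z) := by rw [mul_assoc]
        _ = om fr1 z := by rw [e, mul_one]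
    have h4 := h.diag_eq hD hg hs hs1 ⟨z, hz, rfl, e3⟩ e1
    exact ⟨h4, by rw [e3]; exact h4⟩
  · have e3 : om fr2 z = om fr1 z * s := by
      calc om fr2 z = (om fr1 z * om fr1 z) * om fr2 z := by rw [e1, one_mul]
        _ = om fr1 z * (om fr1 z * om fr2 z) := by rw [mul_assoc]
        _ = om fr1 z * s := by rw [e]
    have h5 : (om fr1 z * s) * (om fr1 z * s) = 1 := by rw [← e3]; exact e2
    have h4 := h.diag_eq hD hg hs hs1 (c := om fr1 z * s) ⟨x * z, mul_mem hx hz, by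
      rw [om_mul fr1 (h.norm1 hx) (h.norm1 hz), hx1, ty_comm], by
      rw [om_mul fr2 (h.norm2 hx) (h.norm2 hz), hx2, one_mul, e3]⟩ h5
    refine ⟨?_, by rw [e3]; exact h4⟩
    rcases h4 with h4 | h4
    · right
      calc om fr1 z = om fr1 z * (s * s) := by rw [hs, mul_one]
        _ = (om fr1 z * s) * s := by rw [mul_assoc]
        _ = s := by rw [h4, one_mul]
    · left
      calc om fr1 z = om fr1 z * (s * s) := by rw [hs, mul_one]
        _ = (om fr1 z * s) * s := by rw [mul_assoc]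
        _ = 1 := by rw [h4, hs]

/-- case `s = γ`, the second type without field part -/
theorem caseA (hq : 4 ≤ Nat.card F) {x y g : G} (hy : y ∈ S) (hyy : y * y = 1) (hx : x ∈ S) (hxx : x * x = 1)
    (hxe : x = g⁻¹ * y * g) (hmap : ∀ z ∈ cen S x, g * z * g⁻¹ ∈ cen S y)
    (hcard : Nat.card (cen S x) = Nat.card (cen S y))
    (hy1 : om fr1 y = gm F) (hy2 : om fr2 y = gm F) (hne : om fr1 x ≠ om fr2 x) (hx2 : (om fr2 x).1 = 1) : False := by
  have hS0 : 0 < Nat.card S := Nat.card_pos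
  have k1 := h.card_le_cen hx hxx
  have k2 := h.cen_le hy
  rw [← hcard] at k2
  have k3 := C_gt_one h.odd1 h.perf1 (h.norm1 hy) (by rw [hyy]; exact one_mem _) (gt_of_om h.ad1 h.norm1 hy hy1)
  have k4 := C_gt_one h.odd2 h.perf2 (h.norm2 hy) (by rw [hyy]; exact one_mem _) (gt_of_om h.ad2 h.norm2 hy hy2)
  have k5 := num3 hq hS0 k1 k2 k3 k4
  have j2 := J_nofield h.odd2 h.perf2 h.norm2 h.ad2 hx hxx hx2
  by_cases hx1 : (om fr1 x).1 = 1
  · rcases units_cases (om fr1 x).2 with e | e <;> rcases units_cases (om fr2 x).2 with e' | e'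
    · exact hne (Prod.ext (hx1.trans hx2.symm) (e.trans e'.symm))
    · exact h.symm.rank_gm hq hx hxx hxe hmap hy2 hy1 (Prod.ext hx2 e') (Prod.ext hx1 e)
    · exact h.rank_gm hq hx hxx hxe hmap hy1 hy2 (Prod.ext hx1 e) (Prod.ext hx2 e')
    · exact hne (Prod.ext (hx1.trans hx2.symm) (e.trans e'.symm))
  · have e1 : om fr1 x * om fr1 x = 1 := by rw [← om_mul fr1 (h.norm1 hx) (h.norm1 hx), hxx, om_one]
    exact num4 hq (fx_sq (congrArg Prod.fst e1) hx1) k5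
      (J_field h.odd1 h.perf1 h.norm1 h.ad1 hx hxx hx1) j2

/-- case `s ≠ γ` -/
theorem caseB (hq : 4 ≤ Nat.card F) {x y g : G} (hy : y ∈ S) (hyy : y * y = 1) (hx : x ∈ S) (hxx : x * x = 1)
    (hxe : x = g⁻¹ * y * g) (hmap : ∀ z ∈ cen S x, g * z * g⁻¹ ∈ cen S y)
    (hcard : Nat.card (cen S x) = Nat.card (cen S y)) {s : Ty F} (hs1 : s.1 ≠ 1) (hs : s * s = 1)
    (hg : ¬ D fr1 fr2 S (gm F)) (hsw : ∀ z ∈ S, ∃ z' ∈ S, om fr1 z' = om fr2 z ∧ om fr2 z' = om fr1 z)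
    (hy1 : om fr1 y = s) (hy2 : om fr2 y = s) (hne : om fr1 x ≠ om fr2 x) (hx2 : (om fr2 x).1 = 1) : False := by
  have hD : D fr1 fr2 S s := ⟨y, hy, hy1, hy2⟩
  have e1 : om fr1 x * om fr1 x = 1 := by rw [← om_mul fr1 (h.norm1 hx) (h.norm1 hx), hxx, om_one]
  have e2 : om fr2 x * om fr2 x = 1 := by rw [← om_mul fr2 (h.norm2 hx) (h.norm2 hx), hxx, om_one]
  have hprod : om fr1 x * om fr2 x = s := by
    refine (h.mixed_eq hD hg hs hs1 hsw hx hxx).resolve_left (fun e => hne ?_)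
    calc om fr1 x = om fr1 x * (om fr2 x * om fr2 x) := by rw [e2, mul_one]
      _ = (om fr1 x * om fr2 x) * om fr2 x := by rw [mul_assoc]
      _ = om fr2 x := by rw [e, one_mul]
  have hx1 : om fr1 x = s * om fr2 x := by
    calc om fr1 x = om fr1 x * (om fr2 x * om fr2 x) := by rw [e2, mul_one]
      _ = (om fr1 x * om fr2 x) * om fr2 x := by rw [mul_assoc]
      _ = s * om fr2 x := by rw [hprod]
  have hσσ : s.1 * s.1 = 1 := congrArg Prod.fst hs
  rcases units_cases (om fr2 x).2 with e' | e'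
  · -- types `(s, 1)`
    have hx2' : om fr2 x = 1 := Prod.ext hx2 e'
    rw [hx2', mul_one] at hx1
    rcases units_cases s.2 with e | e
    · have hse : s = (s.1, 1) := Prod.ext rfl e
      rw [hse] at hy1 hy2 hx1
      exact h.rank_ft hq hx hxx hxe hmap hs1 hσσ hy1 hy2 hx1 hx2'
    · have hse : s = (s.1, -1) := Prod.ext rfl e
      have hT : ∀ z ∈ S, z * z = 1 → (om fr1 z = 1 ∨ om fr1 z = (s.1, -1)) ∧ (om fr2 z = 1 ∨ om fr2 z = (s.1, -1)) := by
        intro z hz hzz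
        have := h.types_of hD hg hs hs1 hsw hx hx1 hx2' hz hzz
        rwa [← hse]
      rw [hse] at hy1 hy2 hx1
      exact h.rank_gt hq hx hxx hxe hmap hs1 hσσ hT hy1 hy2 hx1 hx2'
  · -- types `(s γ, γ)`
    have hx2' : om fr2 x = gm F := Prod.ext hx2 e'
    have hx1' : (om fr1 x).1 = s.1 := by
      rw [hx1]
      show s.1 * (om fr2 x).1 = s.1
      rw [hx2, mul_one]
    have hS0 : 0 < Nat.card S := Nat.card_pos
    have k1 := h.card_le_cen hy hyy
    have k2 := h.cen_le hx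
    rw [hcard] at k2
    have hy1' : (om fr1 y).1 = s.1 := by rw [hy1]
    have hy2' : (om fr2 y).1 = s.1 := by rw [hy2]
    have k3 := J_field h.odd1 h.perf1 h.norm1 h.ad1 hy hyy (by rw [hy1']; exact hs1)
    have k4 := J_field h.odd2 h.perf2 h.norm2 h.ad2 hy hyy (by rw [hy2']; exact hs1)
    have k5 := C_field h.odd1 h.norm1 h.ad1 hx hxx (by rw [hx1']; exact hs1)
    rw [hy1'] at k3
    rw [hy2'] at k4
    rw [hx1'] at k5
    have k6 := C_gt_one h.odd2 h.perf2 (h.norm2 hx) (by rw [hxx]; exact one_mem _) (gt_of_om h.ad2 h.norm2 hx hx2')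
    exact num6 hq (fx_sq hσσ hs1) hS0 k1 k3 k4 k2 k5 k6

/-- **The table.** -/
theorem htab (hq : 4 ≤ Nat.card F) {y g : G} (hy : y ∈ S) (hyy : y * y = 1) (hs1 : om fr1 y ≠ 1)
    (hy12 : om fr2 y = om fr1 y) (hg : D fr1 fr2 S (gm F) → om fr1 y = gm F)
    (hsw : ∀ z ∈ S, ∃ z' ∈ S, om fr1 z' = om fr2 z ∧ om fr2 z' = om fr1 z)
    (hx : g⁻¹ * y * g ∈ S) (hne : om fr1 (g⁻¹ * y * g) ≠ om fr2 (g⁻¹ * y * g)) :
    (cen S y).map (MulAut.conj g⁻¹).toMonoidHom ≠ cen S (g⁻¹ * y * g) := by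
  intro heq
  obtain ⟨x, hxe⟩ : ∃ x, x = g⁻¹ * y * g := ⟨_, rfl⟩
  rw [← hxe] at hx hne heq
  have hxx : x * x = 1 := by
    rw [hxe]
    calc g⁻¹ * y * g * (g⁻¹ * y * g) = g⁻¹ * (y * y) * g := by group
      _ = 1 := by rw [hyy]; group
  have hmap : ∀ z ∈ cen S x, g * z * g⁻¹ ∈ cen S y := by
    intro z hz
    rw [← heq] at hz
    obtain ⟨w, hw, rfl⟩ := hz
    have e : g * (MulAut.conj g⁻¹).toMonoidHom w * g⁻¹ = w := by
      show g * (g⁻¹ * w * g⁻¹⁻¹) * g⁻¹ = w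
      group
    rw [e]; exact hw
  have hcard : Nat.card (cen S x) = Nat.card (cen S y) := by
    rw [← heq]
    exact Subgroup.card_map_of_injective (MulEquiv.injective _)
  have e1 : om fr1 x * om fr1 x = 1 := by rw [← om_mul fr1 (h.norm1 hx) (h.norm1 hx), hxx, om_one]
  have e2 : om fr2 x * om fr2 x = 1 := by rw [← om_mul fr2 (h.norm2 hx) (h.norm2 hx), hxx, om_one]
  have hss : om fr1 y * om fr1 y = 1 := by rw [← om_mul fr1 (h.norm1 hy) (h.norm1 hy), hyy, om_one]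
  by_cases hgm : D fr1 fr2 S (gm F)
  · have hy1 := hg hgm
    have hy2 : om fr2 y = gm F := hy12.trans hy1
    by_cases h2 : (om fr2 x).1 = 1
    · exact h.caseA hq hy hyy hx hxx hxe hmap hcard hy1 hy2 hne h2
    by_cases h1 : (om fr1 x).1 = 1
    · exact h.symm.caseA hq hy hyy hx hxx hxe hmap hcard hy2 hy1 (Ne.symm hne) h1
    -- both with field part
    have hS0 : 0 < Nat.card S := Nat.card_pos
    have k1 := h.card_le_cen hx hxx
    have k2 := h.cen_le hy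
    rw [← hcard] at k2
    have k3 := C_gt_one h.odd1 h.perf1 (h.norm1 hy) (by rw [hyy]; exact one_mem _) (gt_of_om h.ad1 h.norm1 hy hy1)
    have k4 := C_gt_one h.odd2 h.perf2 (h.norm2 hy) (by rw [hyy]; exact one_mem _) (gt_of_om h.ad2 h.norm2 hy hy2)
    have k5 := num3 hq hS0 k1 k2 k3 k4
    have k6 := J_field h.odd1 h.perf1 h.norm1 h.ad1 hx hxx h1
    have k7 := J_field h.odd2 h.perf2 h.norm2 h.ad2 hx hxx h2
    have h3 : (om fr2 x).1 = (om fr1 x).1 := unique_invol (congrArg Prod.fst e2) (congrArg Prod.fst e1) h2 h1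
    rw [h3] at k7
    exact num5 hq (fx_sq (congrArg Prod.fst e1) h1) k5 k6 k7
  · -- no `(γ, γ)`
    have hsf : (om fr1 y).1 ≠ 1 := by
      intro h1
      rcases units_cases (om fr1 y).2 with e | e
      · exact hs1 (Prod.ext h1 e)
      · exact hgm ⟨y, hy, Prod.ext h1 e, hy12.trans (Prod.ext h1 e)⟩
    by_cases h2 : (om fr2 x).1 = 1
    · exact h.caseB hq hy hyy hx hxx hxe hmap hcard hsf hss hgm hsw rfl hy12 hne h2
    by_cases h1 : (om fr1 x).1 = 1
    · refine h.symm.caseB hq hy hyy hx hxx hxe hmap hcard hsf hss ?_ ?_ hy12 rfl (Ne.symm hne) h1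
      · rintro ⟨z, hz, e3, e4⟩
        exact hgm ⟨z, hz, e4, e3⟩
      · intro z hz
        obtain ⟨z', hz', e3, e4⟩ := hsw z hz
        exact ⟨z', hz', e4, e3⟩
    -- both with field part: the product of the types has no field part
    have h3 : (om fr2 x).1 = (om fr1 x).1 := unique_invol (congrArg Prod.fst e2) (congrArg Prod.fst e1) h2 h1
    have h4 : (om fr1 x * om fr2 x).1 = 1 := by
      show (om fr1 x).1 * (om fr2 x).1 = 1
      rw [h3]; exact congrArg Prod.fst e1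
    rcases h.mixed_eq ⟨y, hy, rfl, hy12⟩ hgm hss hsf hsw hx hxx with e | e
    · apply hne
      calc om fr1 x = om fr1 x * (om fr2 x * om fr2 x) := by rw [e2, mul_one]
        _ = (om fr1 x * om fr2 x) * om fr2 x := by rw [mul_assoc]
        _ = om fr2 x := by rw [e, one_mul]
    · rw [e] at h4
      exact hsf h4

end Two

end Cfsg.Agent.StdRank2.L3W.Tab
end

-- part: StdRank2/L3W/Last
section
/-!
# Wreath case of type `L₃(q)`: `P ∩ E = U₁ U₂` from `Wr` and `S₀ ≤ E`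

Type homomorphism `ψ = om fr` on `S₀ = P ∩ N(G₁) ∩ N(G₂)`, existence of the diagonal involution `y`, uniqueness of its
class, fusion (M3'), and the table `Two.htab`.
-/

set_option autoImplicit false

namespace Cfsg.Agent.StdRank2.L3W

open Subgroup Cfsg.Agent.StdRank2.OutL3Inv Cfsg.Agent.StdRank2.OutL3Je Cfsg.Agent.StdRank2.OutL3Rel
  Cfsg.Agent.StdRank2.OutSplit Cfsg.Agent.StdRank2.L3W6.Types Cfsg.Agent.StdRank2.L3W.Tab
  Cfsg.Agent.StdRank2.L3W.Elem Cfsg.Agent.StdRank2.OutField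

variable {G : Type*} [Group G] [Finite G] {F : Type*} [Field F] [Finite F] [CharP F 2] {G1 G2 : Subgroup G}
  {fr : FrameL3 G1 F} {fr' : FrameL3 G2 F} {E : Subgroup G} {P : Sylow 2 G} {t : G}

/-- the types form a commutative group -/
noncomputable abbrev tyComm (F : Type*) [Field F] [Finite F] [CharP F 2] : CommGroup (Ty F) :=
  { (inferInstance : Group (Ty F)) with mul_comm := ty_comm }

namespace Wr

variable (W : Wr fr fr' E P t)
include W

theorem two : Two fr fr' (P ⊓ NN G1 G2 : Subgroup G) where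
  odd1 := W.oddZ
  odd2 := W.oddZ'
  perf1 := W.perf1
  perf2 := W.perf2
  comm := W.comm
  norm1 := fun _ hx => (mem_inf.1 (mem_inf.1 hx).2).1
  norm2 := fun _ hx => (mem_inf.1 (mem_inf.1 hx).2).2
  ad1 := W.adapted
  ad2 := W.adapted'
  U1 := W.U_le_S0
  U2 := W.U'_le_S0
  cent := by
    intro c hc h1 h2
    obtain ⟨k, hk⟩ := P.isPGroup' ⟨c, (mem_inf.1 hc).1⟩
    refine W.cent c (fun x hx => (mem_centralizer_iff.1 h1 x hx).symm)
      (fun x hx => (mem_centralizer_iff.1 h2 x hx).symm) ⟨k, congrArg Subtype.val hk⟩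

/-- transport of exact elements by `t` -/
theorem fld_t {f : G} {σ : F ≃+* F} (h : Fld fr' f σ) : Fld fr (t * f * t) σ := by
  intro i j hij s
  have ht := W.ti
  have e1 : t * fr'.x i j (σ s) * t⁻¹ = fr.x i j (σ s) := by
    rw [W.frame, ht]
    calc t * (t * fr.x i j (σ s) * t) * t = (t * t) * fr.x i j (σ s) * (t * t) := by group
      _ = fr.x i j (σ s) := by rw [W.tt, one_mul, mul_one]
  rw [← e1, ← h i j hij s, W.frame, mul_inv_rev, mul_inv_rev, ht]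
  group

theorem grf_t {f : G} {σ : F ≃+* F} (h : Grf fr' f σ) : Grf fr (t * f * t) σ := by
  intro i j hij s
  have ht := W.ti
  have e1 : t * fr'.x j.rev i.rev (σ s) * t⁻¹ = fr.x j.rev i.rev (σ s) := by
    rw [W.frame, ht]
    calc t * (t * fr.x j.rev i.rev (σ s) * t) * t = (t * t) * fr.x j.rev i.rev (σ s) * (t * t) := by group
      _ = fr.x j.rev i.rev (σ s) := by rw [W.tt, one_mul, mul_one]
  rw [← e1, ← h i j hij s, W.frame, mul_inv_rev, mul_inv_rev, ht]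
  group

theorem fld_t' {f : G} {σ : F ≃+* F} (h : Fld fr f σ) : Fld fr' (t * f * t) σ := by
  intro i j hij s
  have ht := W.ti
  have e : t * f * t * fr'.x i j s * (t * f * t)⁻¹ = t * (f * fr.x i j s * f⁻¹) * t := by
    rw [W.frame, mul_inv_rev, mul_inv_rev, ht]
    calc t * f * t * (t * fr.x i j s * t) * (t * (f⁻¹ * t)) =
          t * f * (t * t) * fr.x i j s * (t * t) * f⁻¹ * t := by group
      _ = t * (f * fr.x i j s * f⁻¹) * t := by rw [W.tt]; group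
  rw [e, h i j hij s, W.frame, ht]

theorem grf_t' {f : G} {σ : F ≃+* F} (h : Grf fr f σ) : Grf fr' (t * f * t) σ := by
  intro i j hij s
  have ht := W.ti
  have e : t * f * t * fr'.x i j s * (t * f * t)⁻¹ = t * (f * fr.x i j s * f⁻¹) * t := by
    rw [W.frame, mul_inv_rev, mul_inv_rev, ht]
    calc t * f * t * (t * fr.x i j s * t) * (t * (f⁻¹ * t)) =
          t * f * (t * t) * fr.x i j s * (t * t) * f⁻¹ * t := by group
      _ = t * (f * fr.x i j s * f⁻¹) * t := by rw [W.tt]; group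
  rw [e, h i j hij s, W.frame, ht]

theorem om_t {x : G} (hx : x ∈ (P ⊓ NN G1 G2 : Subgroup G)) : om fr (t * x * t) = om fr' x := by
  have hx' := W.t_S0 hx
  have hT := W.two
  obtain ⟨u, hu, σ, -, h | h⟩ := W.adapted' x hx
  · have h1 : FT fr' x σ := ⟨u, hu, h⟩
    have h2 : FT fr (t * x * t) σ := by
      refine ⟨t * u * t, ?_, ?_⟩
      · have := W.t_U' hu
        rwa [W.ti] at this
      · have e : t * u * t * (t * x * t) = t * (u * x) * t := by
          calc t * u * t * (t * x * t) = t * u * (t * t) * x * t := by group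
            _ = t * (u * x) * t := by rw [W.tt]; group
        rw [e]
        exact W.fld_t h
    rw [om_ft fr (hT.norm1 hx') h2, om_ft fr' (hT.norm2 hx) h1]
  · have h1 : GT fr' x σ := ⟨u, hu, h⟩
    have h2 : GT fr (t * x * t) σ := by
      refine ⟨t * u * t, ?_, ?_⟩
      · have := W.t_U' hu
        rwa [W.ti] at this
      · have e : t * u * t * (t * x * t) = t * (u * x) * t := by
          calc t * u * t * (t * x * t) = t * u * (t * t) * x * t := by group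
            _ = t * (u * x) * t := by rw [W.tt]; group
        rw [e]
        exact W.grf_t h
    rw [om_gt fr (hT.norm1 hx') h2, om_gt fr' (hT.norm2 hx) h1]

omit [Finite G] [Finite F] [CharP F 2] in
theorem tt_conj (x : G) : t * (t * x * t) * t = x := by
  calc t * (t * x * t) * t = (t * t) * x * (t * t) := by group
    _ = x := by rw [W.tt, one_mul, mul_one]

theorem om_t' {x : G} (hx : x ∈ (P ⊓ NN G1 G2 : Subgroup G)) : om fr' (t * x * t) = om fr x := by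
  have h := W.om_t (W.t_S0 hx)
  rw [W.tt_conj] at h
  exact h.symm

/-- the kernel -/
theorem mem_N_iff {x : G} (hx : x ∈ (P ⊓ NN G1 G2 : Subgroup G)) :
    x ∈ fr.U ⊔ fr'.U ↔ om fr x = 1 ∧ om fr' x = 1 := by
  have hT := W.two
  constructor
  · intro h
    obtain ⟨a, ha, b, hb, rfl⟩ := W.sup_mem h
    have na1 := hT.norm1 (hT.U1 ha)
    have na2 := hT.norm2 (hT.U1 ha)
    have nb1 := hT.norm1 (hT.U2 hb)
    have nb2 := hT.norm2 (hT.U2 hb)
    refine ⟨?_, ?_⟩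
    · rw [om_mul fr na1 nb1, om_mem fr (fr.U_le ha), om_centralizer fr (hT.cA1 (fr'.U_le hb)) nb1, mul_one]
    · rw [om_mul fr' na2 nb2, om_mem fr' (fr'.U_le hb), om_centralizer fr' (hT.cA2 (fr.U_le ha)) na2, mul_one]
  · rintro ⟨h1, h2⟩
    obtain ⟨a, ha, b, hb, rfl⟩ := hT.exists_mul hx h1 h2
    exact mul_mem (mem_sup_left ha) (mem_sup_right hb)

/-- an element of `P ∖ S₀` centralising `x ∈ S₀` -/
theorem om_eq_of_comm {u x : G} (hu : u ∈ (P : Subgroup G)) (hu0 : u ∉ (P ⊓ NN G1 G2 : Subgroup G))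
    (hx : x ∈ (P ⊓ NN G1 G2 : Subgroup G)) (hc : u * x = x * u) : om fr' x = om fr x := by
  have hT := W.two
  have hs : t * u ∈ (P ⊓ NN G1 G2 : Subgroup G) :=
    mem_inf.2 ⟨mul_mem W.tP hu, (W.P_le u hu).resolve_left (fun h => hu0 (mem_inf.mpr ⟨hu, h⟩))⟩
  have e : t * x * t = (t * u) * x * (t * u)⁻¹ := by
    rw [mul_inv_rev, W.ti]
    calc t * x * t = t * (x * u) * u⁻¹ * t := by group
      _ = t * (u * x) * u⁻¹ * t := by rw [hc]
      _ = t * u * x * (u⁻¹ * t) := by group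
  rw [← W.om_t hx, e, om_conj fr (hT.norm1 hx) (hT.norm1 hs)]

/-- (M3') -/
theorem fusion {y g : G} (hy : y ∈ (P ⊓ NN G1 G2 : Subgroup G)) (hyt : y * t = t * y)
    (hg : g⁻¹ * t * g ∈ (P : Subgroup G)) (hgy : g⁻¹ * y * g ∈ (P : Subgroup G)) :
    g⁻¹ * y * g ∈ (P ⊓ NN G1 G2 : Subgroup G) ∧ om fr (g⁻¹ * y * g) = om fr y ∧ om fr' (g⁻¹ * y * g) = om fr' y := by
  have key : ∀ m ∈ NN G1 G2, m⁻¹ * y * m ∈ NN G1 G2 ∧ om fr (m⁻¹ * y * m) = om fr y ∧
      om fr' (m⁻¹ * y * m) = om fr' y := by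
    intro m hm
    have hyN := (mem_inf.1 hy).2
    refine ⟨mul_mem (mul_mem (inv_mem hm) hyN) hm, ?_, ?_⟩
    · exact om_conj' fr (mem_inf.1 hyN).1 (mem_inf.1 hm).1
    · exact om_conj' fr' (mem_inf.1 hyN).2 (mem_inf.1 hm).2
  rcases W.fix g (W.P_le _ hg) with h | h
  · obtain ⟨h1, h2, h3⟩ := key g h
    exact ⟨mem_inf.2 ⟨hgy, h1⟩, h2, h3⟩
  · have e : (t * g)⁻¹ * y * (t * g) = g⁻¹ * y * g := by
      rw [mul_inv_rev, W.ti]
      calc g⁻¹ * t * y * (t * g) = g⁻¹ * (t * y) * t * g := by group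
        _ = g⁻¹ * (y * t) * t * g := by rw [hyt]
        _ = g⁻¹ * y * (t * t) * g := by group
        _ = g⁻¹ * y * g := by rw [W.tt, mul_one]
    obtain ⟨h1, h2, h3⟩ := key (t * g) h
    rw [e] at h1 h2 h3
    exact ⟨mem_inf.2 ⟨hgy, h1⟩, h2, h3⟩

omit [Finite G] [Finite F] [CharP F 2] in
theorem conj_mul_comm {u v z x : G} (hv : v * (z * x * z⁻¹) = (z * x * z⁻¹) * v) :
    (u * v * z) * x * (u * v * z)⁻¹ = (u * z) * x * (u * z)⁻¹ := by
  calc (u * v * z) * x * (u * v * z)⁻¹ = u * (v * (z * x * z⁻¹)) * v⁻¹ * u⁻¹ := by group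
    _ = u * ((z * x * z⁻¹) * v) * v⁻¹ * u⁻¹ := by rw [hv]
    _ = (u * z) * x * (u * z)⁻¹ := by group

/-- **existence of the diagonal involution** of type `(c, c)` commuting with `t`, exact on both frames -/
theorem exists_inv {c : Ty F} (hc : Two.D fr fr' (P ⊓ NN G1 G2 : Subgroup G) c) (hcc : c * c = 1) :
    ∃ y ∈ (P ⊓ NN G1 G2 : Subgroup G), y * y = 1 ∧ y * t = t * y ∧ om fr y = c ∧ om fr' y = c ∧
      ((Fld fr y c.1 ∧ Fld fr' y c.1) ∨ (Grf fr y c.1 ∧ Grf fr' y c.1)) := by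
  have hT := W.two
  obtain ⟨z, hz, h1, h2⟩ := hc
  have hσσ : c.1 * c.1 = 1 := congrArg Prod.fst hcc
  -- exact elements on the two frames
  have main : ∀ k ∈ (P ⊓ NN G1 G2 : Subgroup G),
      ((Fld fr k c.1 ∧ Fld fr' k c.1) ∨ (Grf fr k c.1 ∧ Grf fr' k c.1)) → k * k = 1 ∧ k * t = t * k := by
    intro k hk hkk
    have hcen : ∀ w ∈ (P ⊓ NN G1 G2 : Subgroup G), Fld fr w 1 → Fld fr' w 1 → w = 1 := fun w hw e1 e2 =>
      hT.cent w hw (mem_centralizer_of_fld_one hT.perf1 (hT.norm1 hw) e1)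
        (mem_centralizer_of_fld_one hT.perf2 (hT.norm2 hw) e2)
    have hkt := W.t_S0 hk
    have h3 : k * k = 1 := by
      rcases hkk with ⟨e1, e2⟩ | ⟨e1, e2⟩
      · have e3 := e1.mul e1
        have e4 := e2.mul e2
        rw [hσσ] at e3 e4
        exact hcen _ (mul_mem hk hk) e3 e4
      · have e3 := e1.mul e1
        have e4 := e2.mul e2
        rw [hσσ] at e3 e4
        exact hcen _ (mul_mem hk hk) e3 e4
    refine ⟨h3, ?_⟩
    have h4 : (t * k * t) * k = 1 := by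
      rcases hkk with ⟨e1, e2⟩ | ⟨e1, e2⟩
      · have e3 := (W.fld_t e2).mul e1
        have e4 := (W.fld_t' e1).mul e2
        rw [hσσ] at e3 e4
        exact hcen _ (mul_mem hkt hk) e3 e4
      · have e3 := (W.grf_t e2).mul e1
        have e4 := (W.grf_t' e1).mul e2
        rw [hσσ] at e3 e4
        exact hcen _ (mul_mem hkt hk) e3 e4
    have h5 : t * k * t = k := by
      calc t * k * t = (t * k * t) * (k * k) := by rw [h3, mul_one]
        _ = (t * k * t * k) * k := by group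
        _ = k := by rw [h4, one_mul]
    calc k * t = (t * k * t) * t := by rw [h5]
      _ = t * k * (t * t) := by group
      _ = t * k := by rw [W.tt, mul_one]
  have hnorm1 : ∀ x ∈ G1, z * x * z⁻¹ ∈ G1 := fun x hx => (mem_normalizer_iff.1 (hT.norm1 hz) x).1 hx
  have hnorm2 : ∀ x ∈ G2, z * x * z⁻¹ ∈ G2 := fun x hx => (mem_normalizer_iff.1 (hT.norm2 hz) x).1 hx
  rcases units_cases c.2 with e | e
  · obtain ⟨u1, hu1, f1⟩ := ft_of_om hT.ad1 hT.norm1 hz (σ := c.1) (h1.trans (Prod.ext rfl e))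
    obtain ⟨u2, hu2, f2⟩ := ft_of_om hT.ad2 hT.norm2 hz (σ := c.1) (h2.trans (Prod.ext rfl e))
    have hcomm : u1 * u2 = u2 * u1 := W.comm _ (fr.U_le hu1) _ (fr'.U_le hu2)
    have g1 : Fld fr (u1 * u2 * z) c.1 := by
      intro i j hij s
      rw [W.conj_mul_comm (W.comm _ (hnorm1 _ (fr.mem hij s)) _ (fr'.U_le hu2)).symm]
      exact f1 i j hij s
    have g2 : Fld fr' (u1 * u2 * z) c.1 := by
      intro i j hij s
      rw [hcomm, W.conj_mul_comm (W.comm _ (fr.U_le hu1) _ (hnorm2 _ (fr'.mem hij s)))]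
      exact f2 i j hij s
    have hk : u1 * u2 * z ∈ (P ⊓ NN G1 G2 : Subgroup G) := mul_mem (mul_mem (hT.U1 hu1) (hT.U2 hu2)) hz
    obtain ⟨h3, h4⟩ := main _ hk (Or.inl ⟨g1, g2⟩)
    exact ⟨_, hk, h3, h4, (om_fld fr (hT.norm1 hk) g1).trans (Prod.ext rfl e.symm),
      (om_fld fr' (hT.norm2 hk) g2).trans (Prod.ext rfl e.symm), Or.inl ⟨g1, g2⟩⟩
  · obtain ⟨u1, hu1, f1⟩ := gt_of_om hT.ad1 hT.norm1 hz (σ := c.1) (h1.trans (Prod.ext rfl e))
    obtain ⟨u2, hu2, f2⟩ := gt_of_om hT.ad2 hT.norm2 hz (σ := c.1) (h2.trans (Prod.ext rfl e))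
    have hcomm : u1 * u2 = u2 * u1 := W.comm _ (fr.U_le hu1) _ (fr'.U_le hu2)
    have g1 : Grf fr (u1 * u2 * z) c.1 := by
      intro i j hij s
      rw [W.conj_mul_comm (W.comm _ (hnorm1 _ (fr.mem hij s)) _ (fr'.U_le hu2)).symm]
      exact f1 i j hij s
    have g2 : Grf fr' (u1 * u2 * z) c.1 := by
      intro i j hij s
      rw [hcomm, W.conj_mul_comm (W.comm _ (fr.U_le hu1) _ (hnorm2 _ (fr'.mem hij s)))]
      exact f2 i j hij s
    have hk : u1 * u2 * z ∈ (P ⊓ NN G1 G2 : Subgroup G) := mul_mem (mul_mem (hT.U1 hu1) (hT.U2 hu2)) hz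
    obtain ⟨h3, h4⟩ := main _ hk (Or.inr ⟨g1, g2⟩)
    exact ⟨_, hk, h3, h4, (om_grf fr (hT.norm1 hk) g1).trans (Prod.ext rfl e.symm),
      (om_grf fr' (hT.norm2 hk) g2).trans (Prod.ext rfl e.symm), Or.inr ⟨g1, g2⟩⟩

end Wr

end Cfsg.Agent.StdRank2.L3W
end

-- part: StdRank2/L3W/LastMain
section
/-!
# Wreath case of type `L₃(q)`: `P ∩ E = U₁ U₂`
-/

set_option autoImplicit false

namespace Cfsg.Agent.StdRank2.L3W

open Subgroup Cfsg.Agent.StdRank2.OutL3Inv Cfsg.Agent.StdRank2.OutL3Je Cfsg.Agent.StdRank2.OutL3Rel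
  Cfsg.Agent.StdRank2.OutSplit Cfsg.Agent.StdRank2.L3W6.Types Cfsg.Agent.StdRank2.L3W.Tab
  Cfsg.Agent.StdRank2.L3W.Elem Cfsg.Agent.StdRank2.OutField

variable {G : Type*} [Group G] [Finite G] {F : Type*} [Field F] [Finite F] [CharP F 2] {G1 G2 : Subgroup G}
  {fr : FrameL3 G1 F} {fr' : FrameL3 G2 F} {E : Subgroup G} {P : Sylow 2 G} {t : G}

/-- a 2-power which has order exactly two -/
theorem exists_pow_two {M : Type*} [Monoid M] {a : M} (h1 : a ≠ 1) (h : ∃ n : ℕ, a ^ 2 ^ n = 1) :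
    ∃ k : ℕ, a ^ 2 ^ k ≠ 1 ∧ a ^ 2 ^ k * a ^ 2 ^ k = 1 := by
  classical
  have hn := Nat.find_spec h
  have hpos : Nat.find h ≠ 0 := by
    intro h0
    rw [h0, pow_zero, pow_one] at hn
    exact h1 hn
  obtain ⟨k, hk⟩ := Nat.exists_eq_succ_of_ne_zero hpos
  refine ⟨k, Nat.find_min h (by rw [hk]; exact Nat.lt_succ_self k), ?_⟩
  rw [hk] at hn
  rw [← pow_two, ← pow_mul, ← pow_succ]
  exact hn

namespace Wr

variable (W : Wr fr fr' E P t)
include W

theorem om_pow {z : G} (hz : z ∈ (P ⊓ NN G1 G2 : Subgroup G)) (n : ℕ) :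
    om fr (z ^ n) = om fr z ^ n ∧ om fr' (z ^ n) = om fr' z ^ n := by
  have hT := W.two
  induction n with
  | zero => rw [pow_zero, pow_zero, pow_zero]; exact ⟨om_one fr, om_one fr'⟩
  | succ n ih =>
    rw [pow_succ, pow_succ, pow_succ, om_mul fr (hT.norm1 (pow_mem hz n)) (hT.norm1 hz),
      om_mul fr' (hT.norm2 (pow_mem hz n)) (hT.norm2 hz), ih.1, ih.2]
    exact ⟨rfl, rfl⟩

/-- a diagonal type of order two -/
theorem exists_diag {x : G} (hx : x ∈ (P ⊓ NN G1 G2 : Subgroup G)) (hxN : x ∉ fr.U ⊔ fr'.U) :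
    ∃ c : Ty F, c ≠ 1 ∧ c * c = 1 ∧ Two.D fr fr' (P ⊓ NN G1 G2 : Subgroup G) c := by
  have hT := W.two
  have htwo : ∀ z ∈ (P ⊓ NN G1 G2 : Subgroup G), ∃ n : ℕ, z ^ 2 ^ n = 1 := by
    intro z hz
    obtain ⟨k, hk⟩ := P.isPGroup' ⟨z, (mem_inf.1 hz).1⟩
    exact ⟨k, congrArg Subtype.val hk⟩
  -- from a nontrivial diagonal type
  have step : ∀ z ∈ (P ⊓ NN G1 G2 : Subgroup G), om fr z ≠ 1 → om fr' z = om fr z →
      ∃ c : Ty F, c ≠ 1 ∧ c * c = 1 ∧ Two.D fr fr' (P ⊓ NN G1 G2 : Subgroup G) c := by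
    intro z hz h1 h2
    obtain ⟨n, hn⟩ := htwo z hz
    obtain ⟨k, hk1, hk2⟩ := exists_pow_two h1 ⟨n, by rw [← (W.om_pow hz _).1, hn, om_one]⟩
    exact ⟨_, hk1, hk2, z ^ 2 ^ k, pow_mem hz _, (W.om_pow hz _).1, by rw [(W.om_pow hz _).2, h2]⟩
  have hx' := W.t_S0 hx
  have e1 : om fr (x * (t * x * t)) = om fr x * om fr' x := by
    rw [om_mul fr (hT.norm1 hx) (hT.norm1 hx'), W.om_t hx]
  have e2 : om fr' (x * (t * x * t)) = om fr' x * om fr x := by
    rw [om_mul fr' (hT.norm2 hx) (hT.norm2 hx'), W.om_t' hx]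
  by_cases h : om fr x * om fr' x = 1
  · -- types `(a, a⁻¹)`
    have ha : om fr x ≠ 1 := by
      intro h1
      rw [h1, one_mul] at h
      exact hxN ((W.mem_N_iff hx).2 ⟨h1, h⟩)
    have hb : om fr' x = (om fr x)⁻¹ := (inv_eq_of_mul_eq_one_right h).symm
    obtain ⟨n, hn⟩ := htwo x hx
    obtain ⟨k, hk1, hk2⟩ := exists_pow_two ha ⟨n, by rw [← (W.om_pow hx _).1, hn, om_one]⟩
    refine ⟨_, hk1, hk2, x ^ 2 ^ k, pow_mem hx _, (W.om_pow hx _).1, ?_⟩
    rw [(W.om_pow hx _).2, hb, inv_pow]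
    exact inv_eq_of_mul_eq_one_right hk2
  · refine step _ (mul_mem hx hx') (by rw [e1]; exact h) ?_
    rw [e1, e2, ty_comm]

/-- **uniqueness of the class**: the involutions of `S₀` with the types of `y` are conjugate to `y` under `U₁U₂` -/
theorem conj_class {y w : G} (hy : y ∈ (P ⊓ NN G1 G2 : Subgroup G)) (hyy : y * y = 1) (hy1 : om fr y ≠ 1)
    (hy12 : om fr' y = om fr y)
    (hst : (Fld fr y (om fr y).1 ∧ Fld fr' y (om fr y).1) ∨ (Grf fr y (om fr y).1 ∧ Grf fr' y (om fr y).1))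
    (hw : w ∈ (P ⊓ NN G1 G2 : Subgroup G)) (hww : w * w = 1) (h1 : om fr w = om fr y) (h2 : om fr' w = om fr' y) :
    ∃ n ∈ (P ⊓ NN G1 G2 : Subgroup G), w = n * y * n⁻¹ := by
  have hT := W.two
  have hyi : y⁻¹ = y := inv_eq_of_mul_eq_one_right hyy
  have hm : y⁻¹ * w ∈ (P ⊓ NN G1 G2 : Subgroup G) := mul_mem (inv_mem hy) hw
  obtain ⟨v1, hv1, v2, hv2, e⟩ := hT.exists_mul hm
    (by rw [om_mul fr (inv_mem (hT.norm1 hy)) (hT.norm1 hw), om_inv fr (hT.norm1 hy), h1, inv_mul_cancel])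
    (by rw [om_mul fr' (inv_mem (hT.norm2 hy)) (hT.norm2 hw), om_inv fr' (hT.norm2 hy), h2, inv_mul_cancel])
  have hwe : w = y * (v1 * v2) := by rw [← e]; group
  have hcomm : v1 * v2 = v2 * v1 := W.comm _ (fr.U_le hv1) _ (fr'.U_le hv2)
  have hyc1 : y * y ∈ centralizer (G1 : Set G) := by rw [hyy]; exact one_mem _
  have hyc2 : y * y ∈ centralizer (G2 : Set G) := by rw [hyy]; exact one_mem _
  have hw1 : y * v1 * y⁻¹ ∈ fr.U := hT.conjU1 hy hv1
  have hw2 : y * v2 * y⁻¹ ∈ fr'.U := hT.conjU2 hy hv2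
  -- `(y v1)² (y⁻¹ v2 y) v2 = 1`
  have k1 : y * v1 * (y * v1) * ((y * v2 * y⁻¹) * v2) = 1 := by
    have k2 : w * w = y * v1 * (y * v1) * ((y * v2 * y⁻¹) * v2) := by
      have c1 : v1 * (y * v2 * y⁻¹) = (y * v2 * y⁻¹) * v1 := W.comm _ (fr.U_le hv1) _ (fr'.U_le hw2)
      have c2 : v2 * y = y * (y * v2 * y⁻¹) := by
        calc v2 * y = (y * y) * v2 * y := by rw [hyy, one_mul]
          _ = y * (y * v2 * y) := by group
          _ = y * (y * v2 * y⁻¹) := by rw [hyi]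
      calc w * w = y * (v1 * v2) * (y * (v1 * v2)) := by rw [hwe]
        _ = y * v1 * (v2 * y) * (v1 * v2) := by group
        _ = y * v1 * y * ((y * v2 * y⁻¹) * v1) * v2 := by rw [c2]; group
        _ = y * v1 * y * (v1 * (y * v2 * y⁻¹)) * v2 := by rw [c1]
        _ = y * v1 * (y * v1) * ((y * v2 * y⁻¹) * v2) := by group
    rw [← k2, hww]
  have k3 : (y * v1) * (y * v1) ∈ centralizer (G1 : Set G) := by
    have : (y * v1) * (y * v1) = ((y * v2 * y⁻¹) * v2)⁻¹ := eq_inv_of_mul_eq_one_left k1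
    rw [this]
    exact inv_mem (mul_mem (hT.cA1 (fr'.U_le hw2)) (hT.cA1 (fr'.U_le hv2)))
  have l1 : y * v2 * (y * v2) * ((y * v1 * y⁻¹) * v1) = 1 := by
    have k2 : w * w = y * v2 * (y * v2) * ((y * v1 * y⁻¹) * v1) := by
      have c1 : v2 * (y * v1 * y⁻¹) = (y * v1 * y⁻¹) * v2 := (W.comm _ (fr.U_le hw1) _ (fr'.U_le hv2)).symm
      have c2 : v1 * y = y * (y * v1 * y⁻¹) := by
        calc v1 * y = (y * y) * v1 * y := by rw [hyy, one_mul]
          _ = y * (y * v1 * y) := by group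
          _ = y * (y * v1 * y⁻¹) := by rw [hyi]
      calc w * w = y * (v2 * v1) * (y * (v2 * v1)) := by rw [hwe, hcomm]
        _ = y * v2 * (v1 * y) * (v2 * v1) := by group
        _ = y * v2 * y * ((y * v1 * y⁻¹) * v2) * v1 := by rw [c2]; group
        _ = y * v2 * y * (v2 * (y * v1 * y⁻¹)) * v1 := by rw [c1]
        _ = y * v2 * (y * v2) * ((y * v1 * y⁻¹) * v1) := by group
    rw [← k2, hww]
  have l3 : (y * v2) * (y * v2) ∈ centralizer (G2 : Set G) := by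
    have : (y * v2) * (y * v2) = ((y * v1 * y⁻¹) * v1)⁻¹ := eq_inv_of_mul_eq_one_left l1
    rw [this]
    exact inv_mem (mul_mem (hT.cA2 (fr.U_le hw1)) (hT.cA2 (fr.U_le hv1)))
  obtain ⟨a, ha, ea⟩ : ∃ a ∈ fr.U, y * v1 = a * y * a⁻¹ := by
    rcases hst with ⟨f1, -⟩ | ⟨f1, -⟩
    · refine conj_of_sq_fld W.oddZ f1 (fun h0 => hy1 ?_) hyc1 hv1 k3
      rw [om_fld fr (hT.norm1 hy) f1, h0]; rfl
    · exact conj_of_sq_grf W.oddZ f1 hyc1 hv1 k3
  obtain ⟨b, hb, eb⟩ : ∃ b ∈ fr'.U, y * v2 = b * y * b⁻¹ := by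
    rcases hst with ⟨-, f1⟩ | ⟨-, f1⟩
    · refine conj_of_sq_fld W.oddZ' f1 (fun h0 => hy1 ?_) hyc2 hv2 l3
      rw [← hy12, om_fld fr' (hT.norm2 hy) f1, h0]; rfl
    · exact conj_of_sq_grf W.oddZ' f1 hyc2 hv2 l3
  refine ⟨a * b, mul_mem (hT.U1 ha) (hT.U2 hb), ?_⟩
  have c3 : v2 * a⁻¹ = a⁻¹ * v2 := (W.comm _ (inv_mem (fr.U_le ha)) _ (fr'.U_le hv2)).symm
  symm
  calc a * b * y * (a * b)⁻¹ = a * (b * y * b⁻¹) * a⁻¹ := by group
    _ = a * (y * v2) * a⁻¹ := by rw [eb]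
    _ = a * y * (v2 * a⁻¹) := by group
    _ = a * y * (a⁻¹ * v2) := by rw [c3]
    _ = (a * y * a⁻¹) * v2 := by group
    _ = y * v1 * v2 := by rw [← ea]
    _ = w := by rw [hwe]; group

/-- **`P ∩ E = U₁ U₂`.** -/
theorem inf_eq (hq : 4 ≤ Nat.card F) (h1 : (P ⊓ NN G1 G2 : Subgroup G) ≤ E) :
    (P : Subgroup G) ⊓ E = fr.U ⊔ fr'.U := by
  have hT := W.two
  have hEn := W.normal
  letI : CommGroup (Ty F) := tyComm F
  let ψ : ↥(P ⊓ NN G1 G2 : Subgroup G) →* Ty F :=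
    { toFun := fun x => om fr (x : G)
      map_one' := om_one fr
      map_mul' := fun a b => om_mul fr (hT.norm1 a.2) (hT.norm1 b.2) }
  have hψ : ∀ x (hx : x ∈ (P ⊓ NN G1 G2 : Subgroup G)), ψ ⟨x, hx⟩ = om fr x := fun _ _ => rfl
  refine inf_eq_table (E := E) inf_le_left W.hidx W.tt W.tP W.tE W.perf h1 ψ (fun x hx => W.t_S0 hx) ?_
    (sup_le W.U_le_S0 W.U'_le_S0) ?_ ?_
  · intro x hx
    rw [hψ, hψ, W.om_t hx]
    exact W.mem_N_iff hx
  · intro u hu hu0 x hx hc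
    rw [hψ, hψ, W.om_t hx]
    exact W.om_eq_of_comm hu hu0 hx hc
  · intro hne
    -- a type
    obtain ⟨c, hc1, hcc, hcD, hcg⟩ : ∃ c : Ty F, c ≠ 1 ∧ c * c = 1 ∧
        Two.D fr fr' (P ⊓ NN G1 G2 : Subgroup G) c ∧
        (Two.D fr fr' (P ⊓ NN G1 G2 : Subgroup G) (gm F) → c = gm F) := by
      by_cases hg : Two.D fr fr' (P ⊓ NN G1 G2 : Subgroup G) (gm F)
      · refine ⟨gm F, ?_, ?_, hg, fun _ => rfl⟩
        · intro he
          exact absurd (congrArg Prod.snd he) (by show ¬ ((-1 : ℤˣ) = 1); decide)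
        · exact Prod.ext (mul_one _) (by show (-1 : ℤˣ) * (-1) = 1; decide)
      · obtain ⟨x, hx, hxN⟩ : ∃ x ∈ (P ⊓ NN G1 G2 : Subgroup G), x ∉ fr.U ⊔ fr'.U := by
          by_contra hcon
          push Not at hcon
          exact hne (le_antisymm hcon (sup_le W.U_le_S0 W.U'_le_S0))
        obtain ⟨c, h1, h2, h3⟩ := W.exists_diag hx hxN
        exact ⟨c, h1, h2, h3, fun h => absurd h hg⟩
    obtain ⟨y, hy, hyy, hyt, hy1, hy2, hst⟩ := W.exists_inv hcD hcc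
    refine ⟨y, hy, hyy, hyt, by rw [hψ, hy1]; exact hc1, ?_, ?_, ?_⟩
    · intro g hg hgy
      obtain ⟨h, e1, e2⟩ := W.fusion hy hyt hg hgy
      refine ⟨h, ?_, ?_⟩
      · rw [hψ, hψ, e1]
      · rw [hψ, hψ, W.om_t h, e2, hy2, hy1]
    · intro w hw hww e1 e2
      rw [hψ, hψ] at e1
      rw [hψ, hψ, W.om_t hw] at e2
      obtain ⟨n, hn, he⟩ := W.conj_class hy hyy (by rw [hy1]; exact hc1) (hy2.trans hy1.symm)
        (by rw [hy1]; exact hst) hw hww e1 (by rw [e2, hy1, hy2])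
      have hnP : n ∈ (P : Subgroup G) := (mem_inf.1 hn).1
      have hmem : ∀ x : cen (P : Subgroup G) w, n⁻¹ * (x : G) * n ∈ cen (P : Subgroup G) y := by
        rintro ⟨x, hx⟩
        obtain ⟨hxP, hxw⟩ := mem_cen.1 hx
        refine mem_cen.2 ⟨mul_mem (mul_mem (inv_mem hnP) hxP) hnP, ?_⟩
        have hye : y = n⁻¹ * w * n := by rw [he]; group
        calc n⁻¹ * x * n * y = n⁻¹ * (x * w) * n := by rw [hye]; group
          _ = n⁻¹ * (w * x) * n := by rw [hxw]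
          _ = y * (n⁻¹ * x * n) := by rw [hye]; group
      refine Nat.card_le_card_of_injective (fun x => (⟨_, hmem x⟩ : cen (P : Subgroup G) y)) ?_
      intro x x' e
      have e3 : n⁻¹ * (x : G) * n = n⁻¹ * (x' : G) * n := congrArg Subtype.val e
      exact Subtype.ext (mul_left_cancel (mul_right_cancel e3))
    · intro g _ h hne
      rw [hψ, hψ, W.om_t h] at hne
      refine hT.htab hq hy hyy (by rw [hy1]; exact hc1) (hy2.trans hy1.symm)
        (fun hg => by rw [hy1]; exact hcg hg) ?_ h hne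
      intro z hz
      exact ⟨t * z * t, W.t_S0 hz, W.om_t hz, W.om_t' hz⟩

end Wr

end Cfsg.Agent.StdRank2.L3W
end

-- part: StdRank2/L3W/WrMain
section
/-!
# S1778, type `L₃(q)`: the wreath case

* `InfEq` : `P ∩ L = U₁U₂` for the complete wreath configuration with `S₀ ≤ L` (helper791);
* `wreathStmt : InfEq → L3Asm.WreathStmt`;
* `wreath : L3Asm.WreathStmt`, unconditional.
-/

set_option autoImplicit false

namespace Cfsg.Agent.StdRank2.L3W.WrMain

open Subgroup Cfsg.Agent.StdL2.Setup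

universe u

/-- `P ∩ E = U₁U₂`. -/
def InfEq : Prop :=
  ∀ (G : Type u) [Group G] [Finite G] (F : Type) [Field F] [Finite F] [CharP F 2] (G1 G2 : Subgroup G)
    (fr : FrameL3 G1 F) (fr' : FrameL3 G2 F) (E : Subgroup G) (P : Sylow 2 G) (t : G), Wr fr fr' E P t →
    4 ≤ Nat.card F → (P ⊓ NN G1 G2 : Subgroup G) ≤ E → (P : Subgroup G) ⊓ E = fr.U ⊔ fr'.U

/-- **The wreath case.** -/
theorem wreathStmt (h : InfEq.{u}) : L3Asm.WreathStmt.{u} := by
  intro G _ _ L A t F _ _ _ T fr B Ag Bg Zg I C hZ hc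
  obtain ⟨G1, G2, fr1, fr2, hWz⟩ := L3W0z.exists_wz B I hc
  have hS := L3Inst.sch B.sit.perfect fr.e
  obtain ⟨fr1', fr2', P, W⟩ := exists_wr C hWz hS (FOne.f1 B.sit hS B.hyp.R hWz)
  have h4 := B.sit.four
  have h0 := L3WJ.le W h4
  exact ⟨W.tE, fr1'.U ⊔ fr2'.U, ⟨P, h G F G1 G2 fr1' fr2' L P t W h4 h0⟩,
    L3Asm.endFacts_prod W.oddZ W.oddZ' W.comm h4 le_sup_left (fun x hx => W.sup_mem hx)⟩

/-- **The wreath case, unconditional.** -/
theorem wreath : L3Asm.WreathStmt.{u} :=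
  wreathStmt fun _ _ _ _ _ _ _ _ _ _ _ _ _ _ W h4 h0 => W.inf_eq h4 h0

end Cfsg.Agent.StdRank2.L3W.WrMain
end

-- part: WreathFusion/UFiveUni
section
/-!
# The Sylow 2-subgroup of `U₅(q)` satisfies the hypotheses of Theorem W

`U = UU E = Q X_a = {p1 q * xc s * p2 r * xa x}`: `centIndec`, `centralizer_le`.
-/

set_option autoImplicit false

namespace Cfsg.Agent.WreathFusion.UFiveUni

open Subgroup Cfsg.Agent.StdRank2.UFour Cfsg.Agent.StdRank2.UFour.SeedPre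
open Cfsg.Agent.StdRank2.UFive (Tp)
open scoped commutatorElement

variable {F : Type*} [Field F] [CharP F 2] {B : Bar F} {G : Type*} [Group G] (E : Cfsg.Agent.StdRank2.UFive.Env B G)

/-- the elements of `U` -/
def co (q : Tp B) (s : F) (r : Tp B) (x : F) : G := E.p1 q * E.xc s * E.p2 r * E.xa x

theorem p1_one : E.p1 1 = 1 := by
  have := E.p1_mul 1 1
  rw [one_mul] at this
  exact left_eq_mul.1 this

theorem p2_one : E.p2 1 = 1 := by
  have := E.p2_mul 1 1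
  rw [one_mul] at this
  exact left_eq_mul.1 this

theorem p1_inv (q : Tp B) : (E.p1 q)⁻¹ = E.p1 q⁻¹ := by
  rw [inv_eq_iff_mul_eq_one, ← E.p1_mul, mul_inv_cancel, p1_one]

theorem p2_inv (q : Tp B) : (E.p2 q)⁻¹ = E.p2 q⁻¹ := by
  rw [inv_eq_iff_mul_eq_one, ← E.p2_mul, mul_inv_cancel, p2_one]

theorem p1_mem (q : Tp B) : E.p1 q ∈ E.Q :=
  (E.mem_Q _).2 ⟨q, 0, 1, by rw [E.xc_zero, p2_one, mul_one, mul_one]⟩

theorem p2_mem (q : Tp B) : E.p2 q ∈ E.Q :=
  (E.mem_Q _).2 ⟨1, 0, q, by rw [E.xc_zero, p1_one, mul_one, one_mul]⟩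

theorem xc_p1 (x : F) (q : Tp B) : E.xc x * E.p1 q = E.p1 q * E.xc x := E.c_Q x _ (p1_mem E q)
theorem xc_p2 (x : F) (q : Tp B) : E.xc x * E.p2 q = E.p2 q * E.xc x := E.c_Q x _ (p2_mem E q)

theorem mem_UU_iff {g : G} : g ∈ UU E.toWEnv ↔ ∃ q s r x, g = co E q s r x := by
  rw [mem_UU]
  constructor
  · rintro ⟨q, hq, x, rfl⟩
    obtain ⟨a, s, r, rfl⟩ := (E.mem_Q q).1 hq
    exact ⟨a, s, r, x, rfl⟩
  · rintro ⟨q, s, r, x, rfl⟩
    exact ⟨_, (E.mem_Q _).2 ⟨q, s, r, rfl⟩, x, rfl⟩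

theorem co_mem (q : Tp B) (s : F) (r : Tp B) (x : F) : co E q s r x ∈ UU E.toWEnv :=
  (mem_UU_iff E).2 ⟨q, s, r, x, rfl⟩

/-- uniqueness of the normal form -/
theorem co_inj {q q' r r' : Tp B} {s s' x x' : F} (h : co E q s r x = co E q' s' r' x') :
    q = q' ∧ s = s' ∧ r = r' ∧ x = x' := by
  have hQ : (E.p1 q' * E.xc s' * E.p2 r')⁻¹ * (E.p1 q * E.xc s * E.p2 r) ∈ E.Q :=
    mul_mem (inv_mem ((E.mem_Q _).2 ⟨q', s', r', rfl⟩)) ((E.mem_Q _).2 ⟨q, s, r, rfl⟩)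
  obtain ⟨a, b, c, habc⟩ := (E.mem_Q _).1 hQ
  have h1 : E.p1 a * E.xc b * E.p2 c * E.xa (x + x') = 1 := by
    rw [← habc, E.xa_add]
    unfold co at h
    have h2 : E.p1 q * E.xc s * E.p2 r * E.xa x * E.xa x' = E.p1 q' * E.xc s' * E.p2 r' := by
      rw [h, mul_assoc, E.xa_sq, mul_one]
    calc (E.p1 q' * E.xc s' * E.p2 r')⁻¹ * (E.p1 q * E.xc s * E.p2 r) * (E.xa x * E.xa x')
        = (E.p1 q' * E.xc s' * E.p2 r')⁻¹ * (E.p1 q * E.xc s * E.p2 r * E.xa x * E.xa x') := by group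
      _ = 1 := by rw [h2, inv_mul_cancel]
  obtain ⟨-, -, -, hx⟩ := E.u_inj _ _ _ _ h1
  have hxx : x = x' := by
    have := Bar.add_self x'
    linear_combination hx - this
  subst hxx
  have h2 : E.p1 q * E.xc s * E.p2 r = E.p1 q' * E.xc s' * E.p2 r' := mul_right_cancel h
  have h3 : E.p1 (q'⁻¹ * q) * E.xc (s + s') * E.p2 (r * r'⁻¹) * E.xa 0 = 1 := by
    rw [E.xa_zero, mul_one, E.p1_mul, E.p2_mul, E.xc_add, ← p1_inv, ← p2_inv]
    calc (E.p1 q')⁻¹ * E.p1 q * (E.xc s * E.xc s') * (E.p2 r * (E.p2 r')⁻¹)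
        = (E.p1 q')⁻¹ * E.p1 q * E.xc s * (E.xc s' * E.p2 r) * (E.p2 r')⁻¹ := by group
      _ = (E.p1 q')⁻¹ * (E.p1 q * E.xc s * E.p2 r) * E.xc s' * (E.p2 r')⁻¹ := by rw [xc_p2]; group
      _ = (E.p1 q')⁻¹ * (E.p1 q' * E.xc s' * E.p2 r') * E.xc s' * (E.p2 r')⁻¹ := by rw [h2]
      _ = E.xc s' * (E.p2 r' * E.xc s') * (E.p2 r')⁻¹ := by group
      _ = E.xc s' * (E.xc s' * E.p2 r') * (E.p2 r')⁻¹ := by rw [xc_p2]
      _ = E.xc s' * E.xc s' := by group
      _ = 1 := E.xc_sq _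
  obtain ⟨h4, h5, h6, -⟩ := E.u_inj _ _ _ _ h3
  refine ⟨(inv_mul_eq_one.1 h4).symm, ?_, mul_inv_eq_one.1 h6, rfl⟩
  have := Bar.add_self s'
  linear_combination h5 - this

/-- the multiplication, as far as it is needed -/
theorem co_mul (q q' r r' : Tp B) (s s' x x' : F) :
    ∃ Q S, co E q s r x * co E q' s' r' x' = co E Q S (r * r') (x + x') ∧ Q.w = q.w + q'.w + B.s x * r'.w := by
  -- conjugation by `xa x`
  have h1 : E.xa x * (E.p1 q' * E.xc s' * E.p2 r') * (E.xa x)⁻¹ =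
      E.p1 (q' * Tp.ofK (B.tr (x * B.s s')) * Tp.sm (B.s x) r') * E.xc (s' + x * B.s r'.c) * E.p2 r' := by
    have e1 : E.xa x * E.p1 q' * (E.xa x)⁻¹ = E.p1 q' := by
      rw [E.a_1]; group
    calc E.xa x * (E.p1 q' * E.xc s' * E.p2 r') * (E.xa x)⁻¹
        = (E.xa x * E.p1 q' * (E.xa x)⁻¹) * (E.xa x * E.xc s' * (E.xa x)⁻¹) *
            (E.xa x * E.p2 r' * (E.xa x)⁻¹) := by group
      _ = E.p1 q' * (E.xz (B.tr (x * B.s s')) * E.xc s') *
            (E.p1 (Tp.sm (B.s x) r') * E.xc (x * B.s r'.c) * E.p2 r') := by rw [e1, E.a_c, E.a_2]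
      _ = E.p1 q' * E.p1 (Tp.ofK (B.tr (x * B.s s'))) * (E.xc s' * E.p1 (Tp.sm (B.s x) r')) *
            E.xc (x * B.s r'.c) * E.p2 r' := by rw [E.p1_K]; group
      _ = E.p1 q' * E.p1 (Tp.ofK (B.tr (x * B.s s'))) * (E.p1 (Tp.sm (B.s x) r') * E.xc s') *
            E.xc (x * B.s r'.c) * E.p2 r' := by rw [xc_p1]
      _ = _ := by rw [E.p1_mul, E.p1_mul, E.xc_add]; group
  set Q' := q' * Tp.ofK (B.tr (x * B.s s')) * Tp.sm (B.s x) r' with hQ'
  set S' := s' + x * B.s r'.c with hS'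
  -- moving `p2 r` over `p1 Q'`
  have h2 : E.p2 r * E.p1 Q' = E.p1 Q' * E.xc (r.w * B.s Q'.w) * E.p2 r := by
    have e1 := E.one_two Q' r
    have e2 : E.p1 Q' * E.p2 r = E.xc (r.w * B.s Q'.w) * E.p2 r * E.p1 Q' := by
      rw [← e1]; group
    have e3 : E.p2 r * E.p1 Q' = E.xc (r.w * B.s Q'.w) * (E.p1 Q' * E.p2 r) := by
      rw [e2]
      calc E.p2 r * E.p1 Q' = (E.xc (r.w * B.s Q'.w) * E.xc (r.w * B.s Q'.w)) * E.p2 r * E.p1 Q' := by
            rw [E.xc_sq, one_mul]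
        _ = _ := by group
    rw [e3, ← mul_assoc, xc_p1]
  refine ⟨q * Q', s + r.w * B.s Q'.w + S', ?_, ?_⟩
  · unfold co
    calc E.p1 q * E.xc s * E.p2 r * E.xa x * (E.p1 q' * E.xc s' * E.p2 r' * E.xa x')
        = E.p1 q * E.xc s * E.p2 r * (E.xa x * (E.p1 q' * E.xc s' * E.p2 r') * (E.xa x)⁻¹) *
            (E.xa x * E.xa x') := by group
      _ = E.p1 q * E.xc s * (E.p2 r * E.p1 Q') * E.xc S' * E.p2 r' * E.xa (x + x') := by
          rw [h1, E.xa_add]; group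
      _ = E.p1 q * (E.xc s * E.p1 Q') * E.xc (r.w * B.s Q'.w) * (E.p2 r * E.xc S') * E.p2 r' *
            E.xa (x + x') := by rw [h2]; group
      _ = E.p1 q * (E.p1 Q' * E.xc s) * E.xc (r.w * B.s Q'.w) * (E.xc S' * E.p2 r) * E.p2 r' *
            E.xa (x + x') := by rw [xc_p1, ← xc_p2]
      _ = _ := by rw [E.p1_mul q Q', E.p2_mul r r', E.xc_add (s + _) S', E.xc_add s]; group
  · simp only [hQ', Tp.mul_w, Tp.ofK_w, Tp.sm_w, add_zero, add_assoc]

open Classical in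
/-- the chart -/
noncomputable def f (g : G) : F × F :=
  if h : ∃ q s r x, g = co E q s r x then (B.s h.choose_spec.choose_spec.choose_spec.choose,
    h.choose_spec.choose_spec.choose.w) else 0

theorem f_co (q : Tp B) (s : F) (r : Tp B) (x : F) : f E (co E q s r x) = (B.s x, r.w) := by
  have h : ∃ q' s' r' x', co E q s r x = co E q' s' r' x' := ⟨q, s, r, x, rfl⟩
  unfold f
  rw [dif_pos h]
  obtain ⟨-, -, h3, h4⟩ := co_inj E h.choose_spec.choose_spec.choose_spec.choose_spec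
  exact Prod.ext (congrArg B.s h4.symm) (congrArg Tp.w h3.symm)

/-! ### Elements of `U'` -/

theorem exists_w (w : F) : ∃ q : Tp B, q.w = w := by
  obtain ⟨c, hc⟩ := B.tr_surj (B.nm w)
  exact ⟨⟨w, c, congrArg Subtype.val hc⟩, rfl⟩

theorem xa_mem' (x : F) : E.xa x ∈ UU E.toWEnv := a_mem _ x
theorem Q_mem' {g : G} (hg : g ∈ E.Q) : g ∈ UU E.toWEnv := Q_le _ hg

theorem xc_mem_comm (x : F) : E.xc x ∈ ⁅UU E.toWEnv, UU E.toWEnv⁆ := by
  obtain ⟨q, hq⟩ := exists_w (B := B) 1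
  obtain ⟨r, hr⟩ := exists_w (B := B) x
  have h1 := E.one_two q r
  rw [hq, hr, map_one, mul_one] at h1
  have h2 : E.xc x = ⁅E.p1 q, E.p2 r⁆ := by
    rw [commutatorElement_def, h1]; group
  rw [h2]
  exact Subgroup.commutator_mem_commutator (Q_mem' E (p1_mem E q)) (Q_mem' E (p2_mem E r))

theorem xb_mem_comm (k : B.K) : E.xb k ∈ ⁅UU E.toWEnv, UU E.toWEnv⁆ := by
  obtain ⟨y, hy⟩ := B.tr_surj k
  obtain ⟨q, hq⟩ := exists_w (B := B) 1
  obtain ⟨r, hr⟩ := exists_w (B := B) y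
  have h1 : q * r = Tp.ofK k * (r * q) := by
    ext
    · simp [hq, hr, add_comm]
    · simp only [Tp.mul_c, Tp.mul_w, Tp.ofK_c, Tp.ofK_w, hq, hr, map_one, map_zero, mul_one, mul_zero, one_mul,
        add_zero]
      have h2 : (k : F) = y + B.s y := (congrArg Subtype.val hy).symm
      have h3 := Bar.add_self (B.s y)
      linear_combination (-h2) - h3
  have h2 : E.xb k = ⁅E.p2 q, E.p2 r⁆ := by
    rw [commutatorElement_def, ← E.p2_mul, h1, E.p2_mul, E.p2_mul, E.p2_K]; group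
  rw [h2]
  exact Subgroup.commutator_mem_commutator (Q_mem' E (p2_mem E q)) (Q_mem' E (p2_mem E r))

theorem p1_mem_comm (q : Tp B) : E.p1 q ∈ ⁅UU E.toWEnv, UU E.toWEnv⁆ := by
  have h1 := E.a_2 1 q
  have e1 : Tp.sm (B.s 1) q = q := by
    ext <;> simp only [_root_.map_one, _root_.Cfsg.Agent.StdRank2.UFive.Tp.sm_w, _root_.one_mul, _root_.Cfsg.Agent.StdRank2.UFive.Tp.sm_c, _root_.mul_one]
  rw [e1] at h1
  have h2 : E.p1 q * E.xc (1 * B.s q.c) = ⁅E.xa 1, E.p2 q⁆ := by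
    rw [commutatorElement_def, h1]; group
  have h3 : E.p1 q = ⁅E.xa 1, E.p2 q⁆ * E.xc (1 * B.s q.c) := by
    rw [← h2, mul_assoc, E.xc_sq, mul_one]
  rw [h3]
  exact mul_mem (Subgroup.commutator_mem_commutator (xa_mem' E 1) (Q_mem' E (p2_mem E q))) (xc_mem_comm E _)

theorem co_mem_comm (q : Tp B) (s : F) {r : Tp B} (hr : r.w = 0) : co E q s r 0 ∈ ⁅UU E.toWEnv, UU E.toWEnv⁆ := by
  have h1 : r.c + B.s r.c = 0 := by rw [r.ok, hr, zero_mul]
  have h2 : B.s r.c = r.c := by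
    have := Bar.add_self r.c
    linear_combination h1 - this
  have h3 : r = Tp.ofK ⟨r.c, h2⟩ := by
    ext
    · exact hr
    · rfl
  unfold co
  rw [E.xa_zero, mul_one, h3, E.p2_K]
  exact mul_mem (mul_mem (p1_mem_comm E q) (xc_mem_comm E s)) (xb_mem_comm E _)

theorem chart : ChartUni.Chart (UU E.toWEnv) (f E) where
  mul g hg g' hg' := by
    obtain ⟨q, s, r, x, rfl⟩ := (mem_UU_iff E).1 hg
    obtain ⟨q', s', r', x', rfl⟩ := (mem_UU_iff E).1 hg'
    obtain ⟨Q, S, h1, -⟩ := co_mul E q q' r r' s s' x x'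
    rw [h1, f_co, f_co, f_co, map_add]
    rfl
  comm g hg g' hg' hc := by
    obtain ⟨q, s, r, x, rfl⟩ := (mem_UU_iff E).1 hg
    obtain ⟨q', s', r', x', rfl⟩ := (mem_UU_iff E).1 hg'
    obtain ⟨Q, S, h1, h2⟩ := co_mul E q q' r r' s s' x x'
    obtain ⟨Q', S', h1', h2'⟩ := co_mul E q' q r' r s' s x' x
    rw [h1, h1'] at hc
    obtain ⟨h3, -, -, -⟩ := co_inj E hc
    rw [f_co, f_co]
    have h4 := congrArg Tp.w h3
    rw [h2, h2'] at h4
    change B.s x * r'.w = B.s x' * r.w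
    linear_combination h4
  e1 := by
    refine ⟨co E 1 0 1 1, co_mem E _ _ _ _, ?_⟩
    rw [f_co]
    simp
  e2 := by
    obtain ⟨q, hq⟩ := exists_w (B := B) 1
    refine ⟨co E 1 0 q 0, co_mem E _ _ _ _, ?_⟩
    rw [f_co, hq]
    simp
  ker g hg h0 := by
    obtain ⟨q, s, r, x, rfl⟩ := (mem_UU_iff E).1 hg
    rw [f_co] at h0
    have hx : x = 0 := (map_eq_zero_iff B.s B.s.injective).1 (congrArg Prod.fst h0)
    have hr : r.w = 0 := congrArg Prod.snd h0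
    subst hx
    exact co_mem_comm E q s hr

/-- **(W1)** -/
theorem centIndec [Finite (UU E.toWEnv)] (hU : IsPGroup 2 (UU E.toWEnv)) : CentIndec (UU E.toWEnv) :=
  (chart E).centIndec hU

/-- **(W2)** -/
theorem centralizer_le :
    centralizer ((⁅UU E.toWEnv, UU E.toWEnv⁆ : Subgroup G) : Set G) ⊓ UU E.toWEnv ≤ ⁅UU E.toWEnv, UU E.toWEnv⁆ := by
  rintro g ⟨hg1, hg2⟩
  obtain ⟨q, s, r, x, rfl⟩ := (mem_UU_iff E).1 hg2
  have hcen : ∀ w ∈ ⁅UU E.toWEnv, UU E.toWEnv⁆, w * co E q s r x = co E q s r x * w :=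
    fun w hw => mem_centralizer_iff.1 hg1 w hw
  -- `x = 0`
  have hx : x = 0 := by
    obtain ⟨Q, S, h1, h2⟩ := co_mul E q 1 r (Tp.ofK 1) s 0 x 0
    have e1 : co E 1 0 (Tp.ofK 1) 0 = E.xb 1 := by
      unfold co
      rw [p1_one, E.xc_zero, E.xa_zero, E.p2_K, one_mul, one_mul, mul_one]
    have h3 := hcen _ (xb_mem_comm E 1)
    -- conjugation
    have hQ : E.p1 q * E.xc s * E.p2 r ∈ E.Q := (E.mem_Q _).2 ⟨q, s, r, rfl⟩
    have h4 : E.xb 1 * E.xa x = E.xa x * E.xb 1 := by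
      have h5 := E.b_Q 1 _ hQ
      unfold co at h3
      have h6 : (E.p1 q * E.xc s * E.p2 r) * (E.xb 1 * E.xa x) = (E.p1 q * E.xc s * E.p2 r) * (E.xa x * E.xb 1) := by
        rw [← mul_assoc, ← h5, mul_assoc, h3]
        group
      exact mul_left_cancel h6
    have h5 := E.a_b x 1
    rw [← h4] at h5
    have h6 : E.xz (B.nm x * 1) * E.xc (x * ((1 : B.K) : F)) * E.xb 0 = 1 := by
      rw [E.xb_zero, mul_one]
      have h7 : E.xb 1 * E.xa x * (E.xa x)⁻¹ = E.xb 1 := by group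
      rw [h7] at h5
      have h8 : E.xz (B.nm x * 1) * E.xc (x * ((1 : B.K) : F)) * E.xb 1 = 1 * E.xb 1 := by
        rw [one_mul]; exact h5.symm
      exact mul_right_cancel h8
    obtain ⟨-, h7, -⟩ := E.w_inj _ _ _ h6
    simpa using h7
  subst hx
  -- `r.w = 0`
  have hr : r.w = 0 := by
    obtain ⟨q', hq'⟩ := exists_w (B := B) 1
    have h1 := hcen _ (p1_mem_comm E q')
    have h2 : E.p2 r * E.p1 q' = E.p1 q' * E.xc (r.w) * E.p2 r := by
      have e1 := E.one_two q' r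
      rw [hq', map_one, mul_one] at e1
      have e2 : E.p1 q' * E.p2 r = E.xc r.w * E.p2 r * E.p1 q' := by
        rw [← e1]; group
      have e3 : E.p2 r * E.p1 q' = E.xc r.w * (E.p1 q' * E.p2 r) := by
        rw [e2]
        calc E.p2 r * E.p1 q' = (E.xc r.w * E.xc r.w) * E.p2 r * E.p1 q' := by
              rw [E.xc_sq, one_mul]
          _ = _ := by group
      rw [e3, ← mul_assoc, xc_p1]
    have e1 : E.p1 q' * co E q s r 0 = co E (q' * q) s r 0 := by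
      unfold co
      rw [E.p1_mul]; group
    have e2 : co E q s r 0 * E.p1 q' = co E (q * q') (s + r.w) r 0 := by
      unfold co
      rw [E.xa_zero, mul_one, mul_one]
      calc E.p1 q * E.xc s * E.p2 r * E.p1 q' = E.p1 q * E.xc s * (E.p2 r * E.p1 q') := by group
        _ = E.p1 q * (E.xc s * E.p1 q') * E.xc r.w * E.p2 r := by rw [h2]; group
        _ = E.p1 q * (E.p1 q' * E.xc s) * E.xc r.w * E.p2 r := by rw [xc_p1]
        _ = _ := by rw [E.p1_mul, E.xc_add]; group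
    rw [e1, e2] at h1
    obtain ⟨-, h3, -, -⟩ := co_inj E h1
    linear_combination (-1 : F) * h3
  exact co_mem_comm E q s hr

/-! ### `U` is a finite 2-group -/

theorem sq_mem_Q {g : G} (hg : g ∈ UU E.toWEnv) : g * g ∈ E.Q := by
  obtain ⟨q, s, r, x, rfl⟩ := (mem_UU_iff E).1 hg
  obtain ⟨Q, S, h1, -⟩ := co_mul E q q r r s s x x
  rw [h1, Bar.add_self]
  unfold co
  rw [E.xa_zero, mul_one]
  exact (E.mem_Q _).2 ⟨_, _, _, rfl⟩

theorem pow_four {g : G} (hg : g ∈ E.Q) : g ^ 4 = 1 := by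
  obtain ⟨q, s, r, rfl⟩ := (E.mem_Q g).1 hg
  have e0 : E.p1 q * E.xc s * E.p2 r = co E q s r 0 := by
    unfold co
    rw [E.xa_zero, mul_one]
  obtain ⟨Q, S, h1, h2⟩ := co_mul E q q r r s s 0 0
  have hQ : Q.w = 0 := by
    rw [h2, map_zero, zero_mul, add_zero, Bar.add_self]
  have hR : (r * r).w = 0 := by
    rw [Tp.mul_w, Bar.add_self]
  have key : ∀ r : Tp B, r.w = 0 → ∃ k, r = Tp.ofK k := by
    intro r hr
    have h1 : r.c + B.s r.c = 0 := by rw [r.ok, hr, zero_mul]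
    have h2 : B.s r.c = r.c := by
      have := Bar.add_self r.c
      linear_combination h1 - this
    exact ⟨⟨r.c, h2⟩, by ext; exacts [hr, rfl]⟩
  obtain ⟨k, hk⟩ := key Q hQ
  obtain ⟨l, hl⟩ := key (r * r) hR
  have h3 : (E.p1 q * E.xc s * E.p2 r) * (E.p1 q * E.xc s * E.p2 r) = E.w (k, S, l) := by
    rw [e0, h1, add_zero, hk, hl]
    unfold co WEnv.w
    rw [E.p1_K, E.p2_K, E.xa_zero, mul_one]
  have h4 : ∀ a : G, a ^ 4 = (a * a) * (a * a) := fun a => by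
    rw [show (4 : ℕ) = 2 + 2 from rfl, pow_add, pow_two]
  rw [h4, h3, E.w_sq]

theorem isPGroup : IsPGroup 2 (UU E.toWEnv) := by
  rintro ⟨g, hg⟩
  refine ⟨3, Subtype.ext ?_⟩
  change g ^ 8 = 1
  have h1 := pow_four E (sq_mem_Q E hg)
  rw [← pow_two, ← pow_mul] at h1
  exact h1

theorem finite [Finite F] : Finite (UU E.toWEnv) := by
  have : Finite (Tp B) := Finite.of_injective (fun q : Tp B => (q.w, q.c))
    (fun q r h => Tp.ext (congrArg Prod.fst h) (congrArg Prod.snd h))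
  exact Finite.of_surjective (fun v : Tp B × F × Tp B × F => (⟨co E v.1 v.2.1 v.2.2.1 v.2.2.2, co_mem E _ _ _ _⟩ :
    UU E.toWEnv)) (by
      rintro ⟨g, hg⟩
      obtain ⟨q, s, r, x, rfl⟩ := (mem_UU_iff E).1 hg
      exact ⟨(q, s, r, x), rfl⟩)

/-- **(W1)** for a finite field -/
theorem centIndec_of_finite [Finite F] : CentIndec (UU E.toWEnv) := by
  have := finite E
  exact centIndec E (isPGroup E)

end Cfsg.Agent.WreathFusion.UFiveUni
end

-- part: StdRank2/SC/FiveSplitS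
section
/-!
# The split case of `U₅(q)`: `S0 = S_false × S_true` and the data of Theorem W
-/

set_option autoImplicit false
set_option linter.unusedSectionVars false
set_option linter.unusedVariables false

namespace Cfsg.Agent.StdRank2.SC.Five.SplitG

open Subgroup Cfsg.Agent.StdRank2.UFour Cfsg.Agent.StdRank2.UFive Cfsg.Agent.StdRank2.UFour.SeedPre
open Cfsg.Agent.WreathFusion
open scoped commutatorElement

variable {F : Type*} [Field F] [CharP F 2] {B : Bar F} {G : Type*} [Group G]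
variable {E : UFive.Env B G} {Gr : UFive.Grown E} (D : SplitG Gr)

theorem gr_R {g : G} : g ∈ Gr.R ↔ g ∈ Gr.toQGrown.R := Gr.mem_R g

/-- `P ∩ C = 1` -/
theorem P_C {g : G} (hp : g ∈ Gr.P) (hc : g ∈ Gr.C) : g = 1 := by
  obtain ⟨r, hr, q, h1⟩ := Gr.P_t g hp
  obtain ⟨y, h2⟩ := Gr.rootC.conj_t g hc
  have h3 : r * E.p1 q = E.xc y := mul_right_cancel (h1.symm.trans h2)
  have key : ∀ {r : G} {q : Tp B} {y : F}, r ∈ Gr.Z → r * E.p1 q = E.xc y → y = 0 := by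
    intro r q y hr h3
    have h4 : r = E.xc y * (E.p1 q)⁻¹ := by rw [← h3]; group
    have h5 : r * E.t = E.t * r := by
      rw [h4, E.p1_inv]
      have e1 := E.t_1 q⁻¹
      have e2 := E.t_c y
      calc E.xc y * E.p1 q⁻¹ * E.t = E.xc y * (E.p1 q⁻¹ * E.t) := by group
        _ = (E.xc y * E.t) * E.p1 q⁻¹ := by rw [← e1]; group
        _ = _ := by rw [← e2]; group
    obtain ⟨k, hk⟩ := Gr.rootZ.cent r hr h5
    have h6 : E.p1 (Tp.ofK k * q) * E.xc y * E.p2 1 * E.xa 0 = 1 := by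
      rw [E.p1_mul, E.p1_K, ← hk, h3, E.toWEnv.xc_sq, E.p2_one, E.toWEnv.xa_zero]; group
    exact (E.u_inj _ _ _ _ h6).2.1
  have hy := key hr h3
  have h4 : g * E.t = E.t * g := by
    rw [hy, E.toWEnv.xc_zero, one_mul] at h2
    exact mul_inv_eq_iff_eq_mul.1 h2
  obtain ⟨y', h5⟩ := Gr.rootC.cent g hc h4
  have h6 : g * E.t * g⁻¹ = 1 * E.t := by rw [h4]; group
  obtain ⟨r', hr', q', h7⟩ := Gr.P_cent g hp 1 (one_mem _) h6
  have h8 := key hr' (h7.symm.trans h5)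
  rw [h5, h8, E.toWEnv.xc_zero]

/-- `R ∩ P C = 1` -/
theorem R_PC {g p c : G} (hg : g ∈ Gr.R) (hp : p ∈ Gr.P) (hc : c ∈ Gr.C) (h : g = p * c) : g = 1 := by
  have h1 := Gr.toQGrown.h1_R (gr_R.1 hg)
  set k := E.hh Gr.l 1 with hk
  have hkT : k ∈ E.T := E.hh_mem _ _
  have h2 : k * p * k⁻¹ ∈ Gr.P := Gr.P_T k hkT p hp
  have h3 : k * c * k⁻¹ ∈ Gr.C := Gr.rootC.conj_T k hkT c hc
  have h4 : (k * p * k⁻¹) * (k * c * k⁻¹) = p * c := by
    rw [← h]
    calc (k * p * k⁻¹) * (k * c * k⁻¹) = k * (p * c) * k⁻¹ := by group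
      _ = k * g * k⁻¹ := by rw [h]
      _ = g := by rw [h1]; group
  have h5 : p⁻¹ * (k * p * k⁻¹) = c * (k * c * k⁻¹)⁻¹ := by
    calc p⁻¹ * (k * p * k⁻¹) = p⁻¹ * ((k * p * k⁻¹) * (k * c * k⁻¹)) * (k * c * k⁻¹)⁻¹ := by group
      _ = _ := by rw [h4]; group
  have h6 : p⁻¹ * (k * p * k⁻¹) = 1 :=
    P_C (mul_mem (inv_mem hp) h2) (by rw [h5]; exact mul_mem hc (inv_mem h3))
  have h7 : k * p = p * k := by
    have : k * p * k⁻¹ = p := (inv_mul_eq_one.1 h6).symm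
    exact mul_inv_eq_iff_eq_mul.1 this
  have h8 : p = 1 := Gr.toQGrown.P_fix hp h7
  rw [h8, one_mul] at h
  have h9 : E.na * g * E.na⁻¹ = 1 := P_C ((Gr.mem_R g).1 hg) (Gr.na_C g (by rw [h]; exact hc))
  calc g = E.na⁻¹ * (E.na * g * E.na⁻¹) * E.na := by group
    _ = 1 := by rw [h9]; group

/-! ### The groups `S_i` -/

/-- `P_i C_i` -/
def PCi (i : Bool) : Subgroup G := mulS (D.X i 2) (D.X i 3) fun p hp c hc => by
  have h := (cCP (Gr := Gr) (D.C_le i hc) (D.P_le i hp)).eq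
  rw [← h, mul_inv_cancel_right]; exact hc

theorem R_PCi {i : Bool} {r y : G} (hr : r ∈ D.X i 4) (hy : y ∈ D.PCi i) : r * y * r⁻¹ ∈ D.PCi i := by
  obtain ⟨p, hp, c, hc, rfl⟩ := hy
  obtain ⟨c', hc', h⟩ := D.P_R i p hp r (mem_kj.1 hr)
  have hc'' : c' ∈ D.X i 3 := mem_kj.2 hc'
  have h1 := D.cC_R i i hc hr
  have h2 : r * p * r⁻¹ = c'⁻¹ * p := by
    have h3 : p * r = c' * r * p := mul_inv_eq_iff_eq_mul.1 h
    calc r * p * r⁻¹ = c'⁻¹ * (c' * r * p) * r⁻¹ := by group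
      _ = c'⁻¹ * (p * r) * r⁻¹ := by rw [h3]
      _ = _ := by group
  have h4 := (cCP (Gr := Gr) (D.C_le i hc'') (D.P_le i hp)).inv_left.eq
  refine ⟨p, hp, c'⁻¹ * c, mul_mem (inv_mem hc'') hc, ?_⟩
  calc r * (p * c) * r⁻¹ = (r * p * r⁻¹) * (r * c) * r⁻¹ := by group
    _ = (c'⁻¹ * p) * c := by rw [h2, ← h1]; group
    _ = _ := by rw [h4]; group

/-- `R_i P_i C_i` -/
def NN (i : Bool) : Subgroup G := mulS (D.X i 4) (D.PCi i) fun _ hr _ hy => D.R_PCi hr hy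

theorem A_NN {i : Bool} {a n : G} (ha : a ∈ D.X i 1) (hn : n ∈ D.NN i) : a * n * a⁻¹ ∈ D.NN i := by
  obtain ⟨r, hr, y, ⟨p, hp, c, hc, rfl⟩, rfl⟩ := hn
  have memP : ∀ {p : G}, p ∈ D.X i 2 → p ∈ D.NN i := fun {p} hp => ⟨1, one_mem _, p, ⟨p, hp, 1, one_mem _, by group⟩, by group⟩
  have memC : ∀ {p : G}, p ∈ D.X i 3 → p ∈ D.NN i := fun {p} hp => ⟨1, one_mem _, p, ⟨1, one_mem _, p, hp, by group⟩, by group⟩
  have memR : ∀ {p : G}, p ∈ D.X i 4 → p ∈ D.NN i := fun {p} hp => ⟨p, hp, 1, one_mem _, by group⟩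
  have h1 : a * r * a⁻¹ ∈ D.NN i := by
    obtain ⟨p', hp', c', hc', h⟩ := D.A_R i a ha r (mem_kj.1 hr)
    rw [h]
    exact mul_mem (mul_mem (memP hp') (memC (mem_kj.2 hc'))) (memR hr)
  have h2 : a * p * a⁻¹ ∈ D.NN i := by
    rw [(cAP (Gr := Gr) (D.A_le i ha) (D.P_le i hp)).eq, mul_inv_cancel_right]
    exact memP hp
  have h3 : a * c * a⁻¹ ∈ D.NN i := by
    obtain ⟨p', hp', h⟩ := D.A_C i a ha c (mem_kj.1 hc)
    rw [h]
    exact mul_mem (memP hp') (memC hc)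
  have e : a * (r * (p * c)) * a⁻¹ = (a * r * a⁻¹) * ((a * p * a⁻¹) * (a * c * a⁻¹)) := by group
  rw [e]
  exact mul_mem h1 (mul_mem h2 h3)

/-- `S_i = A_i R_i P_i C_i` -/
def SS (i : Bool) : Subgroup G := mulS (D.X i 1) (D.NN i) fun _ hr _ hy => D.A_NN hr hy

theorem PCi_eq (i : Bool) : D.PCi i = D.X i 2 ⊔ D.X i 3 := mulS_eq_sup _ _ _

theorem NN_eq (i : Bool) : D.NN i = D.X i 4 ⊔ (D.X i 2 ⊔ D.X i 3) := by
  rw [← D.PCi_eq]
  exact mulS_eq_sup _ _ _

theorem SS_eq (i : Bool) : D.SS i = D.X i 1 ⊔ (D.X i 4 ⊔ (D.X i 2 ⊔ D.X i 3)) := by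
  rw [← D.NN_eq]
  exact mulS_eq_sup _ _ _

theorem SS_le_LL (i : Bool) : D.SS i ≤ D.LL i := by
  rw [D.SS_eq]
  exact sup_le (D.X_LL i 1) (sup_le (D.X_LL i 4) (sup_le (D.X_LL i 2) (D.X_LL i 3)))

theorem SS_comm {i : Bool} {x y : G} (hx : x ∈ D.SS i) (hy : y ∈ D.SS (!i)) : x * y = y * x :=
  (cm_iff.1 (D.LL_comm i) x (D.SS_le_LL i hx) y (D.SS_le_LL _ hy)).symm

theorem X_SS (i : Bool) : D.X i 1 ≤ D.SS i ∧ D.X i 2 ≤ D.SS i ∧ D.X i 3 ≤ D.SS i ∧ D.X i 4 ≤ D.SS i := by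
  rw [D.SS_eq]
  exact ⟨le_sup_left, le_sup_left.trans (le_sup_right.trans le_sup_right),
    le_sup_right.trans (le_sup_right.trans le_sup_right), le_sup_left.trans le_sup_right⟩

theorem PP_PP {g : G} {i : Bool} (h : g ∈ D.PP i) (h' : g ∈ D.PP (!i)) : g = 1 := by
  cases i
  · exact D.P_inf g h h'
  · exact D.P_inf g h' h

theorem AA_AA {g : G} {i : Bool} (h : g ∈ D.AA i) (h' : g ∈ D.AA (!i)) : g = 1 := by
  cases i
  · exact D.A_inf g h h'
  · exact D.A_inf g h' h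

theorem kj_one_iff {n g : G} (h : n * g * n⁻¹ = 1) : g = 1 := by
  calc g = n⁻¹ * (n * g * n⁻¹) * n := by group
    _ = 1 := by rw [h]; group

variable [Finite G]

theorem NN_le (i : Bool) : D.NN i ≤ Gr.toQGrown.N2 := by
  rw [D.NN_eq]
  refine sup_le (fun g hg => ?_) (sup_le (fun g hg => ?_) (fun g hg => ?_))
  · exact Gr.toQGrown.R_InN2 (gr_R.1 (D.R_le i hg))
  · exact Gr.toQGrown.P_InN2 (D.P_le i hg)
  · exact Gr.toQGrown.PC_N2 (Gr.toQGrown.C_PC (D.C_le i hg))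

theorem SS_inf (i : Bool) {g : G} (h : g ∈ D.SS i) (h' : g ∈ D.SS (!i)) : g = 1 := by
  obtain ⟨a, ha, n, hn, rfl⟩ := h
  obtain ⟨a', ha', n', hn', e⟩ := h'
  have h1 : a'⁻¹ * a = 1 := by
    apply Gr.toQGrown.A_inf_N2 (mul_mem (inv_mem (D.A_le _ ha')) (D.A_le _ ha))
    have : a'⁻¹ * a = n' * n⁻¹ := by
      calc a'⁻¹ * a = a'⁻¹ * (a * n) * n⁻¹ := by group
        _ = _ := by rw [e]; group
    rw [this]
    exact mul_mem (D.NN_le _ hn') (inv_mem (D.NN_le _ hn))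
  have h2 : a' = a := inv_mul_eq_one.1 h1
  subst h2
  have h3 : a' = 1 := D.AA_AA ha ha'
  subst h3
  rw [one_mul] at e ⊢
  rw [one_mul] at e
  subst e
  obtain ⟨r, hr, y, ⟨p, hp, c, hc, rfl⟩, rfl⟩ := hn
  obtain ⟨r', hr', y', ⟨p', hp', c', hc', rfl⟩, e⟩ := hn'
  have hPC : ∀ {p c p' c' : G}, p ∈ Gr.P → c ∈ Gr.C → p' ∈ Gr.P → c' ∈ Gr.C → (p' * c') * (p * c)⁻¹ = (p' * p⁻¹) * (c' * c⁻¹) := by
    intro p c p' c' hp hc hp' hc'
    have e1 := (cCP (Gr := Gr) (mul_mem hc' (inv_mem hc)) (inv_mem hp)).eq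
    calc (p' * c') * (p * c)⁻¹ = p' * ((c' * c⁻¹) * p⁻¹) := by group
      _ = _ := by rw [e1]; group
  have h4 : r'⁻¹ * r = 1 := by
    apply R_PC (mul_mem (inv_mem (D.R_le _ hr')) (D.R_le _ hr))
      (mul_mem (D.P_le _ hp') (inv_mem (D.P_le _ hp))) (mul_mem (D.C_le _ hc') (inv_mem (D.C_le _ hc)))
    rw [← hPC (D.P_le _ hp) (D.C_le _ hc) (D.P_le _ hp') (D.C_le _ hc')]
    calc r'⁻¹ * r = r'⁻¹ * (r * (p * c)) * (p * c)⁻¹ := by group
      _ = _ := by rw [e]; group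
  have h5 : r' = r := inv_mul_eq_one.1 h4
  subst h5
  have h6 : r' = 1 := kj_one_iff (n := E.na) (D.PP_PP (mem_kj.1 hr) (mem_kj.1 hr'))
  subst h6
  rw [one_mul, one_mul] at e
  have h7 : p'⁻¹ * p = 1 := by
    apply P_C (mul_mem (inv_mem (D.P_le _ hp')) (D.P_le _ hp))
    have : p'⁻¹ * p = c' * c⁻¹ := by
      calc p'⁻¹ * p = p'⁻¹ * (p * c) * c⁻¹ := by group
        _ = _ := by rw [e]; group
    rw [this]
    exact mul_mem (D.C_le _ hc') (inv_mem (D.C_le _ hc))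
  have h8 : p' = p := inv_mul_eq_one.1 h7
  subst h8
  have h9 : p' = 1 := D.PP_PP hp hp'
  subst h9
  rw [one_mul, one_mul] at e
  subst e
  have h10 : c = 1 := kj_one_iff (n := E.nb) (D.AA_AA (mem_kj.1 hc) (mem_kj.1 hc'))
  rw [h10]; group

theorem SS_le (i : Bool) : D.SS i ≤ Gr.toQGrown.S0 := by
  rw [D.SS_eq]
  refine sup_le (fun g hg => Gr.toQGrown.A_le (D.A_le i hg)) ?_
  rw [← D.NN_eq]
  exact (D.NN_le i).trans Gr.toQGrown.N2_le_S0

theorem S0_le : Gr.toQGrown.S0 ≤ D.SS false ⊔ D.SS true := by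
  have hf : ∀ {k : Fin 8}, (k = 1 ∨ k = 2 ∨ k = 3 ∨ k = 4) → ∀ i, D.X i k ≤ D.SS false ⊔ D.SS true := by
    intro k hk i
    have h1 : D.X i k ≤ D.SS i := by
      rcases hk with rfl | rfl | rfl | rfl
      · exact (D.X_SS i).1
      · exact (D.X_SS i).2.1
      · exact (D.X_SS i).2.2.1
      · exact (D.X_SS i).2.2.2
    cases i
    · exact h1.trans le_sup_left
    · exact h1.trans le_sup_right
  intro g hg
  obtain ⟨a, ha, p, hp, c, hc, r, hr, rfl⟩ := Gr.toQGrown.S0_form hg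
  have hA : a ∈ D.SS false ⊔ D.SS true := by
    obtain ⟨x, hx, y, hy, rfl⟩ := D.A_sup a ha
    exact mul_mem (hf (k := 1) (Or.inl rfl) false hx) (hf (k := 1) (Or.inl rfl) true hy)
  have hP : p ∈ D.SS false ⊔ D.SS true := by
    obtain ⟨x, hx, y, hy, rfl⟩ := D.P_sup p hp
    exact mul_mem (hf (k := 2) (Or.inr (Or.inl rfl)) false hx) (hf (k := 2) (Or.inr (Or.inl rfl)) true hy)
  have hC : c ∈ D.SS false ⊔ D.SS true := by
    obtain ⟨x, hx, y, hy, e⟩ := D.A_sup _ ((Gr.mem_C c).1 hc)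
    have e1 : c = (E.nb⁻¹ * x * E.nb) * (E.nb⁻¹ * y * E.nb) := by
      calc c = E.nb⁻¹ * (E.nb * c * E.nb⁻¹) * E.nb := by group
        _ = _ := by rw [e]; group
    rw [e1]
    have m : ∀ {i x}, x ∈ D.AA i → E.nb⁻¹ * x * E.nb ∈ D.X i 3 := by
      intro i x hx
      refine mem_kj.2 ?_
      rw [show E.nb * (E.nb⁻¹ * x * E.nb) * E.nb⁻¹ = x by group]; exact hx
    exact mul_mem (hf (k := 3) (Or.inr (Or.inr (Or.inl rfl))) false (m hx))
      (hf (k := 3) (Or.inr (Or.inr (Or.inl rfl))) true (m hy))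
  have hR : r ∈ D.SS false ⊔ D.SS true := by
    obtain ⟨x, hx, y, hy, e⟩ := D.P_sup _ ((Gr.mem_R r).1 (gr_R.2 hr))
    have e1 : r = (E.na⁻¹ * x * E.na) * (E.na⁻¹ * y * E.na) := by
      calc r = E.na⁻¹ * (E.na * r * E.na⁻¹) * E.na := by group
        _ = _ := by rw [e]; group
    rw [e1]
    have m : ∀ {i x}, x ∈ D.PP i → E.na⁻¹ * x * E.na ∈ D.X i 4 := by
      intro i x hx
      refine mem_kj.2 ?_
      rw [show E.na * (E.na⁻¹ * x * E.na) * E.na⁻¹ = x by group]; exact hx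
    exact mul_mem (hf (k := 4) (Or.inr (Or.inr (Or.inr rfl))) false (m hx))
      (hf (k := 4) (Or.inr (Or.inr (Or.inr rfl))) true (m hy))
  exact mul_mem (mul_mem (mul_mem hA hP) hC) hR

theorem SS_sup : D.SS false ⊔ D.SS true = Gr.toQGrown.S0 :=
  le_antisymm (sup_le (D.SS_le _) (D.SS_le _)) D.S0_le

omit [Finite G] in
theorem t_SS (i : Bool) {g : G} (hg : g ∈ D.SS i) : E.t * g * E.t⁻¹ ∈ D.SS (!i) := by
  have h : kj E.t (D.SS i) ≤ D.SS (!i) := by
    rw [D.SS_eq, D.SS_eq, kj_sup, kj_sup, kj_sup]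
    exact sup_le_sup (D.t_X i 1) (sup_le_sup (D.t_X i 4) (sup_le_sup (D.t_X i 2) (D.t_X i 3)))
  apply h
  rw [mem_kj]
  have h2 : E.t * (E.t * g * E.t⁻¹) * E.t⁻¹ = g := by
    calc E.t * (E.t * g * E.t⁻¹) * E.t⁻¹ = (E.t * E.t) * g * (E.t * E.t)⁻¹ := by group
      _ = g := by rw [E.t_sq]; group
  rw [h2]
  exact hg

omit [Finite G] in
theorem t_t (g : G) : E.t * (E.t * g * E.t⁻¹) * E.t⁻¹ = g := by
  calc E.t * (E.t * g * E.t⁻¹) * E.t⁻¹ = (E.t * E.t) * g * (E.t * E.t)⁻¹ := by group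
    _ = g := by rw [E.t_sq]; group

theorem half_mem (i : Bool) {s : G} (hs : s ∈ D.SS i) : s * (E.t * s * E.t⁻¹) ∈ UU E.toWEnv := by
  apply Gr.toQGrown.S0_cent (mul_mem (D.SS_le i hs) (D.SS_le _ (D.t_SS i hs)))
  have h1 := D.SS_comm hs (D.t_SS i hs)
  have h2 : E.t * (s * (E.t * s * E.t⁻¹)) * E.t⁻¹ = s * (E.t * s * E.t⁻¹) := by
    calc E.t * (s * (E.t * s * E.t⁻¹)) * E.t⁻¹ = (E.t * s * E.t⁻¹) * (E.t * (E.t * s * E.t⁻¹) * E.t⁻¹) := by group
      _ = (E.t * s * E.t⁻¹) * s := by rw [t_t]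
      _ = _ := h1.symm
  exact (mul_inv_eq_iff_eq_mul.1 h2).symm

/-- `s ↦ s s^t` -/
def half (i : Bool) : D.SS i →* UU E.toWEnv where
  toFun s := ⟨s * (E.t * s * E.t⁻¹), D.half_mem i s.2⟩
  map_one' := Subtype.ext (by change (1 : G) * (E.t * 1 * E.t⁻¹) = 1; group)
  map_mul' s s' := Subtype.ext (by
    change (s : G) * s' * (E.t * (s * s') * E.t⁻¹) = s * (E.t * s * E.t⁻¹) * (s' * (E.t * s' * E.t⁻¹))
    have h1 := D.SS_comm s'.2 (D.t_SS i s.2)
    calc (s : G) * s' * (E.t * (s * s') * E.t⁻¹) = s * (s' * (E.t * s * E.t⁻¹)) * (E.t * s' * E.t⁻¹) := by group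
      _ = _ := by rw [h1]; group)

theorem half_apply (i : Bool) (s : D.SS i) : (D.half i s : G) = s * (E.t * s * E.t⁻¹) := rfl

theorem half_inj (i : Bool) : Function.Injective (D.half i) := by
  rw [injective_iff_map_eq_one]
  intro s hs
  have h1 : (s : G) * (E.t * s * E.t⁻¹) = 1 := congrArg Subtype.val hs
  apply Subtype.ext
  apply D.SS_inf i s.2
  have h2 : (s : G) = (E.t * s * E.t⁻¹)⁻¹ := eq_inv_of_mul_eq_one_left h1
  rw [h2]
  exact inv_mem (D.t_SS i s.2)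

theorem exists_SS (i : Bool) {g : G} (hg : g ∈ Gr.toQGrown.S0) : ∃ x ∈ D.SS i, ∃ y ∈ D.SS (!i), g = x * y := by
  have h1 : g ∈ D.SS i ⊔ D.SS (!i) := by
    have h2 := D.S0_le hg
    cases i
    · exact h2
    · rw [sup_comm]; exact h2
  have h3 : ∀ h ∈ D.SS i, ∀ k ∈ D.SS (!i), h * k * h⁻¹ ∈ D.SS (!i) := by
    intro h hh k hk
    rw [D.SS_comm hh hk, mul_inv_cancel_right]; exact hk
  rw [← mulS_eq_sup _ _ h3] at h1
  exact h1

theorem half_surj (i : Bool) : Function.Surjective (D.half i) := by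
  rintro ⟨u, hu⟩
  obtain ⟨x, hx, y, hy, rfl⟩ := D.exists_SS i (Gr.toQGrown.U_le hu)
  have htu : E.t * (x * y) * E.t⁻¹ = x * y := by
    obtain ⟨q, hq, s, e⟩ := mem_UU.1 hu
    rw [e]
    have e1 := E.t_Q q hq
    have e2 := E.t_a s
    calc E.t * (q * E.xa s) * E.t⁻¹ = (E.t * q) * E.xa s * E.t⁻¹ := by group
      _ = q * (E.t * E.xa s) * E.t⁻¹ := by rw [e1]; group
      _ = _ := by rw [e2]; group
  have h1 := D.t_SS i hx
  have h2 : E.t * y * E.t⁻¹ ∈ D.SS i := by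
    have := D.t_SS (!i) hy
    rwa [Bool.not_not] at this
  have h3 : (E.t * y * E.t⁻¹) * (E.t * x * E.t⁻¹) = x * y := by
    rw [D.SS_comm h2 h1]
    rw [← htu]; group
  have h4 : y * (E.t * x * E.t⁻¹)⁻¹ = 1 := by
    apply D.SS_inf i _ (mul_mem hy (inv_mem h1))
    have : y * (E.t * x * E.t⁻¹)⁻¹ = x⁻¹ * (E.t * y * E.t⁻¹) := by
      calc y * (E.t * x * E.t⁻¹)⁻¹ = x⁻¹ * (x * y) * (E.t * x * E.t⁻¹)⁻¹ := by group
        _ = _ := by rw [← h3]; group
    rw [this]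
    exact mul_mem (inv_mem hx) h2
  refine ⟨⟨x, hx⟩, Subtype.ext ?_⟩
  change x * (E.t * x * E.t⁻¹) = x * y
  rw [mul_inv_eq_one.1 h4]

/-- `S_i ≅ U` -/
noncomputable def equivU (i : Bool) : D.SS i ≃* UU E.toWEnv :=
  MulEquiv.ofBijective (D.half i) ⟨D.half_inj i, D.half_surj i⟩

theorem card_SS (i : Bool) : Nat.card (D.SS i) = Nat.card (UU E.toWEnv) := Nat.card_congr (D.equivU i).toEquiv

theorem SS_ne (i : Bool) : D.SS i ≠ ⊥ := by
  intro h
  have h1 : E.xa 1 ∈ UU E.toWEnv := a_mem _ _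
  obtain ⟨s, hs⟩ := D.half_surj i ⟨_, h1⟩
  have h2 : (s : G) = 1 := by
    have key : ∀ x ∈ D.SS i, x = 1 := fun x hx => by
      rw [h] at hx
      exact mem_bot.1 hx
    exact key s s.2
  have h3 : (D.half i s : G) = E.xa 1 := congrArg Subtype.val hs
  rw [half_apply, h2] at h3
  have h4 : E.xa 1 = E.xa 0 := by rw [E.toWEnv.xa_zero, ← h3]; group
  exact one_ne_zero (xa_inj h4)

/-! ### The torus -/

omit [Finite G] in
theorem T_X (i : Bool) (k : Fin 8) {g : G} (hg : g ∈ E.T) : kj g (D.X i k) ≤ D.X i k := by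
  have hA : ∀ g ∈ E.T, kj g (D.AA i) ≤ D.AA i := by
    intro g hg x hx
    have h1 := D.T_A i g⁻¹ (inv_mem hg) _ (mem_kj.1 hx)
    rwa [show g⁻¹ * (g * x * g⁻¹) * g⁻¹⁻¹ = x by group] at h1
  have hP : ∀ g ∈ E.T, kj g (D.PP i) ≤ D.PP i := by
    intro g hg x hx
    have h1 := D.T_P i g⁻¹ (inv_mem hg) _ (mem_kj.1 hx)
    rwa [show g⁻¹ * (g * x * g⁻¹) * g⁻¹⁻¹ = x by group] at h1
  have key : ∀ (n : G) (H : Subgroup G), (∀ g ∈ E.T, n * g * n⁻¹ ∈ E.T) → (∀ g ∈ E.T, kj g H ≤ H) →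
      ∀ g ∈ E.T, kj g (kj n H) ≤ kj n H := by
    intro n H hn hH g hg
    have h1 : n * g = (n * g * n⁻¹) * n := by group
    rw [kj_kj, h1, ← kj_kj]
    exact kj_mono n (hH _ (hn g hg))
  have hna : ∀ g ∈ E.T, E.na * g * E.na⁻¹ ∈ E.T := fun g hg => (E.na_T g).1 hg
  have hnb : ∀ g ∈ E.T, E.nb * g * E.nb⁻¹ ∈ E.T := fun g hg => (E.nb_T g).1 hg
  have hab : ∀ g ∈ E.T, (E.na * E.nb) * g * (E.na * E.nb)⁻¹ ∈ E.T := by
    intro g hg
    have := hna _ (hnb g hg)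
    rwa [show E.na * (E.nb * g * E.nb⁻¹) * E.na⁻¹ = (E.na * E.nb) * g * (E.na * E.nb)⁻¹ by group] at this
  have haba : ∀ g ∈ E.T, (E.na * E.nb * E.na) * g * (E.na * E.nb * E.na)⁻¹ ∈ E.T := by
    intro g hg
    have := hab _ (hna g hg)
    rwa [show (E.na * E.nb) * (E.na * g * E.na⁻¹) * (E.na * E.nb)⁻¹ =
      (E.na * E.nb * E.na) * g * (E.na * E.nb * E.na)⁻¹ by group] at this
  match k with
  | 0 => exact key _ _ hab hP g hg
  | 1 => exact hA g hg
  | 2 => exact hP g hg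
  | 3 => exact key _ _ hnb hA g hg
  | 4 => exact key _ _ hna hP g hg
  | 5 => exact key _ _ hna hA g hg
  | 6 => exact key _ _ haba hP g hg
  | 7 => exact key _ _ hab hA g hg

/-- **The data of Theorem W.** -/
theorem pdata : PData Gr.toQGrown.S0 (D.SS false) (D.SS true) (D.LL false) (D.LL true) := by
  have : Finite F := finite_F E.toWEnv
  have hi : ∀ i, CentIndec (D.SS i) := fun i =>
    ChartUni.centIndec_of_equiv (D.equivU i).symm (UFiveUni.centIndec_of_finite E)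
  have hc : ∀ i, centralizer ((⁅D.SS i, D.SS i⁆ : Subgroup G) : Set G) ⊓ D.SS i ≤ ⁅D.SS i, D.SS i⁆ := fun i =>
    ChartUni.centralizer_le_of_equiv (D.equivU i).symm (UFiveUni.centralizer_le E)
  refine ⟨⟨⟨D.SS_le _, D.SS_le _, fun a ha b hb => D.SS_comm ha hb, ?_, D.SS_sup⟩, ?_, D.SS_ne _, D.SS_ne _,
    hi _, hi _, hc _, hc _⟩, D.LL_perf _, D.LL_perf _, D.SS_le_LL _, D.SS_le_LL _, ?_, ?_⟩
  · rw [eq_bot_iff]
    intro g hg
    obtain ⟨h1, h2⟩ := mem_inf.1 hg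
    exact mem_bot.2 (D.SS_inf false h1 h2)
  · rw [D.card_SS, D.card_SS]
  · exact (D.LL_comm false).trans (centralizer_le (D.SS_le_LL true))
  · exact (D.LL_comm true).trans (centralizer_le (D.SS_le_LL false))

end Cfsg.Agent.StdRank2.SC.Five.SplitG
end

private theorem dce_252dd3f785dd : _root_.True := by
  try have : _root_.True := by simp only [_root_.Cfsg.Agent.StdRank2.L3WJ.S0.eq_1]
  try have : _root_.True := by simp only [_root_.Cfsg.Agent.StdRank2.L3W6.Types.om.congr_simp]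
  try have : _root_.True := by simp only [_root_.Cfsg.Agent.StdRank2.L3W.CtFacts.Kf.congr_simp]
  exact _root_.True.intro
end

-- part: StdSpFour/CaseCEnd_mg
section
prune_inst 0x400200020480000000000000040001c0292000002004804000401040004880c4004000820802021114000080400340040000000000000000000000000011800800000000480480000000000000000000000000000000000000000000000000000000000000
set_option linter.all false
open scoped Cfsg.Agent.FastGrp

-- part: StdSpFour/UFiveRoot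
section
/-!
# S1778, type Sp₄(q), target U₅(q): the root groups of `E`, the Weyl elements of `X 0`
-/

set_option autoImplicit false
set_option linter.unusedSectionVars false
set_option linter.unusedSimpArgs false
set_option linter.unusedVariables false

namespace Cfsg.Agent.StdSpFour.UFive

open Cfsg.Agent.StdSpFour.UFiveModel Cfsg.Agent.StdSpFour.UFiveModel.T5 Cfsg.Agent.StdSpFour.StarField Subgroup
open Cfsg.Agent.StdSpFour.ModelFacts Cfsg.Agent.SplitTwo Cfsg.Agent.StdSpFour.RootEight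
open Cfsg.Agent.StdSpFour.UFour (cg cg_mul cg_one cg_inv cg_comp cg_inv_cg cg_cg_inv cg_inj cg_eq_self comm_of_cg
  mem_norm exists_norm)

variable {K : Type*} [Field K] [StarRing K] [CharP K 2] [Finite K] {G : Type*} [Group G]

namespace Env

variable (V : Env K G)

/-- the eight root groups -/
def X : ZMod (2 * 4) → Subgroup G := fun i =>
  if i = 0 then V.X0 else if i = 1 then V.X1 else if i = 2 then V.X2 else if i = 3 then V.X3
  else if i = 4 then V.X4 else if i = 5 then cjS V.na V.X7 else if i = 6 then cjS V.nb V.X4 else V.X7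

theorem X_5 : V.X 5 = cjS V.na V.X7 := rfl
theorem X_6 : V.X 6 = cjS V.nb V.X4 := rfl
/-- an involution exchanging two subgroups -/
theorem cjS_eq_of {g : G} (hg : g * g = 1) {A B : Subgroup G} (h1 : ∀ x ∈ A, cg g x ∈ B) (h2 : ∀ x ∈ B, cg g x ∈ A) :
    cjS g A = B := by
  apply le_antisymm
  · rintro _ ⟨x, hx, rfl⟩
    exact h1 x hx
  · intro x hx
    refine ⟨cg g x, h2 x hx, ?_⟩
    show cg g (cg g x) = x
    rw [← cg_comp, hg]
    simp [cg]

theorem cjS_cjS_of {g : G} (hg : g * g = 1) (A : Subgroup G) : cjS g (cjS g A) = A := by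
  rw [← cjS_mul, hg, cjS_one]

theorem na_X1 : cjS V.na V.X1 = V.X3 := by
  apply cjS_eq_of V.na_na
  · rintro _ ⟨x, ⟨a1, a2, a3, a4⟩, rfl⟩
    rw [V.na_r x a1]
    exact V.f_X3.2 ⟨rfl, a3, by simp only [swR, a2, a3, _root_.star_zero, _root_.MulZeroClass.mul_zero, _root_.add_zero], by simp only [swR, a4, _root_.star_zero]⟩
  · rintro _ ⟨x, ⟨a1, a2, a3, a4⟩, rfl⟩
    rw [V.na_r x a1]
    exact V.f_X1.2 ⟨rfl, by simp only [swR, a2, a3, _root_.star_zero, _root_.MulZeroClass.zero_mul, _root_.add_zero], a2, by simp only [swR, a4, _root_.star_zero]⟩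

theorem na_X3 : cjS V.na V.X3 = V.X1 := by rw [← V.na_X1, cjS_cjS_of V.na_na]

theorem na_X2 : cjS V.na V.X2 = V.X2 := by
  have : ∀ x ∈ V.X2, cg V.na x ∈ V.X2 := by
    rintro _ ⟨x, ⟨a1, a2, a3, a4, a5⟩, rfl⟩
    rw [V.na_r x a1]
    exact V.f_X2.2 ⟨rfl, a4, by simp only [swR, a5, _root_.star_zero], a2, by simp only [swR, a3, _root_.star_zero]⟩
  exact cjS_eq_of V.na_na this this

theorem na_R : cjS V.na V.R = V.R := by
  have : ∀ x ∈ V.R, cg V.na x ∈ V.R := by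
    rintro _ ⟨x, a1, rfl⟩
    rw [V.na_r x a1]
    exact V.f_R.2 rfl
  exact cjS_eq_of V.na_na this this

theorem na_W : cjS V.na V.W = V.W := by
  have : ∀ x ∈ V.W, cg V.na x ∈ V.W := by
    rintro _ ⟨x, hx, rfl⟩
    rw [V.na_w hx]
    exact V.f_W.2 (swR_W hx)
  exact cjS_eq_of V.na_na this this

theorem nb_X1 : cjS V.nb V.X1 = V.X1 := by
  have : ∀ x ∈ V.X1, cg V.nb x ∈ V.X1 := by
    rintro _ ⟨x, ⟨a1, a2, a3, a4⟩, rfl⟩
    rw [V.nb_q x a3 a4]
    exact V.f_X1.2 ⟨a2, a1, rfl, rfl⟩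
  exact cjS_eq_of V.nb_nb this this

theorem nb_X0 : cjS V.nb V.X0 = V.X2 := by
  apply cjS_eq_of V.nb_nb
  · rintro _ ⟨x, ⟨a1, a2, a3, a4, a5⟩, rfl⟩
    rw [V.nb_q x a4 a5]
    exact V.f_X2.2 ⟨a2, a1, a3, rfl, rfl⟩
  · rintro _ ⟨x, ⟨a1, a2, a3, a4, a5⟩, rfl⟩
    rw [V.nb_q x a4 a5]
    exact V.f_X0.2 ⟨a2, a1, a3, rfl, rfl⟩

theorem nb_X2 : cjS V.nb V.X2 = V.X0 := by rw [← V.nb_X0, cjS_cjS_of V.nb_nb]

section braid

theorem na_X' (i : ZMod (2 * 4)) (hbr : V.na * V.nb * V.na * V.nb = V.nb * V.na * V.nb * V.na) :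
    cjS V.na (V.X i) = V.X (4 - i) := by
  have key : ∀ j : ZMod (2 * 4), j = 0 ∨ j = 1 ∨ j = 2 ∨ j = 3 ∨ j = 4 ∨ j = 5 ∨ j = 6 ∨ j = 7 := by decide
  rcases key i with rfl | rfl | rfl | rfl | rfl | rfl | rfl | rfl
  · rfl
  · exact V.na_X1
  · exact V.na_X2
  · exact V.na_X3
  · exact cjS_cjS_of V.na_na _
  · exact cjS_cjS_of V.na_na _
  · show cjS V.na (cjS V.nb (cjS V.na V.X0)) = cjS V.nb (cjS V.na V.X0)
    have h1 : cjS (V.na * V.nb * V.na * V.nb) V.X2 = cjS (V.nb * V.na * V.nb * V.na) V.X2 := by rw [hbr]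
    rw [cjS_mul, cjS_mul, cjS_mul, V.nb_X2, cjS_mul, cjS_mul, cjS_mul, V.na_X2, V.nb_X2] at h1
    exact h1
  · rfl

theorem nb_X' (i : ZMod (2 * 4)) (hbr : V.na * V.nb * V.na * V.nb = V.nb * V.na * V.nb * V.na) :
    cjS V.nb (V.X i) = V.X (2 - i) := by
  have key : ∀ j : ZMod (2 * 4), j = 0 ∨ j = 1 ∨ j = 2 ∨ j = 3 ∨ j = 4 ∨ j = 5 ∨ j = 6 ∨ j = 7 := by decide
  rcases key i with rfl | rfl | rfl | rfl | rfl | rfl | rfl | rfl
  · exact V.nb_X0
  · exact V.nb_X1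
  · exact V.nb_X2
  · rfl
  · rfl
  · show cjS V.nb (cjS V.na (cjS V.nb V.X3)) = cjS V.na (cjS V.nb V.X3)
    have h1 : cjS (V.na * V.nb * V.na * V.nb) V.X1 = cjS (V.nb * V.na * V.nb * V.na) V.X1 := by rw [hbr]
    rw [cjS_mul, cjS_mul, cjS_mul, V.nb_X1, V.na_X1, cjS_mul, cjS_mul, cjS_mul, V.na_X1] at h1
    exact h1.symm
  · exact cjS_cjS_of V.nb_nb _
  · exact cjS_cjS_of V.nb_nb _

end braid

/-! ### the Weyl elements of `X 0` -/

/-- `{h 1 γ}` -/
def D : Subgroup G := _root_.Subgroup.closure {x | ∃ γ ∈ Fx K, γ ≠ 0 ∧ x = V.h 1 γ}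

theorem Ka_D : V.Ka ≤ centralizer (V.D : Set G) := by
  intro x hx
  rw [D, centralizer_closure, mem_centralizer_iff]
  rintro _ ⟨γ, hγ, h0, rfl⟩
  exact V.h_Ka hγ h0 hx

theorem exists_beta (h4 : 4 ≤ Nat.card (Fx K)) : ∃ β ∈ Fx K, β ≠ 0 ∧ β ≠ 1 := by
  by_contra hcon
  push Not at hcon
  have h1 : (Fx K : Set K) ⊆ ({0, 1} : Set K) := by
    intro x hx
    by_cases h : x = 0
    · exact Or.inl h
    · exact Or.inr (hcon x hx h)
  have h2 := Set.ncard_le_ncard h1 (Set.toFinite _)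
  have h3 := h2.trans ((Set.ncard_insert_le _ _).trans (by simp : _ ≤ 2))
  have h5 : Nat.card (Fx K) = (Fx K : Set K).ncard := rfl
  omega

theorem T_D (h4 : 4 ≤ Nat.card (Fx K)) : V.T ⊓ centralizer (V.D : Set G) ≤ V.X0 := by
  rintro _ ⟨⟨x, rfl⟩, hx⟩
  have h1F : (1 : K) ∈ Fx K := star_one K
  obtain ⟨β, hβ, hβ0, hβ1⟩ := exists_beta h4
  have h1 := mem_centralizer_iff.1 hx (V.h 1 β) (subset_closure ⟨β, hβ, hβ0, rfl⟩)
  have h2 := cg_eq_self h1
  rw [V.h_f 1 β h1F hβ one_ne_zero hβ0] at h2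
  have h3 := V.inj h2
  have key : ∀ y : K, β * y = y → y = 0 := by
    intro y hy
    have : (β - 1) * y = 0 := by linear_combination hy
    exact (mul_eq_zero.1 this).resolve_left (sub_ne_zero.2 hβ1)
  have key2 : ∀ y : K, β ^ 2 * y = y → y = 0 := by
    intro y hy
    apply key
    have h4 : (β + 1) * ((β + 1) * y) = 0 := by linear_combination hy + (β * y + y) * two0 (K := K)
    have h5 : β + 1 ≠ 0 := fun h => hβ1 (CharTwo.add_eq_zero.1 h)
    have h6 := (mul_eq_zero.1 h4).resolve_left h5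
    linear_combination h6 - y * two0 (K := K)
  have e1 := congrArg T5.w2 h3
  have e2 := congrArg T5.w3 h3
  have e3 := congrArg T5.c h3
  have e4 := congrArg T5.y h3
  have e5 := congrArg T5.d h3
  simp only [dia, one_mul, one_pow] at e1 e2 e3 e4 e5
  exact V.f_X0.2 ⟨key _ e1, key2 _ e2, key2 _ e3, key _ e4, key2 _ e5⟩

theorem T_norm_R {x : G} (hx : x ∈ V.T) {y : G} (hy : y ∈ V.R) : cg x y ∈ V.R := by
  obtain ⟨x, rfl⟩ := hx
  obtain ⟨y, hy, rfl⟩ := hy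
  rw [V.cg_f]
  apply V.f_R.2
  rw [mul_inv_mem_Rm, mul_w1, show y.w1 = 0 from hy, add_zero]

theorem T_le_norm {A : Subgroup G} (h : ∀ x ∈ V.T, ∀ y ∈ A, cg x y ∈ A) : V.T ≤ normalizer (A : Set G) :=
  fun x hx => mem_norm (fun y hy => h x hx y hy) (fun y hy => h x⁻¹ (inv_mem hx) y hy)

theorem X0_norm_R : V.X0 ≤ normalizer (V.R : Set G) :=
  V.X0_le.trans (V.T_le_norm fun _ hx _ hy => V.T_norm_R hx hy)

theorem T_norm_W : V.T ≤ normalizer (V.W : Set G) := V.T_le_norm fun x hx y hy => V.T_normal_W x hx y hy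

theorem cent_X0 (hs : ∃ x : K, star x ≠ x) : V.R ⊓ centralizer (V.X0 : Set G) = V.X1 := by
  apply le_antisymm
  · rintro _ ⟨⟨r, hr, rfl⟩, hx⟩
    have hr : r.w1 = 0 := hr
    have key : ∀ m : K, e1 m * r = r * e1 m := by
      intro m
      apply V.inj
      rw [map_mul, map_mul]
      exact mem_centralizer_iff.1 hx _ (V.e1_X0 m)
    have k1 := congrArg T5.w2 (key 1)
    have k2 := congrArg T5.w3 (key 1)
    simp only [mul_w2, mul_w3, e1, hr, mul_zero, zero_mul, add_zero, zero_add, mul_one, star_zero] at k1 k2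
    have hy : r.y = 0 := by linear_combination -k1
    have hd : r.d = 0 := by linear_combination -k2
    have hw : r.w3 = 0 := by
      apply no_sym hs
      intro m
      have k3 := congrArg T5.c (key m)
      rw [mul_c, mul_c] at k3
      simp only [e1, hr, hy, hd, mul_zero, zero_mul, add_zero, zero_add, star_zero] at k3
      linear_combination -k3
    exact V.f_X1.2 ⟨hr, hw, hy, hd⟩
  · rintro _ ⟨x, ⟨a1, a2, a3, a4⟩, rfl⟩
    refine ⟨V.f_R.2 a1, mem_centralizer_iff.2 ?_⟩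
    rintro _ ⟨y, ⟨b1, b2, b3, b4, b5⟩, rfl⟩
    rw [← map_mul, ← map_mul]
    congr 1
    ext
    · simp only [mul_w1, a1, b1]; ring
    · simp only [mul_w2, a1, a3, b1, b4]; ring
    · simp only [mul_w3, a1, a2, a3, a4, b1, b2, b4, b5, star_zero]; ring
    · simp only [mul_c, a1, a2, a3, a4, b1, b2, b3, b4, b5, star_zero, mul_zero, zero_mul, add_zero, zero_add]
    · simp only [mul_y]; ring
    · simp only [mul_d, a3, b4, star_zero]; ring

theorem mem_X12 {x : T5 K} : V.f x ∈ V.X1 ⊔ V.X2 ↔ x.w1 = 0 ∧ x.y = 0 ∧ x.d = 0 := by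
  constructor
  · intro hx
    have h1 : V.X1 ⊔ V.X2 ≤ (Rm K ⊓ Qm K).map V.f := by
      refine sup_le (Subgroup.map_mono ?_) (Subgroup.map_mono ?_)
      · exact fun y hy => ⟨hy.1, hy.2.2.1, hy.2.2.2⟩
      · exact fun y hy => ⟨hy.1, hy.2.2.2.1, hy.2.2.2.2⟩
    obtain ⟨h2, h3, h4⟩ := V.f_mem.1 (h1 hx)
    exact ⟨h2, h3, h4⟩
  · rintro ⟨h1, h2, h3⟩
    rw [Qm_decomp ⟨h2, h3⟩, map_mul, map_mul]
    have e : (e1 x.w1 : T5 K) = 1 := by rw [h1]; rfl
    rw [e, map_one, one_mul]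
    exact mul_mem (mem_sup_left (V.f_X1.2 (ccE_mem _ _ _))) (mem_sup_right (V.em_X2 _))

theorem X12_le : V.X1 ⊔ V.X2 ≤ V.T := sup_le V.X1_le V.X2_le

theorem com_X0 : V.X1 ⊔ ⁅V.X0, V.R⁆ = V.X1 ⊔ V.X2 := by
  apply le_antisymm
  · refine sup_le le_sup_left ?_
    rw [commutator_le]
    rintro _ ⟨x, hx, rfl⟩ _ ⟨r, hr, rfl⟩
    show V.f x * V.f r * (V.f x)⁻¹ * (V.f r)⁻¹ ∈ _
    rw [← map_mul, ← map_inv, ← map_mul, ← map_inv, ← map_mul]
    apply V.mem_X12.2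
    have hr : r.w1 = 0 := hr
    obtain ⟨a1, a2, a3, a4, a5⟩ := hx
    have e : x * r * x⁻¹ * r⁻¹ = (x * r) * (r * x)⁻¹ := by group
    have h1 : (x * r) * (r * x)⁻¹ ∈ Qm K := by
      rw [mul_inv_mem_Qm]
      simp only [mul_y, mul_d, a4, a5]
      simp only [_root_.zero_add, _root_.add_zero, _root_.star_zero, _root_.MulZeroClass.zero_mul, _root_.MulZeroClass.mul_zero, _root_.and_self]
    have h2 : (x * r) * (r * x)⁻¹ ∈ Rm K := by
      rw [mul_inv_mem_Rm]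
      simp only [mul_w1]
      ring
    rw [e]
    exact ⟨h2, h1.1, h1.2⟩
  · refine sup_le le_sup_left ?_
    rintro _ ⟨x, hx, rfl⟩
    have h1 : V.f (e1 x.w3) * V.f oned * (V.f (e1 x.w3))⁻¹ * (V.f oned)⁻¹ ∈ ⁅V.X0, V.R⁆ :=
      commutator_mem_commutator (V.e1_X0 _) (V.f_R.2 rfl)
    rw [← map_mul, ← map_inv, ← map_mul, ← map_inv, ← map_mul] at h1
    have h2 : V.f (oned * e1 x.w3 * oned⁻¹ * (e1 x.w3)⁻¹) ∈ ⁅V.X0, V.R⁆ := by
      have h3 := inv_mem h1
      rw [← map_inv] at h3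
      convert h3 using 2
      group
    obtain ⟨⟨b4, b5⟩, b1, b2, b3⟩ := comm_Qm' (oned : T5 K) (e1_mem x.w3)
    obtain ⟨a1, a2, a3, a4, a5⟩ := hx
    have hZ : V.Z ≤ V.X1 ⊔ ⁅V.X0, V.R⁆ :=
      le_trans (Subgroup.map_mono fun _ h => ⟨h.1, h.2.2.1, h.2.2.2.1, h.2.2.2.2⟩ : V.Z ≤ V.X1) le_sup_left
    apply V.mem_of_Z hZ (mem_sup_right h2)
    · rw [b1, a1]
    · rw [b2, a2]; simp [oned]
    · rw [b3]; simp [oned, e1]
    · rw [b4, a4]
    · rw [b5, a5]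

theorem inf_X : (V.X1 ⊔ V.X2) ⊓ (V.X3 ⊔ V.X2) = V.X2 := by
  apply le_antisymm
  · rintro x ⟨h1, h2⟩
    obtain ⟨x, rfl⟩ := V.X12_le h1
    obtain ⟨a1, a2, a3⟩ := V.mem_X12.1 h1
    have h3 : V.na * V.f x * V.na⁻¹ ∈ cjS V.na (V.X3 ⊔ V.X2) := mem_cjS.2 h2
    rw [cjS_sup, V.na_X3, V.na_X2] at h3
    rw [show V.na * V.f x * V.na⁻¹ = _ from V.na_r x a1, V.mem_X12] at h3
    obtain ⟨-, h4, h5⟩ := h3
    exact V.f_X2.2 ⟨a1, h4, by simpa only [swR, _root_.star_eq_zero] using h5, a2, a3⟩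
  · exact le_inf le_sup_right le_sup_right

/-- `Ka` permutes the points: an element of `Ka` fixes `Z` or maps it as `x na`, `x ∈ X 0` -/
theorem Ka_points [Finite G] {k : G} (hk : k ∈ V.Ka) :
    cjS k V.Z = V.Z ∨ ∃ x ∈ V.X0, cjS k V.Z = cjS (x * V.na) V.Z := by
  have h1F : (1 : K) ∈ Fx K := star_one K
  have hz1 : V.f (ec 1 h1F) ≠ 1 := fun h =>
    one_ne_zero (congrArg T5.c (V.inj (h.trans (map_one V.f).symm)))
  have hz : V.f (ec 1 h1F) ∈ V.Z := V.f_Z.2 (ec_mem _ _)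
  -- an element of `Ka` mapping `z` into `Z` fixes `Z`
  have fix : ∀ k ∈ V.Ka, ∀ z ∈ V.Z, z ≠ 1 → cg k z ∈ V.Z → cjS k V.Z = V.Z := by
    intro k hk z hz hz1 h
    have h1 : cjS k V.Z ≤ V.Z := by
      rintro _ ⟨z', hz', rfl⟩
      exact V.Ka_TI' hk hz hz1 h hz'
    exact Subgroup.eq_of_le_of_card_ge h1 (by rw [Subgroup.card_map_of_injective (MulAut.conj k).injective])
  have h1 : cg k (V.f (ec 1 h1F)) ∈ V.S := (V.S_iff' _).2 ⟨k, hk, _, hz, hz1, rfl⟩
  obtain ⟨w, ⟨hw, h2, h3⟩, h4⟩ := h1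
  have hdM : w.d ∈ Fx K := (Wm_c hw).2
  have hdF : star w.d = w.d := hdM
  by_cases hd : w.d = 0
  · left
    refine fix k hk _ hz hz1 ?_
    rw [← h4]
    exact V.f_Z.2 (Sm_Qm ⟨hw, h2, h3⟩ ⟨hw.2.2, hd⟩)
  · right
    refine ⟨V.f (e1 (w.w3 / w.d)), V.e1_X0 _, ?_⟩
    set x := V.f (e1 (w.w3 / w.d)) with hx
    have hxK : x * V.na ∈ V.Ka := mul_mem (mem_sup_left (V.e1_X0 _)) V.na_mem
    have h7 : cg (x * V.na) (V.f (wEl 0 w.d 0 hdM (zero_mem _))) = cg k (V.f (ec 1 h1F)) := by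
      rw [← h4, cg_comp, V.na_wEl, hx, V.a_wEl]
      congr 1
      apply Wm_ext (wEl_mem _ _ _ _ _) hw
      · show star (0 : K) + w.d * (w.w3 / w.d) = w.w3
        rw [star_zero]
        field_simp
        ring
      · show (0 : K) + (w.w3 / w.d * star (star (0 : K)) + star (0 : K) * star (w.w3 / w.d)) +
          w.d * (w.w3 / w.d * star (w.w3 / w.d)) = w.c
        rw [star_div₀, hdF]
        simp only [star_zero, mul_zero, zero_mul, zero_add]
        field_simp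
        linear_combination -h2
      · rfl
    have h8 : cg ((x * V.na)⁻¹ * k) (V.f (ec 1 h1F)) = V.f (wEl 0 w.d 0 hdM (zero_mem _)) := by
      rw [cg_comp, ← h7, cg_inv_cg]
    have h9 := fix _ (mul_mem (inv_mem hxK) hk) _ hz hz1 (by
      rw [h8]; exact V.f_Z.2 ⟨rfl, rfl, rfl, rfl, rfl⟩)
    have h10 : k = (x * V.na) * ((x * V.na)⁻¹ * k) := by group
    rw [h10, cjS_mul, h9]

theorem Ka_cjS_W {k : G} (hk : k ∈ V.Ka) : cjS k V.W = V.W := by
  have : V.Ka ≤ normalizer (V.W : Set G) := V.Ka_le_of (V.X0_le.trans V.T_norm_W) (mem_normalizer_of_cjS V.na_W)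
  exact cjS_eq_of_normalizer (this hk)

theorem Z_eq (hs : ∃ x : K, star x ≠ x) : V.T ⊓ centralizer (V.T : Set G) = V.Z := by
  apply le_antisymm
  · rintro _ ⟨⟨x, rfl⟩, hx⟩
    apply V.f_Z.2
    apply Q_cent hs
    intro y hy
    apply V.inj
    rw [map_mul, map_mul]
    exact (mem_centralizer_iff.1 hx _ (V.f_T y)).symm
  · intro z hz
    exact mem_inf.2 ⟨V.Z_le hz, mem_centralizer_iff.2 fun x hx => (V.Z_cent' hz hx).symm⟩

theorem cjS_Z_of_T (hs : ∃ x : K, star x ≠ x) {g h : G} (e : cjS g V.T = cjS h V.T) : cjS g V.Z = cjS h V.Z := by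
  rw [← V.Z_eq hs, cjS_inf, cjS_inf, cjS_centralizer, cjS_centralizer, e]

theorem na_Z_eq : cjS V.na V.Z = V.Xb := by
  apply cjS_eq_of V.na_na
  · rintro _ ⟨x, hx, rfl⟩
    obtain ⟨hc, -⟩ := eq_ec hx
    obtain ⟨a1, a2, a3, a4, a5⟩ := hx
    rw [V.na_r x a1]
    exact V.f_Xb.2 ⟨rfl, a4, by simp only [swR, a2, a3, _root_.star_zero, _root_.MulZeroClass.zero_mul, _root_.add_zero], by simp only [swR, a5, _root_.star_zero], a2⟩
  · rintro _ ⟨x, ⟨a1, a2, a3, a4, a5⟩, rfl⟩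
    rw [V.na_r x a1]
    exact V.f_Z.2 ⟨rfl, a5, by simp only [swR, a2, a3, _root_.star_zero, _root_.MulZeroClass.zero_mul, _root_.add_zero], a2, by simp only [swR, a4, _root_.star_zero]⟩

theorem reg' (hs : ∃ x : K, star x ≠ x) : ∀ x ∈ V.X0, cjS (x * V.na) V.T = cjS V.na V.T → x = 1 := by
  intro x hx h
  have h1 := V.cjS_Z_of_T hs h
  have h1F : (1 : K) ∈ Fx K := star_one K
  rw [cjS_mul, V.na_Z_eq] at h1
  obtain ⟨x, hx, rfl⟩ := hx
  have h2 : cg (V.f x) (V.f (wEl 0 0 1 (zero_mem _) h1F)) ∈ V.Xb := by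
    rw [← h1]
    exact ⟨_, V.f_Xb.2 ⟨rfl, rfl, rfl, rfl, rfl⟩, rfl⟩
  rw [V.a_wEl] at h2
  obtain ⟨-, -, h3, h4, h5⟩ := V.f_Xb.1 h2
  simp only [wEl, one_mul, zero_add] at h3
  rw [eq_e1 hx, h3]
  exact map_one V.f

theorem tr' [Finite G] {E : Subgroup G} (hE : V.Ka ≤ E)
    (nW : ∀ g ∈ E, cjS g V.W = V.W → cjS g V.Z = V.Z → cjS g V.T = V.T) :
    ∀ k ∈ _root_.Subgroup.closure ((V.X0 : Set G) ∪ {V.na}), cjS k V.T = V.T ∨ ∃ x ∈ V.X0, cjS k V.T = cjS (x * V.na) V.T := by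
  intro k hk
  have hkK : k ∈ V.Ka := by
    have : _root_.Subgroup.closure ((V.X0 : Set G) ∪ {V.na}) ≤ V.Ka := by
      rw [closure_le]
      rintro x (hx | hx)
      · exact mem_sup_left hx
      · rw [Set.mem_singleton_iff.1 hx]
        exact V.na_mem
    exact this hk
  rcases V.Ka_points hkK with h | ⟨x, hx, h⟩
  · exact Or.inl (nW k (hE hkK) (V.Ka_cjS_W hkK) h)
  · right
    refine ⟨x, hx, ?_⟩
    have hxK : x * V.na ∈ V.Ka := mul_mem (mem_sup_left hx) V.na_mem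
    have h1 : (x * V.na)⁻¹ * k ∈ V.Ka := mul_mem (inv_mem hxK) hkK
    have h2 : cjS ((x * V.na)⁻¹ * k) V.Z = V.Z := by
      rw [cjS_mul, h, ← cjS_mul, inv_mul_cancel, cjS_one]
    have h3 := nW _ (hE h1) (V.Ka_cjS_W h1) h2
    have h10 : k = (x * V.na) * ((x * V.na)⁻¹ * k) := by group
    rw [h10, cjS_mul, h3]

theorem mu0' [Finite G] (hs : ∃ x : K, star x ≠ x) (h4 : 4 ≤ Nat.card (Fx K)) {E : Subgroup G} (hE : V.Ka ≤ E)
    (nW : ∀ g ∈ E, cjS g V.W = V.W → cjS g V.Z = V.Z → cjS g V.T = V.T)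
    (hbr : V.na * V.nb * V.na * V.nb = V.nb * V.na * V.nb * V.na) :
    ∀ u ∈ V.X 0, u ≠ 1 → ∃ v ∈ V.X 4, ∃ v' ∈ V.X 4, ∀ j, cjS (v * u * v') (V.X j) = V.X (4 - j) := by
  set w := V.nb * V.na * V.nb with hw
  have w_X : ∀ i, cjS w (V.X i) = V.X (-i) := by
    intro i
    rw [hw, cjS_mul, cjS_mul, V.nb_X' _ hbr, V.na_X' _ hbr, V.nb_X' _ hbr]
    congr 1
    ring
  have w0 : cjS w V.X0 = V.X0 := w_X 0
  have wn : w * V.na = V.na * w := by
    rw [hw]
    have := hbr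
    calc V.nb * V.na * V.nb * V.na = V.na * V.nb * V.na * V.nb := this.symm
      _ = _ := by group
  have w1 : cjS w V.X1 = V.X 7 := w_X 1
  have w2 : cjS w V.X2 = V.X 6 := w_X 2
  have w3 : cjS w V.X3 = V.X 5 := w_X 3
  have hwinv : w * w = 1 := by
    rw [hw]
    calc V.nb * V.na * V.nb * (V.nb * V.na * V.nb) = V.nb * V.na * (V.nb * V.nb) * V.na * V.nb := by group
      _ = V.nb * (V.na * V.na) * V.nb := by rw [V.nb_nb]; group
      _ = 1 := by rw [V.na_na, mul_one, V.nb_nb]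
  have hX0D : V.X0 ≤ centralizer (V.D : Set G) := (le_sup_left : V.X0 ≤ V.Ka).trans V.Ka_D
  refine mu_of (X := V.X) (n := V.na) (D := V.D) (T := V.T) (R := V.R) (R' := cjS w V.R)
    (fun i => V.na_X' i hbr) hX0D (V.Ka_D V.na_mem) (V.T_D h4) V.X0_le (by rw [V.na_na, cjS_one]) (V.tr' hE nW)
    (V.reg' hs) V.na_R ?_ V.X0_norm_R ?_ (V.cent_X0 hs) ?_ V.com_X0 ?_ V.inf_X ?_
  · rw [← cjS_mul, ← wn, cjS_mul, V.na_R]
  · intro x hx
    have h1 : w * x * w⁻¹ ∈ V.X0 := by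
      rw [← w0]; exact ⟨x, hx, rfl⟩
    apply mem_normalizer_of_cjS
    have h2 := cjS_eq_of_normalizer (V.X0_norm_R h1)
    have h3 : x * w = w * (w * x * w⁻¹) := by
      have : w⁻¹ = w := inv_eq_of_mul_eq_one_left hwinv
      rw [this]
      calc x * w = (w * w) * x * w := by rw [hwinv, one_mul]
        _ = _ := by group
    rw [← cjS_mul, h3, cjS_mul, h2]
  · have := congrArg (cjS w) (V.cent_X0 hs)
    rw [cjS_inf, cjS_centralizer, w0, w1] at this
    exact this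
  · have := congrArg (cjS w) V.com_X0
    rw [cjS_sup, cjS_sup, cjS_comm, w0, w1, w2] at this
    exact this
  · have := congrArg (cjS w) V.inf_X
    rw [cjS_inf, cjS_sup, cjS_sup, w1, w2, w3] at this
    exact this

end Env

end Cfsg.Agent.StdSpFour.UFive
end

-- part: StdSpFour/UFiveRootB
section
/-!
# S1778, type Sp₄(q), target U₅(q): the Weyl elements of `X 3`
-/

set_option autoImplicit false
set_option linter.unusedSectionVars false
set_option linter.unusedSimpArgs false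
set_option linter.unusedVariables false

namespace Cfsg.Agent.StdSpFour.UFive

open Cfsg.Agent.StdSpFour.UFiveModel Cfsg.Agent.StdSpFour.UFiveModel.T5 Cfsg.Agent.StdSpFour.StarField Subgroup
open Cfsg.Agent.StdSpFour.ModelFacts Cfsg.Agent.SplitTwo Cfsg.Agent.StdSpFour.RootEight
open Cfsg.Agent.StdSpFour.UFour (cg cg_mul cg_one cg_inv cg_comp cg_inv_cg cg_cg_inv cg_inj cg_eq_self comm_of_cg
  mem_norm exists_norm)

/-- one side of the root system -/
theorem fix_side {G : Type*} [Group G] {h : G} {X3 X7 Q Z A0 A1 A2 B0 B2 : Subgroup G}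
    (h3 : cjS h X3 = X3) (h7 : cjS h X7 = X7) (hQ : cjS h Q = Q) (hZ : cjS h Z = Z)
    (cent : Q ⊓ centralizer (X3 : Set G) = A2 ⊔ Z) (cent' : Q ⊓ centralizer (X7 : Set G) = A0 ⊔ Z)
    (com : ⁅X3, Q⁆ ⊔ (A2 ⊔ Z) = A1 ⊔ A2) (com' : ⁅X7, Q⁆ ⊔ (A0 ⊔ Z) = A1 ⊔ A0)
    (inf : (A1 ⊔ A2) ⊓ (A1 ⊔ A0) = A1) (hB2 : cjS h B2 = B2) (hB0 : cjS h B0 = B0)
    (i2 : (A2 ⊔ Z) ⊓ B2 = A2) (i0 : (A0 ⊔ Z) ⊓ B0 = A0) :
    cjS h A0 = A0 ∧ cjS h A1 = A1 ∧ cjS h A2 = A2 := by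
  have c2 : cjS h (A2 ⊔ Z) = A2 ⊔ Z := by rw [← cent, cjS_inf, hQ, cjS_centralizer, h3]
  have c0 : cjS h (A0 ⊔ Z) = A0 ⊔ Z := by rw [← cent', cjS_inf, hQ, cjS_centralizer, h7]
  have d2 : cjS h (A1 ⊔ A2) = A1 ⊔ A2 := by rw [← com, cjS_sup, cjS_comm, h3, hQ, c2]
  have d0 : cjS h (A1 ⊔ A0) = A1 ⊔ A0 := by rw [← com', cjS_sup, cjS_comm, h7, hQ, c0]
  refine ⟨?_, ?_, ?_⟩
  · conv_lhs => rw [← i0]
    rw [cjS_inf, c0, hB0, i0]
  · conv_lhs => rw [← inf]
    rw [cjS_inf, d2, d0, inf]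
  · conv_lhs => rw [← i2]
    rw [cjS_inf, c2, hB2, i2]

section model

variable {K : Type*} [Field K] [StarRing K] [CharP K 2]

/-- the form -/
def hh (v : T5 K) : K := v.w1 * star v.w3 + v.w2 * star v.w2 + v.w3 * star v.w1

theorem hh_conj (n : T5 K) {v : T5 K} (hv : v ∈ Qm K) : hh (n * v * n⁻¹) = hh v := by
  obtain ⟨-, h1, h2, h3⟩ := conj_Qm n hv
  have hd := n.hd
  rw [hh, h1, h2, h3, hh]
  simp only [star_add, star_mul', star_star]
  linear_combination v.w1 * star v.w1 * hd + (v.w1 * n.y * star v.w2 + v.w2 * star n.y * star v.w1 +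
    v.w1 * star v.w1 * n.y * star n.y) * two0 (K := K)

end model

variable {K : Type*} [Field K] [StarRing K] [CharP K 2] [Finite K] {G : Type*} [Group G]

namespace Env

variable (V : Env K G)

/-! ### the action of `Kb` on `Q/Z` -/

/-- `k` acts `K`-linearly on `Q/Z` and preserves the form -/
def Lin (k : G) : Prop := ∀ v ∈ Qm K, ∃ v' ∈ Qm K, cg k (V.f v) = V.f v' ∧ hh v' = hh v ∧
  ∀ l : K, ∀ u ∈ Qm K, u.w1 = l * v.w1 → u.w2 = l * v.w2 → u.w3 = l * v.w3 →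
    ∃ u' ∈ Qm K, cg k (V.f u) = V.f u' ∧ u'.w1 = l * v'.w1 ∧ u'.w2 = l * v'.w2 ∧ u'.w3 = l * v'.w3

/-- the linear elements -/
def linStab : Subgroup G where
  carrier := {k | V.Lin k ∧ V.Lin k⁻¹}
  mul_mem' := by
    have key : ∀ k k', V.Lin k → V.Lin k' → V.Lin (k * k') := by
      intro k k' h h' v hv
      obtain ⟨v1, hv1, e1, q1, l1⟩ := h' v hv
      obtain ⟨v2, hv2, e2, q2, l2⟩ := h v1 hv1
      refine ⟨v2, hv2, by rw [cg_comp, e1, e2], q2.trans q1, fun l u hu h1 h2 h3 => ?_⟩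
      obtain ⟨u1, hu1, f1, g1, g2, g3⟩ := l1 l u hu h1 h2 h3
      obtain ⟨u2, hu2, f2, i1, i2, i3⟩ := l2 l u1 hu1 g1 g2 g3
      exact ⟨u2, hu2, by rw [cg_comp, f1, f2], i1, i2, i3⟩
    rintro k k' ⟨h1, h2⟩ ⟨h3, h4⟩
    exact ⟨key _ _ h1 h3, by rw [mul_inv_rev]; exact key _ _ h4 h2⟩
  one_mem' := by
    have : V.Lin 1 := fun v hv => ⟨v, hv, by simp [cg], rfl, fun l u hu h1 h2 h3 => ⟨u, hu, by simp [cg], h1, h2, h3⟩⟩
    exact ⟨this, by rw [inv_one]; exact this⟩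
  inv_mem' := by
    rintro k ⟨h1, h2⟩
    exact ⟨h2, by rwa [inv_inv]⟩

theorem Lin_T (x : T5 K) : V.Lin (V.f x) := by
  intro v hv
  obtain ⟨h0, h1, h2, h3⟩ := conj_Qm x hv
  refine ⟨_, h0, V.cg_f x v, hh_conj x hv, fun l u hu e1 e2 e3 => ?_⟩
  obtain ⟨g0, g1, g2, g3⟩ := conj_Qm x hu
  refine ⟨_, g0, V.cg_f x u, ?_, ?_, ?_⟩
  · rw [g1, h1, e1]
  · rw [g2, h2, e2, e1]; ring
  · rw [g3, h3, e1, e2, e3]; ring

theorem Lin_nb : V.Lin V.nb := by
  intro v hv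
  refine ⟨swQ v, swQ_Q v, V.nb_q v hv.1 hv.2, ?_, fun l u hu e1 e2 e3 => ?_⟩
  · simp only [hh, swQ]; ring
  · exact ⟨swQ u, swQ_Q u, V.nb_q u hu.1 hu.2, e3, e2, e1⟩

theorem Kb_Lin : V.Kb ≤ V.linStab := by
  apply V.Kb_le_of
  · rintro _ ⟨x, hx, rfl⟩
    exact ⟨V.Lin_T x, by rw [← map_inv]; exact V.Lin_T _⟩
  · exact ⟨V.Lin_nb, by rw [V.nb_inv]; exact V.Lin_nb⟩

theorem mem_WQ {x : T5 K} : V.f x ∈ V.W ⊓ V.Q ↔ x.w1 = 0 ∧ x.w2 = 0 ∧ x.y = 0 ∧ x.d = 0 := by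
  constructor
  · rintro ⟨h1, h2⟩
    obtain ⟨a1, a2, a3⟩ := V.f_W.1 h1
    obtain ⟨b1, b2⟩ := V.f_Q.1 h2
    exact ⟨a1, a2, a3, b2⟩
  · rintro ⟨a1, a2, a3, a4⟩
    exact ⟨V.f_W.2 ⟨a1, a2, a3⟩, V.f_Q.2 ⟨a3, a4⟩⟩

/-- `Kb` permutes the isotropic lines -/
theorem Kb_points [Finite G] {k : G} (hk : k ∈ V.Kb) :
    cjS k (V.W ⊓ V.Q) = V.W ⊓ V.Q ∨ ∃ x ∈ V.X3, cjS k (V.W ⊓ V.Q) = cjS (x * V.nb) (V.W ⊓ V.Q) := by
  have fix : ∀ k ∈ V.Kb, ∀ v : T5 K, cg k (V.f (T5.em 1)) = V.f v → v.w1 = 0 → v.w2 = 0 →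
      cjS k (V.W ⊓ V.Q) = V.W ⊓ V.Q := by
    intro k hk v hv h1 h2
    have h3 : cjS k (V.W ⊓ V.Q) ≤ V.W ⊓ V.Q := by
      rintro _ ⟨x, hx, rfl⟩
      obtain ⟨x, rfl⟩ := V.W_le hx.1
      obtain ⟨a1, a2, a3, a4⟩ := V.mem_WQ.1 hx
      obtain ⟨v', hv', e1, -, l1⟩ := (V.Kb_Lin hk).1 _ (em_mem' (1 : K))
      have hvv : v' = v := V.inj (e1.symm.trans hv)
      subst hvv
      obtain ⟨u', hu', e2, b1, b2, b3⟩ := l1 x.w3 x ⟨a3, a4⟩ (by rw [a1]; simp [T5.em]) (by rw [a2]; simp [T5.em])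
        (by simp [T5.em])
      show cg k (V.f x) ∈ _
      rw [e2, V.mem_WQ]
      exact ⟨by rw [b1, h1, mul_zero], by rw [b2, h2, mul_zero], hu'.1, hu'.2⟩
    exact Subgroup.eq_of_le_of_card_ge h3 (by rw [Subgroup.card_map_of_injective (MulAut.conj k).injective])
  obtain ⟨v, hv, e1, q1, -⟩ := (V.Kb_Lin hk).1 _ (em_mem' (1 : K))
  have hq : v.w1 * star v.w3 + v.w2 * star v.w2 + v.w3 * star v.w1 = 0 := by
    have : hh v = 0 := by rw [q1]; simp [hh, T5.em]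
    exact this
  by_cases h1 : v.w1 = 0
  · left
    apply fix k hk v e1 h1
    rw [h1, star_zero, zero_mul, mul_zero, zero_add, add_zero] at hq
    exact norm_eq_zero hq
  · right
    have h1' : star v.w1 ≠ 0 := fun h => h1 (star_eq_zero.1 h)
    have hyd : (v.w3 / v.w1) + star (v.w3 / v.w1) = (v.w2 / v.w1) * star (v.w2 / v.w1) := by
      simp only [star_div₀]
      field_simp
      linear_combination hq - v.w2 * star v.w2 * two0 (K := K)
    set n := ddE (v.w2 / v.w1) (v.w3 / v.w1) hyd with hn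
    refine ⟨V.f n, V.ddE_X3 _ _ _, ?_⟩
    have hnK : V.f n * V.nb ∈ V.Kb := mul_mem (mem_sup_left (V.ddE_X3 _ _ _)) V.nb_mem
    have h2 : (V.f n * V.nb)⁻¹ * k ∈ V.Kb := mul_mem (inv_mem hnK) hk
    have h3 : cg ((V.f n * V.nb)⁻¹ * k) (V.f (T5.em 1)) = V.f (swQ (n⁻¹ * v * (n⁻¹)⁻¹)) := by
      obtain ⟨c0, -⟩ := conj_Qm n⁻¹ hv
      rw [cg_comp, e1, mul_inv_rev, V.nb_inv, cg_comp, ← map_inv, V.cg_f, V.nb_q _ c0.1 c0.2]
    obtain ⟨c0, c1, c2, c3⟩ := conj_Qm n⁻¹ hv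
    have h4 := fix _ h2 _ h3 (by
      show (n⁻¹ * v * (n⁻¹)⁻¹).w3 = 0
      rw [c3, inv_y, inv_d]
      have hd := hyd
      simp only [hn, ddE]
      have e : v.w3 / v.w1 * v.w1 = v.w3 := div_mul_cancel₀ _ h1
      have e' : v.w2 / v.w1 * v.w1 = v.w2 := div_mul_cancel₀ _ h1
      linear_combination v.w1 * hd - e - (star (v.w2 / v.w1)) * e' + (star (v.w2 / v.w1) * v.w2 * v.w1 * v.w1⁻¹) * two0 (K := K)) (by
      show (n⁻¹ * v * (n⁻¹)⁻¹).w2 = 0
      rw [c2, inv_y]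
      simp only [hn, ddE]
      have e' : v.w2 / v.w1 * v.w1 = v.w2 := div_mul_cancel₀ _ h1
      linear_combination e' + v.w2 * two0 (K := K))
    have h10 : k = (V.f n * V.nb) * ((V.f n * V.nb)⁻¹ * k) := by group
    rw [h10, cjS_mul, h4]

theorem nb_Q_eq : cjS V.nb V.Q = V.Q := cjS_eq_of V.nb_nb (fun _ h => V.nb_Q h) (fun _ h => V.nb_Q h)

theorem Kb_cjS_Q {k : G} (hk : k ∈ V.Kb) : cjS k V.Q = V.Q := cjS_eq_of_normalizer (V.Kb_norm hk)

theorem Kb_cjS_Z {k : G} (hk : k ∈ V.Kb) : cjS k V.Z = V.Z :=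
  cjS_eq_of_comm (mem_centralizer_iff.2 fun z hz => (V.Kb_Z' hk hz).symm)

theorem tr_b [Finite G] {E : Subgroup G} (hE : V.Kb ≤ E)
    (nQ : ∀ g ∈ E, cjS g V.Q = V.Q → cjS g (V.W ⊓ V.Q) = V.W ⊓ V.Q → cjS g V.T = V.T) :
    ∀ k ∈ _root_.Subgroup.closure ((V.X3 : Set G) ∪ {V.nb}), cjS k V.T = V.T ∨ ∃ x ∈ V.X3, cjS k V.T = cjS (x * V.nb) V.T := by
  intro k hk
  have hkK : k ∈ V.Kb := by
    have : _root_.Subgroup.closure ((V.X3 : Set G) ∪ {V.nb}) ≤ V.Kb := by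
      rw [closure_le]
      rintro x (hx | hx)
      · exact mem_sup_left hx
      · rw [Set.mem_singleton_iff.1 hx]
        exact V.nb_mem
    exact this hk
  rcases V.Kb_points hkK with h | ⟨x, hx, h⟩
  · exact Or.inl (nQ k (hE hkK) (V.Kb_cjS_Q hkK) h)
  · right
    refine ⟨x, hx, ?_⟩
    have hxK : x * V.nb ∈ V.Kb := mul_mem (mem_sup_left hx) V.nb_mem
    have h1 : (x * V.nb)⁻¹ * k ∈ V.Kb := mul_mem (inv_mem hxK) hkK
    have h2 : cjS ((x * V.nb)⁻¹ * k) (V.W ⊓ V.Q) = V.W ⊓ V.Q := by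
      rw [cjS_mul, h, ← cjS_mul, inv_mul_cancel, cjS_one]
    have h3 := nQ _ (hE h1) (V.Kb_cjS_Q h1) h2
    have h10 : k = (x * V.nb) * ((x * V.nb)⁻¹ * k) := by group
    rw [h10, cjS_mul, h3]

theorem reg_b (hs : ∃ x : K, star x ≠ x) (h4 : 4 ≤ Nat.card (Fx K)) :
    ∀ x ∈ V.X3, cjS (x * V.nb) V.T = cjS V.nb V.T → x = 1 := by
  intro x hx h
  have hF : TFacts (Nat.card (Fx K)) (Zm K) (Qm K) (Wm K) (Sm K) := tFacts hs h4
  obtain ⟨x, hx, rfl⟩ := hx
  set g := V.nb * (V.f x * V.nb) with hg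
  have h1 : cjS g V.T = V.T := by rw [hg, cjS_mul, h, cjS_cjS_of V.nb_nb]
  have h2 : cjS g V.W = V.W := by
    apply ModelMap.W_uniq V.inj hF
    · rw [← Env.T, ← h1]
      exact cjS_mono V.W_le
    · rintro _ ⟨w, hw, rfl⟩
      have := ModelMap.W_sq hF w hw
      show g * w * g⁻¹ * (g * w * g⁻¹) = 1
      calc g * w * g⁻¹ * (g * w * g⁻¹) = g * (w * w) * g⁻¹ := by group
        _ = 1 := by rw [this, mul_one, mul_inv_cancel]
    · rw [Subgroup.card_map_of_injective (MulAut.conj g).injective]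
      exact ModelMap.W_card V.inj hF
  have h3 : cg g (V.f (T5.em 1)) ∈ V.W := by
    rw [← h2]
    exact ⟨_, V.f_W.2 (em_mem _), rfl⟩
  have e1 : swQ (T5.em (1 : K)) = e1 1 := by ext <;> simp [swQ, T5.em, T5.e1]
  obtain ⟨c0, c1, c2, c3⟩ := conj_Qm x (e1_mem (1 : K))
  rw [hg, cg_comp, cg_comp, V.nb_q _ rfl rfl, e1, V.cg_f, V.nb_q _ c0.1 c0.2] at h3
  obtain ⟨d1, d2, -⟩ := V.f_W.1 h3
  have hd : x.d = 0 := by
    have : (x * T5.e1 1 * x⁻¹).w3 = 0 := d1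
    rw [c3] at this
    simpa only [T5.e1, _root_.MulZeroClass.mul_zero, _root_.add_zero, _root_.mul_one, _root_.zero_add] using this
  have hy : x.y = 0 := by
    have : (x * T5.e1 1 * x⁻¹).w2 = 0 := d2
    rw [c2] at this
    simpa [T5.e1] using this
  have : x = 1 := by
    obtain ⟨a1, a2, a3, a4⟩ := hx
    ext
    · exact a1
    · exact a2
    · exact a3
    · exact a4
    · exact hy
    · exact hd
  rw [this, map_one]

/-! ### the torus centralising `Kb` -/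

/-- `h α 1` centralises `Kb` -/
theorem h_Kb {α : K} (hα : α ∈ Fx K) (h0 : α ≠ 0) {k : G} (hk : k ∈ V.Kb) : V.h α 1 * k = k * V.h α 1 := by
  have h1F : (1 : K) ∈ Fx K := star_one K
  have : V.Kb ≤ centralizer ({V.h α 1} : Set G) := by
    apply V.Kb_le_of
    · rintro _ ⟨x, ⟨a1, a2, a3, a4⟩, rfl⟩
      rw [mem_centralizer_singleton_iff]
      have h1 := V.h_f α 1 hα h1F h0 one_ne_zero x
      have h2 : dia α 1 hα h1F x = x := by
        ext <;> simp [dia, a1, a2, a3, a4]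
      rw [h2] at h1
      exact (comm_of_cg h1).symm
    · rw [mem_centralizer_singleton_iff]
      obtain ⟨k, hk, this⟩ := V.nb_h α 1 hα h1F h0 one_ne_zero
      rw [inv_one, one_pow, mul_one] at this
      have h1 : V.h α 1 * (k * k) = V.h α 1 := by
        calc V.h α 1 * (k * k) = V.h α 1 * (V.nb * V.nb) * (k * k) := by rw [V.nb_nb, mul_one]
          _ = (V.h α 1 * V.nb * (V.nb * k)) * k := by group
          _ = (V.h α 1 * V.nb * (k * V.nb)) * k := by rw [V.Cn_nb k hk]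
          _ = (V.h α 1 * V.nb * k) * V.nb * k := by group
          _ = (V.nb * V.h α 1) * V.nb * k := by rw [← this]
          _ = V.nb * (V.h α 1 * V.nb * k) := by group
          _ = V.nb * (V.nb * V.h α 1) := by rw [← this]
          _ = (V.nb * V.nb) * V.h α 1 := by group
          _ = V.h α 1 := by rw [V.nb_nb, one_mul]
      have h2 : k = 1 := V.Cn_odd k hk (mul_eq_left.1 h1)
      rw [h2, mul_one] at this
      exact this
  exact (mem_centralizer_singleton_iff.1 (this hk)).symm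

/-- `{h α 1}` -/
def D' : Subgroup G := _root_.Subgroup.closure {x | ∃ α ∈ Fx K, α ≠ 0 ∧ x = V.h α 1}

theorem Kb_D' : V.Kb ≤ centralizer (V.D' : Set G) := by
  intro x hx
  rw [D', centralizer_closure, mem_centralizer_iff]
  rintro _ ⟨γ, hγ, h0, rfl⟩
  exact V.h_Kb hγ h0 hx

theorem T_D' (h4 : 4 ≤ Nat.card (Fx K)) : V.T ⊓ centralizer (V.D' : Set G) ≤ V.X3 := by
  rintro _ ⟨⟨x, rfl⟩, hx⟩
  have h1F : (1 : K) ∈ Fx K := star_one K
  obtain ⟨β, hβ, hβ0, hβ1⟩ := exists_beta h4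
  have h1 := mem_centralizer_iff.1 hx (V.h β 1) (subset_closure ⟨β, hβ, hβ0, rfl⟩)
  have h2 := cg_eq_self h1
  rw [V.h_f β 1 hβ h1F hβ0 one_ne_zero] at h2
  have h3 := V.inj h2
  have key : ∀ y : K, β * y = y → y = 0 := by
    intro y hy
    have : (β - 1) * y = 0 := by linear_combination hy
    exact (mul_eq_zero.1 this).resolve_left (sub_ne_zero.2 hβ1)
  have key2 : ∀ y : K, β ^ 2 * y = y → y = 0 := by
    intro y hy
    apply key
    have h4 : (β + 1) * ((β + 1) * y) = 0 := by linear_combination hy + (β * y + y) * two0 (K := K)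
    have h5 : β + 1 ≠ 0 := fun h => hβ1 (CharTwo.add_eq_zero.1 h)
    have h6 := (mul_eq_zero.1 h4).resolve_left h5
    linear_combination h6 - y * two0 (K := K)
  have e1 := congrArg T5.w1 h3
  have e2 := congrArg T5.w2 h3
  have e3 := congrArg T5.w3 h3
  have e4 := congrArg T5.c h3
  simp only [dia, mul_one, one_pow] at e1 e2 e3 e4
  exact V.f_X3.2 ⟨key _ e1, key _ e2, key _ e3, key2 _ e4⟩

/-! ### the facts of one side -/

theorem X2Z : V.X2 ⊔ V.Z = V.W ⊓ V.Q := by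
  apply le_antisymm
  · refine sup_le ?_ (le_inf V.Z_le_W V.Z_le_Q)
    rintro _ ⟨x, ⟨a1, a2, a3, a4, a5⟩, rfl⟩
    exact V.mem_WQ.2 ⟨a1, a2, a4, a5⟩
  · intro x hx
    obtain ⟨x, rfl⟩ := V.W_le hx.1
    obtain ⟨a1, a2, a3, a4⟩ := V.mem_WQ.1 hx
    exact V.mem_of_Z le_sup_right (mem_sup_left (V.em_X2 x.w3)) a1 a2 rfl a3 a4

theorem cent3 (hs : ∃ x : K, star x ≠ x) : V.Q ⊓ centralizer (V.X3 : Set G) = V.X2 ⊔ V.Z := by
  obtain ⟨w, hw⟩ := exists_tr_one hs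
  have hw' : w + star w = (1 : K) * star (1 : K) := by rw [hw, star_one, mul_one]
  rw [V.X2Z]
  apply le_antisymm
  · rintro _ ⟨⟨x, hx, rfl⟩, hc⟩
    have h1 : V.f (ddE 1 w hw' * x * (ddE 1 w hw')⁻¹) = V.f x := by
      rw [← V.cg_f]
      exact cg_eq_self (mem_centralizer_iff.1 hc _ (V.ddE_X3 _ _ _))
    have h2 := V.inj h1
    obtain ⟨c0, c1, c2, c3⟩ := conj_Qm (ddE 1 w hw') hx
    rw [h2] at c2 c3
    have hw1 : x.w1 = 0 := by
      simp only [ddE, one_mul] at c2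
      linear_combination -c2
    have hw2 : x.w2 = 0 := by
      simp only [ddE, star_one, one_mul, hw1, mul_zero, add_zero] at c3
      linear_combination -c3
    exact V.mem_WQ.2 ⟨hw1, hw2, hx.1, hx.2⟩
  · intro x hx
    obtain ⟨x, rfl⟩ := V.W_le hx.1
    obtain ⟨a1, a2, a3, a4⟩ := V.mem_WQ.1 hx
    refine ⟨hx.2, mem_centralizer_iff.2 ?_⟩
    rintro _ ⟨y, ⟨b1, b2, b3, b4⟩, rfl⟩
    rw [← map_mul, ← map_mul]
    congr 1
    ext
    · simp only [mul_w1]; ring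
    · simp only [mul_w2, a1, a3, b1, b2]; ring
    · simp only [mul_w3, a1, a2, a3, a4, b1, b2, b3, star_zero]; ring
    · simp only [mul_c, a1, a2, a3, a4, b1, b2, b3, b4, star_zero, mul_zero, zero_mul, add_zero, zero_add]
    · simp only [mul_y]; ring
    · simp only [mul_d, a3, star_zero]; ring

theorem com3 (hs : ∃ x : K, star x ≠ x) : ⁅V.X3, V.Q⁆ ⊔ (V.X2 ⊔ V.Z) = V.X1 ⊔ V.X2 := by
  have hZ1 : V.Z ≤ V.X1 := Subgroup.map_mono fun _ h => ⟨h.1, h.2.2.1, h.2.2.2.1, h.2.2.2.2⟩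
  apply le_antisymm
  · refine sup_le ?_ (sup_le le_sup_right (hZ1.trans le_sup_left))
    rw [commutator_le]
    rintro _ ⟨x, hx, rfl⟩ _ ⟨r, hr, rfl⟩
    show V.f x * V.f r * (V.f x)⁻¹ * (V.f r)⁻¹ ∈ _
    rw [← map_mul, ← map_inv, ← map_mul, ← map_inv, ← map_mul]
    obtain ⟨⟨b4, b5⟩, b1, b2, b3⟩ := comm_Qm' x hr
    exact V.mem_X12.2 ⟨b1, b4, b5⟩
  · obtain ⟨w, hw⟩ := exists_tr_one hs
    refine sup_le ?_ (le_sup_left.trans le_sup_right)
    rintro _ ⟨x, hx, rfl⟩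
    have hw' : w + star w = (1 : K) * star (1 : K) := by rw [hw, star_one, mul_one]
    have h6 : V.f (ddE 1 w hw' * e1 x.w2 * (ddE 1 w hw')⁻¹ * (e1 x.w2)⁻¹) ∈ ⁅V.X3, V.Q⁆ := by
      rw [map_mul, map_mul, map_mul, map_inv, map_inv]
      exact commutator_mem_commutator (V.ddE_X3 _ _ _) (V.f_Q.2 (e1_mem _))
    obtain ⟨⟨b4, b5⟩, b1, b2, b3⟩ := comm_Qm' (ddE 1 w hw') (e1_mem x.w2)
    obtain ⟨a1, a2, a4, a5⟩ := hx
    have h8 := mul_mem (mem_sup_left h6 : _ ∈ ⁅V.X3, V.Q⁆ ⊔ (V.X2 ⊔ V.Z))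
      (mem_sup_right (mem_sup_left (V.em_X2 (w * x.w2))))
    rw [← map_mul] at h8
    apply V.mem_of_Z (le_sup_right.trans le_sup_right) h8
    · rw [mul_w1, b1, a1]; simp [T5.em]
    · rw [mul_w2, b2, b4]; simp [T5.em, ddE, T5.e1]
    · rw [mul_w3, b3, b4, b5, a2]; simp [T5.em, ddE, T5.e1, CharTwo.add_self_eq_zero]
    · rw [mul_y, b4, a4]; simp [T5.em]
    · rw [mul_d, b4, b5, a5]; simp [T5.em]

theorem inf1 : (V.X1 ⊔ V.X2) ⊓ (V.X1 ⊔ V.X0) = V.X1 := by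
  apply le_antisymm
  · rintro x ⟨h1, h2⟩
    obtain ⟨x, rfl⟩ := V.X12_le h1
    obtain ⟨a1, a2, a3⟩ := V.mem_X12.1 h1
    have h3 : V.nb * V.f x * V.nb⁻¹ ∈ cjS V.nb (V.X1 ⊔ V.X0) := mem_cjS.2 h2
    rw [cjS_sup, V.nb_X1, V.nb_X0] at h3
    rw [show V.nb * V.f x * V.nb⁻¹ = _ from V.nb_q x a2 a3, V.mem_X12] at h3
    exact V.f_X1.2 ⟨a1, h3.1, a2, a3⟩
  · exact le_inf le_sup_left le_sup_left

theorem i2' : (V.X2 ⊔ V.Z) ⊓ cjS V.na V.Q = V.X2 := by
  apply le_antisymm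
  · rintro x ⟨h1, h2⟩
    rw [V.X2Z] at h1
    obtain ⟨x, rfl⟩ := V.W_le h1.1
    obtain ⟨a1, a2, a3, a4⟩ := V.mem_WQ.1 h1
    have h3 : V.na * V.f x * V.na⁻¹ ∈ cjS V.na (cjS V.na V.Q) := mem_cjS.2 h2
    rw [cjS_cjS_of V.na_na, show V.na * V.f x * V.na⁻¹ = _ from V.na_r x a1] at h3
    obtain ⟨-, h4⟩ := V.f_Q.1 h3
    exact V.f_X2.2 ⟨a1, a2, by simpa only [swR, _root_.star_eq_zero] using h4, a3, a4⟩
  · refine le_inf le_sup_left ?_
    rw [← V.na_X2]
    exact cjS_mono (Subgroup.map_mono fun _ h => ⟨h.2.2.2.1, h.2.2.2.2⟩)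

theorem Xb_eq (hs : ∃ x : K, star x ≠ x) : V.X3 ⊓ centralizer (V.X3 : Set G) = V.Xb := by
  obtain ⟨w, hw⟩ := exists_tr_one hs
  apply le_antisymm
  · rintro _ ⟨⟨x, hx, rfl⟩, hc⟩
    obtain ⟨a1, a2, a3, a4⟩ := hx
    refine V.f_Xb.2 ⟨a1, a2, a3, a4, ?_⟩
    apply no_sym hs
    intro m
    have e : (m * star m * w) + star (m * star m * w) = m * star m := by
      rw [star_mul', star_mul', star_star]
      linear_combination m * star m * hw
    have h1 := mem_centralizer_iff.1 hc _ (V.ddE_X3 m (m * star m * w) e)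
    rw [← map_mul, ← map_mul] at h1
    have h2 := congrArg T5.d (V.inj h1)
    rw [mul_d, mul_d] at h2
    simp only [ddE] at h2
    linear_combination h2
  · rintro _ ⟨x, ⟨a1, a2, a3, a4, a5⟩, rfl⟩
    refine ⟨V.f_X3.2 ⟨a1, a2, a3, a4⟩, mem_centralizer_iff.2 ?_⟩
    rintro _ ⟨y, ⟨b1, b2, b3, b4⟩, rfl⟩
    rw [← map_mul, ← map_mul]
    congr 1
    ext
    · simp only [mul_w1]; ring
    · simp only [mul_w2, a1, b1]; simp [a2, b2]
    · simp only [mul_w3, a1, a2, a3, b1, b2, b3]; simp only [_root_.MulZeroClass.mul_zero, _root_.add_zero]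
    · simp only [mul_c, a1, a2, a3, a4, b1, b2, b3, b4]; simp only [_root_.add_zero, _root_.MulZeroClass.mul_zero, _root_.star_zero]
    · simp only [mul_y]; ring
    · simp only [mul_d, a5, star_zero]; ring

/-! ### the Weyl elements -/

theorem mu3' [Finite G] (hs : ∃ x : K, star x ≠ x) (h4 : 4 ≤ Nat.card (Fx K)) {E : Subgroup G} (hE : V.Kb ≤ E)
    (hna : V.na ∈ E)
    (nZ : ∀ g ∈ E, cjS g V.Z = V.Z → cjS g V.Q = V.Q)
    (nQ : ∀ g ∈ E, cjS g V.Q = V.Q → cjS g (V.W ⊓ V.Q) = V.W ⊓ V.Q → cjS g V.T = V.T)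
    (hbr : V.na * V.nb * V.na * V.nb = V.nb * V.na * V.nb * V.na) :
    ∀ u ∈ V.X 3, u ≠ 1 → ∃ v ∈ V.X 7, ∃ v' ∈ V.X 7, ∀ j, cjS (v * u * v') (V.X j) = V.X (2 - j) := by
  intro u hu hu1
  have hnb : V.nb ∈ E := hE V.nb_mem
  set w := V.na * V.nb * V.na with hw
  have hwE : w ∈ E := mul_mem (mul_mem hna hnb) hna
  have w_X : ∀ i, cjS w (V.X i) = V.X (6 - i) := by
    intro i
    rw [hw, cjS_mul, cjS_mul, V.na_X' _ hbr, V.nb_X' _ hbr, V.na_X' _ hbr]
    congr 1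
    ring
  have wn : w * V.nb = V.nb * w := by
    rw [hw]
    calc V.na * V.nb * V.na * V.nb = V.nb * V.na * V.nb * V.na := hbr
      _ = _ := by group
  have w3 : cjS w V.X3 = V.X3 := w_X 3
  have w7 : cjS w V.X7 = V.X7 := w_X 7
  have w2 : cjS w V.X2 = V.X 4 := w_X 2
  have w1 : cjS w V.X1 = V.X 5 := w_X 1
  have w0 : cjS w V.X0 = V.X 6 := w_X 0
  have wK : cjS w V.Kb = V.Kb := by rw [Kb, cjS_sup, w3, w7]
  have hbr' := hbr
  rw [hw] at hbr'
  clear_value w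
  obtain ⟨v, hv, v', hv', hT, hT'⟩ := exists_swap (X0 := V.X3) (T := V.T) (n := V.nb) V.X3_le
    (by rw [V.nb_nb, cjS_one]) (V.tr_b hE nQ) (V.reg_b hs h4) hu hu1
  have hvK : v ∈ V.Kb := mem_sup_right hv
  have hvK' : v' ∈ V.Kb := mem_sup_right hv'
  set h := v * u * v' * V.nb⁻¹ with hh'
  have hhK : h ∈ V.Kb := mul_mem (mul_mem (mul_mem hvK (mem_sup_left hu)) hvK') (inv_mem V.nb_mem)
  have hhE : h ∈ E := hE hhK
  clear_value h
  have hhD : cjS h (centralizer (V.D' : Set G)) = centralizer (V.D' : Set G) := cjS_eq_of_mem (V.Kb_D' hhK)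
  have hnD : cjS V.nb (centralizer (V.D' : Set G)) = centralizer (V.D' : Set G) :=
    cjS_eq_of_mem (V.Kb_D' V.nb_mem)
  have e3 : V.X3 = V.T ⊓ centralizer (V.D' : Set G) :=
    le_antisymm (le_inf V.X3_le ((le_sup_left : V.X3 ≤ V.Kb).trans V.Kb_D')) (V.T_D' h4)
  have e7 : V.X7 = cjS V.nb V.T ⊓ centralizer (V.D' : Set G) := by
    rw [X7, e3, cjS_inf, hnD]
  have f3 : cjS h V.X3 = V.X3 := by rw [e3, cjS_inf, hT, hhD]
  have f7 : cjS h V.X7 = V.X7 := by rw [e7, cjS_inf, hT', hhD]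
  -- the centre of `X_3`
  have fb : cjS h V.Xb = V.Xb := by rw [← V.Xb_eq hs, cjS_inf, cjS_centralizer, f3]
  have eb' : cjS V.nb V.Xb = V.X7 ⊓ centralizer (V.X7 : Set G) := by
    rw [← V.Xb_eq hs, cjS_inf, cjS_centralizer]
    rfl
  have fb' : cjS h (cjS V.nb V.Xb) = cjS V.nb V.Xb := by rw [eb', cjS_inf, cjS_centralizer, f7]
  have wb : cjS w V.Xb = V.Xb := by rw [← V.Xb_eq hs, cjS_inf, cjS_centralizer, w3]
  have wb' : cjS w (cjS V.nb V.Xb) = cjS V.nb V.Xb := by rw [← cjS_mul, wn, cjS_mul, wb]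
  have nrm : ∀ a ∈ E, cjS h (cjS a V.Z) = cjS a V.Z → cjS h (cjS a V.Q) = cjS a V.Q := by
    intro a ha h1
    have h2 : cjS (a⁻¹ * h * a) V.Z = V.Z := by
      rw [cjS_mul, cjS_mul, h1, ← cjS_mul, inv_mul_cancel, cjS_one]
    have h3 := nZ _ (mul_mem (mul_mem (inv_mem ha) hhE) ha) h2
    have h5 : h * a = a * (a⁻¹ * h * a) := by group
    rw [← cjS_mul, h5, cjS_mul, h3]
  have nZ1 : cjS V.na V.Z = V.Xb := V.na_Z_eq
  -- first side
  obtain ⟨f0, f1, f2⟩ := fix_side (h := h) (X3 := V.X3) (X7 := V.X7) (Q := V.Q) (Z := V.Z) (A0 := V.X0) (A1 := V.X1)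
    (A2 := V.X2) (B0 := cjS V.nb (cjS V.na V.Q)) (B2 := cjS V.na V.Q) f3 f7 (V.Kb_cjS_Q hhK) (V.Kb_cjS_Z hhK)
    (V.cent3 hs) (by
      have := congrArg (cjS V.nb) (V.cent3 hs)
      rwa [cjS_inf, cjS_centralizer, cjS_sup, V.nb_Q_eq, V.nb_X2, V.Kb_cjS_Z V.nb_mem] at this)
    (V.com3 hs) (by
      have := congrArg (cjS V.nb) (V.com3 hs)
      rwa [cjS_sup, cjS_comm, cjS_sup, cjS_sup, V.nb_Q_eq, V.nb_X2, V.nb_X1, V.Kb_cjS_Z V.nb_mem] at this)
    V.inf1 (nrm _ hna (by rw [nZ1]; exact fb))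
    (by
      rw [← cjS_mul V.nb V.na]
      exact nrm _ (mul_mem hnb hna) (by rw [cjS_mul, nZ1]; exact fb'))
    V.i2' (by
      have := congrArg (cjS V.nb) V.i2'
      rwa [cjS_inf, cjS_sup, V.nb_X2, V.Kb_cjS_Z V.nb_mem] at this)
  -- second side
  have hwh : w⁻¹ * h * w ∈ V.Kb := by
    rw [← wK] at hhK
    obtain ⟨k, hk, e⟩ := hhK
    have e' : w * k * w⁻¹ = h := e
    rw [← e']
    have : w⁻¹ * (w * k * w⁻¹) * w = k := by group
    rw [this]
    exact hk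
  have hw' : ∀ A : Subgroup G, cjS (w⁻¹ * h * w) A = A → cjS h (cjS w A) = cjS w A := by
    intro A hA
    have h5 : h * w = w * (w⁻¹ * h * w) := by group
    rw [← cjS_mul, h5, cjS_mul, hA]
  have n7 : cjS V.nb V.X3 = V.X7 := rfl
  have c7 : V.Q ⊓ centralizer (V.X7 : Set G) = V.X0 ⊔ V.Z := by
    have := congrArg (cjS V.nb) (V.cent3 hs)
    rwa [cjS_inf, cjS_centralizer, cjS_sup, V.nb_Q_eq, V.nb_X2, V.Kb_cjS_Z V.nb_mem] at this
  have m7 : ⁅V.X7, V.Q⁆ ⊔ (V.X0 ⊔ V.Z) = V.X1 ⊔ V.X0 := by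
    have := congrArg (cjS V.nb) (V.com3 hs)
    rwa [cjS_sup, cjS_comm, cjS_sup, cjS_sup, V.nb_Q_eq, V.nb_X2, V.nb_X1, V.Kb_cjS_Z V.nb_mem] at this
  have j0 : (V.X0 ⊔ V.Z) ⊓ cjS V.nb (cjS V.na V.Q) = V.X0 := by
    have := congrArg (cjS V.nb) V.i2'
    rwa [cjS_inf, cjS_sup, V.nb_X2, V.Kb_cjS_Z V.nb_mem] at this
  obtain ⟨f6, f5, f4⟩ := fix_side (h := h) (X3 := V.X3) (X7 := V.X7) (Q := cjS w V.Q) (Z := cjS w V.Z) (A0 := V.X 6)
    (A1 := V.X 5) (A2 := V.X 4) (B0 := cjS w (cjS V.nb (cjS V.na V.Q))) (B2 := cjS w (cjS V.na V.Q)) f3 f7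
    (hw' _ (V.Kb_cjS_Q hwh)) (hw' _ (V.Kb_cjS_Z hwh))
    (by
      have := congrArg (cjS w) (V.cent3 hs)
      rwa [cjS_inf, cjS_centralizer, cjS_sup, w2, w3] at this)
    (by
      have := congrArg (cjS w) c7
      rwa [cjS_inf, cjS_centralizer, cjS_sup, w0, w7] at this)
    (by
      have := congrArg (cjS w) (V.com3 hs)
      rwa [cjS_sup, cjS_comm, cjS_sup, cjS_sup, w1, w2, w3] at this)
    (by
      have := congrArg (cjS w) m7
      rwa [cjS_sup, cjS_comm, cjS_sup, cjS_sup, w1, w0, w7] at this)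
    (by
      have := congrArg (cjS w) V.inf1
      rwa [cjS_inf, cjS_sup, cjS_sup, w0, w1, w2] at this)
    (by
      rw [← cjS_mul w V.na]
      exact nrm _ (mul_mem hwE hna) (by rw [cjS_mul, nZ1, wb]; exact fb))
    (by
      have e : cjS w (cjS V.nb (cjS V.na V.Q)) = cjS (w * (V.nb * V.na)) V.Q := by rw [cjS_mul, cjS_mul]
      rw [e]
      exact nrm _ (mul_mem hwE (mul_mem hnb hna)) (by rw [cjS_mul, cjS_mul, nZ1, wb']; exact fb'))
    (by
      have := congrArg (cjS w) V.i2'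
      rwa [cjS_inf, cjS_sup, w2] at this)
    (by
      have := congrArg (cjS w) j0
      rwa [cjS_inf, cjS_sup, w0] at this)
  have fall : ∀ j, cjS h (V.X j) = V.X j := by
    intro j
    have key : ∀ j : ZMod (2 * 4), j = 0 ∨ j = 1 ∨ j = 2 ∨ j = 3 ∨ j = 4 ∨ j = 5 ∨ j = 6 ∨ j = 7 := by decide
    rcases key j with rfl | rfl | rfl | rfl | rfl | rfl | rfl | rfl
    · exact f0
    · exact f1
    · exact f2
    · exact f3
    · exact f4
    · exact f5
    · exact f6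
    · exact f7
  refine ⟨v, hv, v', hv', fun j => ?_⟩
  have e : v * u * v' = h * V.nb := by rw [hh']; group
  rw [e, cjS_mul, V.nb_X' _ hbr', fall]

end Env

end Cfsg.Agent.StdSpFour.UFive
end

-- part: StdSpFour/UFiveEight
section
/-!
# S1778, type Sp₄(q), target U₅(q): the root group system of `E`
-/

set_option autoImplicit false
set_option linter.unusedSectionVars false
set_option linter.unusedSimpArgs false
set_option linter.unusedVariables false

namespace Cfsg.Agent.StdSpFour.UFive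

open Cfsg.Agent.StdSpFour.UFiveModel Cfsg.Agent.StdSpFour.UFiveModel.T5 Cfsg.Agent.StdSpFour.StarField Subgroup
open Cfsg.Agent.StdSpFour.ModelFacts Cfsg.Agent.SplitTwo Cfsg.Agent.StdSpFour.RootEight
open Cfsg.Agent.StdSpFour.UFour (cg cg_mul cg_one cg_inv cg_comp cg_inv_cg cg_cg_inv cg_inj cg_eq_self comm_of_cg
  mem_norm exists_norm)

variable {K : Type*} [Field K] [StarRing K] [CharP K 2] [Finite K] {G : Type*} [Group G]

/-- the output of the closing for `U₅(q)` -/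
structure Closed (V : Env K G) (E : Subgroup G) : Prop where
  top : E = V.T ⊔ V.Ka ⊔ V.Kb
  norm_Z : ∀ g ∈ E, cjS g V.Z = V.Z → cjS g V.Q = V.Q
  norm_Q : ∀ g ∈ E, cjS g V.Q = V.Q → cjS g (V.W ⊓ V.Q) = V.W ⊓ V.Q → cjS g V.T = V.T

namespace Env

variable (V : Env K G)

theorem f_comm {A B : Subgroup (T5 K)} {C : Subgroup G} (h : ∀ x ∈ A, ∀ y ∈ B, V.f (x * y * x⁻¹ * y⁻¹) ∈ C) :
    ⁅A.map V.f, B.map V.f⁆ ≤ C := by
  rw [commutator_le]
  rintro _ ⟨x, hx, rfl⟩ _ ⟨y, hy, rfl⟩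
  have := h x hx y hy
  rwa [map_mul, map_mul, map_mul, map_inv, map_inv] at this

/-- the eight root groups of `E` -/
noncomputable def eight [Finite G] (hs : ∃ x : K, star x ≠ x) (h4 : 4 ≤ Nat.card (Fx K)) {E : Subgroup G}
    (C : Closed V E) (hbr : V.na * V.nb * V.na * V.nb = V.nb * V.na * V.nb * V.na) : Eight G where
  X := V.X
  na := V.na
  nb := V.nb
  na_X := fun i => V.na_X' i hbr
  nb_X := fun i => V.nb_X' i hbr
  ne0 := by
    intro h
    have h1 : V.f (e1 1) ∈ V.X 0 := V.e1_X0 1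
    rw [h, mem_bot] at h1
    exact one_ne_zero (congrArg T5.w1 (V.inj (h1.trans (map_one V.f).symm)))
  ne1 := by
    intro h
    have h1F : (1 : K) ∈ Fx K := star_one K
    have h1 : V.f (ec 1 h1F) ∈ V.X 1 := V.f_X1.2 ⟨rfl, rfl, rfl, rfl⟩
    rw [h, mem_bot] at h1
    exact one_ne_zero (congrArg T5.c (V.inj (h1.trans (map_one V.f).symm)))
  c01 := by
    have h := V.cent_X0 hs
    rw [eq_bot_iff, commutator_le]
    intro x hx z hz
    have h0 : z ∈ V.R ⊓ centralizer (V.X0 : Set G) := by rw [h]; exact hz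
    have h1 := mem_centralizer_iff.1 h0.2 x hx
    show x * z * x⁻¹ * z⁻¹ ∈ _
    rw [h1, mem_bot]
    group
  c12 := by
    rw [eq_bot_iff]
    apply V.f_comm
    rintro x ⟨a1, a2, a3, a4⟩ y ⟨b1, b2, b3, b4, b5⟩
    have e : x * y = y * x := by
      ext
      · simp only [mul_w1]; ring
      · simp only [mul_w2, a1, b1, a3, b4]; ring
      · simp only [mul_w3, a1, a3, a4, b1, b2, b4, b5, star_zero]; ring
      · simp only [mul_c, a1, a2, a3, a4, b1, b2, b3, b4, b5, star_zero, mul_zero, zero_mul, add_zero, zero_add]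
      · simp only [mul_y]; ring
      · simp only [mul_d, a3, b4, star_zero]; ring
    rw [e]
    have : y * x * x⁻¹ * y⁻¹ = 1 := by group
    rw [this, map_one]
    exact one_mem _
  c02 := by
    apply V.f_comm
    rintro x ⟨a1, a2, a3, a4, a5⟩ y ⟨b1, b2, b3, b4, b5⟩
    have e : x * y * x⁻¹ * y⁻¹ = (x * y) * (y * x)⁻¹ := by group
    rw [e]
    apply V.f_X1.2
    have h1 : (x * y) * (y * x)⁻¹ ∈ Zm K := by
      rw [mul_inv_mem_Zm]
      refine ⟨?_, ?_, ?_, ?_, ?_⟩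
      · simp only [mul_w1]; ring
      · simp only [mul_w2, a1, b1, a4, b4, a2, b2]; ring
      · simp only [mul_w3, a1, a2, a3, a4, a5, b1, b2, b4, b5, star_zero]; ring
      · simp only [mul_y]; ring
      · simp only [mul_d, a4, b4, star_zero]; ring
    exact ⟨h1.1, h1.2.2.1, h1.2.2.2.1, h1.2.2.2.2⟩
  c13 := by
    apply V.f_comm
    rintro x ⟨a1, a2, a3, a4⟩ y ⟨b1, b2, b3, b4⟩
    -- `x y = e y x`, `e ∈ X_2`
    have e : x * y = T5.em (star y.y * x.w2) * (y * x) := by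
      ext
      · simp only [mul_w1, T5.em]; ring
      · simp only [mul_w2, a1, b1, b2, T5.em]; ring
      · simp only [mul_w2, mul_w3, mul_w1, a1, a2, a3, a4, b1, b2, b3, T5.em, star_zero]
        linear_combination (-(star y.y * x.w2)) * two0 (K := K)
      · simp only [mul_c, mul_w1, mul_w2, mul_w3, a1, a2, a3, a4, b1, b2, b3, b4, T5.em, star_zero, mul_zero, zero_mul,
          add_zero, zero_add]
      · simp only [mul_y, T5.em]; ring
      · simp only [mul_d, a3, a4, T5.em, star_zero]; ring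
    have h1 : x * y * x⁻¹ * y⁻¹ = T5.em (star y.y * x.w2) := by
      rw [e]; group
    rw [h1]
    exact V.em_X2 _
  c03 := by
    have h : ⁅V.X3, V.X0⁆ ≤ V.X1 ⊔ V.X2 := by
      apply V.f_comm
      intro x hx y hy
      obtain ⟨⟨b4, b5⟩, b1, b2, b3⟩ := comm_Qm' x (show y ∈ Qm K from ⟨hy.2.2.2.1, hy.2.2.2.2⟩)
      exact V.mem_X12.2 ⟨b1, b4, b5⟩
    rw [commutator_comm] at h
    exact h
  i0 := by
    rw [eq_bot_iff]
    rintro _ ⟨⟨x, hx, rfl⟩, h2⟩
    have h3 : V.X 1 ⊔ V.X 2 ⊔ V.X 3 ≤ V.R :=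
      sup_le (sup_le (Subgroup.map_mono fun _ h => h.1) (Subgroup.map_mono fun _ h => h.1))
        (Subgroup.map_mono fun _ h => h.1)
    have h5 : x.w1 = 0 := V.f_R.1 (h3 h2)
    rw [mem_bot, eq_e1 hx, h5]
    exact map_one V.f
  i3 := by
    rw [eq_bot_iff]
    rintro _ ⟨⟨x, hx, rfl⟩, h2⟩
    have h3 : V.X 0 ⊔ V.X 1 ⊔ V.X 2 ≤ V.Q :=
      sup_le (sup_le (Subgroup.map_mono fun _ h => ⟨h.2.2.2.1, h.2.2.2.2⟩)
        (Subgroup.map_mono fun _ h => ⟨h.2.2.1, h.2.2.2⟩)) (Subgroup.map_mono fun _ h => ⟨h.2.2.2.1, h.2.2.2.2⟩)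
    obtain ⟨h5, h6⟩ := V.f_Q.1 (h3 h2)
    obtain ⟨a1, a2, a3, a4⟩ := hx
    have : x = 1 := by
      ext
      · exact a1
      · exact a2
      · exact a3
      · exact a4
      · exact h5
      · exact h6
    rw [mem_bot, this, map_one]
  mu0 := by
    have hKa : V.Ka ≤ E := by rw [C.top]; exact le_sup_right.trans le_sup_left
    have hKb : V.Kb ≤ E := by rw [C.top]; exact le_sup_right
    refine V.mu0' hs h4 hKa (fun g hg h h' => ?_) hbr
    have hQ := C.norm_Z g hg h'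
    exact C.norm_Q g hg hQ (by rw [cjS_inf, h, hQ])
  mu3 := by
    have hKa : V.Ka ≤ E := by rw [C.top]; exact le_sup_right.trans le_sup_left
    have hKb : V.Kb ≤ E := by rw [C.top]; exact le_sup_right
    exact V.mu3' hs h4 hKb (hKa V.na_mem) C.norm_Z C.norm_Q hbr

/-- `⟨X i⟩ = T ⊔ Ka ⊔ Kb` -/
theorem iSup_X : (⨆ i, V.X i) = V.T ⊔ V.Ka ⊔ V.Kb := by
  have hT : V.T ≤ ⨆ i, V.X i := by
    rintro _ ⟨x, rfl⟩
    rw [decomp x, map_mul, map_mul, map_mul]
    exact mul_mem (mul_mem (mul_mem (le_iSup V.X 0 (V.e1_X0 _)) (le_iSup V.X 1 (V.f_X1.2 (ccE_mem _ _ _))))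
      (le_iSup V.X 2 (V.em_X2 _))) (le_iSup V.X 3 (V.ddE_X3 _ _ _))
  apply le_antisymm
  · set H := V.T ⊔ V.Ka ⊔ V.Kb
    have hTH : V.T ≤ H := le_sup_left.trans le_sup_left
    have ha : V.na ∈ H := mem_sup_left (mem_sup_right V.na_mem)
    have hb : V.nb ∈ H := mem_sup_right V.nb_mem
    have h7 : V.X7 ≤ H := (le_sup_right : V.X7 ≤ V.Kb).trans le_sup_right
    have h4 : V.X4 ≤ H := (le_sup_right : V.X4 ≤ V.Ka).trans (le_sup_right.trans le_sup_left)
    have conj : ∀ g ∈ H, ∀ A : Subgroup G, A ≤ H → cjS g A ≤ H := by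
      rintro g hg A hA _ ⟨x, hx, rfl⟩
      exact mul_mem (mul_mem hg (hA hx)) (inv_mem hg)
    refine iSup_le fun i => ?_
    have key : ∀ j : ZMod (2 * 4), j = 0 ∨ j = 1 ∨ j = 2 ∨ j = 3 ∨ j = 4 ∨ j = 5 ∨ j = 6 ∨ j = 7 := by decide
    rcases key i with rfl | rfl | rfl | rfl | rfl | rfl | rfl | rfl
    · exact V.X0_le.trans hTH
    · exact V.X1_le.trans hTH
    · exact V.X2_le.trans hTH
    · exact V.X3_le.trans hTH
    · exact h4
    · exact conj _ ha _ h7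
    · exact conj _ hb _ h4
    · exact h7
  · exact sup_le (sup_le hT (sup_le (le_iSup V.X 0) (le_iSup V.X 4))) (sup_le (le_iSup V.X 3) (le_iSup V.X 7))

end Env

/-- **The root group system of `E` (type `U₅(q)`)** -/
theorem exists_rootSys [Finite G] (V : Env K G) (hs : ∃ x : K, star x ≠ x) {n : ℕ} (hn : Nat.card (Fx K) = 2 ^ n)
    (h4 : 4 ≤ Nat.card (Fx K)) {E : Subgroup G} (C : Closed V E)
    (hbr : V.na * V.nb * V.na * V.nb = V.nb * V.na * V.nb * V.na) : ∃ R : RootSys 4 ↥E, R.p = 2 := by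
  have hKa : V.Ka ≤ E := by rw [C.top]; exact le_sup_right.trans le_sup_left
  have hna : V.na ∈ E := hKa V.na_mem
  have hnb : V.nb ∈ E := by rw [C.top]; exact mem_sup_right V.nb_mem
  have h0 : IsPGroup 2 V.T := V.T_two hs ⟨n, hn⟩
  exact ⟨(V.eight hs h4 C hbr).rootSysIn (V.iSup_X.trans C.top.symm) hna hnb Nat.prime_two
    (h0.to_le V.X0_le) (h0.to_le V.X1_le), rfl⟩

end Cfsg.Agent.StdSpFour.UFive
end

-- part: SplitTwo/QuadChar
section
/-!
# The case `m = 4` of S1144, with the characteristic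

`isLieTypeChar`: a finite simple group with a root group system of type `B₂` whose root groups are `p`-groups is
of Lie type in characteristic `p`.
-/

set_option autoImplicit false

namespace Cfsg.Agent.SplitTwo.QuadChar

open Cfsg.Agent.TitsThree.B2Pkg Cfsg.Agent.TitsThree.RankTwoIdentB2 Cfsg.Agent.TitsThree.StdData
  Cfsg.Agent.TitsThree Cfsg.Agent.TitsThree.Pack
  Cfsg.Agent.SplitTwo.QuadIdent Cfsg.Agent.TitsThree.CharCN
  Cfsg.Agent.TitsThree.CharBase Cfsg.Agent.SplitTwo.QuadFinal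

universe u v w

/-- Identification with a model. -/
theorem char_of_model {G : Type u} [Group G] [IsSimpleGroup G] {F : Type*} [Field F] {V : Type*}
    [AddCommGroup V] [Module F V] {D : PQDatum F V} (ex : ∃ p : D.T, p.c ≠ 0) (h : Pkg D G)
    (hK : HasModelC D 0) {p : ℕ} (hp : CharP F p) : Cfsg.IsLieTypeChar p G := by
  obtain ⟨K, i1, i2, h1, ⟨k⟩⟩ := hK
  obtain ⟨m, hm, g1, g2, g3⟩ := h
  obtain ⟨e⟩ := ident_simple hm k.rel ex g1 (gen_of_kcn k) g2 g3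
    (fun e => k.Bor_ne (top_le_iff.1 (e ▸ pos_le_of_kcn k)))
  exact ofEquiv e (h1 p hp)

/-- **Finite simple groups with a `B₂` package are of Lie type**, with the characteristic. -/
theorem char_of_pkg {G : Type u} [Group G] [IsSimpleGroup G] {F : Type} [Field F] [Finite F]
    {V : Type v} [AddCommGroup V] [Module F V] [Finite V] {D : PQDatum F V}
    (h0 : ∀ c, D.ok 0 c → ∃ m, c = m - D.ε * D.σ m) (hs : ∀ w, ∃ c, D.ok w c)
    (hne : ∃ w c, D.ok w c ∧ c ≠ 0) (h : Pkg D G) {p : ℕ} (hp : CharP F p) :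
    Cfsg.IsLieTypeChar p G := by
  let _ : Fintype F := Fintype.ofFinite F
  have ex : ∃ p : D.T, p.c ≠ 0 := by
    obtain ⟨w, c, h1, h2⟩ := hne
    exact ⟨⟨w, c, h1⟩, h2⟩
  have key : Pkg (stdSp F) G → (∃ p : (stdSp F).T, p.c ≠ 0) → Cfsg.IsLieTypeChar p G := by
    intro h1 h2
    by_cases h3 : 3 ≤ Fintype.card F
    · exact char_of_model h2 h1 (hasModelC_Sp 0 fun _ => h3) hp
    · exact absurd h1 (not_pkg_two (by have := Fintype.one_lt_card (α := F); omega))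
  rcases PQClass.classify D h0 hs hne with ⟨-, ⟨s⟩⟩ | ⟨⟨s⟩⟩ | ⟨a, b, hab, ⟨s⟩⟩ | ⟨hσ, ⟨s⟩⟩ | ⟨hσ, ⟨s⟩⟩
  · exact key (h.sim s) (B2Transport.exists_c_ne s ex)
  · by_cases h2 : (2 : F) = 0
    · exact key ((h.sim s).even h2) ⟨⟨(), 1, trivial⟩, one_ne_zero⟩
    · exact char_of_model (B2Transport.exists_c_ne s ex) (h.sim s) (hasModelC_O1 h2 0) hp
  · exact char_of_model (B2Transport.exists_c_ne s ex) (h.sim s) (hasModelC_O2 a b hab 0) hp
  · exact char_of_model (B2Transport.exists_c_ne s ex) (h.sim s) (hasModelC_U0 D.σ D.σσ hσ 0) hp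
  · exact char_of_model (B2Transport.exists_c_ne s ex) (h.sim s) (hasModelC_U1 D.σ D.σσ hσ 0) hp

/-- Positive relations in a root group system of type `B₂`. -/
theorem char_of_pos_sys {G : Type u} [Group G] [Finite G] [IsSimpleGroup G]
    {X : ZMod (2 * 4) → Subgroup G} (S : Sys 4 X) (gen : (⨆ i, X i) = ⊤) {F : Type v} [Field F] [Finite F]
    {T : Type w} [Group T] {Q : PQAbs.Sys F T} {x y : F → G} {z₁ z₂ : T → G}
    (h : QuadPos.Pos Q (X 1) (X 2) (X 3) (X 4) x y z₁ z₂) {p : ℕ} (hp : CharP F p) :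
    Cfsg.IsLieTypeChar p G := by
  obtain ⟨F', i1, i2, ⟨e⟩⟩ := QuadB2Final.exists_field F
  have h' := QuadB2Final.pos_congr e h
  set Q' := QuadB2Final.congr Q e
  have P := QuadB2.PB.of_pos S h'
  have hT : Finite T := Finite.of_injective _ h.z₂_inj
  have hV : Finite Q'.V := by
    have : Finite (T ⧸ Q'.trSub) := inferInstance
    exact this
  have hp' : CharP F' p :=
    charP_of_injective_ringHom (f := (e.symm : F →+* F')) e.symm.injective p
  obtain ⟨r, hr⟩ := P.exists_c_ne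
  obtain ⟨m, hm, h1, h2, h3⟩ := P.exists_pkg gen
  refine char_of_pkg (D := Q'.datum) (fun c hc => Q'.datum_ok_zero hc) Q'.datum_surj
    ⟨r.w, r.c, r.ok, hr⟩ ⟨m, hm, ?_, ?_, ?_⟩ hp'
  · rw [genSet_eq]; exact h1
  · rw [posSet_eq]; exact h2
  · rw [posSet_eq]; exact h3

/-- The characteristic of the field of a root group. -/
theorem charP_of_isPGroup {G : Type u} [Group G] {F : Type v} [Field F] [Finite F] {x : F → G}
    (hadd : ∀ a b, x (a + b) = x a * x b) (hinj : Function.Injective x) {U : Subgroup G}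
    (hU : ∀ a, x a ∈ U) {p : ℕ} (hp : p.Prime) (hpU : IsPGroup p U) : CharP F p := by
  obtain ⟨r, hr⟩ := CharP.exists F
  have hrp : r.Prime := CharP.char_is_prime F r
  have h0 : x 0 = 1 := by
    have := hadd 0 0
    rw [add_zero] at this
    exact (mul_eq_left.1 this.symm)
  have hn : ∀ (n : ℕ), x (n : F) = x 1 ^ n := by
    intro n
    induction n with
    | zero => rw [Nat.cast_zero, h0, pow_zero]
    | succ n ih => rw [Nat.cast_succ, hadd, ih, pow_succ]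
  have h1 : x 1 ^ r = 1 := by rw [← hn, CharP.cast_eq_zero, h0]
  have h2 : x 1 ≠ 1 := fun h => one_ne_zero (hinj (h.trans h0.symm))
  obtain ⟨k, hk⟩ := hpU ⟨x 1, hU 1⟩
  have hk' : x 1 ^ p ^ k = 1 := congrArg Subtype.val hk
  have h3 : orderOf (x 1) ∣ r := orderOf_dvd_of_pow_eq_one h1
  have h4 : orderOf (x 1) ∣ p ^ k := orderOf_dvd_of_pow_eq_one hk'
  have h5 : orderOf (x 1) = r := by
    rcases (Nat.dvd_prime hrp).1 h3 with h | h
    · exact absurd (orderOf_eq_one_iff.1 h) h2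
    · exact h
  rw [h5] at h4
  have h6 : r = p := (Nat.prime_dvd_prime_iff_eq hrp hp).1 (hrp.dvd_of_dvd_pow h4)
  rw [← h6]; exact hr

/-- **Case `m = 4`, with the characteristic.** -/
theorem isLieTypeChar {G : Type u} [Group G] [Finite G] [IsSimpleGroup G] (R : RootSys 4 G) :
    Cfsg.IsLieTypeChar R.p G := by
  rcases QuadMain.of_rootSys R with ⟨K, i1, Q, x, y, z₁, z₂, i2, h⟩ | ⟨K, i1, Q, x, y, z₁, z₂, i2, h⟩
  · exact char_of_pos_sys R.toSys R.gen h (charP_of_isPGroup h.x_add h.x_inj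
      (fun a => (h.x_mem _).2 ⟨a, rfl⟩) R.prime (R.isPGroup 1))
  · have S : Sys 4 (fun j => R.X (-(j + 3))) := R.toSys.neg.shift 3
    refine char_of_pos_sys S ?_ h (charP_of_isPGroup h.x_add h.x_inj
      (fun a => (h.x_mem _).2 ⟨a, rfl⟩) R.prime (R.isPGroup 4))
    rw [eq_top_iff, ← R.gen]
    refine iSup_le fun i => ?_
    have e : i = -(-i - 3 + 3) := by ring
    conv_lhs => rw [e]
    exact le_iSup (fun j => R.X (-(j + 3))) (-i - 3)

end Cfsg.Agent.SplitTwo.QuadChar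
end

-- part: StdSpFour/CaseCUFive
section
/-!
# S1778, type Sp₄(q), case (C), `R` a field: the environment `UFive.Env (Rg E) G`
-/
set_option autoImplicit false
set_option linter.unusedSectionVars false
set_option linter.unusedSimpArgs false
set_option linter.style.haveILetI false

namespace Cfsg.Agent.StdSpFour.CaseC

open Cfsg.Agent.StdSpFour Cfsg.Agent.StdSpFour.Comm QuadraticAlgebra Cfsg.Agent.StdSpFour.UFiveModel
open Cfsg.Agent.StdSpFour.UFiveModel.T5 Cfsg.Agent.StdSpFour.StarField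

section fld

variable {F : Type*} [Field F] {E : F} [Hab : Fact (∀ r : F, r ^ 2 ≠ E + 1 * r)]

theorem im_of_mem {α : Rg E} (h : α ∈ Fx (Rg E)) : α.im = 0 := by
  have h1 : star α = α := h
  have h2 := congrArg QuadraticAlgebra.re h1
  rw [re_star, one_mul] at h2
  exact left_eq_add.1 h2.symm

theorem eq_re_of_mem {α : Rg E} (h : α ∈ Fx (Rg E)) : α = ⟨α.re, 0⟩ := by
  ext
  · rfl
  · exact im_of_mem h

theorem re_ne {α : Rg E} (h : α ∈ Fx (Rg E)) (h0 : α ≠ 0) : α.re ≠ 0 := by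
  intro h1
  apply h0
  rw [eq_re_of_mem h, h1]
  rfl

theorem mul_eq_smul {α : Rg E} (h : α ∈ Fx (Rg E)) (w : Rg E) : α * w = α.re • w := by
  have h1 := im_of_mem h
  ext
  · cmp; rw [h1]; ring
  · cmp; rw [h1]; ring

theorem inv_re {α : Rg E} (h : α ∈ Fx (Rg E)) (h0 : α ≠ 0) : (α⁻¹).re = (α.re)⁻¹ := by
  have h1 : α⁻¹ = ⟨(α.re)⁻¹, 0⟩ := by
    apply inv_eq_of_mul_eq_one_right
    rw [mul_eq_smul h]
    ext
    · cmp; exact mul_inv_cancel₀ (re_ne h h0)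
    · cmp; rw [mul_zero]
  rw [h1]

end fld

open Cfsg Cfsg.Agent.StdEven.CoreQuot Cfsg.Agent.StdSpFour.Lift

variable {F : Type*} [Field F] [CharP F 2] [Finite F] {G : Type*} [Group G] [Finite G] {A : Subgroup G} {t : G}
  {T : Subgroup G} {H : Hyp A t T} {B : Base F (XQ A t)} {E : F} {D : Three B E} (L : CLift H B D)
  [Hab : Fact (∀ r : F, r ^ 2 ≠ E + 1 * r)]

open Classical in
/-- the torus elements -/
noncomputable def CLift.hK (α γ : Rg E) : G :=
  if h : α.re ≠ 0 ∧ γ.re ≠ 0 then L.h (Units.mk0 α.re h.1) ((Units.mk0 γ.re h.2) ^ 2) else 1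

omit Hab in
theorem CLift.hK_eq {α γ : Rg E} (h1 : α.re ≠ 0) (h2 : γ.re ≠ 0) :
    L.hK α γ = L.h (Units.mk0 α.re h1) ((Units.mk0 γ.re h2) ^ 2) := dif_pos ⟨h1, h2⟩

/-- **the environment** -/
noncomputable def CLift.toEnv (hE : Env B (_root_.Cfsg.Agent.StdEven.CoreQuot.im A t A)) (hBt : B.t = H.tX) : UFive.Env (Rg E) G where
  f := L.f
  inj := L.f_inj
  t := t
  na := L.na
  nb := L.nb
  h := L.hK
  tt := H.tt
  t_f x := L.t_f hBt x
  t_na := L.t_na
  t_nb := L.t_nb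
  na_na := L.na_na hE
  nb_nb := L.nb_nb hE
  na_r x hx := by
    have h := L.na_r hE hx
    have e : Three.naT x hx = UFive.swR x hx := by
      apply T5.ext
      · rfl
      · rfl
      · show star x.w3 + x.y * star x.w2 = star x.w3 + star x.w2 * x.y
        rw [mul_comm]
      · rfl
      · rfl
      · rfl
    rw [← e]
    exact h
  nb_q x hy hd := L.nb_q hy hd
  na_eq := L.na_eq hE
  nb_eq := L.nb_eq hE
  h_f α γ hα hγ h1 h2 x := by
    have h := L.h_f (Units.mk0 α.re (re_ne hα h1)) (Units.mk0 γ.re (re_ne hγ h2)) x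
    rw [UFour.cg, L.hK_eq (re_ne hα h1) (re_ne hγ h2), h]
    congr 1
    have e := eq_re_of_mem hα
    have e' := eq_re_of_mem hγ
    apply T5.ext
    · show α.re • x.w1 = α * x.w1
      rw [mul_eq_smul hα]
    · show (α.re * γ.re) • x.w2 = α * γ * x.w2
      rw [mul_assoc, mul_eq_smul hα, mul_eq_smul hγ, smul_smul]
    · show (α.re * γ.re ^ 2) • x.w3 = α * γ ^ 2 * x.w3
      rw [mul_assoc, mul_eq_smul hα, pow_two γ, mul_assoc, mul_eq_smul hγ, mul_eq_smul hγ, smul_smul, smul_smul]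
      congr 1; ring
    · show ((α.re * γ.re) ^ 2) • x.c = α ^ 2 * γ ^ 2 * x.c
      rw [pow_two α, pow_two γ]
      simp only [mul_assoc]
      rw [mul_eq_smul hα, mul_eq_smul hα, mul_eq_smul hγ, mul_eq_smul hγ, smul_smul, smul_smul, smul_smul]
      congr 1; ring
    · show γ.re • x.y = γ * x.y
      rw [mul_eq_smul hγ]
    · show (γ.re ^ 2) • x.d = γ ^ 2 * x.d
      rw [pow_two γ, mul_assoc, mul_eq_smul hγ, mul_eq_smul hγ, smul_smul]
      congr 1; ring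
  Cn := CLift.Cn A t
  Cn_odd k hk h := CLift.Cn_odd (H := H) hk h
  Cn_f k hk x := L.Cn_f hk x
  Cn_na k hk := CLift.Cn_A (H := H) hk L.na_mem
  Cn_nb k hk := CLift.Cn_A (H := H) hk L.nb_mem
  na_h α γ hα hγ h1 h2 := by
    obtain ⟨k, hk, e⟩ := L.na_h (Units.mk0 α.re (re_ne hα h1)) ((Units.mk0 γ.re (re_ne hγ h2)) ^ 2)
    refine ⟨k, hk, ?_⟩
    have a1 : (α⁻¹).re ≠ 0 := by rw [inv_re hα h1]; exact inv_ne_zero (re_ne hα h1)
    have a2 : (α * γ).re = α.re * γ.re := by rw [mul_eq_smul hα]; rfl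
    have a3 : (α * γ).re ≠ 0 := by rw [a2]; exact mul_ne_zero (re_ne hα h1) (re_ne hγ h2)
    rw [L.hK_eq (re_ne hα h1) (re_ne hγ h2), L.hK_eq a1 a3, e]
    congr 3
    · apply Units.ext
      rw [Units.val_inv_eq_inv_val, Units.val_mk0, Units.val_mk0, inv_re hα h1]
    · apply Units.ext
      rw [Units.val_mul, Units.val_pow_eq_pow_val, Units.val_pow_eq_pow_val, Units.val_pow_eq_pow_val, Units.val_mk0,
        Units.val_mk0, Units.val_mk0, a2, mul_pow]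
  nb_h α γ hα hγ h1 h2 := by
    obtain ⟨k, hk, e⟩ := L.nb_h (Units.mk0 α.re (re_ne hα h1)) ((Units.mk0 γ.re (re_ne hγ h2)) ^ 2)
    refine ⟨k, hk, ?_⟩
    have a1 : (γ⁻¹).re ≠ 0 := by rw [inv_re hγ h2]; exact inv_ne_zero (re_ne hγ h2)
    have a2 : (α * γ ^ 2).re = α.re * γ.re ^ 2 := by
      rw [pow_two γ, mul_eq_smul hα, mul_eq_smul hγ, re_smul, re_smul, smul_eq_mul, smul_eq_mul, pow_two]
    have a3 : (α * γ ^ 2).re ≠ 0 := by
      rw [a2]; exact mul_ne_zero (re_ne hα h1) (pow_ne_zero _ (re_ne hγ h2))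
    rw [L.hK_eq (re_ne hα h1) (re_ne hγ h2), L.hK_eq a3 a1, e]
    congr 3
    · apply Units.ext
      rw [Units.val_mul, Units.val_pow_eq_pow_val, Units.val_mk0, Units.val_mk0, Units.val_mk0, a2]
    · apply Units.ext
      rw [Units.val_inv_eq_inv_val, Units.val_pow_eq_pow_val, Units.val_pow_eq_pow_val, Units.val_mk0, Units.val_mk0,
        inv_re hγ h2, inv_pow]

end Cfsg.Agent.StdSpFour.CaseC
end

-- part: StdSpFour/UFiveP
section
/-!
# S1778, type Sp₄(q), target U₅(q): the facts on `P = C_A(Z)^∞` in `G`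
-/

set_option autoImplicit false
set_option linter.unusedSectionVars false
set_option linter.unusedSimpArgs false

namespace Cfsg.Agent.StdSpFour.CaseC

open Cfsg.Agent.StdSpFour Cfsg.Agent.StdSpFour.Comm QuadraticAlgebra Cfsg.Agent.StdSpFour.UFiveModel
open Cfsg.Agent.StdSpFour.UFiveModel.T5 Cfsg.Agent.StdSpFour.StarField Cfsg.Agent.StdSpFour.UFive Subgroup
open Cfsg.Agent.StdSpFour.UFour (cg cg_mul cg_one cg_inv cg_comp cg_inv_cg cg_cg_inv cg_inj cg_eq_self comm_of_cg)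

/-! ### the model: `V₂` -/

/-- `V₂ = X_a X_{a+b} Z` in the model -/
def TV2 (K : Type*) [Field K] [StarRing K] [CharP K 2] : Subgroup (T5 K) where
  carrier := {x | star x.w1 = x.w1 ∧ star x.w3 = x.w3 ∧ x.w2 = 0 ∧ x.y = 0 ∧ x.d = 0}
  mul_mem' := by
    rintro x y ⟨h1, h2, h3, h4, h5⟩ ⟨g1, g2, g3, g4, g5⟩
    refine ⟨?_, ?_, ?_, ?_, ?_⟩ <;>
      simp [mul_w1, mul_w2, mul_w3, mul_c, mul_y, mul_d, h1, h2, h3, h4, h5, g1, g2, g3, g4, g5]
  one_mem' := ⟨star_zero K, star_zero K, rfl, rfl, rfl⟩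
  inv_mem' := by
    rintro x ⟨h1, h2, h3, h4, h5⟩
    refine ⟨?_, ?_, ?_, ?_, ?_⟩ <;>
      simp [inv_w1, inv_w2, inv_w3, inv_c, inv_y, inv_d, h1, h2, h3, h4, h5]

theorem TV2_comm {K : Type*} [Field K] [StarRing K] [CharP K 2] {x y : T5 K} (hx : x ∈ TV2 K) (hy : y ∈ TV2 K) :
    x * y = y * x := by
  obtain ⟨h1, h2, h3, h4, h5⟩ := hx
  obtain ⟨g1, g2, g3, g4, g5⟩ := hy
  ext
  · simp only [mul_w1]; ring
  · simp only [mul_w2, h3, h4, g3, g4]; ring
  · simp only [mul_w3, h3, h4, h5, g3, g4, g5, star_zero]; ring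
  · simp only [mul_c, h3, h4, h5, g3, g4, g5, star_zero, mul_zero, zero_mul, add_zero, h1, h2, g1, g2]; ring
  · simp only [mul_y]; ring
  · simp only [mul_d, h4, g4, star_zero]; ring

theorem TV2_Q {K : Type*} [Field K] [StarRing K] [CharP K 2] {x : T5 K} (hx : x ∈ TV2 K) : x ∈ Qm K :=
  ⟨hx.2.2.2.1, hx.2.2.2.2⟩

theorem Zm_TV2 {K : Type*} [Field K] [StarRing K] [CharP K 2] {x : T5 K} (hx : x ∈ Zm K) : x ∈ TV2 K := by
  obtain ⟨h1, h2, h3, h4, h5⟩ := hx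
  exact ⟨by rw [h1, star_zero], by rw [h3, star_zero], h2, h4, h5⟩

/-- conjugation of `V₂` by `X_b` -/
theorem conj_TV2 {K : Type*} [Field K] [StarRing K] [CharP K 2] {n v : T5 K} (hn : n ∈ Xbm K) (hv : v ∈ TV2 K) :
    n * v * n⁻¹ ∈ TV2 K ∧ (n * v * n⁻¹).w1 = v.w1 ∧ (n * v * n⁻¹).w3 = v.w3 + n.d * v.w1 := by
  obtain ⟨e1, e2, e3, e4⟩ := conj_Qm n (TV2_Q hv)
  obtain ⟨h1, h2, h3, h4, h5⟩ := hn
  obtain ⟨g1, g2, g3, g4, g5⟩ := hv
  have hd : star n.d = n.d := by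
    have h := n.hd
    rw [h5, star_zero, mul_zero] at h
    exact (FieldAux.eq_of_add_eq_zero h).symm
  have e5 : (n * v * n⁻¹).w3 = v.w3 + n.d * v.w1 := by rw [e4, g3, mul_zero, add_zero]
  refine ⟨⟨by rw [e2, g1], by rw [e5, star_add, star_mul', g2, hd, g1], ?_, e1.1, e1.2⟩, e2, e5⟩
  rw [e3, g3, h5, zero_mul, zero_add]

namespace UEnv

variable {K : Type*} [Field K] [StarRing K] [CharP K 2] {G : Type*} [Group G] (V : UFive.Env K G)

/-- `V₂` -/
def V2 : Subgroup G := (TV2 K).map V.f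

theorem f_V2 {x : T5 K} : V.f x ∈ V2 V ↔ x ∈ TV2 K := V.f_mem

theorem V2_comm {x y : G} (hx : x ∈ V2 V) (hy : y ∈ V2 V) : x * y = y * x := by
  obtain ⟨x, hx, rfl⟩ := hx
  obtain ⟨y, hy, rfl⟩ := hy
  rw [← map_mul, TV2_comm hx hy, map_mul]

theorem Lb_le_P' : V.Lb ≤ V.P := le_sup_right
theorem Xa_le_P : V.Xa ≤ V.P := le_sup_left.trans (le_sup_left.trans le_sup_left)
theorem Xab_le_P : V.Xab ≤ V.P := le_sup_right.trans (le_sup_left.trans le_sup_left)
theorem Z_le_P : V.Z ≤ V.P := le_sup_right.trans le_sup_left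

theorem V2_le_P : V2 V ≤ V.P := by
  rintro _ ⟨x, hx, rfl⟩
  have e : x = T5.e1 x.w1 * T5.em x.w3 * ((T5.e1 x.w1 * T5.em x.w3)⁻¹ * x) := by group
  have h1 : V.f (T5.e1 x.w1) ∈ V.P := Xa_le_P V (V.f_Xa.2 ⟨hx.1, rfl, rfl, rfl, rfl, rfl⟩)
  have h2 : V.f (T5.em x.w3) ∈ V.P := Xab_le_P V (V.f_Xab.2 ⟨hx.2.1, rfl, rfl, rfl, rfl, rfl⟩)
  have h3 : V.f ((T5.e1 x.w1 * T5.em x.w3)⁻¹ * x) ∈ V.P := by
    apply Z_le_P V
    apply V.f_Z.2
    obtain ⟨g1, g2, g3, g4, g5⟩ := hx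
    have h2 := two0 (K := K)
    refine ⟨?_, ?_, ?_, ?_, ?_⟩
    · simp only [mul_w1, inv_w1, T5.e1, T5.em]; linear_combination x.w1 * h2
    · simp only [mul_w2, inv_w2, mul_y, inv_y, mul_w1, inv_w1, T5.e1, T5.em, g3]; ring
    · simp only [mul_w3, inv_w3, mul_y, inv_y, mul_w1, inv_w1, mul_w2, inv_w2, mul_d, inv_d, T5.e1, T5.em, g3,
        star_zero, zero_mul, mul_zero, add_zero, zero_add]
      linear_combination x.w3 * h2
    · simp only [mul_y, inv_y, T5.e1, T5.em, g4]; ring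
    · simp only [mul_d, inv_d, mul_y, inv_y, T5.e1, T5.em, g4, g5, _root_.mul_inv_rev, _root_.star_zero, _root_.add_zero, _root_.MulZeroClass.mul_zero]
  rw [e, map_mul, map_mul]
  exact mul_mem (mul_mem h1 h2) h3

theorem V2_le_Q : V2 V ≤ V.Q := Subgroup.map_mono fun _ hx => TV2_Q hx

theorem nb_V2 {y : T5 K} (hy : y ∈ TV2 K) : cg V.nb (V.f y) = V.f (swQ y) ∧ swQ y ∈ TV2 K := by
  obtain ⟨g1, g2, g3, g4, g5⟩ := hy
  exact ⟨V.nb_q y g4 g5, g2, g1, g3, rfl, rfl⟩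

theorem Lb_V2 {k : G} (hk : k ∈ V.Lb) : k ∈ normalizer (V2 V : Set G) := by
  have h3 : V.Xb ≤ normalizer (V2 V : Set G) := by
    have key : ∀ x ∈ V.Xb, ∀ y ∈ V2 V, x * y * x⁻¹ ∈ V2 V := by
      rintro _ ⟨x, hx, rfl⟩ _ ⟨y, hy, rfl⟩
      rw [← map_inv, ← map_mul, ← map_mul]
      exact (f_V2 V).2 (conj_TV2 hx hy).1
    intro x hx
    rw [mem_normalizer_iff]
    intro y
    refine ⟨key x hx y, fun h => ?_⟩
    have h1 := key _ (inv_mem hx) _ h
    rwa [show x⁻¹ * (x * y * x⁻¹) * x⁻¹⁻¹ = y by group] at h1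
  have hn : V.nb ∈ normalizer (V2 V : Set G) := by
    have key : ∀ y ∈ V2 V, V.nb * y * V.nb⁻¹ ∈ V2 V := by
      rintro _ ⟨y, hy, rfl⟩
      obtain ⟨h1, h2⟩ := nb_V2 V hy
      rw [show V.nb * V.f y * V.nb⁻¹ = _ from h1]
      exact (f_V2 V).2 h2
    rw [mem_normalizer_iff]
    intro y
    refine ⟨key y, fun h => ?_⟩
    have h1 := key _ h
    have h2 : V.nb * (V.nb * y * V.nb⁻¹) * V.nb⁻¹ = y := by
      have : V.nb * (V.nb * y * V.nb⁻¹) * V.nb⁻¹ = (V.nb * V.nb) * y * (V.nb * V.nb)⁻¹ := by group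
      rw [this, V.nb_nb]; group
    rwa [h2] at h1
  exact V.Lb_le_of h3 hn hk

/-- `P = V₂ Lb` -/
theorem P_form {x : G} (hx : x ∈ V.P) : ∃ v ∈ V2 V, ∃ b ∈ V.Lb, x = v * b := by
  let D : Subgroup G :=
    { carrier := {x | ∃ v ∈ V2 V, ∃ b ∈ V.Lb, x = v * b}
      one_mem' := ⟨1, one_mem _, 1, one_mem _, by rw [one_mul]⟩
      mul_mem' := by
        rintro _ _ ⟨v, hv, b, hb, rfl⟩ ⟨v', hv', b', hb', rfl⟩
        refine ⟨v * (b * v' * b⁻¹), mul_mem hv ((mem_normalizer_iff.1 (Lb_V2 V hb) v').1 hv'), b * b', mul_mem hb hb', ?_⟩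
        group
      inv_mem' := by
        rintro _ ⟨v, hv, b, hb, rfl⟩
        refine ⟨b⁻¹ * v⁻¹ * b⁻¹⁻¹, (mem_normalizer_iff.1 (Lb_V2 V (inv_mem hb)) v⁻¹).1 (inv_mem hv), b⁻¹, inv_mem hb, ?_⟩
        group }
  have h1 : V.P ≤ D := by
    refine sup_le (sup_le (sup_le ?_ ?_) ?_) ?_
    · rintro _ ⟨x, ⟨h1, h2, h3, h4, h5, h6⟩, rfl⟩
      exact ⟨_, (f_V2 V).2 ⟨h1, by rw [h3, star_zero], h2, h5, h6⟩, 1, one_mem _, by rw [mul_one]⟩
    · rintro _ ⟨x, ⟨h1, h2, h3, h4, h5, h6⟩, rfl⟩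
      exact ⟨_, (f_V2 V).2 ⟨by rw [h2, star_zero], h1, h3, h5, h6⟩, 1, one_mem _, by rw [mul_one]⟩
    · rintro _ ⟨x, hx, rfl⟩
      exact ⟨_, (f_V2 V).2 (Zm_TV2 hx), 1, one_mem _, by rw [mul_one]⟩
    · intro x hx
      exact ⟨1, one_mem _, x, hx, by rw [one_mul]⟩
  exact h1 hx

end UEnv

/-! ### in the lifted environment -/

open Cfsg Cfsg.Agent.StdEven.CoreQuot Cfsg.Agent.StdEven.Loc Cfsg.Agent.StdSpFour.Lift

section lifted

variable {F : Type*} [Field F] [CharP F 2] [Finite F] {K : Type*} [Field K] [StarRing K] [CharP K 2]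
  {G : Type*} [Group G] [Finite G] {A : Subgroup G} {t : G} {T : Subgroup G}

/-- the element with `d = s` -/
def bE (s : K) (h : star s = s) : T5 K :=
  ⟨0, 0, 0, 0, 0, s, by simp, by rw [h, star_zero, mul_zero]; exact CharTwo.add_self_eq_zero s⟩

/-- the element with `c = s` -/
def cE (s : K) (h : star s = s) : T5 K :=
  ⟨0, 0, 0, s, 0, 0, by rw [h]; simp [CharTwo.add_self_eq_zero s], by simp⟩

theorem bE_mem {a : K} (ha : star a = a) : bE a ha ∈ Xbm K := ⟨rfl, rfl, rfl, rfl, rfl⟩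
theorem cE_mem {a : K} (ha : star a = a) : cE a ha ∈ Zm K := ⟨rfl, rfl, rfl, rfl, rfl⟩

theorem star_d {x : T5 K} (hx : x ∈ Xbm K) : star x.d = x.d := by
  obtain ⟨h1, h2, h3, h4, h5⟩ := hx
  have h := x.hd
  rw [h5, star_zero, mul_zero] at h
  exact (FieldAux.eq_of_add_eq_zero h).symm

theorem star_c {x : T5 K} (hx : x ∈ Zm K) : star x.c = x.c := by
  obtain ⟨h1, h2, h3, h4, h5⟩ := hx
  have h := x.hc
  rw [h1, h2, h3] at h
  simp only [star_zero, mul_zero, add_zero] at h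
  exact (FieldAux.eq_of_add_eq_zero h).symm

theorem eq_bE {x : T5 K} (hx : x ∈ Xbm K) : x = bE x.d (star_d hx) := by
  obtain ⟨h1, h2, h3, h4, h5⟩ := hx
  ext
  · exact h1
  · exact h2
  · exact h3
  · exact h4
  · exact h5
  · rfl

theorem eq_cE {x : T5 K} (hx : x ∈ Zm K) : x = cE x.c (star_c hx) := by
  obtain ⟨h1, h2, h3, h4, h5⟩ := hx
  ext
  · exact h1
  · exact h2
  · exact h3
  · rfl
  · exact h4
  · exact h5

/-- the lifted environment -/
structure LiftedF (H : Hyp A t T) (B : Base F (XQ A t)) (ι : F →+* K) (V : UFive.Env K G) : Prop where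
  st : ∀ a, star (ι a) = ι a
  sur : ∀ x, star x = x → ∃ a, x = ι a
  f_NO : ∀ x, V.f x ∈ NO A t
  two : ∀ x, Lift.Two (V.f x)
  pr_xa : ∀ u, pr A t ⟨V.f (T5.e1 (ι u)), f_NO _⟩ = B.xa u
  pr_xb : ∀ u, pr A t ⟨V.f (bE (ι u) (st u)), f_NO _⟩ = B.xb u
  pr_zs : ∀ u, pr A t ⟨V.f (T5.em (ι u)), f_NO _⟩ = B.zs u
  pr_zl : ∀ u, pr A t ⟨V.f (cE (ι u) (st u)), f_NO _⟩ = B.zl u
  V2_A : ∀ x ∈ TV2 K, V.f x ∈ A
  Xb_A : ∀ x ∈ Xbm K, V.f x ∈ A
  t_eq : V.t = t
  na_A : V.na ∈ A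
  pr_na : pr A t ⟨V.na, H.A_le na_A⟩ = B.na
  nb_A : V.nb ∈ A
  pr_nb : pr A t ⟨V.nb, H.A_le nb_A⟩ = B.nb
  h_A : ∀ α γ : Fˣ, V.h (ι α) (ι γ) ∈ A
  pr_h : ∀ α γ : Fˣ, pr A t ⟨V.h (ι α) (ι γ), H.A_le (h_A α γ)⟩ = B.h α (γ ^ 2)
  Cn_eq : V.Cn = A ⊓ core A t

namespace LiftedF

variable {H : Hyp A t T} {B : Base F (XQ A t)} {ι : F →+* K} {V : UFive.Env K G} (L : LiftedF H B ι V)
include L

theorem mem_Cn {g : G} (hg : g ∈ A) (h : pr A t ⟨g, H.A_le hg⟩ = 1) : g ∈ V.Cn := by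
  rw [L.Cn_eq]
  exact ⟨hg, pr_eq_one.mp h⟩

theorem Cn_le_A : V.Cn ≤ A := by
  rw [L.Cn_eq]
  exact inf_le_left

theorem Cn_cent {k g : G} (hk : k ∈ V.Cn) (hg : g ∈ A) : k * g = g * k := by
  rw [L.Cn_eq] at hk
  exact comm_of_centralizer (H.core_le hk.2) hg

theorem pr_Cn {k : G} (hk : k ∈ V.Cn) : pr A t ⟨k, H.A_le (L.Cn_le_A hk)⟩ = 1 := by
  rw [L.Cn_eq] at hk
  exact pr_eq_one.2 hk.2

theorem Cn_odd' {k : G} (hk : k ∈ V.Cn) : Odd (orderOf k) := by
  rw [L.Cn_eq] at hk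
  exact (H.mem_core.mp hk.2).2.2

/-- products of `h` -/
theorem h_mul (α β α' β' : Fˣ) : ∃ k ∈ V.Cn, V.h (ι α) (ι β) * V.h (ι α') (ι β') =
    V.h (ι ((α * α' : Fˣ) : F)) (ι ((β * β' : Fˣ) : F)) * k := by
  refine ⟨(V.h (ι ((α * α' : Fˣ) : F)) (ι ((β * β' : Fˣ) : F)))⁻¹ * (V.h (ι α) (ι β) * V.h (ι α') (ι β')), ?_, by group⟩
  apply L.mem_Cn (A.mul_mem (A.inv_mem (L.h_A _ _)) (A.mul_mem (L.h_A _ _) (L.h_A _ _)))
  have e1 : pr A t ((⟨V.h (ι ((α * α' : Fˣ) : F)) (ι ((β * β' : Fˣ) : F)), H.A_le (L.h_A _ _)⟩)⁻¹ *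
      (⟨V.h (ι α) (ι β), H.A_le (L.h_A _ _)⟩ * ⟨V.h (ι α') (ι β'), H.A_le (L.h_A _ _)⟩)) = 1 := by
    rw [map_mul, map_mul, map_inv, L.pr_h, L.pr_h, L.pr_h, mul_pow, B.h_mul, inv_mul_cancel]
  exact e1

theorem h_one : V.h (ι ((1 : Fˣ) : F)) (ι ((1 : Fˣ) : F)) ∈ V.Cn := by
  apply L.mem_Cn (L.h_A 1 1)
  rw [L.pr_h, one_pow]
  have h1 := B.h_mul 1 1 1 1
  rw [one_mul] at h1
  exact mul_eq_left.1 h1.symm

theorem V2_le_A : UEnv.V2 V ≤ A := by
  rintro _ ⟨x, hx, rfl⟩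
  exact L.V2_A x hx

theorem Lb_le_A : V.Lb ≤ A := by
  apply V.Lb_le_of _ L.nb_A
  rintro _ ⟨x, hx, rfl⟩
  exact L.Xb_A x hx

theorem P_le_A : V.P ≤ A := by
  intro x hx
  obtain ⟨v, hv, b, hb, rfl⟩ := UEnv.P_form V hx
  exact mul_mem (L.V2_le_A hv) (L.Lb_le_A hb)

theorem ι_ne (a : Fˣ) : ι a ≠ 0 := by
  intro h
  exact a.ne_zero (ι.injective (by rw [h, map_zero]))

theorem inv_ι (a : Fˣ) : (ι a)⁻¹ = ι ((a⁻¹ : Fˣ) : F) := by
  rw [Units.val_inv_eq_inv_val, map_inv₀]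

/-- the torus element for the rank one group `Lb` -/
theorem exists_data : ∃ (h : G) (l : Fˣ), h ∈ A ∧
    RankOne.Data F (fun s => V.f (bE (ι s) (L.st s))) V.nb h (l ^ 2) ∧
    (∀ j : ℤ, ∃ k ∈ V.Cn, h ^ j = V.h (ι ((l ^ (-j) : Fˣ) : F)) (ι ((l ^ j : Fˣ) : F)) * k) := by
  obtain ⟨μ, hμ⟩ := IsCyclic.exists_generator (α := Fˣ)
  set l := Swap.rtU μ with hl
  have hl2 : l ^ 2 = μ := Swap.sq_rtU μ
  set h1 := V.h (ι ((l⁻¹ : Fˣ) : F)) (ι l) with hh1
  -- `nb h1 nb h1 ∈ Cn`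
  obtain ⟨k1, hk1, e1⟩ := V.nb_h (ι ((l⁻¹ : Fˣ) : F)) (ι l) (L.st _) (L.st _) (L.ι_ne _) (L.ι_ne _)
  have e0 : ι ((l⁻¹ : Fˣ) : F) * (ι l) ^ 2 = ι l := by
    rw [← map_pow, ← map_mul]
    congr 1
    rw [pow_two, ← mul_assoc, ← Units.val_mul, inv_mul_cancel, Units.val_one, one_mul]
  rw [e0, L.inv_ι] at e1
  obtain ⟨k2, hk2, e2⟩ := L.h_mul l l⁻¹ l⁻¹ l
  rw [mul_inv_cancel, inv_mul_cancel] at e2
  set k := V.nb * h1 * V.nb * h1 with hk
  have hkC : k ∈ V.Cn := by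
    have h3 : k = V.h (ι ((1 : Fˣ) : F)) (ι ((1 : Fˣ) : F)) * k2 * k1 := by
      have h4 : V.nb * h1 * V.nb = V.h (ι l) (ι ((l⁻¹ : Fˣ) : F)) * k1 := by
        calc V.nb * h1 * V.nb = V.h (ι l) (ι ((l⁻¹ : Fˣ) : F)) * (V.nb * k1) * V.nb := by rw [hh1, e1]; group
          _ = V.h (ι l) (ι ((l⁻¹ : Fˣ) : F)) * k1 * (V.nb * V.nb) := by rw [← V.Cn_nb k1 hk1]; group
          _ = _ := by rw [V.nb_nb, mul_one]
      calc k = V.nb * h1 * V.nb * h1 := hk
        _ = V.h (ι l) (ι ((l⁻¹ : Fˣ) : F)) * (k1 * h1) := by rw [h4]; group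
        _ = (V.h (ι l) (ι ((l⁻¹ : Fˣ) : F)) * V.h (ι ((l⁻¹ : Fˣ) : F)) (ι l)) * k1 := by
            rw [L.Cn_cent hk1 (L.h_A _ _)]; group
        _ = _ := by rw [e2]
    rw [h3]
    exact mul_mem (mul_mem L.h_one hk2) hk1
  obtain ⟨j0, hj0⟩ := RankOne.exists_corr (n := V.nb) (h := h1) (k := k) V.nb_nb rfl (L.Cn_odd' hkC) (V.Cn_nb k hkC)
  set h := h1 * k ^ j0 with hh
  have hkj : k ^ j0 ∈ V.Cn := pow_mem hkC _
  have hhA : h ∈ A := mul_mem (L.h_A _ _) (L.Cn_le_A hkj)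
  have hact : ∀ j : ℤ, ∃ k ∈ V.Cn, h ^ j = V.h (ι ((l ^ (-j) : Fˣ) : F)) (ι ((l ^ j : Fˣ) : F)) * k := by
    intro j
    have h5 : pr A t ⟨h, H.A_le hhA⟩ = B.h l⁻¹ (l ^ 2) := by
      have h6 : pr A t (⟨h1, H.A_le (L.h_A _ _)⟩ * ⟨k ^ j0, H.A_le (L.Cn_le_A hkj)⟩) = B.h l⁻¹ (l ^ 2) := by
        rw [map_mul, L.pr_h, L.pr_Cn hkj, mul_one]
      exact h6
    let hB : Fˣ × Fˣ →* XQ A t :=
      { toFun := fun p => B.h p.1 p.2
        map_one' := by
          have h1 := B.h_mul 1 1 1 1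
          rw [one_mul] at h1
          exact mul_eq_left.1 h1.symm
        map_mul' := fun p q => B.h_mul _ _ _ _ }
    have h7 : (B.h l⁻¹ (l ^ 2)) ^ j = B.h (l ^ (-j)) ((l ^ j) ^ 2) := by
      have h8 := map_zpow hB (l⁻¹, l ^ 2) j
      have h9 : ((l⁻¹, l ^ 2) : Fˣ × Fˣ) ^ j = (l ^ (-j), (l ^ j) ^ 2) := by
        refine Prod.ext ?_ ?_
        · simp
        · show (l ^ 2) ^ j = (l ^ j) ^ 2
          rw [← zpow_natCast, ← zpow_natCast, ← zpow_mul, ← zpow_mul, mul_comm]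
      rw [h9] at h8
      exact h8.symm
    refine ⟨(V.h (ι ((l ^ (-j) : Fˣ) : F)) (ι ((l ^ j : Fˣ) : F)))⁻¹ * h ^ j, ?_, by group⟩
    apply L.mem_Cn (A.mul_mem (A.inv_mem (L.h_A _ _)) (A.zpow_mem hhA j))
    have e5 : pr A t ((⟨V.h (ι ((l ^ (-j) : Fˣ) : F)) (ι ((l ^ j : Fˣ) : F)), H.A_le (L.h_A _ _)⟩)⁻¹ *
        (⟨h, H.A_le hhA⟩) ^ j) = 1 := by
      rw [map_mul, map_zpow, map_inv, L.pr_h, h5, h7, inv_mul_cancel]
    exact e5
  refine ⟨h, l, hhA, ?_, hact⟩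
  have hone : V.f (bE (ι (1 : F)) (L.st 1)) = V.f oned := by
    congr 1
    apply T5.ext
    · rfl
    · rfl
    · rfl
    · rfl
    · rfl
    · exact map_one ι
  have x1 : V.f oned * V.f oned = 1 := by
    rw [← map_mul, ← map_one V.f]
    congr 1
    ext
    all_goals simp [mul_w1, mul_w2, mul_w3, mul_c, mul_y, mul_d, oned, one_w1, one_w2, one_w3, one_c, one_y, one_d,
      CharTwo.add_self_eq_zero]
  refine ⟨?_, ?_, V.nb_nb, ?_, ?_, hj0⟩
  · intro β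
    rw [hl2]
    exact mem_zpowers_iff.1 (hμ β)
  · intro a b
    rw [← map_mul]
    congr 1
    apply T5.ext
    all_goals simp [mul_w1, mul_w2, mul_w3, mul_c, mul_y, mul_d, bE]
  · have h3 := V.nb_eq
    have h4 : cg V.nb (V.f oned) = V.nb * V.f oned * V.nb := by
      rw [cg, inv_eq_of_mul_eq_one_left V.nb_nb]
    rw [h4] at h3
    show V.nb * V.f (bE (ι 1) (L.st 1)) * V.nb = V.f (bE (ι 1) (L.st 1)) * V.nb * V.f (bE (ι 1) (L.st 1))
    rw [hone]
    conv_rhs => rw [h3]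
    calc V.nb * V.f oned * V.nb = 1 * (V.nb * V.f oned * V.nb) * 1 := by group
      _ = _ := by rw [← x1]; group
  · intro a
    show h * V.f (bE (ι a) (L.st a)) = V.f (bE (ι (((l ^ 2 : Fˣ) : F) * a)) (L.st _)) * h
    have h3 := V.h_f (ι ((l⁻¹ : Fˣ) : F)) (ι l) (L.st _) (L.st _) (L.ι_ne _) (L.ι_ne _) (bE (ι a) (L.st a))
    have h4 : dia (ι ((l⁻¹ : Fˣ) : F)) (ι l) (L.st _) (L.st _) (bE (ι a) (L.st a)) =
        bE (ι (((l ^ 2 : Fˣ) : F) * a)) (L.st _) := by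
      apply T5.ext
      · exact mul_zero _
      · exact mul_zero _
      · exact mul_zero _
      · exact mul_zero _
      · exact mul_zero _
      · show (ι l) ^ 2 * ι a = ι (((l ^ 2 : Fˣ) : F) * a)
        rw [map_mul, Units.val_pow_eq_pow_val, map_pow]
    rw [h4] at h3
    calc h * V.f (bE (ι a) (L.st a)) = h1 * (k ^ j0 * V.f (bE (ι a) (L.st a))) := by rw [hh]; group
      _ = (h1 * V.f (bE (ι a) (L.st a)) * h1⁻¹) * h1 * k ^ j0 := by rw [V.Cn_f _ hkj]; group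
      _ = V.f (bE (ι (((l ^ 2 : Fˣ) : F) * a)) (L.st _)) * h1 * k ^ j0 := by rw [← h3]; rfl
      _ = _ := by rw [hh]; group

/-- **`C_P(V₂) ≤ V₂`** -/
theorem cent_V2 {x : G} (hx : x ∈ V.P) (hc : ∀ y ∈ UEnv.V2 V, x * y = y * x) : x ∈ UEnv.V2 V := by
  obtain ⟨h, l, hhA, D, hact⟩ := L.exists_data
  obtain ⟨v, hv, b, hb, rfl⟩ := UEnv.P_form V hx
  -- `b` centralises `V₂`
  have hbc : ∀ y ∈ UEnv.V2 V, b * y = y * b := by
    intro y hy
    have h1 := hc y hy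
    have h2 := UEnv.V2_comm V hv hy
    calc b * y = v⁻¹ * (v * b * y) := by group
      _ = v⁻¹ * (y * v) * b := by rw [h1]; group
      _ = v⁻¹ * (v * y) * b := by rw [h2]
      _ = y * b := by group
  have hbB : b ∈ D.Br := by
    have h1 : V.Lb ≤ D.Br := by
      apply V.Lb_le_of _ D.n_mem
      rintro _ ⟨y, hy, rfl⟩
      obtain ⟨s, hs⟩ := L.sur _ (star_d hy)
      have e : y = bE (ι s) (L.st s) := by
        rw [eq_bE hy]
        apply T5.ext
        · rfl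
        · rfl
        · rfl
        · rfl
        · rfl
        · exact hs
      rw [e]
      exact D.x_mem s
    exact h1 hb
  -- the action of `h ^ j`
  have act : ∀ (j : ℤ) (y : T5 K), y ∈ TV2 K → ∃ y' ∈ TV2 K, cg (h ^ j) (V.f y) = V.f y' ∧
      y'.w1 = ι ((l ^ (-j) : Fˣ) : F) * y.w1 ∧ y'.w3 = ι ((l ^ j : Fˣ) : F) * y.w3 := by
    intro j y hy
    obtain ⟨k, hk, e⟩ := hact j
    have h1 := V.h_f (ι ((l ^ (-j) : Fˣ) : F)) (ι ((l ^ j : Fˣ) : F)) (L.st _) (L.st _) (L.ι_ne _) (L.ι_ne _) y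
    obtain ⟨g1, g2, g3, g4, g5⟩ := hy
    refine ⟨_, ?_, by rw [e, cg_comp, cg_eq_self (V.Cn_f k hk _), h1], rfl, ?_⟩
    · refine ⟨?_, ?_, ?_, ?_, ?_⟩
      · show star (ι _ * y.w1) = ι _ * y.w1
        rw [star_mul', L.st, g1]
      · show star (ι _ * (ι _) ^ 2 * y.w3) = ι _ * (ι _) ^ 2 * y.w3
        rw [star_mul', star_mul', star_pow, L.st, L.st, g2]
      · show ι _ * ι _ * y.w2 = 0
        rw [g3, mul_zero]
      · show ι _ * y.y = 0
        rw [g4, mul_zero]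
      · show (ι _) ^ 2 * y.d = 0
        rw [g5, mul_zero]
    · show ι ((l ^ (-j) : Fˣ) : F) * (ι ((l ^ j : Fˣ) : F)) ^ 2 * y.w3 = _
      congr 1
      rw [← map_pow, ← map_mul]
      congr 1
      rw [← Units.val_pow_eq_pow_val, ← Units.val_mul, pow_two, ← mul_assoc, ← zpow_add, neg_add_cancel, zpow_zero,
        one_mul]
  have xact : ∀ (a : F) (y : T5 K), y ∈ TV2 K → ∃ y' ∈ TV2 K, cg (V.f (bE (ι a) (L.st a))) (V.f y) = V.f y' ∧
      y'.w1 = y.w1 ∧ y'.w3 = y.w3 + ι a * y.w1 := by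
    intro a y hy
    obtain ⟨h1, h2, h3⟩ := conj_TV2 (bE_mem (L.st a)) hy
    exact ⟨_, h1, V.cg_f _ _, h2, h3⟩
  rcases D.mem_Br.1 hbB with ⟨a, j, e⟩ | ⟨a, j, a', e⟩
  · -- `b = x(a) h ^ j`
    have m1 : T5.e1 (1 : K) ∈ TV2 K := ⟨star_one K, star_zero K, rfl, rfl, rfl⟩
    have h1 := cg_eq_self (hbc _ ((UEnv.f_V2 V).2 m1))
    obtain ⟨y1, hy1, e1, f1, f1'⟩ := act j _ m1
    obtain ⟨y2, hy2, e2, f2, f2'⟩ := xact a _ hy1
    rw [e, cg_comp, e1, e2] at h1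
    have h2 := V.inj h1
    have h3 : y2.w1 = 1 := by rw [h2]; rfl
    have h4 : y2.w3 = 0 := by rw [h2]; rfl
    have g1 : y1.w1 = ι ((l ^ (-j) : Fˣ) : F) := by rw [f1]; exact mul_one _
    have g3 : y1.w3 = 0 := by rw [f1']; exact mul_zero _
    rw [f2'] at h4
    rw [f2] at h3
    rw [h3, g3, zero_add, mul_one] at h4
    rw [g1, ← map_one ι] at h3
    -- `l ^ j = 1`
    have h5 : l ^ (-j) = 1 := Units.ext (ι.injective h3)
    have h6 : l ^ j = 1 := by rw [← inv_eq_one, ← zpow_neg, h5]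
    have ha : a = 0 := ι.injective (by rw [h4, map_zero])
    have h7 : h ^ j ∈ V.Cn := by
      obtain ⟨k, hk, e2⟩ := hact j
      rw [h5, h6] at e2
      rw [e2]
      exact mul_mem L.h_one hk
    have h8 : h ^ j = 1 := by
      apply V.Cn_odd _ h7
      have h9 := D.invj j
      rw [← V.Cn_nb _ h7, mul_assoc, V.nb_nb, mul_one, zpow_neg] at h9
      nth_rewrite 1 [h9]
      exact inv_mul_cancel _
    rw [e, h8, ha, D.zero, mul_one, mul_one]
    exact hv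
  · exfalso
    have m1 : T5.em (1 : K) ∈ TV2 K := ⟨star_zero K, star_one K, rfl, rfl, rfl⟩
    have h1 := cg_eq_self (hbc _ ((UEnv.f_V2 V).2 m1))
    obtain ⟨y1, hy1, e1, f1, f1'⟩ := xact a' _ m1
    obtain ⟨e2, hy2⟩ := UEnv.nb_V2 V hy1
    obtain ⟨y3, hy3, e3, f3, f3'⟩ := act j _ hy2
    obtain ⟨y4, hy4, e4, f4, f4'⟩ := xact a _ hy3
    rw [e, cg_comp, cg_comp, cg_comp, e1, e2, e3, e4] at h1
    have h2 := V.inj h1
    have h3 : y4.w1 = 0 := by rw [h2]; rfl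
    have g1 : y1.w1 = 0 := by rw [f1]; rfl
    have g3 : y1.w3 = 1 := by rw [f1']; show (1 : K) + ι a' * 0 = 1; ring
    rw [f4, f3] at h3
    have g4 : (swQ y1).w1 = 1 := g3
    rw [g4, mul_one] at h3
    exact L.ι_ne _ h3

/-- **P_self** -/
theorem P_self {x : G} (hx : x ∈ V.P) (hc : ∀ y ∈ V.P, y ∈ V.Q → x * y = y * x) : x ∈ V.Q :=
  UEnv.V2_le_Q V (L.cent_V2 hx fun y hy => hc y (UEnv.V2_le_P V hy) (UEnv.V2_le_Q V hy))

theorem P_inf_Cn {k : G} (hk : k ∈ V.P) (hk' : k ∈ V.Cn) : k = 1 := by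
  obtain ⟨x, -, rfl⟩ := L.cent_V2 hk fun y hy => by
    obtain ⟨y, -, rfl⟩ := hy
    exact V.Cn_f k hk' y
  obtain ⟨n, hn⟩ := L.two x
  rw [← orderOf_eq_one_iff]
  exact Nat.eq_one_of_dvd_coprimes (Nat.Coprime.pow_left n (Nat.coprime_two_left.mpr (L.Cn_odd' hk')))
    (orderOf_dvd_of_pow_eq_one hn) dvd_rfl

theorem P_le_NO : V.P ≤ NO A t := L.P_le_A.trans H.A_le

/-- `P` covers `C_{A_X}(z)` -/
theorem P_onto {y : XQ A t} (hy : y ∈ Env.P1 (Swap.swap B)) : ∃ (p : G) (hp : p ∈ V.P), pr A t ⟨p, L.P_le_NO hp⟩ = y := by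
  have h1 : Env.P1 (Swap.swap B) ≤ _root_.Cfsg.Agent.StdEven.CoreQuot.im A t V.P := by
    rw [Env.P1, closure_le]
    rintro _ (rfl | ⟨u, rfl⟩ | ⟨s, m, r, rfl⟩)
    · show B.nb ∈ _root_.Cfsg.Agent.StdEven.CoreQuot.im A t V.P
      rw [← L.pr_nb]
      exact pr_mem_im (UEnv.Lb_le_P' V V.nb_mem_Lb)
    · show B.xb u ∈ _root_.Cfsg.Agent.StdEven.CoreQuot.im A t V.P
      rw [← L.pr_xb]
      exact pr_mem_im (UEnv.Lb_le_P' V (mem_sup_left (V.f_Xb.2 (bE_mem _))))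
    · show B.xa (Swap.rt s) * B.zl m * B.zs (Swap.rt r) ∈ _root_.Cfsg.Agent.StdEven.CoreQuot.im A t V.P
      rw [← L.pr_xa, ← L.pr_zl, ← L.pr_zs]
      refine mul_mem (mul_mem (pr_mem_im (UEnv.Xa_le_P V (V.f_Xa.2 ⟨L.st _, rfl, rfl, rfl, rfl, rfl⟩)))
        (pr_mem_im (UEnv.Z_le_P V (V.f_Z.2 (cE_mem _))))) (pr_mem_im (UEnv.Xab_le_P V (V.f_Xab.2 ⟨L.st _, rfl, rfl,
          rfl, rfl, rfl⟩)))
  obtain ⟨n, hn, e⟩ := mem_im.mp (h1 hy)
  exact ⟨n, hn, e⟩

/-- **P_norm** -/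
theorem P_norm (E : StdSpFour.Env B (_root_.Cfsg.Agent.StdEven.CoreQuot.im A t A)) {g : G} (hg : t * g = g * t) {z : G} (hz : z ∈ V.Z) (hz1 : z ≠ 1)
    (hgz : g * z = z * g) {x : G} (hx : x ∈ V.P) : g * x * g⁻¹ ∈ V.P := by
  have hgA : g ∈ normalizer (A : Set G) := H.mem_normalizer hg.symm
  obtain ⟨z, hzm, rfl⟩ := hz
  obtain ⟨r, hr'⟩ := L.sur _ (star_c hzm)
  have hze : z = cE (ι r) (L.st r) := by
    rw [eq_cE hzm]
    apply T5.ext
    · rfl
    · rfl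
    · rfl
    · exact hr'
    · rfl
    · rfl
  have hr : r ≠ 0 := by
    rintro rfl
    apply hz1
    rw [hze, ← map_one V.f]
    congr 1
    apply T5.ext
    · rfl
    · rfl
    · rfl
    · exact map_zero ι
    · rfl
    · rfl
  have hzP : ∀ x ∈ V.P, x * V.f z = V.f z * x := by
    intro x hx
    obtain ⟨v, hv, b, hb, rfl⟩ := UEnv.P_form V hx
    have h1 := V.Kb_Z' (V.Lb_le_Kb hb) (V.f_Z.2 hzm)
    have h2 := UEnv.V2_comm V hv ((UEnv.f_V2 V).2 (Zm_TV2 hzm))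
    calc v * b * V.f z = v * (b * V.f z) := by group
      _ = (v * V.f z) * b := by rw [h1]; group
      _ = _ := by rw [h2]; group
  -- 2-elements
  have key : ∀ x ∈ V.P, Lift.Two x → g * x * g⁻¹ ∈ V.P := by
    intro x hx hx2
    have hxA : g * x * g⁻¹ ∈ A := (mem_normalizer_iff.1 hgA x).1 (L.P_le_A hx)
    have hcz : Commute (g * x * g⁻¹) (V.f z) := by
      have h1 : Commute (g * x * g⁻¹) (g * V.f z * g⁻¹) := Env.comm_conj (hzP x hx)
      rwa [hgz, mul_inv_cancel_right] at h1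
    have h2 : Commute (pr A t ⟨g * x * g⁻¹, H.A_le hxA⟩) (B.zl r) := by
      rw [← L.pr_zl]
      have h3 : (⟨g * x * g⁻¹, H.A_le hxA⟩ : ↥(NO A t)) * ⟨V.f (cE (ι r) (L.st r)), L.f_NO _⟩ =
          ⟨V.f (cE (ι r) (L.st r)), L.f_NO _⟩ * ⟨g * x * g⁻¹, H.A_le hxA⟩ := by
        apply Subtype.ext
        rw [← hze]
        exact hcz.eq
      show _ * _ = _ * _
      rw [← map_mul, h3, map_mul]
    have h3 : pr A t ⟨g * x * g⁻¹, H.A_le hxA⟩ ∈ Env.P1 (Swap.swap B) :=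
      EnvFacts.cent_zs (B := Swap.swap B) (EnvSwap.env_swap E) (pr_mem_im hxA) hr h2
    obtain ⟨p, hp, e⟩ := L.P_onto h3
    set k := p⁻¹ * (g * x * g⁻¹) with hk
    have hkA : k ∈ A := mul_mem (inv_mem (L.P_le_A hp)) hxA
    have hkC : k ∈ V.Cn := by
      apply L.mem_Cn hkA
      have h4 : pr A t ((⟨p, L.P_le_NO hp⟩)⁻¹ * ⟨g * x * g⁻¹, H.A_le hxA⟩) = 1 := by
        rw [map_mul, map_inv, e, inv_mul_cancel]
      exact h4
    obtain ⟨n, hn⟩ := hx2.conj g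
    have h4 : g * x * g⁻¹ = p * k := by rw [hk]; group
    have h5 : Commute p k := (L.Cn_cent hkC (L.P_le_A hp)).symm
    rw [h4, h5.mul_pow] at hn
    have h6 : k ^ 2 ^ n = 1 := by
      apply L.P_inf_Cn _ (pow_mem hkC _)
      rw [eq_inv_of_mul_eq_one_right hn]
      exact inv_mem (pow_mem hp _)
    have h7 : k = 1 := by
      rw [← orderOf_eq_one_iff]
      exact Nat.eq_one_of_dvd_coprimes (Nat.Coprime.pow_left n (Nat.coprime_two_left.mpr (L.Cn_odd' hkC)))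
        (orderOf_dvd_of_pow_eq_one h6) dvd_rfl
    rw [h4, h7, mul_one]
    exact hp
  have h1 : V.P ≤ V.P.comap (MulAut.conj g).toMonoidHom := by
    refine sup_le (sup_le (sup_le ?_ ?_) ?_) (sup_le ?_ ?_)
    · rintro _ ⟨x, hx, rfl⟩
      exact key _ (UEnv.Xa_le_P V (V.f_Xa.2 hx)) (L.two x)
    · rintro _ ⟨x, hx, rfl⟩
      exact key _ (UEnv.Xab_le_P V (V.f_Xab.2 hx)) (L.two x)
    · rintro _ ⟨x, hx, rfl⟩
      exact key _ (UEnv.Z_le_P V (V.f_Z.2 hx)) (L.two x)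
    · rintro _ ⟨x, hx, rfl⟩
      exact key _ (UEnv.Lb_le_P' V (mem_sup_left (V.f_Xb.2 hx))) (L.two x)
    · intro x hx
      refine key x (UEnv.Lb_le_P' V (mem_sup_right hx)) ?_
      obtain ⟨y, hy, rfl⟩ := hx
      obtain ⟨u, hu, rfl⟩ := hy
      exact (L.two u).conj V.nb
  exact h1 hx

/-- **the position of the lifted environment in `E`** -/
theorem inE (EX : StdSpFour.Env B (_root_.Cfsg.Agent.StdEven.CoreQuot.im A t A)) {E : Subgroup G} (hA : A ≤ E) (htE : ∀ x ∈ E, t * x * t⁻¹ ∈ E)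
    (hf : ∀ x, V.f x ∈ E) (syl : ¬ 2 ∣ V.T.relIndex E) : UFive.InE V E where
  E_t := by rw [L.t_eq]; exact htE
  f_mem := hf
  na_mem := hA L.na_A
  nb_mem := hA L.nb_A
  syl := syl
  P_norm := by
    rw [L.t_eq]
    exact fun g _ hg z hz hz1 hgz x hx => L.P_norm EX hg hz hz1 hgz hx
  P_self := fun x hx hc => L.P_self hx hc

end LiftedF

end lifted

end Cfsg.Agent.StdSpFour.CaseC
end

-- part: StdSpFour/CaseCBase
section
/-!
# S1778, type Sp₄(q), case (C), `R` a field: `LiftedF` from `CLift`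
-/
set_option autoImplicit false
set_option linter.unusedSectionVars false
set_option linter.unusedSimpArgs false
set_option linter.style.haveILetI false

namespace Cfsg.Agent.StdSpFour.CaseC

open Cfsg Cfsg.Agent.StdEven.CoreQuot Cfsg.Agent.StdSpFour.Lift
open Cfsg.Agent.StdSpFour Cfsg.Agent.StdSpFour.Comm QuadraticAlgebra Cfsg.Agent.StdSpFour.UFiveModel
open Cfsg.Agent.StdSpFour.UFiveModel.T5 Cfsg.Agent.StdSpFour.StarField

section fld

variable {F : Type*} [Field F] {E : F} [Hab : Fact (∀ r : F, r ^ 2 ≠ E + 1 * r)]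

variable (E) in
/-- the embedding of `F` into `F[θ]` -/
noncomputable def iE : F →+* Rg E := algebraMap F (Rg E)

theorem iE_apply (a : F) : iE E a = ⟨a, 0⟩ := rfl

theorem iE_re (a : F) : (iE E a).re = a := rfl

theorem star_iE (a : F) : star (iE E a) = iE E a := by
  rw [iE_apply]
  ext <;> simp

theorem star_th_ne : star (th : Rg E) ≠ th := by
  intro h
  have h1 := congrArg QuadraticAlgebra.re h
  rw [re_star] at h1
  change (0 : F) + 1 * 1 = 0 at h1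
  simp at h1

variable (E) in
theorem exists_star_ne : ∃ x : Rg E, star x ≠ x := ⟨th, star_th_ne⟩

variable (E) in
/-- the fixed elements are `F` -/
def equivFx : Fx (Rg E) ≃ F where
  toFun x := x.1.re
  invFun a := ⟨⟨a, 0⟩, by
    show star (⟨a, 0⟩ : Rg E) = ⟨a, 0⟩
    ext <;> simp⟩
  left_inv x := Subtype.ext (eq_re_of_mem x.2).symm
  right_inv a := rfl

variable (E) in
theorem card_Fx : Nat.card (Fx (Rg E)) = Nat.card F :=
  Nat.card_congr (equivFx E)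

end fld

section hom

variable {F : Type*} [Field F] [CharP F 2] {G : Type*} [Group G] {B : Base F G} {E : F} {D : Three B E}

theorem nm_zero : nm (0 : Rg E) = 0 := by cmp; ring

/-- `hom` on the elements of `V₂` -/
theorem hom_V2 {x : T5 (Rg E)} (h1 : x.w1.im = 0) (h2 : x.w2 = 0) (h3 : x.w3.im = 0) (h4 : x.y = 0) (h5 : x.d = 0) :
    D.hom x = B.xa x.w1.re * B.zs x.w3.re * B.zl (x.c + x.w1 * star x.w3).re := by
  rw [Three.hom_apply, h2, h4, h5, nm_zero, re_zero, add_zero, Two.sg_zero, Two.sg'_zero, one_mul, one_mul]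
  have e1 : x.w1 = ⟨x.w1.re, 0⟩ := by
    ext
    · rfl
    · exact h1
  have e3 : x.w3 = ⟨x.w3.re, 0⟩ := by
    ext
    · rfl
    · exact h3
  have e4 : D.A x.w1 = B.xa x.w1.re := by
    conv_lhs => rw [e1]
    exact D.A_re _
  have e5 : D.X x.w3 = B.zs x.w3.re := by
    conv_lhs => rw [e3]
    exact D.X_re _
  rw [e4]
  unfold Two.v4
  rw [e5, xb_zero, one_mul, mul_assoc]

/-- `hom` on the elements of `X_b` -/
theorem hom_Xb {x : T5 (Rg E)} (h1 : x.w1 = 0) (h2 : x.w2 = 0) (h3 : x.w3 = 0) (h4 : x.y = 0) (h5 : x.c = 0) :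
    D.hom x = B.xb x.d.re := by
  rw [Three.hom_apply, h1, h2, h3, h4, h5, nm_zero, zero_mul, add_zero, add_zero, re_zero, Two.sg_zero, Two.sg'_zero,
    Two.A_zero, one_mul, one_mul, one_mul, ← Two.xb_eq]

end hom

section main

variable {F : Type*} [Field F] [CharP F 2] [Finite F] {G : Type*} [Group G] [Finite G] {A : Subgroup G} {t : G}
  {T : Subgroup G} {H : Hyp A t T} {B : Base F (XQ A t)} {E : F} {D : Three B E} (L : CLift H B D)
  [Hab : Fact (∀ r : F, r ^ 2 ≠ E + 1 * r)]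

theorem hK_iE (α γ : Fˣ) : L.hK (iE E (α : F)) (iE E (γ : F)) = L.h α (γ ^ 2) := by
  have h1 : (iE E (α : F)).re ≠ 0 := α.ne_zero
  have h2 : (iE E (γ : F)).re ≠ 0 := γ.ne_zero
  rw [L.hK_eq h1 h2]
  congr 1
  · exact Units.ext rfl
  · congr 1
    exact Units.ext rfl

theorem lifted (hE : Env B (_root_.Cfsg.Agent.StdEven.CoreQuot.im A t A)) (hBt : B.t = H.tX) : LiftedF H B (iE E) (L.toEnv hE hBt) where
  st := star_iE
  sur x h := ⟨x.re, eq_re_of_mem h⟩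
  f_NO x := L.f_mem x
  two x := L.f_two x
  pr_xa u := by
    refine (L.f_pr (T5.e1 (iE E u))).trans ?_
    refine (hom_V2 (D := D) rfl rfl rfl rfl rfl).trans ?_
    show B.xa u * B.zs 0 * B.zl ((0 : Rg E) + (iE E u) * star 0).re = B.xa u
    rw [star_zero, mul_zero, add_zero, re_zero, zs_zero, zl_zero, mul_one, mul_one]
  pr_xb u := by
    refine (L.f_pr (bE (iE E u) (star_iE u))).trans ?_
    exact hom_Xb (D := D) rfl rfl rfl rfl rfl
  pr_zs u := by
    refine (L.f_pr (T5.em (iE E u))).trans ?_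
    refine (hom_V2 (D := D) rfl rfl rfl rfl rfl).trans ?_
    show B.xa 0 * B.zs u * B.zl ((0 : Rg E) + 0 * star (iE E u)).re = B.zs u
    rw [zero_mul, add_zero, re_zero, xa_zero, zl_zero, mul_one, one_mul]
  pr_zl u := by
    refine (L.f_pr (cE (iE E u) (star_iE u))).trans ?_
    refine (hom_V2 (D := D) rfl rfl rfl rfl rfl).trans ?_
    show B.xa 0 * B.zs 0 * B.zl ((iE E u) + 0 * star 0).re = B.zl u
    rw [zero_mul, add_zero, iE_re, xa_zero, zs_zero, one_mul, one_mul]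
  V2_A x hx := by
    apply L.f_mem_A
    obtain ⟨h1, h3, h2, h4, h5⟩ := hx
    have e := hom_V2 (D := D) (im_of_mem h1) h2 (im_of_mem h3) h4 h5
    rw [e]
    exact mul_mem (mul_mem (hE.xa_mem _) (hE.zs_mem _)) (hE.zl_mem _)
  Xb_A x hx := by
    apply L.f_mem_A
    obtain ⟨h1, h2, h3, h4, h5⟩ := hx
    have e := hom_Xb (D := D) h1 h2 h3 h5 h4
    rw [e]
    exact hE.xb_mem _
  t_eq := rfl
  na_A := L.na_mem
  pr_na := L.na_pr
  nb_A := L.nb_mem
  pr_nb := L.nb_pr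
  h_A α γ := by
    show L.hK (iE E (α : F)) (iE E (γ : F)) ∈ A
    rw [hK_iE]
    exact L.h_mem _ _
  pr_h α γ := by
    have e : L.hK (iE E (α : F)) (iE E (γ : F)) = L.h α (γ ^ 2) := hK_iE L α γ
    rw [← L.h_pr]
    congr 1
    exact Subtype.ext e
  Cn_eq := rfl

end main

/-! ### the braid relation -/

namespace UEnv

variable {K : Type*} [Field K] [StarRing K] [CharP K 2] {G : Type*} [Group G] (V : UFive.Env K G)

/-- the braid relation from the braid relation modulo `Cn` -/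
theorem braid_of {k : G} (hk : k ∈ V.Cn)
    (h : V.na * V.nb * V.na * V.nb = V.nb * V.na * V.nb * V.na * k) :
    V.na * V.nb * V.na * V.nb = V.nb * V.na * V.nb * V.na := by
  have ha : V.na * k = k * V.na := (V.Cn_na k hk).symm
  have hb : V.nb * k = k * V.nb := (V.Cn_nb k hk).symm
  have aa := V.na_na
  have bb := V.nb_nb
  -- conjugate by `na`
  have h1 : V.nb * V.na * V.nb * V.na = V.na * V.nb * V.na * V.nb * k := by
    calc V.nb * V.na * V.nb * V.na = (V.na * V.na) * V.nb * V.na * V.nb * V.na := by rw [aa, one_mul]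
      _ = V.na * (V.na * V.nb * V.na * V.nb) * V.na := by group
      _ = V.na * (V.nb * V.na * V.nb * V.na * k) * V.na := by rw [h]
      _ = V.na * V.nb * V.na * V.nb * (V.na * k) * V.na := by group
      _ = V.na * V.nb * V.na * V.nb * k * (V.na * V.na) := by rw [ha]; group
      _ = _ := by rw [aa, mul_one]
  have h2 : k * k = 1 := by
    rw [h1] at h
    have h3 : V.na * V.nb * V.na * V.nb = V.na * V.nb * V.na * V.nb * (k * k) := by
      rw [← mul_assoc]; exact h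
    exact mul_eq_left.1 h3.symm
  rw [h, V.Cn_odd k hk h2, mul_one]

end UEnv

section braid

variable {F : Type*} [Field F] [CharP F 2] [Finite F] {K : Type*} [Field K] [StarRing K] [CharP K 2]
  {G : Type*} [Group G] [Finite G] {A : Subgroup G} {t : G} {T : Subgroup G} {H : Hyp A t T} {B : Base F (XQ A t)}
  {ι : F →+* K} {V : UFive.Env K G}

/-- the braid relation for the lifted environment -/
theorem LiftedF.braid (L : LiftedF H B ι V) (W : Weyl B) : V.na * V.nb * V.na * V.nb = V.nb * V.na * V.nb * V.na := by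
  set x := V.nb * V.na * V.nb * V.na with hx
  set y := V.na * V.nb * V.na * V.nb with hy
  have hxA : x ∈ A := mul_mem (mul_mem (mul_mem L.nb_A L.na_A) L.nb_A) L.na_A
  have hyA : y ∈ A := mul_mem (mul_mem (mul_mem L.na_A L.nb_A) L.na_A) L.nb_A
  refine UEnv.braid_of V (k := x⁻¹ * y) (L.mem_Cn (A.mul_mem (A.inv_mem hxA) hyA) ?_) (by rw [mul_inv_cancel_left])
  have h1 : pr A t ((⟨V.nb, H.A_le L.nb_A⟩ * ⟨V.na, H.A_le L.na_A⟩ * ⟨V.nb, H.A_le L.nb_A⟩ * ⟨V.na, H.A_le L.na_A⟩)⁻¹ *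
      (⟨V.na, H.A_le L.na_A⟩ * ⟨V.nb, H.A_le L.nb_A⟩ * ⟨V.na, H.A_le L.na_A⟩ * ⟨V.nb, H.A_le L.nb_A⟩)) = 1 := by
    simp only [map_mul, map_inv, L.pr_na, L.pr_nb]
    rw [EnvSwap.braid' W, inv_mul_cancel]
  exact h1

end braid

end Cfsg.Agent.StdSpFour.CaseC
end

-- part: StdSpFour/UFourBase
section
/-!
# S1778, type Sp₄(q), case (B): `UFour.Env` from `Base`, `ShortLayer` (`e = 1`) and the Weyl relations

`ε = 0` follows from `(nb x_b(1))³ = 1`, `na P(n) na⁻¹ = P(n) z_s(n)` from `(na x_a(1))³ = 1`.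
-/

set_option autoImplicit false
set_option linter.unusedSectionVars false

namespace Cfsg.Agent.StdSpFour.UFour

open Cfsg.Agent.StdSpFour Cfsg.Agent.StdSpFour.Comm Cfsg.Agent.StdSpFour.Prime
open Cfsg.Agent.StdSpFour.CaseBModel Cfsg.Agent.StdSpFour.CaseBRel Cfsg.Agent.StdSpFour.CaseBHom

variable {F G : Type*} [Field F] [Group G] [CharP F 2] [Finite F] {B : Base F G}

theorem cg_three {X : Type*} [Group X] {g : X} (h : g ^ 3 = 1) (x : X) : cg g (cg g (cg g x)) = x := by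
  have h1 : cg g (cg g (cg g x)) = g ^ 3 * x * (g ^ 3)⁻¹ := by
    simp only [cg, pow_succ, pow_zero, one_mul]; group
  rw [h1, h]; group

/-- `n² = x² = (n x)³ = 1` implies `n = x x' x`, `x' = n x n⁻¹` -/
theorem cg_three_eq {X : Type*} [Group X] {n x : X} (hn : n * n = 1) (hx : x * x = 1) (h : (n * x) ^ 3 = 1) :
    n = x * cg n x * x := by
  have hni : n⁻¹ = n := inv_eq_of_mul_eq_one_left hn
  have hxi : x⁻¹ = x := inv_eq_of_mul_eq_one_left hx
  rw [cg, hni]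
  have h1 : n * x * n * x * n * x = 1 := by
    rw [← h, pow_succ, pow_two]; group
  have h2 : x * (n * x * n) * x = x⁻¹⁻¹ * (n * x * n * x * n * x) * x⁻¹ * n⁻¹ := by
    rw [inv_inv]; group
  rw [h2, h1, inv_inv, mul_one, mul_inv_cancel, one_mul, hni]

section eps

variable (S : ShortLayer B) (W : Weyl B) {ε c : F} (R : Rels B (p' S) (fun n => S.p n * B.zs (ε * n)) c)
include W R

theorem nb_nb' (x : G) : cg B.nb (cg B.nb x) = x := by rw [← cg_comp, W.nb_sq]; simp [cg]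

theorem nb_Q' (v : F) : cg B.nb (p' S v) = S.p v := by
  have : p' S v = cg B.nb (S.p v) := rfl
  rw [this, nb_nb' S W R]

/-- the action of `nb` on `Q`, with `ε` -/
theorem nb_act (u v m n r : F) : cg B.nb (hom R ⟨u, v, 0, m, n, r⟩) =
    hom R ⟨0, 0, 0, u + ε * v, v, 0⟩ * hom R ⟨m + ε * n, n, 0, 0, 0, r⟩ := by
  have e1 : S.p v * B.zs (ε * v) * B.zs (ε * v) = S.p v := by
    rw [mul_assoc, sq_of_add B.zs_add, mul_one]
  rw [hom_apply, hom_apply, hom_apply]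
  simp only [cg_mul, xa_zero, xb_zero, zs_zero, zl_zero, P_zero R, Q_zero R, one_mul, mul_one]
  have h1 : cg B.nb (B.xa u) = B.zs u := by rw [cg, B.nb_xa, mul_inv_cancel_right]
  have h2 : cg B.nb (B.zs m) = B.xa m := by rw [cg, B.nb_zs, mul_inv_cancel_right]
  have h3 : cg B.nb (B.zl r) = B.zl r := by rw [cg, B.nb_zl, mul_inv_cancel_right]
  have h4 : cg B.nb (S.p n) = p' S n := rfl
  have h5 : cg B.nb (B.zs (ε * n)) = B.xa (ε * n) := by rw [cg, B.nb_zs, mul_inv_cancel_right]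
  rw [h1, h2, h3, h4, h5, nb_Q' S W R, B.zs_add, B.xa_add]
  have c1 := (S.p_zs v (ε * v)).eq
  have c2 := (R.Q_xa n (ε * n)).eq
  calc B.zs u * S.p v * (B.xa m * (p' S n * B.xa (ε * n)) * B.zl r)
      = B.zs u * (S.p v * B.zs (ε * v) * B.zs (ε * v)) * B.xa m * (p' S n * B.xa (ε * n)) * B.zl r := by
        rw [e1]; group
    _ = B.zs u * (B.zs (ε * v) * S.p v) * B.zs (ε * v) * B.xa m * (B.xa (ε * n) * p' S n) * B.zl r := by
        rw [← c1, ← c2]; group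
    _ = _ := by group

end eps

/-! ### the action of `na` on `P` -/

section na

variable (hF : 4 ≤ Nat.card F) (hB : B.Self) (S : ShortLayer B) (W : Weyl B) {c : F} (R : Rels B (p' S) S.p c)
include hF hB W R

/-- `na P(n) na⁻¹ = z_s(m) P(n)` -/
theorem na_p (n : F) : ∃ m, cg B.na (S.p n) = B.zs m * S.p n := by
  have h2 := two_eq (F := F)
  have psq : S.p n * S.p n = 1 := P_sq R n
  have pinv : (S.p n)⁻¹ = S.p n := inv_eq_of_mul_eq_one_left psq
  have hna : B.na⁻¹ = B.na := inv_eq_of_mul_eq_one_left W.na_sq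
  set g := cg B.na (S.p n) * (S.p n)⁻¹ with hg
  -- commutes with `t`, `xb`, `zs`, `zl`
  have c1 : ∀ x y, cg B.na x = y → Commute (S.p n) x → Commute (cg B.na (S.p n)) y := by
    rintro x y rfl h
    show cg B.na _ * cg B.na _ = cg B.na _ * cg B.na _
    rw [← cg_mul, ← cg_mul, h.eq]
  have hxb : ∀ u, Commute g (B.xb u) := fun u =>
    (c1 (B.zl u) _ (by rw [cg, B.na_zl, mul_inv_cancel_right]) (S.p_zl n u)).mul_left (S.p_xb n u).inv_left
  have hzs : ∀ u, Commute g (B.zs u) := fun u =>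
    (c1 (B.zs u) _ (by rw [cg, B.na_zs, mul_inv_cancel_right]) (S.p_zs n u)).mul_left (S.p_zs n u).inv_left
  have hzl : ∀ u, Commute g (B.zl u) := fun u =>
    (c1 (B.xb u) _ (by rw [cg, B.na_xb, mul_inv_cancel_right]) (S.p_xb n u)).mul_left (S.p_zl n u).inv_left
  have tx : B.t * cg B.na (S.p n) = cg B.na (S.p n) * B.t * B.zs n := by
    have h3 : cg B.na B.t = B.t := cg_eq_self B.t_na.symm.eq
    have h4 : cg B.na (B.zs n) = B.zs n := by rw [cg, B.na_zs, mul_inv_cancel_right]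
    have h5 := congrArg (cg B.na) (S.t_p n)
    rw [cg_mul, cg_mul, cg_mul, h3, h4] at h5
    exact h5
  have zss : B.zs n * B.zs n = 1 := sq_of_add B.zs_add n
  have tp' : B.t * (S.p n)⁻¹ = (S.p n)⁻¹ * (B.t * B.zs n) := by
    rw [pinv, S.t_p, mul_assoc]
  have ht : Commute g B.t := by
    show g * B.t = B.t * g
    symm
    calc B.t * g = (B.t * cg B.na (S.p n)) * (S.p n)⁻¹ := by rw [hg]; group
      _ = cg B.na (S.p n) * B.t * (B.zs n * (S.p n)⁻¹) := by rw [tx]; group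
      _ = cg B.na (S.p n) * (B.t * (S.p n)⁻¹) * B.zs n := by
          rw [((S.p_zs n n).inv_left).symm.eq]; group
      _ = cg B.na (S.p n) * (S.p n)⁻¹ * B.t * (B.zs n * B.zs n) := by rw [tp']; group
      _ = g * B.t := by rw [zss, mul_one, hg]
  obtain ⟨s, m, r, h⟩ := hB.cent1 g ht hxb hzs hzl
  -- weights under `h α α⁻¹`
  obtain ⟨α, hα⟩ : ∃ α : Fˣ, (α : F) ≠ 1 := by
    by_contra hcon
    push Not at hcon
    have h1 : Set.univ ⊆ ({0, 1} : Set F) := by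
      intro x _
      by_cases hx : x = 0
      · exact Or.inl hx
      · exact Or.inr (hcon (Units.mk0 x hx))
    have h2 := Set.ncard_le_ncard h1 (Set.toFinite _)
    rw [Set.ncard_univ] at h2
    have h3 := h2.trans ((Set.ncard_insert_le _ _).trans (by simp : _ ≤ 2))
    omega
  have hh : cg (B.h α α⁻¹) g = g := by
    have h3 : B.h α α⁻¹ * B.na = B.na * B.h α⁻¹ α := by
      have h4 := B.na_h α⁻¹ α
      have h5 : (α⁻¹)⁻¹ = α := inv_inv α
      have h6 : (α⁻¹) ^ 2 * α = α⁻¹ := by rw [pow_two, mul_assoc, inv_mul_cancel, mul_one]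
      rw [h5, h6] at h4
      exact h4.symm
    have h7 : ∀ β : Fˣ, cg (B.h β β⁻¹) (S.p n) = S.p n := by
      intro β
      rw [cg, S.h_p]
      have : (β : F) * (β⁻¹ : Fˣ) * n = n := by
        rw [← Units.val_mul, mul_inv_cancel, Units.val_one, one_mul]
      rw [this, mul_inv_cancel_right]
    have h8 : cg (B.h α α⁻¹) (cg B.na (S.p n)) = cg B.na (S.p n) := by
      rw [← cg_comp, h3, cg_comp]
      have := h7 α⁻¹
      rw [inv_inv] at this
      rw [this]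
    rw [hg, cg_mul, cg_inv, h8, h7]
  have hx : ∀ s m r, cg (B.h α α⁻¹) (B.xb s * B.zs m * B.zl r) = B.xb ((α⁻¹ : Fˣ) * s) * B.zs m * B.zl (α * r) := by
    intro s m r
    have e1 : cg (B.h α α⁻¹) (B.xb s) = B.xb ((α⁻¹ : Fˣ) * s) := by rw [cg, B.h_xb, mul_inv_cancel_right]
    have e2 : cg (B.h α α⁻¹) (B.zs m) = B.zs m := by
      have : (α : F) * (α⁻¹ : Fˣ) * m = m := by
        rw [← Units.val_mul, mul_inv_cancel, Units.val_one, one_mul]
      rw [cg, B.h_zs, mul_inv_cancel_right, this]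
    have e3 : cg (B.h α α⁻¹) (B.zl r) = B.zl (α * r) := by
      have : (α : F) ^ 2 * (α⁻¹ : Fˣ) * r = α * r := by
        have ha := α.ne_zero
        rw [Units.val_inv_eq_inv_val]; field_simp
      rw [cg, B.h_zl, mul_inv_cancel_right, this]
    rw [cg_mul, cg_mul, e1, e2, e3]
  have hzero : ∀ y : F, (α : F) * y = y → y = 0 := by
    intro y hy
    have : ((α : F) - 1) * y = 0 := by linear_combination hy
    exact (mul_eq_zero.1 this).resolve_left (sub_ne_zero.2 hα)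
  have hfin : ∀ s m r, cg (B.h α α⁻¹) (B.xb s * B.zs m * B.zl r) = B.xb s * B.zs m * B.zl r → s = 0 ∧ r = 0 := by
    intro s m r e
    rw [hx] at e
    have e' : hom R ⟨0, 0, (α⁻¹ : Fˣ) * s, m, 0, α * r⟩ = hom R ⟨0, 0, s, m, 0, r⟩ := by
      rw [hom_U, hom_U, xa_zero, one_mul, one_mul]
      exact e
    have e2 := hom_injective R e'
    have e3 := congrArg TB.s e2
    have e4 := congrArg TB.r e2
    simp only at e3 e4
    refine ⟨hzero s ?_, hzero r e4⟩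
    have ha := α.ne_zero
    nth_rewrite 1 [← e3]
    rw [Units.val_inv_eq_inv_val]; field_simp
  have gp : cg B.na (S.p n) = g * S.p n := by rw [hg]; group
  rcases h with h | h
  · rw [h] at hh
    obtain ⟨h3, h4⟩ := hfin s m r hh
    refine ⟨m, ?_⟩
    rw [gp, h, h3, h4, xb_zero, zl_zero, one_mul, mul_one]
  · -- `g = t z` is impossible unless `zs n = 1`
    have htt : cg (B.h α α⁻¹) B.t = B.t := cg_eq_self (B.t_h α α⁻¹).symm.eq
    rw [h, cg_mul, htt] at hh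
    obtain ⟨h3, h4⟩ := hfin s m r (mul_left_cancel hh)
    rw [h3, h4, xb_zero, zl_zero, one_mul, mul_one] at h
    have h5 : cg B.na (S.p n) * cg B.na (S.p n) = 1 := by rw [← cg_mul, psq, cg_one]
    rw [gp, h] at h5
    have h6 : B.zs n = 1 := by
      have pt : S.p n * B.t = B.t * S.p n * B.zs n := by
        rw [S.t_p]
        calc S.p n * B.t = S.p n * B.t * (B.zs n * B.zs n) := by rw [zss, mul_one]
          _ = _ := by group
      have zmm : B.zs m * B.zs m = 1 := sq_of_add B.zs_add m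
      symm
      calc (1 : G) = B.t * B.zs m * S.p n * (B.t * B.zs m * S.p n) := h5.symm
        _ = B.t * B.zs m * (S.p n * B.t) * B.zs m * S.p n := by group
        _ = B.t * (B.zs m * B.t) * S.p n * (B.zs n * B.zs m) * S.p n := by rw [pt]; group
        _ = (B.t * B.t) * B.zs m * S.p n * (B.zs m * (B.zs n * S.p n)) := by
            rw [← (B.t_zs m).eq, (comm_of_add B.zs_add n m).eq]; group
        _ = B.zs m * (S.p n * B.zs m) * S.p n * B.zs n := by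
            rw [B.tt, ← (S.p_zs n n).eq]; group
        _ = (B.zs m * B.zs m) * (S.p n * S.p n) * B.zs n := by rw [(S.p_zs n m).eq]; group
        _ = B.zs n := by rw [zmm, psq, one_mul, one_mul]
    have h7 : n = 0 := zs_inj B (h6.trans (zs_zero B).symm)
    subst h7
    refine ⟨0, ?_⟩
    rw [S.p_zero, cg_one, zs_zero, one_mul]

/-- `na P(n) na⁻¹ = z_s(n) P(n)` -/
theorem na_p' (n : F) : cg B.na (S.p n) = B.zs n * S.p n := by
  have h2 := two_eq (F := F)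
  obtain ⟨d, hd⟩ := na_p hF hB S W R n
  -- the action of `na xa(1)` on `(s, m, n, r)`
  have hna : ∀ s m r, cg B.na (hom R ⟨0, 0, s, m, n, r⟩) = hom R ⟨0, 0, r, m + d, n, s⟩ := by
    intro s m r
    rw [hom_apply, hom_apply]
    simp only [cg_mul, xa_zero, Q_zero R, one_mul, hd]
    have h1 : cg B.na (B.xb s) = B.zl s := by rw [cg, B.na_xb, mul_inv_cancel_right]
    have h3 : cg B.na (B.zs m) = B.zs m := by rw [cg, B.na_zs, mul_inv_cancel_right]
    have h4 : cg B.na (B.zl r) = B.xb r := by rw [cg, B.na_zl, mul_inv_cancel_right]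
    rw [h1, h3, h4, B.zs_add]
    have c1 := (B.xb_zs r m).eq
    have c2 := (B.xb_zs r d).eq
    have c3 := (S.p_xb n r).eq
    have c4 := (B.xb_zl r s).eq
    have c5 := (B.zs_zl m s).eq
    have c6 := (B.zs_zl d s).eq
    have c7 := (S.p_zl n s).eq
    calc B.zl s * B.zs m * (B.zs d * S.p n) * B.xb r
        = B.zl s * B.zs m * B.zs d * (S.p n * B.xb r) := by group
      _ = B.zl s * B.zs m * (B.zs d * B.xb r) * S.p n := by rw [c3]; group
      _ = B.zl s * (B.zs m * B.xb r) * B.zs d * S.p n := by rw [← c2]; group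
      _ = (B.zl s * B.xb r) * B.zs m * B.zs d * S.p n := by rw [← c1]; group
      _ = B.xb r * (B.zl s * B.zs m) * B.zs d * S.p n := by rw [← c4]; group
      _ = B.xb r * B.zs m * (B.zl s * B.zs d) * S.p n := by rw [← c5]; group
      _ = B.xb r * B.zs m * B.zs d * (B.zl s * S.p n) := by rw [← c6]; group
      _ = _ := by rw [← c7]; group
  have ha : ∀ s m r, cg (B.xa 1) (hom R ⟨0, 0, s, m, n, r⟩) = hom R ⟨0, 0, s, m + s, n, r + n + s⟩ := by
    intro s m r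
    have h1 : B.xa 1 = hom R ⟨1, 0, 0, 0, 0, 0⟩ := (hom_xa R 1).symm
    rw [h1, cg, ← map_inv, ← map_mul, ← map_mul, conj_w]
    congr 1
    ext
    · rfl
    · rfl
    · rfl
    · simp
    · simp
    · simp only [N]; ring
  have h3 : ∀ s m r, cg (B.na * B.xa 1) (hom R ⟨0, 0, s, m, n, r⟩) = hom R ⟨0, 0, r + n + s, m + s + d, n, s⟩ := by
    intro s m r
    rw [cg_comp, ha, hna]
  have h4 := cg_three W.na_xa (hom R ⟨0, 0, 0, 0, n, 0⟩)
  rw [h3, h3, h3] at h4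
  have h5 := congrArg TB.m (hom_injective R h4)
  simp only at h5
  have h6 : d = n := by linear_combination h5 - (d + 2 * n) * h2
  rw [hd, h6]

end na

/-- **the environment in `X`**, for given relations -/
theorem env_of (hF : 4 ≤ Nat.card F) (hB : B.Self) (S : ShortLayer B) (W : Weyl B) {c : F}
    (R : Rels B (p' S) S.p c) : ∃ (V : Env c G), V.f = hom R ∧ V.t = B.t ∧ V.na = B.na ∧ V.nb = B.nb ∧
      V.h = B.h := by
  have R0 : Rels B (p' S) (fun n => S.p n * B.zs (0 * n)) c := by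
    have e : (fun n => S.p n * B.zs (0 * n)) = S.p := by
      funext n
      rw [zero_mul, zs_zero, mul_one]
    rwa [e]
  have hxa : ∀ u, hom R ⟨u, 0, 0, 0, 0, 0⟩ = B.xa u := hom_xa R
  have hxb : ∀ u, hom R ⟨0, 0, u, 0, 0, 0⟩ = B.xb u := hom_xb R
  refine ⟨⟨hom R, hom_injective R, B.t, B.na, B.nb, B.h, B.tt, ?_, B.t_na, B.t_nb, B.t_h, W.na_sq, W.nb_sq, ?_, ?_,
    ?_, ?_, ?_, ⊥, ?_, ?_, ?_, ?_, ?_, ?_⟩, rfl, rfl, rfl, rfl, rfl⟩
  · intro x
    rw [cg, t_hom R, mul_inv_cancel_right]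
  · intro s m n r
    rw [hom_apply, hom_apply]
    simp only [cg_mul, xa_zero, Q_zero R, one_mul, na_p' hF hB S W R]
    have h1 : cg B.na (B.xb s) = B.zl s := by rw [cg, B.na_xb, mul_inv_cancel_right]
    have h3 : cg B.na (B.zs m) = B.zs m := by rw [cg, B.na_zs, mul_inv_cancel_right]
    have h4 : cg B.na (B.zl r) = B.xb r := by rw [cg, B.na_zl, mul_inv_cancel_right]
    rw [h1, h3, h4, B.zs_add]
    have c1 := (B.xb_zs r m).eq
    have c2 := (B.xb_zs r n).eq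
    have c3 := (S.p_xb n r).eq
    have c4 := (B.xb_zl r s).eq
    have c5 := (B.zs_zl m s).eq
    have c6 := (B.zs_zl n s).eq
    have c7 := (S.p_zl n s).eq
    calc B.zl s * B.zs m * (B.zs n * S.p n) * B.xb r
        = B.zl s * B.zs m * B.zs n * (S.p n * B.xb r) := by group
      _ = B.zl s * B.zs m * (B.zs n * B.xb r) * S.p n := by rw [c3]; group
      _ = B.zl s * (B.zs m * B.xb r) * B.zs n * S.p n := by rw [← c2]; group
      _ = (B.zl s * B.xb r) * B.zs m * B.zs n * S.p n := by rw [← c1]; group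
      _ = B.xb r * (B.zl s * B.zs m) * B.zs n * S.p n := by rw [← c4]; group
      _ = B.xb r * B.zs m * (B.zl s * B.zs n) * S.p n := by rw [← c5]; group
      _ = B.xb r * B.zs m * B.zs n * (B.zl s * S.p n) := by rw [← c6]; group
      _ = _ := by rw [← c7]; group
  · intro u v m n r
    have h := nb_act S W R0 u v m n r
    have hom_eq : hom R0 = hom R := by
      ext x
      rw [hom_apply, hom_apply, zero_mul, zs_zero, mul_one]
    rw [hom_eq, ← map_mul] at h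
    rw [h]
    congr 1
    ext
    · simp
    · simp
    · simp
    · simp
    · simp
    · simp only [mul_r]; ring
  · -- `na = x x' x`
    rw [hxa]
    have h1 := cg_three_eq W.na_sq (sq_of_add B.xa_add 1) W.na_xa
    exact h1
  · rw [hxb]
    exact cg_three_eq W.nb_sq (sq_of_add B.xb_add 1) W.nb_xb
  · intro α β u v s m n r
    rw [hom_apply, hom_apply]
    simp only [cg_mul]
    have e1 : cg (B.h α β) (B.xa u) = B.xa (α * u) := by rw [cg, B.h_xa, mul_inv_cancel_right]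
    have e2 : cg (B.h α β) (p' S v) = p' S (α * v) := by rw [cg, h_p', mul_inv_cancel_right]
    have e3 : cg (B.h α β) (B.xb s) = B.xb (β * s) := by rw [cg, B.h_xb, mul_inv_cancel_right]
    have e4 : cg (B.h α β) (B.zs m) = B.zs (α * β * m) := by rw [cg, B.h_zs, mul_inv_cancel_right]
    have e5 : cg (B.h α β) (S.p n) = S.p (α * β * n) := by rw [cg, S.h_p, mul_inv_cancel_right]
    have e6 : cg (B.h α β) (B.zl r) = B.zl (α ^ 2 * β * r) := by rw [cg, B.h_zl, mul_inv_cancel_right]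
    rw [e1, e2, e3, e4, e5, e6]
  · intro k hk _
    exact Subgroup.mem_bot.1 hk
  · intro k hk x
    rw [Subgroup.mem_bot.1 hk, one_mul, mul_one]
  · intro k hk
    rw [Subgroup.mem_bot.1 hk, one_mul, mul_one]
  · intro k hk
    rw [Subgroup.mem_bot.1 hk, one_mul, mul_one]
  · intro α β
    exact ⟨1, one_mem _, by rw [B.na_h, mul_one]⟩
  · intro α β
    exact ⟨1, one_mem _, by rw [B.nb_h, mul_one]⟩

end Cfsg.Agent.StdSpFour.UFour
end

-- part: StdSpFour/UFourLift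
section
/-!
# S1778, type Sp₄(q), target U₄(q): from `X = N_G(O)/O` to `G`

`exists_lifted`: the environment of `X` (`UFourBase.exists_env`) lifts to `G`.
`P_norm`, `P_self`: the two facts on `P = C_A(Z)^∞`.
-/

set_option autoImplicit false
set_option linter.unusedSectionVars false

namespace Cfsg.Agent.StdSpFour.UFour

open Subgroup Cfsg.Agent.StdSpFour Cfsg.Agent.StdSpFour.CaseBModel Cfsg.Agent.StdSpFour.CaseBRel
open Cfsg.Agent.StdSpFour.CaseBHom Cfsg.Agent.StdSpFour.Comm Cfsg.Agent.StdSpFour.Lift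
open Cfsg.Agent.StdEven.CoreQuot Cfsg.Agent.StdEven.Loc

variable {F : Type*} [Field F] [CharP F 2] [Finite F] {G : Type*} [Group G] [Finite G]
  {A : Subgroup G} {t : G} {T : Subgroup G} {c : F}

theorem isPGroup_TB (c : F) : IsPGroup 2 (TB c) := by
  obtain ⟨n, hn⟩ : ∃ n, Nat.card F = 2 ^ n := by
    have := Fintype.ofFinite F
    obtain ⟨n, -, hn⟩ := FiniteField.card F 2
    exact ⟨n, by rw [Nat.card_eq_fintype_card, hn]⟩
  apply IsPGroup.of_card (n := n * 6)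
  rw [card_TB, hn, ← pow_mul]

/-- the lifted environment -/
structure Lifted (H : Hyp A t T) (B : Base F (XQ A t)) (V : Env c G) : Prop where
  f_NO : ∀ x, V.f x ∈ NO A t
  f_core : ∀ x, ∀ o ∈ core A t, o * V.f x = V.f x * o
  pr_xa : ∀ u, pr A t ⟨V.f ⟨u, 0, 0, 0, 0, 0⟩, f_NO _⟩ = B.xa u
  pr_xb : ∀ u, pr A t ⟨V.f ⟨0, 0, u, 0, 0, 0⟩, f_NO _⟩ = B.xb u
  pr_zs : ∀ u, pr A t ⟨V.f ⟨0, 0, 0, u, 0, 0⟩, f_NO _⟩ = B.zs u
  pr_zl : ∀ u, pr A t ⟨V.f ⟨0, 0, 0, 0, 0, u⟩, f_NO _⟩ = B.zl u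
  f_A : ∀ x, x.v = 0 → x.n = 0 → V.f x ∈ A
  t_eq : V.t = t
  na_A : V.na ∈ A
  pr_na : pr A t ⟨V.na, H.A_le na_A⟩ = B.na
  nb_A : V.nb ∈ A
  pr_nb : pr A t ⟨V.nb, H.A_le nb_A⟩ = B.nb
  h_A : ∀ α β, V.h α β ∈ A
  pr_h : ∀ α β, pr A t ⟨V.h α β, H.A_le (h_A α β)⟩ = B.h α β
  Cn_eq : V.Cn = core A t ⊓ A

section exists_

variable (H : Hyp A t T) {B : Base F (XQ A t)}
include H

/-- `[h, P(n)]` is in the image of `C_G(O)` -/
theorem P_mem_Cb (hF : 4 ≤ Nat.card F) (E : StdSpFour.Env B (im A t A)) (S : ShortLayer B) (he : S.e = 1)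
    (n : F) : S.p n ∈ Cb A t := by
  obtain ⟨l, hl⟩ := Fld.exists_ne (F := F) hF
  have hl' : (l : F) + 1 ≠ 0 := fun h => hl (FieldAux.eq_of_add_eq_zero h)
  set m := ((l : F) + 1)⁻¹ * n with hm
  have h1 := S.h_p l 1 m
  rw [Units.val_one, mul_one] at h1
  have h2 : B.h l 1 * S.p m * (B.h l 1)⁻¹ * (S.p m)⁻¹ = S.p n := by
    rw [h1, mul_inv_cancel_right]
    have h3 := p_add hF E.self S he ((l : F) * m) m
    have h4 : (l : F) * m + m = n := by
      have : (l : F) * m + m = ((l : F) + 1) * m := by ring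
      rw [this, hm, mul_inv_cancel_left₀ hl']
    rw [h4] at h3
    have h5 : (S.p m)⁻¹ = S.p m := by
      have h6 := p_add hF E.self S he m m
      rw [CharTwo.add_self_eq_zero, S.p_zero] at h6
      exact (inv_eq_of_mul_eq_one_left h6.symm :)
    rw [h5, h3]
  rw [← h2]
  exact Cb_comm (im_A_le H (E.h_mem l 1)) _

theorem hom_mem_Cb (hF : 4 ≤ Nat.card F) (E : StdSpFour.Env B (im A t A)) (S : ShortLayer B) (he : S.e = 1)
    (R : Rels B (p' S) S.p c) (x : TB c) : hom R x ∈ Cb A t := by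
  have hle := im_A_le H
  have hP := P_mem_Cb H hF E S he
  rw [hom_apply]
  refine mul_mem (mul_mem (hle (E.xa_mem _)) ?_) (mul_mem (mul_mem (mul_mem (hle (E.xb_mem _)) (hle (E.zs_mem _)))
    (hP _)) (hle (E.zl_mem _)))
  rw [p'_eq]
  exact Cb_conj (hP _) _

/-- **the lifted environment**, for given relations -/
theorem lifted_of (hF : 4 ≤ Nat.card F) (E : StdSpFour.Env B (im A t A)) (ht : B.t = H.tX) (S : ShortLayer B)
    (he : S.e = 1) {c : F} (R : Rels B (p' S) S.p c) : ∃ (V : Env c G) (L : Lifted H B V),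
      ∀ x, pr A t ⟨V.f x, L.f_NO x⟩ = hom R x := by
  obtain ⟨V, hVf, hVt, hVna, hVnb, hVh⟩ := env_of hF E.self S E.weyl R
  obtain ⟨i, hi, h1, h2, h3, h4, h5⟩ := exists_lift_core H (isPGroup_TB c) V.f (fun x => by
    rw [hVf]; exact hom_mem_Cb H hF E S he R x)
  -- the Weyl elements
  have two_of_sq : ∀ {x : XQ A t}, x * x = 1 → Two x := fun h => ⟨1, by rw [pow_one, pow_two, h]⟩
  obtain ⟨a, haA, ha2, hpa⟩ := exists_two_A H (x := B.na) E.na_mem (two_of_sq E.weyl.na_sq)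
  obtain ⟨b, hbA, hb2, hpb⟩ := exists_two_A H (x := B.nb) E.nb_mem (two_of_sq E.weyl.nb_sq)
  have hh : ∀ α β, ∃ g, ∃ hg : g ∈ A, pr A t ⟨g, H.A_le hg⟩ = B.h α β := by
    intro α β
    obtain ⟨n, hn, e⟩ := mem_im.mp (E.h_mem α β)
    exact ⟨n, hn, e⟩
  choose h hhA hph using hh
  have sq_one : ∀ {a : G} (haA : a ∈ A), Two a → pr A t ⟨a, H.A_le haA⟩ * pr A t ⟨a, H.A_le haA⟩ = 1 → a * a = 1 := by
    intro a haA ha2 h
    have h6 : (⟨a, H.A_le haA⟩ * ⟨a, H.A_le haA⟩ : ↥(NO A t)) = 1 := by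
      apply eq_one_of_ker (pr A t) H.odd_ker
      · rw [MonoidHom.mem_ker, map_mul, h]
      · obtain ⟨k, hk⟩ := ha2
        refine ⟨k, Subtype.ext ?_⟩
        show (a * a) ^ 2 ^ k = 1
        rw [(Commute.refl a).mul_pow, hk, one_mul]
    exact congrArg Subtype.val h6
  have conj_i : ∀ {g : G} (hg : g ∈ NO A t) {x y : TB c}, cg (pr A t ⟨g, hg⟩) (V.f x) = V.f y → cg g (i x) = i y :=
    fun hg x y h => h4 ⟨_, hg⟩ x y h
  have comA : ∀ {g : G}, g ∈ A → Commute t g := fun hg => (comm_of_centralizer H.htA hg)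
  -- `n = x x' x`
  have n_eq : ∀ {a : G} (haA : a ∈ A), Two a → ∀ x : TB c, x * x = 1 →
      pr A t ⟨a, H.A_le haA⟩ = V.f x * cg (pr A t ⟨a, H.A_le haA⟩) (V.f x) * V.f x → a = i x * cg a (i x) * i x := by
    intro a haA ha2 x hx e
    have hix : (i x)⁻¹ = i x := by
      apply inv_eq_of_mul_eq_one_left
      rw [← map_mul, hx, map_one]
    have hN : i x * cg a (i x) * i x ∈ NO A t :=
      (NO A t).mul_mem ((NO A t).mul_mem (hi x) ((NO A t).mul_mem ((NO A t).mul_mem (H.A_le haA) (hi x))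
        ((NO A t).inv_mem (H.A_le haA)))) (hi x)
    have h6 : (⟨a, H.A_le haA⟩ : ↥(NO A t)) = ⟨i x * cg a (i x) * i x, hN⟩ := by
      apply unique (pr A t) H.odd_ker (A_mem_C H haA) (by obtain ⟨k, hk⟩ := ha2; exact ⟨k, Subtype.ext hk⟩)
      · obtain ⟨k, hk⟩ := (h3 x).conj a
        have h7 : Two (i x * cg a (i x) * i x) := by
          have h8 := (Two.conj (x := cg a (i x)) ⟨k, hk⟩ (i x))
          rwa [hix] at h8
        obtain ⟨l, hl⟩ := h7
        exact ⟨l, Subtype.ext hl⟩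
      · have h9 : (⟨i x * cg a (i x) * i x, hN⟩ : ↥(NO A t)) =
          ⟨i x, hi x⟩ * (⟨a, H.A_le haA⟩ * ⟨i x, hi x⟩ * ⟨a, H.A_le haA⟩⁻¹) * ⟨i x, hi x⟩ := rfl
        rw [h9]
        simp only [map_mul, map_inv, h1]
        exact e
    exact congrArg Subtype.val h6
  have x1 : ∀ x : TB c, x.v = 0 → x.n = 0 → x.u * x.s = 0 → x * x = 1 := by
    intro x hv hn hus
    have h2 := two_eq (F := F)
    obtain ⟨u, v, s, m, n, r⟩ := x
    simp only at hv hn hus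
    subst hv hn
    ext
    · simp only [mul_u, one_u]; linear_combination u * h2
    · simp
    · simp only [mul_s, one_s]; linear_combination s * h2
    · simp only [mul_m, one_m]; linear_combination m * h2 + hus
    · simp
    · simp only [mul_r, one_r]; linear_combination r * h2 + u * hus
  have mem_Cn : ∀ {g g' : G} (hg : g ∈ A) (hg' : g' ∈ A), pr A t ⟨g, H.A_le hg⟩ = pr A t ⟨g', H.A_le hg'⟩ →
      g'⁻¹ * g ∈ core A t ⊓ A := by
    intro g g' hg hg' e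
    refine ⟨?_, A.mul_mem (A.inv_mem hg') hg⟩
    have h6 : pr A t (⟨g', H.A_le hg'⟩⁻¹ * ⟨g, H.A_le hg⟩) = 1 := by
      rw [map_mul, map_inv, e, inv_mul_cancel]
    exact pr_eq_one.mp h6
  have eq_of_A : ∀ {x : TB c}, V.f x ∈ im A t A → i x ∈ A := by
    intro x hx
    have h6 : Two (V.f x) := by
      obtain ⟨k, hk⟩ := isPGroup_TB c x
      exact ⟨k, by rw [← map_pow, hk, map_one]⟩
    obtain ⟨g, hg, hg2, e⟩ := exists_two_A H hx h6
    rw [h5 x ⟨g, H.A_le hg⟩ hg2 e]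
    exact hg
  have core_cent : ∀ {k g : G}, k ∈ core A t → g ∈ A → k * g = g * k := fun hk hg =>
    comm_of_centralizer (H.core_le hk) hg
  let W : Env c G :=
    { f := i
      inj := fun x y e => V.inj (by
        rw [← h1, ← h1]
        congr 1
        exact Subtype.ext e)
      t := t
      na := a
      nb := b
      h := h
      tt := H.tt
      t_f := fun x => conj_i H.t_mem (by
        have := V.t_f x
        rw [hVt, ht] at this
        exact this)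
      t_na := comA haA
      t_nb := comA hbA
      t_h := fun α β => comA (hhA α β)
      na_na := sq_one haA ha2 (by rw [hpa]; exact E.weyl.na_sq)
      nb_nb := sq_one hbA hb2 (by rw [hpb]; exact E.weyl.nb_sq)
      na_w := fun s m n r => conj_i (H.A_le haA) (by
        have := V.na_w s m n r
        rwa [hVna, ← hpa] at this)
      nb_q := fun u v m n r => conj_i (H.A_le hbA) (by
        have := V.nb_q u v m n r
        rwa [hVnb, ← hpb] at this)
      na_eq := n_eq haA ha2 _ (x1 _ rfl rfl (by simp)) (by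
        have := V.na_eq
        rw [hVna, ← hpa] at this
        exact this)
      nb_eq := n_eq hbA hb2 _ (x1 _ rfl rfl (by simp)) (by
        have := V.nb_eq
        rw [hVnb, ← hpb] at this
        exact this)
      h_f := fun α β u v s m n r => conj_i (H.A_le (hhA α β)) (by
        have := V.h_f α β u v s m n r
        rwa [hVh, ← hph] at this)
      Cn := core A t ⊓ A
      Cn_odd := fun k hk e => eq_one_of_sq_of_odd e (H.mem_core.mp hk.1).2.2
      Cn_f := fun k hk x => h2 x k hk.1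
      Cn_na := fun k hk => core_cent hk.1 haA
      Cn_nb := fun k hk => core_cent hk.1 hbA
      na_h := fun α β => ⟨_, mem_Cn (mul_mem haA (hhA α β)) (mul_mem (hhA α⁻¹ (α ^ 2 * β)) haA) (by
          have e1 : pr A t (⟨a, H.A_le haA⟩ * ⟨h α β, H.A_le (hhA α β)⟩) =
              pr A t (⟨h α⁻¹ (α ^ 2 * β), H.A_le (hhA _ _)⟩ * ⟨a, H.A_le haA⟩) := by
            rw [map_mul, map_mul, hpa, hph, hph, B.na_h]
          exact e1), by group⟩
      nb_h := fun α β => ⟨_, mem_Cn (mul_mem hbA (hhA α β)) (mul_mem (hhA (α * β) β⁻¹) hbA) (by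
          have e1 : pr A t (⟨b, H.A_le hbA⟩ * ⟨h α β, H.A_le (hhA α β)⟩) =
              pr A t (⟨h (α * β) β⁻¹, H.A_le (hhA _ _)⟩ * ⟨b, H.A_le hbA⟩) := by
            rw [map_mul, map_mul, hpb, hph, hph, B.nb_h]
          exact e1), by group⟩ }
  refine ⟨W, ⟨hi, h2, fun u => ?_, fun u => ?_, fun u => ?_, fun u => ?_, fun x hv hn => ?_, rfl, haA, hpa, hbA, hpb, hhA,
    hph, rfl⟩, fun x => ?_⟩
  · rw [← hom_xa R, ← hVf]; exact h1 _
  · rw [← hom_xb R, ← hVf]; exact h1 _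
  · rw [← hom_zs R, ← hVf]; exact h1 _
  · rw [← hom_zl R, ← hVf]; exact h1 _
  · apply eq_of_A
    obtain ⟨u, v, s, m, n, r⟩ := x
    simp only at hv hn
    subst hv hn
    rw [hVf, hom_U]
    exact mul_mem (mul_mem (mul_mem (E.xa_mem _) (E.xb_mem _)) (E.zs_mem _)) (E.zl_mem _)
  · have := h1 x
    rw [hVf] at this
    exact this

end exists_

end Cfsg.Agent.StdSpFour.UFour
end

-- part: StdSpFour/UFourP
section
/-!
# S1778, type Sp₄(q), target U₄(q): the facts on `P = C_A(Z)^∞` in `G`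
-/

set_option autoImplicit false
set_option linter.unusedSectionVars false

namespace Cfsg.Agent.StdSpFour.UFour

open Subgroup Cfsg.Agent.StdSpFour Cfsg.Agent.StdSpFour.CaseBModel
open Cfsg.Agent.StdSpFour.Lift Cfsg.Agent.StdSpFour.RootEight
open Cfsg.Agent.StdEven.CoreQuot Cfsg.Agent.StdEven.Loc

/-! ### the model: `V₂` -/

/-- `V₂ = X_a X_{a+b} Z` in the model -/
def TV2 {F : Type*} [Field F] [CharP F 2] (c : F) : Subgroup (TB c) where
  carrier := {x | x.v = 0 ∧ x.s = 0 ∧ x.n = 0}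
  mul_mem' := by
    rintro x y ⟨h1, h2, h3⟩ ⟨g1, g2, g3⟩
    exact ⟨by simp [h1, g1], by simp [h2, g2], by simp [h2, h3, g3]⟩
  one_mem' := ⟨rfl, rfl, rfl⟩
  inv_mem' := by
    rintro x ⟨h1, h2, h3⟩
    exact ⟨by simp [h1], by simp [h2], by simp [h2, h3]⟩

theorem TV2_comm {F : Type*} [Field F] [CharP F 2] {c : F} {x y : TB c} (hx : x ∈ TV2 c) (hy : y ∈ TV2 c) :
    x * y = y * x := by
  obtain ⟨u, v, s, m, n, r⟩ := x
  obtain ⟨u', v', s', m', n', r'⟩ := y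
  obtain ⟨h1, h2, h3⟩ := hx
  obtain ⟨g1, g2, g3⟩ := hy
  simp only at h1 h2 h3 g1 g2 g3
  subst h1 h2 h3 g1 g2 g3
  ext <;> simp [add_comm]

namespace Env

variable {F : Type*} [Field F] [CharP F 2] {c : F} {G : Type*} [Group G] (V : Env c G)

/-- `V₂` -/
def V2 : Subgroup G := (TV2 c).map V.f

theorem f_V2 {x : TB c} : V.f x ∈ V.V2 ↔ x.v = 0 ∧ x.s = 0 ∧ x.n = 0 := by
  constructor
  · rintro ⟨y, hy, e⟩
    rw [← V.inj e]
    exact hy
  · intro h
    exact ⟨x, h, rfl⟩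

theorem mem_V2 {x : G} (h : x ∈ V.V2) : ∃ u m r, x = V.f ⟨u, 0, 0, m, 0, r⟩ := by
  obtain ⟨⟨u, v, s, m, n, r⟩, ⟨h1, h2, h3⟩, rfl⟩ := h
  simp only at h1 h2 h3
  subst h1 h2 h3
  exact ⟨u, m, r, rfl⟩

theorem V2_comm {x y : G} (hx : x ∈ V.V2) (hy : y ∈ V.V2) : x * y = y * x := by
  obtain ⟨x, hx, rfl⟩ := hx
  obtain ⟨y, hy, rfl⟩ := hy
  rw [← map_mul, TV2_comm hx hy, map_mul]

theorem V2_le_P : V.V2 ≤ V.P := by
  intro x hx
  obtain ⟨u, m, r, rfl⟩ := V.mem_V2 hx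
  have e : (⟨u, 0, 0, m, 0, r⟩ : TB c) = ⟨u, 0, 0, 0, 0, 0⟩ * ⟨0, 0, 0, m, 0, 0⟩ * ⟨0, 0, 0, 0, 0, r⟩ := by
    ext <;> simp
  rw [e, map_mul, map_mul]
  exact mul_mem (mul_mem (V.Xa_le (V.f_Xa u)) (V.Xab_le (V.f_Xab m))) (V.Z_le_P (V.f_Z.2 ⟨rfl, rfl, rfl, rfl, rfl⟩))

theorem V2_le_Q : V.V2 ≤ V.Q := by
  intro x hx
  obtain ⟨u, m, r, rfl⟩ := V.mem_V2 hx
  exact V.f_Q.2 rfl

theorem Kb_V2 {k : G} (hk : k ∈ V.Kb) : k ∈ normalizer (V.V2 : Set G) := by
  have h3 : V.X3 ≤ normalizer (V.V2 : Set G) := by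
    intro x hx
    have key : ∀ x ∈ V.X3, ∀ y ∈ V.V2, x * y * x⁻¹ ∈ V.V2 := by
      intro x hx y hy
      obtain ⟨s, rfl⟩ := V.mem_X3 hx
      obtain ⟨u, m, r, rfl⟩ := V.mem_V2 hy
      rw [← map_inv, ← map_mul, ← map_mul]
      exact V.f_V2.2 ⟨by simp, by simp [CharTwo.add_self_eq_zero], by simp⟩
    rw [mem_normalizer_iff]
    intro y
    refine ⟨key x hx y, fun h => ?_⟩
    have h1 := key _ (inv_mem hx) _ h
    rwa [show x⁻¹ * (x * y * x⁻¹) * x⁻¹⁻¹ = y by group] at h1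
  have hn : V.nb ∈ normalizer (V.V2 : Set G) := by
    have key : ∀ y ∈ V.V2, V.nb * y * V.nb⁻¹ ∈ V.V2 := by
      intro y hy
      obtain ⟨u, m, r, rfl⟩ := V.mem_V2 hy
      rw [show V.nb * V.f ⟨u, 0, 0, m, 0, r⟩ * V.nb⁻¹ = _ from V.nb_q u 0 m 0 r]
      exact V.f_V2.2 ⟨rfl, rfl, rfl⟩
    rw [mem_normalizer_iff]
    intro y
    refine ⟨key y, fun h => ?_⟩
    have h1 := key _ h
    have h2 : V.nb * (V.nb * y * V.nb⁻¹) * V.nb⁻¹ = y := V.cg_nb_nb y
    rwa [h2] at h1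
  have h7 : V.X7 ≤ normalizer (V.V2 : Set G) := by
    rintro _ ⟨x, hx, rfl⟩
    exact mul_mem (mul_mem hn (h3 hx)) (inv_mem hn)
  exact (sup_le h3 h7 : V.Kb ≤ _) hk

/-- `P = V₂ Kb` -/
theorem P_form {x : G} (hx : x ∈ V.P) : ∃ v ∈ V.V2, ∃ b ∈ V.Kb, x = v * b := by
  let D : Subgroup G :=
    { carrier := {x | ∃ v ∈ V.V2, ∃ b ∈ V.Kb, x = v * b}
      one_mem' := ⟨1, one_mem _, 1, one_mem _, by rw [one_mul]⟩
      mul_mem' := by
        rintro _ _ ⟨v, hv, b, hb, rfl⟩ ⟨v', hv', b', hb', rfl⟩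
        refine ⟨v * (b * v' * b⁻¹), mul_mem hv ((mem_normalizer_iff.1 (V.Kb_V2 hb) v').1 hv'), b * b', mul_mem hb hb', ?_⟩
        group
      inv_mem' := by
        rintro _ ⟨v, hv, b, hb, rfl⟩
        refine ⟨b⁻¹ * v⁻¹ * b⁻¹⁻¹, (mem_normalizer_iff.1 (V.Kb_V2 (inv_mem hb)) v⁻¹).1 (inv_mem hv), b⁻¹, inv_mem hb, ?_⟩
        group }
  have h1 : V.P ≤ D := by
    refine sup_le (sup_le (sup_le ?_ ?_) ?_) ?_
    · intro x hx
      obtain ⟨u, rfl⟩ := V.mem_Xa hx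
      exact ⟨_, V.f_V2.2 ⟨rfl, rfl, rfl⟩, 1, one_mem _, by rw [mul_one]⟩
    · intro x hx
      obtain ⟨u, rfl⟩ := V.mem_Xab hx
      exact ⟨_, V.f_V2.2 ⟨rfl, rfl, rfl⟩, 1, one_mem _, by rw [mul_one]⟩
    · intro x hx
      obtain ⟨u, rfl⟩ := V.mem_Z hx
      exact ⟨_, V.f_V2.2 ⟨rfl, rfl, rfl⟩, 1, one_mem _, by rw [mul_one]⟩
    · intro x hx
      exact ⟨1, one_mem _, x, hx, by rw [one_mul]⟩
  exact h1 hx

end Env

/-! ### in the lifted environment -/

namespace Lifted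

variable {F : Type*} [Field F] [CharP F 2] [Finite F] {G : Type*} [Group G] [Finite G]
  {A : Subgroup G} {t : G} {T : Subgroup G} {c : F} {H : Hyp A t T} {B : Base F (XQ A t)} {V : Env c G}
  (L : Lifted H B V)
include L

theorem mem_Cn {g : G} (hg : g ∈ A) (h : pr A t ⟨g, H.A_le hg⟩ = 1) : g ∈ V.Cn := by
  rw [L.Cn_eq]
  exact ⟨pr_eq_one.mp h, hg⟩

theorem Cn_le_A : V.Cn ≤ A := by
  rw [L.Cn_eq]
  exact inf_le_right

theorem Cn_cent {k g : G} (hk : k ∈ V.Cn) (hg : g ∈ A) : k * g = g * k := by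
  rw [L.Cn_eq] at hk
  exact comm_of_centralizer (H.core_le hk.1) hg

theorem pr_Cn {k : G} (hk : k ∈ V.Cn) : pr A t ⟨k, H.A_le (L.Cn_le_A hk)⟩ = 1 := by
  rw [L.Cn_eq] at hk
  exact pr_eq_one.2 hk.1

theorem Cn_odd' {k : G} (hk : k ∈ V.Cn) : Odd (orderOf k) := by
  rw [L.Cn_eq] at hk
  exact (H.mem_core.mp hk.1).2.2

/-- products of `h` -/
theorem h_mul (α β α' β' : Fˣ) : ∃ k ∈ V.Cn, V.h α β * V.h α' β' = V.h (α * α') (β * β') * k := by
  refine ⟨(V.h (α * α') (β * β'))⁻¹ * (V.h α β * V.h α' β'), ?_, by group⟩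
  apply L.mem_Cn (A.mul_mem (A.inv_mem (L.h_A _ _)) (A.mul_mem (L.h_A _ _) (L.h_A _ _)))
  have e1 : pr A t ((⟨V.h (α * α') (β * β'), H.A_le (L.h_A _ _)⟩)⁻¹ *
      (⟨V.h α β, H.A_le (L.h_A _ _)⟩ * ⟨V.h α' β', H.A_le (L.h_A _ _)⟩)) = 1 := by
    rw [map_mul, map_mul, map_inv, L.pr_h, L.pr_h, L.pr_h, B.h_mul, inv_mul_cancel]
  exact e1

theorem h_one : V.h 1 1 ∈ V.Cn := by
  apply L.mem_Cn (L.h_A 1 1)
  rw [L.pr_h]
  have h1 := B.h_mul 1 1 1 1
  rw [one_mul] at h1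
  exact mul_eq_left.1 h1.symm

theorem V2_le_A : V.V2 ≤ A := by
  intro x hx
  obtain ⟨u, m, r, rfl⟩ := V.mem_V2 hx
  exact L.f_A _ rfl rfl

theorem Kb_le_A : V.Kb ≤ A := by
  apply V.Kb_le_of _ L.nb_A
  intro x hx
  obtain ⟨s, rfl⟩ := V.mem_X3 hx
  exact L.f_A _ rfl rfl

theorem P_le_A : V.P ≤ A := by
  intro x hx
  obtain ⟨v, hv, b, hb, rfl⟩ := V.P_form hx
  exact mul_mem (L.V2_le_A hv) (L.Kb_le_A hb)

/-- the torus element for the rank one group `Kb` -/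
theorem exists_data : ∃ (h : G) (l : Fˣ), h ∈ A ∧ RankOne.Data F (fun s => V.f ⟨0, 0, s, 0, 0, 0⟩) V.nb h (l ^ 2) ∧
    (∀ j : ℤ, ∃ k ∈ V.Cn, h ^ j = V.h (l ^ (-j)) ((l ^ 2) ^ j) * k) := by
  obtain ⟨μ, hμ⟩ := IsCyclic.exists_generator (α := Fˣ)
  set l := Swap.rtU μ with hl
  have hl2 : l ^ 2 = μ := Swap.sq_rtU μ
  set h1 := V.h l⁻¹ μ with hh1
  -- `nb h1 nb h1 ∈ Cn`
  obtain ⟨k1, hk1, e1⟩ := V.nb_h l⁻¹ μ
  obtain ⟨k2, hk2, e2⟩ := L.h_mul (l⁻¹ * μ) μ⁻¹ l⁻¹ μ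
  have e3 : l⁻¹ * μ * l⁻¹ = 1 := by rw [← hl2, pow_two]; group
  have e4 : μ⁻¹ * μ = 1 := inv_mul_cancel _
  rw [e3, e4] at e2
  set k := V.nb * h1 * V.nb * h1 with hk
  have hkC : k ∈ V.Cn := by
    have h3 : k = V.h 1 1 * k2 * k1 := by
      have h4 : V.nb * h1 * V.nb = V.h (l⁻¹ * μ) μ⁻¹ * k1 := by
        calc V.nb * h1 * V.nb = V.h (l⁻¹ * μ) μ⁻¹ * (V.nb * k1) * V.nb := by rw [hh1, e1]; group
          _ = V.h (l⁻¹ * μ) μ⁻¹ * k1 * (V.nb * V.nb) := by rw [← V.Cn_nb k1 hk1]; group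
          _ = _ := by rw [V.nb_nb, mul_one]
      calc k = V.nb * h1 * V.nb * h1 := hk
        _ = V.h (l⁻¹ * μ) μ⁻¹ * (k1 * h1) := by rw [h4]; group
        _ = (V.h (l⁻¹ * μ) μ⁻¹ * V.h l⁻¹ μ) * k1 := by rw [L.Cn_cent hk1 (L.h_A _ _)]; group
        _ = _ := by rw [e2]
    rw [h3]
    exact mul_mem (mul_mem L.h_one hk2) hk1
  obtain ⟨j0, hj0⟩ := RankOne.exists_corr (n := V.nb) (h := h1) (k := k) V.nb_nb rfl (L.Cn_odd' hkC) (V.Cn_nb k hkC)
  set h := h1 * k ^ j0 with hh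
  have hkj : k ^ j0 ∈ V.Cn := pow_mem hkC _
  have hhA : h ∈ A := mul_mem (L.h_A _ _) (L.Cn_le_A hkj)
  have hact : ∀ j : ℤ, ∃ k ∈ V.Cn, h ^ j = V.h (l ^ (-j)) (μ ^ j) * k := by
    intro j
    have h5 : pr A t ⟨h, H.A_le hhA⟩ = B.h l⁻¹ μ := by
      have h6 : pr A t (⟨h1, H.A_le (L.h_A _ _)⟩ * ⟨k ^ j0, H.A_le (L.Cn_le_A hkj)⟩) = B.h l⁻¹ μ := by
        rw [map_mul, L.pr_h, L.pr_Cn hkj, mul_one]
      exact h6
    let hB : Fˣ × Fˣ →* XQ A t :=
      { toFun := fun p => B.h p.1 p.2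
        map_one' := by
          have h1 := B.h_mul 1 1 1 1
          rw [one_mul] at h1
          exact mul_eq_left.1 h1.symm
        map_mul' := fun p q => B.h_mul _ _ _ _ }
    have h7 : (B.h l⁻¹ μ) ^ j = B.h (l ^ (-j)) (μ ^ j) := by
      have h8 := map_zpow hB (l⁻¹, μ) j
      have h9 : ((l⁻¹, μ) : Fˣ × Fˣ) ^ j = (l ^ (-j), μ ^ j) := by
        ext <;> simp
      rw [h9] at h8
      exact h8.symm
    refine ⟨(V.h (l ^ (-j)) (μ ^ j))⁻¹ * h ^ j, ?_, by group⟩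
    apply L.mem_Cn (A.mul_mem (A.inv_mem (L.h_A _ _)) (A.zpow_mem hhA j))
    have e5 : pr A t ((⟨V.h (l ^ (-j)) (μ ^ j), H.A_le (L.h_A _ _)⟩)⁻¹ * (⟨h, H.A_le hhA⟩) ^ j) = 1 := by
      rw [map_mul, map_zpow, map_inv, L.pr_h, h5, h7, inv_mul_cancel]
    exact e5
  refine ⟨h, l, hhA, ?_, by rw [hl2]; exact hact⟩
  have x1 : V.f ⟨0, 0, 1, 0, 0, 0⟩ * V.f ⟨0, 0, 1, 0, 0, 0⟩ = 1 := by
    rw [← map_mul, ← map_one V.f]
    congr 1
    have h2 := two_eq (F := F)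
    ext
    · simp
    · simp
    · simp only [mul_s, one_s]; linear_combination h2
    · simp
    · simp
    · simp
  refine ⟨?_, ?_, V.nb_nb, ?_, ?_, hj0⟩
  · intro β
    rw [hl2]
    exact mem_zpowers_iff.1 (hμ β)
  · intro a b
    rw [← map_mul]
    congr 1
    ext <;> simp
  · have h3 := V.nb_eq
    have h4 : cg V.nb (V.f ⟨0, 0, 1, 0, 0, 0⟩) = V.nb * V.f ⟨0, 0, 1, 0, 0, 0⟩ * V.nb := by rw [cg, V.nb_inv]
    rw [h4] at h3
    show V.nb * V.f ⟨0, 0, 1, 0, 0, 0⟩ * V.nb = V.f ⟨0, 0, 1, 0, 0, 0⟩ * V.nb * V.f ⟨0, 0, 1, 0, 0, 0⟩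
    conv_rhs => rw [h3]
    calc V.nb * V.f ⟨0, 0, 1, 0, 0, 0⟩ * V.nb = 1 * (V.nb * V.f ⟨0, 0, 1, 0, 0, 0⟩ * V.nb) * 1 := by group
      _ = _ := by rw [← x1]; group
  · intro a
    rw [hl2]
    show h * V.f ⟨0, 0, a, 0, 0, 0⟩ = V.f ⟨0, 0, μ * a, 0, 0, 0⟩ * h
    have h3 := V.h_f l⁻¹ μ 0 0 a 0 0 0
    simp only [mul_zero] at h3
    calc h * V.f ⟨0, 0, a, 0, 0, 0⟩ = h1 * (k ^ j0 * V.f ⟨0, 0, a, 0, 0, 0⟩) := by rw [hh]; group
      _ = (h1 * V.f ⟨0, 0, a, 0, 0, 0⟩ * h1⁻¹) * h1 * k ^ j0 := by rw [V.Cn_f _ hkj]; group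
      _ = V.f ⟨0, 0, μ * a, 0, 0, 0⟩ * h1 * k ^ j0 := by rw [← h3]; rfl
      _ = _ := by rw [hh]; group

/-- **`C_P(V₂) ≤ V₂`** -/
theorem cent_V2 {x : G} (hx : x ∈ V.P) (hc : ∀ y ∈ V.V2, x * y = y * x) : x ∈ V.V2 := by
  obtain ⟨h, l, hhA, D, hact⟩ := L.exists_data
  obtain ⟨v, hv, b, hb, rfl⟩ := V.P_form hx
  -- `b` centralises `V₂`
  have hbc : ∀ y ∈ V.V2, b * y = y * b := by
    intro y hy
    have h1 := hc y hy
    have h2 := V.V2_comm hv hy
    calc b * y = v⁻¹ * (v * b * y) := by group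
      _ = v⁻¹ * (y * v) * b := by rw [h1]; group
      _ = v⁻¹ * (v * y) * b := by rw [h2]
      _ = y * b := by group
  have hbB : b ∈ D.Br := by
    have h1 : V.Kb ≤ D.Br := by
      refine sup_le ?_ ?_
      · intro y hy
        obtain ⟨s, rfl⟩ := V.mem_X3 hy
        exact D.x_mem s
      · rintro _ ⟨y, hy, rfl⟩
        obtain ⟨s, rfl⟩ := V.mem_X3 hy
        exact D.nxn_mem s
    exact h1 hb
  -- the action of `h ^ j`
  have act : ∀ (j : ℤ) (u m : F), cg (h ^ j) (V.f ⟨u, 0, 0, m, 0, 0⟩) =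
      V.f ⟨(l ^ (-j) : Fˣ) * u, 0, 0, (l ^ j : Fˣ) * m, 0, 0⟩ := by
    intro j u m
    obtain ⟨k, hk, e⟩ := hact j
    have h1 := V.h_f (l ^ (-j)) ((l ^ 2) ^ j) u 0 0 m 0 0
    simp only [mul_zero] at h1
    rw [e, cg_comp, cg_eq_self (V.Cn_f k hk _), h1]
    congr 2
    rw [← Units.val_mul, ← zpow_natCast, ← zpow_mul, ← zpow_add]
    congr 3
    push_cast; ring
  have xact : ∀ (a u m : F), cg (V.f ⟨0, 0, a, 0, 0, 0⟩) (V.f ⟨u, 0, 0, m, 0, 0⟩) =
      V.f ⟨u, 0, 0, m + u * a, 0, u * u * a⟩ := by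
    intro a u m
    rw [V.cg_f]
    congr 1
    have h2 := two_eq (F := F)
    ext
    · simp
    · simp
    · simp only [mul_s, inv_s]; linear_combination a * h2
    · simp only [mul_m, mul_u, mul_s, inv_s, inv_m, inv_u, mul_v, inv_v]; ring
    · simp
    · simp only [mul_r, mul_u, mul_s, inv_s, inv_m, inv_u, inv_r, mul_v, inv_v, mul_m, mul_n, inv_n, N]
      ring
  rcases D.mem_Br.1 hbB with ⟨a, j, e⟩ | ⟨a, j, a', e⟩
  · -- `b = x(a) h ^ j`
    have h1 := cg_eq_self (hbc _ (V.f_V2 (x := ⟨1, 0, 0, 0, 0, 0⟩).2 ⟨rfl, rfl, rfl⟩))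
    rw [e, cg_comp, act, xact] at h1
    have h2 := V.inj h1
    have h3 := congrArg TB.u h2
    have h4 := congrArg TB.m h2
    simp only [mul_one, mul_zero, zero_add] at h3 h4
    rw [h3, one_mul] at h4
    -- `l ^ j = 1`
    have h5 : l ^ (-j) = 1 := Units.ext h3
    have h6 : l ^ j = 1 := by rw [← inv_eq_one, ← zpow_neg, h5]
    have h7 : h ^ j ∈ V.Cn := by
      obtain ⟨k, hk, e2⟩ := hact j
      have h8 : (l ^ 2) ^ j = 1 := by
        rw [← zpow_natCast, ← zpow_mul, mul_comm, zpow_mul, h6, one_zpow]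
      rw [h5, h8] at e2
      rw [e2]
      exact mul_mem L.h_one hk
    have h8 : h ^ j = 1 := by
      apply V.Cn_odd _ h7
      have h9 := D.invj j
      rw [← V.Cn_nb _ h7, mul_assoc, V.nb_nb, mul_one, zpow_neg] at h9
      nth_rewrite 1 [h9]
      exact inv_mul_cancel _
    rw [e, h8, h4, D.zero, mul_one, mul_one]
    exact hv
  · exfalso
    have h1 := cg_eq_self (hbc _ (V.f_V2 (x := ⟨0, 0, 0, 1, 0, 0⟩).2 ⟨rfl, rfl, rfl⟩))
    have h2 := V.nb_q 0 0 1 0 0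
    simp only [mul_zero, zero_mul, add_zero] at h2
    rw [e, cg_comp, cg_comp, cg_comp, xact, zero_mul, zero_mul, zero_mul, add_zero, h2, act, xact] at h1
    have h3 := congrArg TB.u (V.inj h1)
    simp only [mul_one] at h3
    exact (l ^ (-j) : Fˣ).ne_zero h3

/-- **P_self** -/
theorem P_self {x : G} (hx : x ∈ V.P) (hc : ∀ y ∈ V.P, y ∈ V.Q → x * y = y * x) : x ∈ V.Q :=
  V.V2_le_Q (L.cent_V2 hx fun y hy => hc y (V.V2_le_P hy) (V.V2_le_Q hy))

theorem P_inf_Cn {k : G} (hk : k ∈ V.P) (hk' : k ∈ V.Cn) : k = 1 := by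
  obtain ⟨x, -, rfl⟩ := L.cent_V2 hk fun y hy => by
    obtain ⟨y, -, rfl⟩ := hy
    exact V.Cn_f k hk' y
  obtain ⟨n, hn⟩ := isPGroup_TB c x
  have h1 : orderOf (V.f x) ∣ 2 ^ n := by
    apply orderOf_dvd_of_pow_eq_one
    rw [← map_pow, hn, map_one]
  rw [← orderOf_eq_one_iff]
  exact Nat.eq_one_of_dvd_coprimes (Nat.Coprime.pow_left n (Nat.coprime_two_left.mpr (L.Cn_odd' hk'))) h1 dvd_rfl

theorem P_le_NO : V.P ≤ NO A t := L.P_le_A.trans H.A_le

/-- `P` covers `C_{A_X}(z)` -/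
theorem P_onto {y : XQ A t} (hy : y ∈ Env.P1 (Swap.swap B)) : ∃ (p : G) (hp : p ∈ V.P), pr A t ⟨p, L.P_le_NO hp⟩ = y := by
  have h1 : Env.P1 (Swap.swap B) ≤ im A t V.P := by
    rw [Env.P1, closure_le]
    rintro _ (rfl | ⟨u, rfl⟩ | ⟨s, m, r, rfl⟩)
    · show B.nb ∈ im A t V.P
      rw [← L.pr_nb]
      exact pr_mem_im (V.Kb_le_P V.nb_mem)
    · show B.xb u ∈ im A t V.P
      rw [← L.pr_xb]
      exact pr_mem_im (V.Kb_le_P (mem_sup_left (V.f_X3.2 ⟨rfl, rfl, rfl, rfl, rfl⟩)))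
    · show B.xa (Swap.rt s) * B.zl m * B.zs (Swap.rt r) ∈ im A t V.P
      rw [← L.pr_xa, ← L.pr_zl, ← L.pr_zs]
      exact mul_mem (mul_mem (pr_mem_im (V.Xa_le (V.f_Xa _))) (pr_mem_im (V.Z_le_P (V.f_Z.2 ⟨rfl, rfl, rfl, rfl, rfl⟩))))
        (pr_mem_im (V.Xab_le (V.f_Xab _)))
  obtain ⟨n, hn, e⟩ := mem_im.mp (h1 hy)
  exact ⟨n, hn, e⟩

/-- **P_norm** -/
theorem P_norm (E : StdSpFour.Env B (im A t A)) {g : G} (hg : t * g = g * t) {z : G} (hz : z ∈ V.Z) (hz1 : z ≠ 1)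
    (hgz : g * z = z * g) {x : G} (hx : x ∈ V.P) : g * x * g⁻¹ ∈ V.P := by
  have hgA : g ∈ normalizer (A : Set G) := H.mem_normalizer hg.symm
  obtain ⟨r, rfl⟩ := V.mem_Z hz
  have hr : r ≠ 0 := by
    rintro rfl
    exact hz1 (map_one V.f)
  have hzP : ∀ x ∈ V.P, x * V.f ⟨0, 0, 0, 0, 0, r⟩ = V.f ⟨0, 0, 0, 0, 0, r⟩ * x := by
    intro x hx
    obtain ⟨v, hv, b, hb, rfl⟩ := V.P_form hx
    have h1 := V.Kb_Z' hb hz
    have h2 := V.V2_comm hv (V.f_V2 (x := ⟨0, 0, 0, 0, 0, r⟩).2 ⟨rfl, rfl, rfl⟩)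
    calc v * b * V.f ⟨0, 0, 0, 0, 0, r⟩ = v * (b * V.f ⟨0, 0, 0, 0, 0, r⟩) := by group
      _ = (v * V.f ⟨0, 0, 0, 0, 0, r⟩) * b := by rw [h1]; group
      _ = _ := by rw [h2]; group
  -- 2-elements
  have key : ∀ x ∈ V.P, Two x → g * x * g⁻¹ ∈ V.P := by
    intro x hx hx2
    have hxA : g * x * g⁻¹ ∈ A := (mem_normalizer_iff.1 hgA x).1 (L.P_le_A hx)
    have hcz : Commute (g * x * g⁻¹) (V.f ⟨0, 0, 0, 0, 0, r⟩) := by
      have h1 : Commute (g * x * g⁻¹) (g * V.f ⟨0, 0, 0, 0, 0, r⟩ * g⁻¹) := Env.comm_conj (hzP x hx)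
      rwa [hgz, mul_inv_cancel_right] at h1
    have h2 : Commute (pr A t ⟨g * x * g⁻¹, H.A_le hxA⟩) (B.zl r) := by
      rw [← L.pr_zl]
      have h3 : (⟨g * x * g⁻¹, H.A_le hxA⟩ : ↥(NO A t)) * ⟨V.f ⟨0, 0, 0, 0, 0, r⟩, L.f_NO _⟩ =
          ⟨V.f ⟨0, 0, 0, 0, 0, r⟩, L.f_NO _⟩ * ⟨g * x * g⁻¹, H.A_le hxA⟩ := Subtype.ext hcz.eq
      show _ * _ = _ * _
      rw [← map_mul, h3, map_mul]
    have h3 : pr A t ⟨g * x * g⁻¹, H.A_le hxA⟩ ∈ Env.P1 (Swap.swap B) :=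
      EnvFacts.cent_zs (B := Swap.swap B) (EnvSwap.env_swap E) (pr_mem_im hxA) hr h2
    obtain ⟨p, hp, e⟩ := L.P_onto h3
    set k := p⁻¹ * (g * x * g⁻¹) with hk
    have hkA : k ∈ A := mul_mem (inv_mem (L.P_le_A hp)) hxA
    have hkC : k ∈ V.Cn := by
      apply L.mem_Cn hkA
      have h4 : pr A t ((⟨p, L.P_le_NO hp⟩)⁻¹ * ⟨g * x * g⁻¹, H.A_le hxA⟩) = 1 := by
        rw [map_mul, map_inv, e, inv_mul_cancel]
      exact h4
    obtain ⟨n, hn⟩ := hx2.conj g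
    have h4 : g * x * g⁻¹ = p * k := by rw [hk]; group
    have h5 : Commute p k := (L.Cn_cent hkC (L.P_le_A hp)).symm
    rw [h4, h5.mul_pow] at hn
    have h6 : k ^ 2 ^ n = 1 := by
      apply L.P_inf_Cn _ (pow_mem hkC _)
      rw [eq_inv_of_mul_eq_one_right hn]
      exact inv_mem (pow_mem hp _)
    have h7 : k = 1 := by
      rw [← orderOf_eq_one_iff]
      exact Nat.eq_one_of_dvd_coprimes (Nat.Coprime.pow_left n (Nat.coprime_two_left.mpr (L.Cn_odd' hkC)))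
        (orderOf_dvd_of_pow_eq_one h6) dvd_rfl
    rw [h4, h7, mul_one]
    exact hp
  have two_f : ∀ x, Two (V.f x) := by
    intro x
    obtain ⟨n, hn⟩ := isPGroup_TB c x
    exact ⟨n, by rw [← map_pow, hn, map_one]⟩
  have h1 : V.P ≤ V.P.comap (MulAut.conj g).toMonoidHom := by
    refine sup_le (sup_le (sup_le ?_ ?_) ?_) (sup_le ?_ ?_)
    · intro x hx
      refine key x (V.Xa_le hx) ?_
      obtain ⟨u, rfl⟩ := V.mem_Xa hx
      exact two_f _
    · intro x hx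
      refine key x (V.Xab_le hx) ?_
      obtain ⟨u, rfl⟩ := V.mem_Xab hx
      exact two_f _
    · intro x hx
      refine key x (V.Z_le_P hx) ?_
      obtain ⟨u, rfl⟩ := V.mem_Z hx
      exact two_f _
    · intro x hx
      refine key x (V.Kb_le_P (mem_sup_left hx)) ?_
      obtain ⟨u, rfl⟩ := V.mem_X3 hx
      exact two_f _
    · intro x hx
      refine key x (V.Kb_le_P (mem_sup_right hx)) ?_
      obtain ⟨y, hy, rfl⟩ := hx
      obtain ⟨u, rfl⟩ := V.mem_X3 hy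
      exact (two_f _).conj V.nb
  exact h1 hx

/-- **the position of the lifted environment in `E`** -/
theorem inE (EX : StdSpFour.Env B (im A t A)) {E : Subgroup G} (hA : A ≤ E) (htE : ∀ x ∈ E, t * x * t⁻¹ ∈ E)
    (hf : ∀ x, V.f x ∈ E) (syl : ¬ 2 ∣ V.T.relIndex E) : InE V E where
  E_t := by rw [L.t_eq]; exact htE
  f_mem := hf
  na_mem := hA L.na_A
  nb_mem := hA L.nb_A
  syl := syl
  P_norm := by
    rw [L.t_eq]
    exact fun g _ hg z hz hz1 hgz x hx => L.P_norm EX hg hz hz1 hgz hx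
  P_self := fun x hx hc => L.P_self hx hc

end Lifted

end Cfsg.Agent.StdSpFour.UFour
end

-- part: StdSpFour/UFourRoot
section
/-!
# S1778, type Sp₄(q), target U₄(q): the root group system of `E`
-/

set_option autoImplicit false
set_option linter.unusedSectionVars false

namespace Cfsg.Agent.StdSpFour.UFour

open Cfsg.Agent.StdSpFour.CaseBModel Subgroup Cfsg.Agent.StdSpFour.RootEight Cfsg.Agent.SplitTwo

variable {F : Type*} [Field F] [CharP F 2] {c : F} {G : Type*} [Group G]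

namespace Env

variable (V : Env c G)

/-- the eight root groups -/
def X : ZMod (2 * 4) → Subgroup G := fun i =>
  if i = 0 then V.X0 else if i = 1 then V.Z else if i = 2 then V.X2 else if i = 3 then V.X3
  else if i = 4 then V.X4 else if i = 5 then cjS V.na V.X7 else if i = 6 then cjS V.nb V.X4 else V.X7

theorem X_5 : V.X 5 = cjS V.na V.X7 := rfl
theorem X_6 : V.X 6 = cjS V.nb V.X4 := rfl
/-- an involution exchanging two subgroups -/
theorem cjS_eq_of {g : G} (hg : g * g = 1) {A B : Subgroup G} (h1 : ∀ x ∈ A, cg g x ∈ B) (h2 : ∀ x ∈ B, cg g x ∈ A) :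
    cjS g A = B := by
  apply le_antisymm
  · rintro _ ⟨x, hx, rfl⟩
    exact h1 x hx
  · intro x hx
    refine ⟨cg g x, h2 x hx, ?_⟩
    show cg g (cg g x) = x
    rw [← cg_comp, hg]
    simp [cg]

theorem cjS_cjS_of {g : G} (hg : g * g = 1) (A : Subgroup G) : cjS g (cjS g A) = A := by
  rw [← cjS_mul, hg, cjS_one]

theorem na_Z : cjS V.na V.Z = V.X3 := by
  apply cjS_eq_of V.na_na
  · intro x hx
    obtain ⟨r, rfl⟩ := V.mem_Z hx
    rw [V.na_w]
    exact V.f_X3.2 ⟨rfl, rfl, add_zero _, rfl, rfl⟩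
  · intro x hx
    obtain ⟨r, rfl⟩ := V.mem_X3 hx
    rw [V.na_w]
    exact V.f_Z.2 ⟨rfl, rfl, rfl, add_zero _, rfl⟩

theorem na_X3 : cjS V.na V.X3 = V.Z := by rw [← V.na_Z, cjS_cjS_of V.na_na]

theorem na_X2 : cjS V.na V.X2 = V.X2 := by
  have : ∀ x ∈ V.X2, cg V.na x ∈ V.X2 := by
    intro x hx
    obtain ⟨m, n, rfl⟩ := V.mem_X2 hx
    rw [V.na_w]
    exact V.f_X2.2 ⟨rfl, rfl, rfl, rfl⟩
  exact cjS_eq_of V.na_na this this

theorem nb_Z : cjS V.nb V.Z = V.Z := by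
  have : ∀ x ∈ V.Z, cg V.nb x ∈ V.Z := by
    intro x hx
    obtain ⟨r, rfl⟩ := V.mem_Z hx
    rw [V.nb_q]
    exact V.f_Z.2 ⟨rfl, rfl, rfl, rfl, rfl⟩
  exact cjS_eq_of V.nb_nb this this

theorem nb_X0 : cjS V.nb V.X0 = V.X2 := by
  apply cjS_eq_of V.nb_nb
  · intro x hx
    obtain ⟨u, v, rfl⟩ := V.mem_X0 hx
    rw [V.nb_q]
    exact V.f_X2.2 ⟨rfl, rfl, rfl, by simp⟩
  · intro x hx
    obtain ⟨u, v, rfl⟩ := V.mem_X2 hx
    rw [V.nb_q]
    exact V.f_X0.2 ⟨rfl, rfl, rfl, by simp⟩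

theorem nb_X2 : cjS V.nb V.X2 = V.X0 := by rw [← V.nb_X0, cjS_cjS_of V.nb_nb]

section braid

variable (hbr : V.na * V.nb * V.na * V.nb = V.nb * V.na * V.nb * V.na)

theorem na_X' (i : ZMod (2 * 4)) (hbr : V.na * V.nb * V.na * V.nb = V.nb * V.na * V.nb * V.na) :
    cjS V.na (V.X i) = V.X (4 - i) := by
  have key : ∀ j : ZMod (2 * 4), j = 0 ∨ j = 1 ∨ j = 2 ∨ j = 3 ∨ j = 4 ∨ j = 5 ∨ j = 6 ∨ j = 7 := by decide
  rcases key i with rfl | rfl | rfl | rfl | rfl | rfl | rfl | rfl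
  · rfl
  · exact V.na_Z
  · exact V.na_X2
  · exact V.na_X3
  · exact cjS_cjS_of V.na_na _
  · exact cjS_cjS_of V.na_na _
  · show cjS V.na (cjS V.nb (cjS V.na V.X0)) = cjS V.nb (cjS V.na V.X0)
    have h1 : cjS (V.na * V.nb * V.na * V.nb) V.X2 = cjS (V.nb * V.na * V.nb * V.na) V.X2 := by rw [hbr]
    rw [cjS_mul, cjS_mul, cjS_mul, V.nb_X2, cjS_mul, cjS_mul, cjS_mul, V.na_X2, V.nb_X2] at h1
    exact h1
  · rfl

theorem nb_X' (i : ZMod (2 * 4)) (hbr : V.na * V.nb * V.na * V.nb = V.nb * V.na * V.nb * V.na) :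
    cjS V.nb (V.X i) = V.X (2 - i) := by
  have key : ∀ j : ZMod (2 * 4), j = 0 ∨ j = 1 ∨ j = 2 ∨ j = 3 ∨ j = 4 ∨ j = 5 ∨ j = 6 ∨ j = 7 := by decide
  rcases key i with rfl | rfl | rfl | rfl | rfl | rfl | rfl | rfl
  · exact V.nb_X0
  · exact V.nb_Z
  · exact V.nb_X2
  · rfl
  · rfl
  · show cjS V.nb (cjS V.na (cjS V.nb V.X3)) = cjS V.na (cjS V.nb V.X3)
    have h1 : cjS (V.na * V.nb * V.na * V.nb) V.Z = cjS (V.nb * V.na * V.nb * V.na) V.Z := by rw [hbr]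
    rw [cjS_mul, cjS_mul, cjS_mul, V.nb_Z, V.na_Z, cjS_mul, cjS_mul, cjS_mul, V.na_Z] at h1
    exact h1.symm
  · exact cjS_cjS_of V.nb_nb _
  · exact cjS_cjS_of V.nb_nb _

end braid

/-! ### the torus normalises the root groups -/

theorem cjS_cjS_comm {k g : G} (hg : k * g = g * k) {A : Subgroup G} (hA : cjS k A = A) :
    cjS k (cjS g A) = cjS g A := by
  rw [← cjS_mul, hg, cjS_mul, hA]

theorem h_X (α β : Fˣ) (i : ZMod (2 * 4)) : cjS (V.h α β) (V.X i) = V.X i := by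
  have key : ∀ j : ZMod (2 * 4), j = 0 ∨ j = 1 ∨ j = 2 ∨ j = 3 ∨ j = 4 ∨ j = 5 ∨ j = 6 ∨ j = 7 := by decide
  rcases key i with rfl | rfl | rfl | rfl | rfl | rfl | rfl | rfl
  · exact (V.h_pos α β).1
  · exact (V.h_pos α β).2.1
  · exact (V.h_pos α β).2.2.1
  · exact (V.h_pos α β).2.2.2
  · exact V.h_X4 α β
  · obtain ⟨k, hk, h1⟩ := V.h_na α β
    have h2 : cjS k V.X7 = V.X7 := cjS_cjS_comm (V.Cn_nb k hk) (V.Cn_T hk V.X3_le)
    rw [V.X_5, ← cjS_mul, h1, cjS_mul, cjS_mul, h2, V.h_X7]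
  · obtain ⟨k, hk, h1⟩ := V.h_nb α β
    have h2 : cjS k V.X4 = V.X4 := cjS_cjS_comm (V.Cn_na k hk) (V.Cn_T hk V.X0_le)
    rw [V.X_6, ← cjS_mul, h1, cjS_mul, cjS_mul, h2, V.h_X4]
  · exact V.h_X7 α β

/-! ### the Weyl elements of `X 3` -/

theorem mu3' (hbr : V.na * V.nb * V.na * V.nb = V.nb * V.na * V.nb * V.na) :
    ∀ u ∈ V.X 3, u ≠ 1 → ∃ v ∈ V.X 7, ∃ v' ∈ V.X 7, ∀ j, cjS (v * u * v') (V.X j) = V.X (2 - j) := by
  intro u hu hu1
  obtain ⟨s, rfl⟩ := V.mem_X3 hu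
  have hs : s ≠ 0 := by
    rintro rfl
    exact hu1 (map_one V.f)
  set β : Fˣ := Units.mk0 s hs
  have h1 : V.f ⟨0, 0, 1, 0, 0, 0⟩ ∈ V.X3 := V.f_X3.2 ⟨rfl, rfl, rfl, rfl, rfl⟩
  have h2 : cg V.nb (V.f ⟨0, 0, 1, 0, 0, 0⟩) ∈ V.X7 := ⟨_, h1, rfl⟩
  have h3 : cg (V.h 1 β) (cg V.nb (V.f ⟨0, 0, 1, 0, 0, 0⟩)) ∈ V.X 7 := by
    rw [← V.h_X 1 β 7]
    exact ⟨_, h2, rfl⟩
  have h4 : cg (V.h 1 β) (V.f ⟨0, 0, 1, 0, 0, 0⟩) = V.f ⟨0, 0, s, 0, 0, 0⟩ := by
    rw [V.h_f]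
    congr 1
    ext <;> simp [β]
  have h5 : V.nb = cg V.nb (V.f ⟨0, 0, 1, 0, 0, 0⟩) * V.f ⟨0, 0, 1, 0, 0, 0⟩ * cg V.nb (V.f ⟨0, 0, 1, 0, 0, 0⟩) := by
    have h6 := congrArg (cg V.nb) V.nb_eq
    rw [cg_mul, cg_mul, V.cg_nb_nb] at h6
    rw [← h6]
    simp [cg]
  refine ⟨_, h3, _, h3, fun j => ?_⟩
  have h6 : cg (V.h 1 β) (cg V.nb (V.f ⟨0, 0, 1, 0, 0, 0⟩)) * V.f ⟨0, 0, s, 0, 0, 0⟩ *
      cg (V.h 1 β) (cg V.nb (V.f ⟨0, 0, 1, 0, 0, 0⟩)) = V.h 1 β * V.nb * (V.h 1 β)⁻¹ := by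
    rw [← h4, ← cg_mul, ← cg_mul, ← h5]
    rfl
  rw [h6, cjS_mul, cjS_inv_of (V.h_X 1 β j), cjS_mul, V.nb_X' _ hbr, V.h_X]

/-! ### the Weyl elements of `X 0` -/

/-- `{h 1 β}` -/
def D : Subgroup G := _root_.Subgroup.closure (Set.range fun β : Fˣ => V.h 1 β)

theorem X0_D : V.X0 ≤ centralizer (V.D : Set G) := by
  intro x hx
  rw [D, centralizer_closure, mem_centralizer_iff]
  rintro _ ⟨β, rfl⟩
  exact V.h_Ka β (mem_sup_left hx)

theorem na_D : V.na ∈ centralizer (V.D : Set G) := by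
  rw [D, centralizer_closure, mem_centralizer_iff]
  rintro _ ⟨β, rfl⟩
  exact V.h_Ka β V.na_mem

theorem T_D [Finite F] (h4 : 4 ≤ Nat.card F) : V.T ⊓ centralizer (V.D : Set G) ≤ V.X0 := by
  rintro _ ⟨⟨⟨u, v, s, m, n, r⟩, rfl⟩, hx⟩
  obtain ⟨β, hβ⟩ : ∃ β : Fˣ, (β : F) ≠ 1 := by
    by_contra hcon
    push Not at hcon
    have h1 : Set.univ ⊆ ({0, 1} : Set F) := by
      intro x _
      by_cases hx : x = 0
      · exact Or.inl hx
      · exact Or.inr (hcon (Units.mk0 x hx))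
    have h2 := Set.ncard_le_ncard h1 (Set.toFinite _)
    rw [Set.ncard_univ] at h2
    have h3 := h2.trans ((Set.ncard_insert_le _ _).trans (by simp : _ ≤ 2))
    omega
  have h1 := mem_centralizer_iff.1 hx (V.h 1 β) (subset_closure ⟨β, rfl⟩)
  have h2 := cg_eq_self h1
  rw [V.h_f] at h2
  have h3 := V.inj h2
  have key : ∀ y : F, (β : F) * y = y → y = 0 := by
    intro y hy
    have : ((β : F) - 1) * y = 0 := by linear_combination hy
    exact (mul_eq_zero.1 this).resolve_left (sub_ne_zero.2 hβ)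
  have e1 := congrArg TB.s h3
  have e2 := congrArg TB.m h3
  have e3 := congrArg TB.n h3
  have e4 := congrArg TB.r h3
  simp only [Units.val_one, one_mul, one_pow] at e1 e2 e3 e4
  exact V.f_X0.2 ⟨key _ e1, key _ e2, key _ e3, key _ e4⟩

theorem na_W : cjS V.na V.W = V.W := by
  have : ∀ x ∈ V.W, cg V.na x ∈ V.W := by
    intro x hx
    obtain ⟨s, m, n, r, rfl⟩ := V.mem_W hx
    rw [V.na_w]
    exact V.f_W.2 ⟨rfl, rfl⟩
  exact cjS_eq_of V.na_na this this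

theorem X0_norm_W : V.X0 ≤ normalizer (V.W : Set G) := by
  intro x hx
  exact mem_norm (fun y hy => V.T_normal_W _ (V.X0_le hx) _ hy)
    (fun y hy => V.T_normal_W _ (V.X0_le (inv_mem hx)) _ hy)

theorem cent_X0 : V.W ⊓ centralizer (V.X0 : Set G) = V.Z := by
  apply le_antisymm
  · rintro w ⟨hw, hx⟩
    obtain ⟨s, m, n, r, rfl⟩ := V.mem_W hw
    have key : ∀ u v : F, (⟨0, 0, 0, u * s, v * s, (u * n + v * m) + N c u v * s⟩ : TB c) = 1 := by
      intro u v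
      apply V.inj
      rw [← V.comm_w' ⟨u, v, 0, 0, 0, 0⟩, map_one,
        mem_centralizer_iff.1 hx (V.f ⟨u, v, 0, 0, 0, 0⟩) (V.f_X0.2 ⟨rfl, rfl, rfl, rfl⟩)]
      group
    have hs : s = 0 := by
      have := congrArg TB.m (key 1 0)
      simpa using this
    subst hs
    have hn := congrArg TB.r (key 1 0)
    have hm := congrArg TB.r (key 0 1)
    exact V.f_Z.2 ⟨rfl, rfl, rfl, by simpa using hm, by simpa using hn⟩
  · intro z hz
    exact mem_inf.2 ⟨V.Z_le_W hz, mem_centralizer_iff.2 fun x hx => (V.Z_cent' hz (V.X0_le hx)).symm⟩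

theorem mem_Z_sup_X2 {x : G} : x ∈ V.Z ⊔ V.X2 ↔ ∃ m n r, x = V.f ⟨0, 0, 0, m, n, r⟩ := by
  constructor
  · intro hx
    have h1 : V.Z ⊔ V.X2 ≤ V.W ⊓ V.Q := by
      refine sup_le (le_inf V.Z_le_W V.Z_le_Q) (le_inf ?_ ?_)
      · intro y hy
        obtain ⟨m, n, rfl⟩ := V.mem_X2 hy
        exact V.f_W.2 ⟨rfl, rfl⟩
      · intro y hy
        obtain ⟨m, n, rfl⟩ := V.mem_X2 hy
        exact V.f_Q.2 rfl
    obtain ⟨h2, h3⟩ := h1 hx
    obtain ⟨s, m, n, r, rfl⟩ := V.mem_W h2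
    have hs : s = 0 := V.f_Q.1 h3
    subst hs
    exact ⟨m, n, r, rfl⟩
  · rintro ⟨m, n, r, rfl⟩
    have e : (⟨0, 0, 0, m, n, r⟩ : TB c) = ⟨0, 0, 0, 0, 0, r⟩ * ⟨0, 0, 0, m, n, 0⟩ := by ext <;> simp
    rw [e, map_mul]
    exact mul_mem (mem_sup_left (V.f_Z.2 ⟨rfl, rfl, rfl, rfl, rfl⟩)) (mem_sup_right (V.f_X2.2 ⟨rfl, rfl, rfl, rfl⟩))

theorem com_X0 : V.Z ⊔ ⁅V.X0, V.W⁆ = V.Z ⊔ V.X2 := by
  apply le_antisymm
  · refine sup_le le_sup_left ?_
    rw [commutator_le]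
    intro x hx w hw
    obtain ⟨u, v, rfl⟩ := V.mem_X0 hx
    obtain ⟨s, m, n, r, rfl⟩ := V.mem_W hw
    exact V.mem_Z_sup_X2.2 ⟨_, _, _, V.comm_w' ⟨u, v, 0, 0, 0, 0⟩ s m n r⟩
  · refine sup_le le_sup_left ?_
    intro x hx
    obtain ⟨m, n, rfl⟩ := V.mem_X2 hx
    have h1 : V.f ⟨m, n, 0, 0, 0, 0⟩ * V.f ⟨0, 0, 1, 0, 0, 0⟩ * (V.f ⟨m, n, 0, 0, 0, 0⟩)⁻¹ *
        (V.f ⟨0, 0, 1, 0, 0, 0⟩)⁻¹ ∈ ⁅V.X0, V.W⁆ :=
      commutator_mem_commutator (V.f_X0.2 ⟨rfl, rfl, rfl, rfl⟩) (V.f_W.2 ⟨rfl, rfl⟩)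
    rw [V.comm_w'] at h1
    have h2 : V.f ⟨0, 0, 0, 0, 0, N c m n⟩ ∈ V.Z := V.f_Z.2 ⟨rfl, rfl, rfl, rfl, rfl⟩
    have h3 := mul_mem (mem_sup_right h1 : _ ∈ V.Z ⊔ ⁅V.X0, V.W⁆) (mem_sup_left h2)
    rw [← map_mul] at h3
    convert h3 using 2
    ext
    · simp
    · simp
    · simp
    · simp
    · simp
    · simp only [mul_r]
      linear_combination (-(N c m n)) * two_eq (F := F)

theorem inf_X : (V.Z ⊔ V.X2) ⊓ (V.X3 ⊔ V.X2) = V.X2 := by
  apply le_antisymm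
  · rintro x ⟨h1, h2⟩
    obtain ⟨m, n, r, rfl⟩ := V.mem_Z_sup_X2.1 h1
    have h3 : V.na * V.f ⟨0, 0, 0, m, n, r⟩ * V.na⁻¹ ∈ cjS V.na (V.X3 ⊔ V.X2) := mem_cjS.2 h2
    rw [cjS_sup, V.na_X3, V.na_X2] at h3
    obtain ⟨m', n', r', h4⟩ := V.mem_Z_sup_X2.1 h3
    rw [show V.na * V.f ⟨0, 0, 0, m, n, r⟩ * V.na⁻¹ = _ from V.na_w 0 m n r] at h4
    have hr : r = 0 := congrArg TB.s (V.inj h4)
    subst hr
    exact V.f_X2.2 ⟨rfl, rfl, rfl, rfl⟩
  · exact le_inf le_sup_right le_sup_right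

end Env

/-- the output of the closing for `U₄(q)` -/
structure Closed (V : Env c G) (E : Subgroup G) : Prop where
  top : E = V.T ⊔ V.Ka ⊔ V.Kb
  norm_W : ∀ g ∈ E, cjS g V.W = V.W → cjS g V.Z = V.Z → cjS g V.T = V.T

namespace Env

variable (V : Env c G)

/-- `Ka` permutes the points: an element of `Ka` fixes `Z` or maps it as `x na`, `x ∈ X 0` -/
theorem Ka_points [Finite G] (hc : Irr c) {k : G} (hk : k ∈ V.Ka) :
    cjS k V.Z = V.Z ∨ ∃ x ∈ V.X0, cjS k V.Z = cjS (x * V.na) V.Z := by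
  have hz1 : V.f ⟨0, 0, 0, 0, 0, 1⟩ ≠ 1 := fun h =>
    one_ne_zero (congrArg TB.r (V.inj (h.trans (map_one V.f).symm)))
  have hz : V.f ⟨0, 0, 0, 0, 0, 1⟩ ∈ V.Z := V.f_Z.2 ⟨rfl, rfl, rfl, rfl, rfl⟩
  -- an element of `Ka` mapping `z` into `Z` fixes `Z`
  have fix : ∀ k ∈ V.Ka, ∀ z ∈ V.Z, z ≠ 1 → cg k z ∈ V.Z → cjS k V.Z = V.Z := by
    intro k hk z hz hz1 h
    have h1 : cjS k V.Z ≤ V.Z := by
      rintro _ ⟨z', hz', rfl⟩
      exact V.Ka_TI' hk hz hz1 h hz'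
    exact Subgroup.eq_of_le_of_card_ge h1 (by rw [Subgroup.card_map_of_injective (MulAut.conj k).injective])
  have h1 := V.S_Ka hc hk (V.f_S.2 (TZ_S0 (V.f_Z.1 hz) (fun h => hz1 (by rw [h, map_one]))))
  obtain ⟨⟨u, v, s, m, n, r⟩, ⟨h2, h3, h4, h5⟩, h6⟩ := h1
  simp only at h2 h3 h4
  subst h2 h3
  by_cases hs : s = 0
  · left
    subst hs
    rw [zero_mul] at h4
    obtain ⟨h6', h7⟩ := N_eq_zero hc h4.symm
    subst h6' h7
    refine fix k hk _ hz hz1 ?_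
    rw [← h6]
    exact V.f_Z.2 ⟨rfl, rfl, rfl, rfl, rfl⟩
  · right
    refine ⟨V.f ⟨m / s, n / s, 0, 0, 0, 0⟩, V.f_X0.2 ⟨rfl, rfl, rfl, rfl⟩, ?_⟩
    set x := V.f ⟨m / s, n / s, 0, 0, 0, 0⟩ with hx
    have hxK : x * V.na ∈ V.Ka := mul_mem (mem_sup_left (V.f_X0.2 ⟨rfl, rfl, rfl, rfl⟩)) V.na_mem
    have h7 : cg (x * V.na) (V.f ⟨0, 0, 0, 0, 0, s⟩) = cg k (V.f ⟨0, 0, 0, 0, 0, 1⟩) := by
      rw [← h6, cg_comp, V.na_w, hx, V.a_w]
      congr 1
      ext
      · rfl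
      · rfl
      · rfl
      · simp only; field_simp; ring
      · simp only; field_simp; ring
      · simp only [N] at h4 ⊢
        field_simp
        linear_combination -h4
    have h8 : cg ((x * V.na)⁻¹ * k) (V.f ⟨0, 0, 0, 0, 0, 1⟩) = V.f ⟨0, 0, 0, 0, 0, s⟩ := by
      rw [cg_comp, ← h7, cg_inv_cg]
    have h9 := fix _ (mul_mem (inv_mem hxK) hk) _ hz hz1 (by
      rw [h8]; exact V.f_Z.2 ⟨rfl, rfl, rfl, rfl, rfl⟩)
    have h10 : k = (x * V.na) * ((x * V.na)⁻¹ * k) := by group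
    rw [h10, cjS_mul, h9]

theorem Ka_cjS_W {k : G} (hk : k ∈ V.Ka) : cjS k V.W = V.W := by
  have : V.Ka ≤ normalizer (V.W : Set G) := V.Ka_le_of V.X0_norm_W (mem_normalizer_of_cjS V.na_W)
  exact cjS_eq_of_normalizer (this hk)

theorem Z_eq : V.T ⊓ centralizer (V.T : Set G) = V.Z := by
  apply le_antisymm
  · rintro _ ⟨⟨x, rfl⟩, hx⟩
    apply V.f_Z.2
    apply Q_cent'
    intro y hy
    apply V.inj
    rw [map_mul, map_mul]
    exact (mem_centralizer_iff.1 hx _ (V.f_T y)).symm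
  · intro z hz
    exact mem_inf.2 ⟨V.Z_le hz, mem_centralizer_iff.2 fun x hx => (V.Z_cent' hz hx).symm⟩

theorem cjS_Z_of_T {g h : G} (e : cjS g V.T = cjS h V.T) : cjS g V.Z = cjS h V.Z := by
  rw [← V.Z_eq, cjS_inf, cjS_inf, cjS_centralizer, cjS_centralizer, e]

theorem reg' : ∀ x ∈ V.X0, cjS (x * V.na) V.T = cjS V.na V.T → x = 1 := by
  intro x hx h
  have h1 := V.cjS_Z_of_T h
  rw [cjS_mul, V.na_Z] at h1
  obtain ⟨u, v, rfl⟩ := V.mem_X0 hx
  have h2 : cg (V.f ⟨u, v, 0, 0, 0, 0⟩) (V.f ⟨0, 0, 1, 0, 0, 0⟩) ∈ V.X3 := by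
    rw [← h1]
    exact ⟨_, V.f_X3.2 ⟨rfl, rfl, rfl, rfl, rfl⟩, rfl⟩
  rw [V.a_w] at h2
  obtain ⟨-, -, h3, h4, h5⟩ := V.f_X3.1 h2
  simp only [mul_one, zero_add] at h3 h4
  rw [h3, h4]
  exact map_one V.f

theorem tr' [Finite G] (hc : Irr c) {E : Subgroup G} (hE : V.Ka ≤ E)
    (nW : ∀ g ∈ E, cjS g V.W = V.W → cjS g V.Z = V.Z → cjS g V.T = V.T) :
    ∀ k ∈ _root_.Subgroup.closure ((V.X0 : Set G) ∪ {V.na}), cjS k V.T = V.T ∨ ∃ x ∈ V.X0, cjS k V.T = cjS (x * V.na) V.T := by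
  intro k hk
  have hkK : k ∈ V.Ka := by
    have : _root_.Subgroup.closure ((V.X0 : Set G) ∪ {V.na}) ≤ V.Ka := by
      rw [closure_le]
      rintro x (hx | hx)
      · exact mem_sup_left hx
      · rw [Set.mem_singleton_iff.1 hx]
        exact V.na_mem
    exact this hk
  rcases V.Ka_points hc hkK with h | ⟨x, hx, h⟩
  · exact Or.inl (nW k (hE hkK) (V.Ka_cjS_W hkK) h)
  · right
    refine ⟨x, hx, ?_⟩
    have hxK : x * V.na ∈ V.Ka := mul_mem (mem_sup_left hx) V.na_mem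
    have h1 : (x * V.na)⁻¹ * k ∈ V.Ka := mul_mem (inv_mem hxK) hkK
    have h2 : cjS ((x * V.na)⁻¹ * k) V.Z = V.Z := by
      rw [cjS_mul, h, ← cjS_mul, inv_mul_cancel, cjS_one]
    have h3 := nW _ (hE h1) (V.Ka_cjS_W h1) h2
    have h10 : k = (x * V.na) * ((x * V.na)⁻¹ * k) := by group
    rw [h10, cjS_mul, h3]

theorem mu0' [Finite G] [Finite F] (h4 : 4 ≤ Nat.card F) (hc : Irr c) {E : Subgroup G} (hE : V.Ka ≤ E)
    (nW : ∀ g ∈ E, cjS g V.W = V.W → cjS g V.Z = V.Z → cjS g V.T = V.T)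
    (hbr : V.na * V.nb * V.na * V.nb = V.nb * V.na * V.nb * V.na) :
    ∀ u ∈ V.X 0, u ≠ 1 → ∃ v ∈ V.X 4, ∃ v' ∈ V.X 4, ∀ j, cjS (v * u * v') (V.X j) = V.X (4 - j) := by
  set w := V.nb * V.na * V.nb with hw
  have w_X : ∀ i, cjS w (V.X i) = V.X (-i) := by
    intro i
    rw [hw, cjS_mul, cjS_mul, V.nb_X' _ hbr, V.na_X' _ hbr, V.nb_X' _ hbr]
    congr 1
    ring
  have w0 : cjS w V.X0 = V.X0 := w_X 0
  have wn : w * V.na = V.na * w := by
    rw [hw]
    have := hbr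
    calc V.nb * V.na * V.nb * V.na = V.na * V.nb * V.na * V.nb := this.symm
      _ = _ := by group
  have w1 : cjS w V.Z = V.X 7 := w_X 1
  have w2 : cjS w V.X2 = V.X 6 := w_X 2
  have w3 : cjS w V.X3 = V.X 5 := w_X 3
  have hwinv : w * w = 1 := by
    rw [hw]
    calc V.nb * V.na * V.nb * (V.nb * V.na * V.nb) = V.nb * V.na * (V.nb * V.nb) * V.na * V.nb := by group
      _ = V.nb * (V.na * V.na) * V.nb := by rw [V.nb_nb]; group
      _ = 1 := by rw [V.na_na, mul_one, V.nb_nb]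
  refine mu_of (X := V.X) (n := V.na) (D := V.D) (T := V.T) (R := V.W) (R' := cjS w V.W)
    (fun i => V.na_X' i hbr) V.X0_D V.na_D (V.T_D h4) V.X0_le (by rw [V.na_na, cjS_one]) (V.tr' hc hE nW)
    V.reg' V.na_W ?_ V.X0_norm_W ?_ V.cent_X0 ?_ V.com_X0 ?_ V.inf_X ?_
  · rw [← cjS_mul, ← wn, cjS_mul, V.na_W]
  · intro x hx
    have h1 : w * x * w⁻¹ ∈ V.X0 := by
      rw [← w0]; exact ⟨x, hx, rfl⟩
    apply mem_normalizer_of_cjS
    have h2 := cjS_eq_of_normalizer (V.X0_norm_W h1)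
    have h3 : x * w = w * (w * x * w⁻¹) := by
      have : w⁻¹ = w := inv_eq_of_mul_eq_one_left hwinv
      rw [this]
      calc x * w = (w * w) * x * w := by rw [hwinv, one_mul]
        _ = _ := by group
    rw [← cjS_mul, h3, cjS_mul, h2]
  · have := congrArg (cjS w) V.cent_X0
    rw [cjS_inf, cjS_centralizer, w0, w1] at this
    exact this
  · have := congrArg (cjS w) V.com_X0
    rw [cjS_sup, cjS_sup, cjS_comm, w0, w1, w2] at this
    exact this
  · have := congrArg (cjS w) V.inf_X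
    rw [cjS_inf, cjS_sup, cjS_sup, w1, w2, w3] at this
    exact this

/-- the eight root groups of `E` -/
noncomputable def eight [Finite G] [Finite F] (h4 : 4 ≤ Nat.card F) (hc : Irr c) {E : Subgroup G} (hE : V.Ka ≤ E)
    (nW : ∀ g ∈ E, cjS g V.W = V.W → cjS g V.Z = V.Z → cjS g V.T = V.T)
    (hbr : V.na * V.nb * V.na * V.nb = V.nb * V.na * V.nb * V.na) : Eight G where
  X := V.X
  na := V.na
  nb := V.nb
  na_X := fun i => V.na_X' i hbr
  nb_X := fun i => V.nb_X' i hbr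
  ne0 := by
    intro h
    have h1 : V.f ⟨1, 0, 0, 0, 0, 0⟩ ∈ V.X 0 := V.f_X0.2 ⟨rfl, rfl, rfl, rfl⟩
    rw [h, mem_bot] at h1
    exact one_ne_zero (congrArg TB.u (V.inj (h1.trans (map_one V.f).symm)))
  ne1 := by
    intro h
    have h1 : V.f ⟨0, 0, 0, 0, 0, 1⟩ ∈ V.X 1 := V.f_Z.2 ⟨rfl, rfl, rfl, rfl, rfl⟩
    rw [h, mem_bot] at h1
    exact one_ne_zero (congrArg TB.r (V.inj (h1.trans (map_one V.f).symm)))
  c01 := by
    rw [eq_bot_iff, commutator_le]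
    intro x hx z hz
    have h1 := V.Z_cent' hz (V.X0_le hx)
    show x * z * x⁻¹ * z⁻¹ ∈ _
    rw [← h1, mem_bot]
    group
  c12 := by
    rw [eq_bot_iff, commutator_le]
    intro z hz x hx
    have h1 := V.Z_cent' hz (V.X2_le hx)
    show z * x * z⁻¹ * x⁻¹ ∈ _
    rw [h1, mem_bot]
    group
  c02 := by
    rw [commutator_le]
    intro x hx y hy
    obtain ⟨u, v, rfl⟩ := V.mem_X0 hx
    obtain ⟨m, n, rfl⟩ := V.mem_X2 hy
    have h1 := V.comm_w' ⟨u, v, 0, 0, 0, 0⟩ 0 m n 0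
    show V.f ⟨u, v, 0, 0, 0, 0⟩ * V.f ⟨0, 0, 0, m, n, 0⟩ * _ * _ ∈ _
    rw [h1]
    exact V.f_Z.2 ⟨rfl, rfl, rfl, mul_zero _, mul_zero _⟩
  c13 := by
    rw [commutator_le]
    intro z hz x hx
    have h1 := V.Z_cent' hz (V.X3_le hx)
    show z * x * z⁻¹ * x⁻¹ ∈ _
    rw [h1]
    have : x * z * z⁻¹ * x⁻¹ = 1 := by group
    rw [this]
    exact one_mem _
  c03 := by
    rw [commutator_le]
    intro x hx y hy
    obtain ⟨u, v, rfl⟩ := V.mem_X0 hx
    obtain ⟨s, rfl⟩ := V.mem_X3 hy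
    exact V.mem_Z_sup_X2.2 ⟨_, _, _, V.comm_w' ⟨u, v, 0, 0, 0, 0⟩ s 0 0 0⟩
  i0 := by
    rw [eq_bot_iff]
    rintro x ⟨h1, h2⟩
    have h3 : V.X 1 ⊔ V.X 2 ⊔ V.X 3 ≤ V.W := by
      refine sup_le (sup_le V.Z_le_W ?_) ?_
      · intro y hy
        obtain ⟨m, n, rfl⟩ := V.mem_X2 hy
        exact V.f_W.2 ⟨rfl, rfl⟩
      · intro y hy
        obtain ⟨s, rfl⟩ := V.mem_X3 hy
        exact V.f_W.2 ⟨rfl, rfl⟩
    obtain ⟨u, v, rfl⟩ := V.mem_X0 h1
    obtain ⟨h5, h6⟩ := V.f_W.1 (h3 h2)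
    simp only at h5 h6
    rw [h5, h6, mem_bot]
    exact map_one V.f
  i3 := by
    rw [eq_bot_iff]
    rintro x ⟨h1, h2⟩
    have h3 : V.X 0 ⊔ V.X 1 ⊔ V.X 2 ≤ V.Q := by
      refine sup_le (sup_le ?_ V.Z_le_Q) ?_
      · intro y hy
        obtain ⟨m, n, rfl⟩ := V.mem_X0 hy
        exact V.f_Q.2 rfl
      · intro y hy
        obtain ⟨m, n, rfl⟩ := V.mem_X2 hy
        exact V.f_Q.2 rfl
    obtain ⟨s, rfl⟩ := V.mem_X3 h1
    have h5 := V.f_Q.1 (h3 h2)
    simp only at h5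
    rw [h5, mem_bot]
    exact map_one V.f
  mu0 := V.mu0' h4 hc hE nW hbr
  mu3 := V.mu3' hbr

/-- `⟨X i⟩ = T ⊔ Ka ⊔ Kb` -/
theorem iSup_X : (⨆ i, V.X i) = V.T ⊔ V.Ka ⊔ V.Kb := by
  have hT : V.T ≤ ⨆ i, V.X i := by
    rintro _ ⟨x, rfl⟩
    have e : x = ⟨x.u, x.v, 0, 0, 0, 0⟩ * (⟨0, 0, x.s, 0, 0, 0⟩ * (⟨0, 0, 0, x.m, x.n, 0⟩ * ⟨0, 0, 0, 0, 0, x.r⟩)) := by
      ext <;> simp
    rw [e, map_mul, map_mul, map_mul]
    exact mul_mem (le_iSup V.X 0 (V.f_X0.2 ⟨rfl, rfl, rfl, rfl⟩))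
      (mul_mem (le_iSup V.X 3 (V.f_X3.2 ⟨rfl, rfl, rfl, rfl, rfl⟩))
      (mul_mem (le_iSup V.X 2 (V.f_X2.2 ⟨rfl, rfl, rfl, rfl⟩)) (le_iSup V.X 1 (V.f_Z.2 ⟨rfl, rfl, rfl, rfl, rfl⟩))))
  apply le_antisymm
  · set H := V.T ⊔ V.Ka ⊔ V.Kb
    have hTH : V.T ≤ H := le_sup_left.trans le_sup_left
    have ha : V.na ∈ H := mem_sup_left (mem_sup_right V.na_mem)
    have hb : V.nb ∈ H := mem_sup_right V.nb_mem
    have h7 : V.X7 ≤ H := (le_sup_right : V.X7 ≤ V.Kb).trans le_sup_right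
    have h4 : V.X4 ≤ H := (le_sup_right : V.X4 ≤ V.Ka).trans (le_sup_right.trans le_sup_left)
    have conj : ∀ g ∈ H, ∀ A : Subgroup G, A ≤ H → cjS g A ≤ H := by
      rintro g hg A hA _ ⟨x, hx, rfl⟩
      exact mul_mem (mul_mem hg (hA hx)) (inv_mem hg)
    refine iSup_le fun i => ?_
    have key : ∀ j : ZMod (2 * 4), j = 0 ∨ j = 1 ∨ j = 2 ∨ j = 3 ∨ j = 4 ∨ j = 5 ∨ j = 6 ∨ j = 7 := by decide
    rcases key i with rfl | rfl | rfl | rfl | rfl | rfl | rfl | rfl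
    · exact V.X0_le.trans hTH
    · exact V.Z_le.trans hTH
    · exact V.X2_le.trans hTH
    · exact V.X3_le.trans hTH
    · exact h4
    · exact conj _ ha _ h7
    · exact conj _ hb _ h4
    · exact h7
  · exact sup_le (sup_le hT (sup_le (le_iSup V.X 0) (le_iSup V.X 4))) (sup_le (le_iSup V.X 3) (le_iSup V.X 7))

end Env

/-- **The root group system of `E` (type `U₄(q)`)** -/
theorem exists_rootSys [Finite G] [Finite F] (V : Env c G) {n : ℕ} (hn : Nat.card F = 2 ^ n)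
    (h4 : 4 ≤ Nat.card F) (hc : Irr c) {E : Subgroup G} (C : Closed V E)
    (hbr : V.na * V.nb * V.na * V.nb = V.nb * V.na * V.nb * V.na) : ∃ R : RootSys 4 ↥E, R.p = 2 := by
  have hKa : V.Ka ≤ E := by rw [C.top]; exact le_sup_right.trans le_sup_left
  have hna : V.na ∈ E := hKa V.na_mem
  have hnb : V.nb ∈ E := by rw [C.top]; exact mem_sup_right V.nb_mem
  have h0 : IsPGroup 2 V.T := V.T_two ⟨n, hn⟩
  exact ⟨(V.eight h4 hc hKa C.norm_W hbr).rootSysIn (V.iSup_X.trans C.top.symm) hna hnb Nat.prime_two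
    (h0.to_le V.X0_le) (h0.to_le V.Z_le), rfl⟩

end Cfsg.Agent.StdSpFour.UFour
end

-- part: StdSpFour/UFourEnd
section
/-!
# S1778, type Sp₄(q), target U₄(q): the end of the field case

`isLie`: `V : Env c G`, `x² + x + c` irreducible, `InE V E`, `E` simple: `E` is of Lie type in characteristic 2.
-/

set_option autoImplicit false
set_option linter.unusedSectionVars false

namespace Cfsg.Agent.StdSpFour.UFour

open Subgroup Cfsg.Agent.StdSpFour Cfsg.Agent.StdSpFour.CaseBModel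
open Cfsg.Agent.StdSpFour.CloseDefs Cfsg.Agent.StdSpFour.RootEight
open Cfsg.Agent.Lib Cfsg.Agent.Lib.GoldschmidtFusion
open Cfsg.Agent.TwoFusion.Gold (TProp)
open Cfsg.Agent.StdSpFour.CloseComp Cfsg.Agent.StdSpFour.CloseLoc
open Cfsg.Agent.StdSpFour.CloseSyl (S0506Stmt)

universe u v

variable {F : Type v} [Field F] [CharP F 2] [Finite F] {c : F} {G : Type u} [Group G] [Finite G]

/-- **the closing** -/
theorem closed (h0506 : S0506Stmt.{u}) (hZS : ZStarStmt.{u})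
    (hT : ∀ (G : Type u) [Group G] [Finite G], IsSimpleGroup G → (∃ a b : G, a * b ≠ b * a) → TProp G)
    (h1173 : S1173Stmt.{u}) (hc : Irr c) {n : ℕ} (hn : Nat.card F = 2 ^ n) (h4 : 4 ≤ Nat.card F) {V : Env c G}
    {E : Subgroup G} (hE : IsSimpleGroup E) (H : InE V E) : Closed V E where
  top := CloseMain.top (relFacts hc hn h4 H) h0506 hZS hT h1173 hE
  norm_W := fun _ hg hW hZ => CloseMain.norm_W (relFacts hc hn h4 H) h0506 hZS hT h1173 hg hW hZ

/-- **the field case** -/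
theorem isLie (h0506 : S0506Stmt.{u}) (hZS : ZStarStmt.{u})
    (hT : ∀ (G : Type u) [Group G] [Finite G], IsSimpleGroup G → (∃ a b : G, a * b ≠ b * a) → TProp G)
    (h1173 : S1173Stmt.{u}) (hc : Irr c) (h4 : 4 ≤ Nat.card F) {V : Env c G}
    {E : Subgroup G} (hE : IsSimpleGroup E) (H : InE V E)
    (hbr : V.na * V.nb * V.na * V.nb = V.nb * V.na * V.nb * V.na) : Cfsg.IsLieTypeChar 2 E := by
  obtain ⟨n, hn⟩ : ∃ n, Nat.card F = 2 ^ n := by
    have := Fintype.ofFinite F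
    obtain ⟨n, -, hn⟩ := FiniteField.card F 2
    exact ⟨n, by rw [Nat.card_eq_fintype_card, hn]⟩
  obtain ⟨R, hR⟩ := exists_rootSys V hn h4 hc (closed h0506 hZS hT h1173 hc hn h4 hE H) hbr
  have := Cfsg.Agent.SplitTwo.QuadChar.isLieTypeChar R
  rwa [hR] at this

/-- irreducible or split -/
theorem irr_or (c : F) : Irr c ∨ ∃ θ : F, θ ^ 2 + θ + c = 0 := by
  by_cases h : ∃ θ : F, θ ^ 2 + θ + c = 0
  · exact Or.inr h
  · left
    intro x hx
    exact h ⟨x, hx⟩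

namespace Env

/-- the braid relation from the braid relation modulo `Cn` -/
theorem braid_of (V : Env c G) {k : G} (hk : k ∈ V.Cn)
    (h : V.na * V.nb * V.na * V.nb = V.nb * V.na * V.nb * V.na * k) :
    V.na * V.nb * V.na * V.nb = V.nb * V.na * V.nb * V.na := by
  have ha : V.na * k = k * V.na := (V.Cn_na k hk).symm
  have hb : V.nb * k = k * V.nb := (V.Cn_nb k hk).symm
  have aa := V.na_na
  have bb := V.nb_nb
  -- conjugate by `na`
  have h1 : V.nb * V.na * V.nb * V.na = V.na * V.nb * V.na * V.nb * k := by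
    calc V.nb * V.na * V.nb * V.na = (V.na * V.na) * V.nb * V.na * V.nb * V.na := by rw [aa, one_mul]
      _ = V.na * (V.na * V.nb * V.na * V.nb) * V.na := by group
      _ = V.na * (V.nb * V.na * V.nb * V.na * k) * V.na := by rw [h]
      _ = V.na * V.nb * V.na * V.nb * (V.na * k) * V.na := by group
      _ = V.na * V.nb * V.na * V.nb * k * (V.na * V.na) := by rw [ha]; group
      _ = _ := by rw [aa, mul_one]
  have h2 : k * k = 1 := by
    rw [h1] at h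
    have h3 : V.na * V.nb * V.na * V.nb = V.na * V.nb * V.na * V.nb * (k * k) := by
      rw [← mul_assoc]; exact h
    exact mul_eq_left.1 h3.symm
  rw [h, V.Cn_odd k hk h2, mul_one]

end Env

open Cfsg.Agent.StdEven.CoreQuot

/-- the braid relation for the lifted environment -/
theorem Lifted.braid {A : Subgroup G} {t : G} {T : Subgroup G} {H : _root_.Cfsg.Agent.StdEven.CoreQuot.Hyp A t T} {B : Base F (XQ A t)} {V : Env c G}
    (L : Lifted H B V) (W : Weyl B) : V.na * V.nb * V.na * V.nb = V.nb * V.na * V.nb * V.na := by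
  set x := V.nb * V.na * V.nb * V.na with hx
  set y := V.na * V.nb * V.na * V.nb with hy
  have hxA : x ∈ A := mul_mem (mul_mem (mul_mem L.nb_A L.na_A) L.nb_A) L.na_A
  have hyA : y ∈ A := mul_mem (mul_mem (mul_mem L.na_A L.nb_A) L.na_A) L.nb_A
  refine V.braid_of (k := x⁻¹ * y) (L.mem_Cn (A.mul_mem (A.inv_mem hxA) hyA) ?_) (by rw [mul_inv_cancel_left])
  have h1 : pr A t ((⟨V.nb, H.A_le L.nb_A⟩ * ⟨V.na, H.A_le L.na_A⟩ * ⟨V.nb, H.A_le L.nb_A⟩ * ⟨V.na, H.A_le L.na_A⟩)⁻¹ *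
      (⟨V.na, H.A_le L.na_A⟩ * ⟨V.nb, H.A_le L.nb_A⟩ * ⟨V.na, H.A_le L.na_A⟩ * ⟨V.nb, H.A_le L.nb_A⟩)) = 1 := by
    simp only [map_mul, map_inv, L.pr_na, L.pr_nb]
    rw [EnvSwap.braid' W, inv_mul_cancel]
  exact h1

end Cfsg.Agent.StdSpFour.UFour
end

-- part: StdSpFour/CaseBLift
section
/-!
# S1778, type Sp₄(q), case (B): lifting `TB c` from `X = N_G(O)/O` to `G`
-/

set_option autoImplicit false
set_option linter.unusedSectionVars false

namespace Cfsg.Agent.StdSpFour.CaseBLift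

open Subgroup Cfsg.Agent.StdSpFour Cfsg.Agent.StdSpFour.Comm Cfsg.Agent.StdSpFour.CaseBModel Cfsg.Agent.StdSpFour.CaseBRel
  Cfsg.Agent.StdSpFour.CaseBHom Cfsg.Agent.StdSpFour.Lift Cfsg.Agent.StdSpFour.Env Cfsg.Agent.StdSpFour.Bridge

section mem

variable {F G : Type*} [Field F] [Finite F] [Group G] {B : Base F G} {Q P : F → G} {c : F} [CharP F 2]

/-- `l - 1 ≠ 0` -/
theorem exists_unit (hF : 4 ≤ Nat.card F) : ∃ l : Fˣ, (l : F) + 1 ≠ 0 := by
  obtain ⟨l, hl⟩ := Fld.exists_ne (F := F) hF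
  exact ⟨l, fun h => hl (CharTwo.add_eq_zero.1 h)⟩

/-- the image of the model is contained in every normal subgroup containing `U` and the torus -/
theorem hom_mem (R : Rels B Q P c) (hF : 4 ≤ Nat.card F) (hP : ∀ (α β : Fˣ) m, B.h α β * P m = P (α * β * m) * B.h α β)
    (hQ : ∀ (α β : Fˣ) m, B.h α β * Q m = Q (α * m) * B.h α β)
    (N : Subgroup G) [hN : N.Normal] (hh : ∀ α β, B.h α β ∈ N)
    (hU : ∀ x, IsU B x → x ∈ N) (x : TB c) : hom R x ∈ N := by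
  obtain ⟨l, hl⟩ := exists_unit hF
  have com : ∀ (k y y' : G), k ∈ N → k * y = y' * k → y' * y⁻¹ ∈ N := by
    intro k y y' hk e
    have e1 : y' = k * y * k⁻¹ := by rw [e, mul_inv_cancel_right]
    rw [e1]
    have h1 : y * k⁻¹ * y⁻¹ ∈ N := hN.conj_mem _ (inv_mem hk) y
    have h2 := mul_mem hk h1
    rwa [show k * (y * k⁻¹ * y⁻¹) = k * y * k⁻¹ * y⁻¹ by group] at h2
  have hPm : ∀ m, P m ∈ N := by
    intro m
    have h1 := com _ _ _ (hh l 1) (hP l 1 ((l + 1 : F)⁻¹ * m))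
    rw [inv_eq_of_mul_eq_one_right (P_sq R _), ← R.P_add] at h1
    have e : (l : F) * ((1 : Fˣ) : F) * ((l + 1 : F)⁻¹ * m) + (l + 1 : F)⁻¹ * m = m := by
      rw [Units.val_one, mul_one, ← add_one_mul, mul_inv_cancel_left₀ hl]
    rwa [e] at h1
  have hQm : ∀ m, Q m ∈ N := by
    intro m
    have h1 := com _ _ _ (hh l 1) (hQ l 1 ((l + 1 : F)⁻¹ * m))
    rw [inv_eq_of_mul_eq_one_right (Q_sq R _), ← R.Q_add] at h1
    have e : (l : F) * ((l + 1 : F)⁻¹ * m) + (l + 1 : F)⁻¹ * m = m := by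
      rw [← add_one_mul, mul_inv_cancel_left₀ hl]
    rwa [e] at h1
  rw [hom_apply]
  have h1 : B.xa x.u ∈ N := hU _ (IsU.xa _)
  have h2 : B.xb x.s ∈ N := hU _ (by rw [← Base.v1_xb]; exact IsU.v1 _ _ _)
  have h3 : B.zs x.m ∈ N := hU _ (by rw [← Base.v1_zs]; exact IsU.v1 _ _ _)
  have h4 : B.zl x.r ∈ N := hU _ (by rw [← Base.v1_zl]; exact IsU.v1 _ _ _)
  exact mul_mem (mul_mem h1 (hQm _)) (mul_mem (mul_mem (mul_mem h2 h3) (hPm _)) h4)

end mem

theorem isPGroup_TB {F : Type*} [Field F] [Finite F] [CharP F 2] (c : F) : IsPGroup 2 (TB c) := by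
  have := Fintype.ofFinite F
  obtain ⟨n, -, hn⟩ := FiniteField.card F 2
  refine IsPGroup.of_card (n := n * 6) ?_
  rw [card_TB, Nat.card_eq_fintype_card, hn, pow_mul]

open Cfsg Cfsg.Agent.StdEven.CoreQuot Cfsg.Agent.StdEven.Loc

universe u v

variable {F : Type v} {G : Type u} [Field F] [CharP F 2] [Finite F] [Group G] [Finite G] {A : Subgroup G} {t : G}
  {T : Subgroup G}

/-- The data lifted to `G`. -/
structure BLift (H : Hyp A t T) (B : Base F (XQ A t)) {Q P : F → XQ A t} {c : F} (R : Rels B Q P c) where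
  f : TB c →* G
  f_mem : ∀ x, f x ∈ NO A t
  f_pr : ∀ x, pr A t ⟨f x, f_mem x⟩ = hom R x
  f_core : ∀ x, ∀ o ∈ core A t, o * f x = f x * o
  f_two : ∀ x, Lift.Two (f x)
  f_rel : ∀ (g : ↥(NO A t)) x y, pr A t g * hom R x * (pr A t g)⁻¹ = hom R y → (g : G) * f x * (g : G)⁻¹ = f y
  f_uni : ∀ x (n : ↥(NO A t)), Lift.Two (n : G) → pr A t n = hom R x → f x = n
  na : G
  nb : G
  na_mem : na ∈ A
  nb_mem : nb ∈ A
  na_two : Lift.Two na
  nb_two : Lift.Two nb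
  na_pr : pr A t ⟨na, H.A_le na_mem⟩ = B.na
  nb_pr : pr A t ⟨nb, H.A_le nb_mem⟩ = B.nb
  h : Fˣ → Fˣ → G
  h_mem : ∀ α γ, h α γ ∈ A
  h_pr : ∀ α γ, pr A t ⟨h α γ, H.A_le (h_mem α γ)⟩ = B.h α γ

theorem exists_BLift (H : Hyp A t T) {B : Base F (XQ A t)} (hE : Env B (im A t A)) {Q P : F → XQ A t} {c : F}
    (R : Rels B Q P c) (hF : 4 ≤ Nat.card F) (hP : ∀ (α β : Fˣ) m, B.h α β * P m = P (α * β * m) * B.h α β)
    (hQ : ∀ (α β : Fˣ) m, B.h α β * Q m = Q (α * m) * B.h α β) : Nonempty (BLift H B R) := by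
  have hle := im_A_le H
  have hU : ∀ x, IsU B x → x ∈ im A t A := by
    rintro x ⟨u, s, m, r, rfl⟩
    exact mul_mem (hE.xa_mem _) (mul_mem (mul_mem (hE.xb_mem _) (hE.zs_mem _)) (hE.zl_mem _))
  obtain ⟨f, hf, h1, h2, h3, h4, h5⟩ := exists_lift_core H (isPGroup_TB c) (hom R)
    (fun x => hom_mem R hF hP hQ (Cb A t) (fun α β => hle (hE.h_mem α β)) (fun x hx => hle (hU x hx)) x)
  obtain ⟨a, ha, ha2, hap⟩ := exists_two_A H hE.na_mem ⟨1, by rw [pow_one, pow_two, hE.weyl.na_sq]⟩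
  obtain ⟨b, hb, hb2, hbp⟩ := exists_two_A H hE.nb_mem ⟨1, by rw [pow_one, pow_two, hE.weyl.nb_sq]⟩
  have h6 : ∀ α γ, ∃ (n : G) (hn : n ∈ A), pr A t ⟨n, H.A_le hn⟩ = B.h α γ := by
    intro α γ
    obtain ⟨n, hn, e⟩ := mem_im.mp (hE.h_mem α γ)
    exact ⟨n, hn, e⟩
  choose h hh hhp using h6
  exact ⟨⟨f, hf, h1, h2, h3, h4, h5, a, b, ha, hb, ha2, hb2, hap, hbp, h, hh, hhp⟩⟩

namespace BLift

variable {H : Hyp A t T} {B : Base F (XQ A t)} {Q P : F → XQ A t} {c : F} {R : Rels B Q P c} (D : BLift H B R)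

theorem f_inj : Function.Injective D.f := by
  intro x y hxy
  apply hom_injective R
  rw [← D.f_pr, ← D.f_pr]
  congr 1
  exact Subtype.ext hxy

/-- values in `L` -/
theorem f_mem_L {L : Subgroup G} [L.Normal] (hAL : A ≤ L) (hE : Env B (im A t A)) (hF : 4 ≤ Nat.card F)
    (hP : ∀ (α β : Fˣ) m, B.h α β * P m = P (α * β * m) * B.h α β)
    (hQ : ∀ (α β : Fˣ) m, B.h α β * Q m = Q (α * m) * B.h α β) (x : TB c) : D.f x ∈ L := by
  have hN := im_normal (A := A) (t := t) (L := L)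
  have hle : im A t A ≤ im A t L := im_mono hAL
  have hU : ∀ x, IsU B x → x ∈ im A t A := by
    rintro x ⟨u, s, m, r, rfl⟩
    exact mul_mem (hE.xa_mem _) (mul_mem (mul_mem (hE.xb_mem _) (hE.zs_mem _)) (hE.zl_mem _))
  refine mem_L H (x := ⟨D.f x, D.f_mem x⟩) (D.f_two x) (D.f_core x) ?_
  rw [D.f_pr]
  exact hom_mem R hF hP hQ (im A t L) (fun α β => hle (hE.h_mem α β)) (fun x hx => hle (hU x hx)) x

/-- `t` acts by `tau` -/
theorem t_f (hBt : B.t = H.tX) (x : TB c) : t * D.f x = D.f (tau x) * t := by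
  have h1 := D.f_rel ⟨t, H.t_mem⟩ x (tau x) (by
    rw [← H.tX_eq, ← hBt, t_hom R, mul_inv_cancel_right])
  change t * D.f x * t⁻¹ = D.f (tau x) at h1
  rwa [mul_inv_eq_iff_eq_mul] at h1

theorem t_ne_f (hBt : B.t = H.tX) (x : TB c) : D.f x ≠ t := by
  intro h
  apply t_ne_hom R x
  rw [hBt, H.tX_eq, ← D.f_pr]
  congr 1
  exact Subtype.ext h

/-- conjugation by an element of `N(O)` -/
theorem conj_f {g : G} (hg : g ∈ NO A t) {x y : TB c} (h : pr A t ⟨g, hg⟩ * hom R x = hom R y * pr A t ⟨g, hg⟩) :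
    g * D.f x = D.f y * g := by
  have h1 := D.f_rel ⟨g, hg⟩ x y (by rw [h, mul_inv_cancel_right])
  change g * D.f x * g⁻¹ = D.f y at h1
  rwa [mul_inv_eq_iff_eq_mul] at h1

end BLift

end Cfsg.Agent.StdSpFour.CaseBLift
end

-- part: StdSpFour/CaseBGlue
section
/-!
# S1778, type Sp₄(q), case (B): the end in `G`

`env`: from `Bridge H B`, the short layer (`e = 1`), the lift `BLift` and `NoLong` to `CaseBEnv.Env D.f t T`.
`main`: `t ∉ L`, `range D.f` is a Sylow 2-subgroup of `L`.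
`exists_main`: the whole statement.  `concl_split`: the conclusion of S1778 when `θ² + θ + c = 0` is solvable.
-/

set_option autoImplicit false
set_option linter.unusedSectionVars false

namespace Cfsg.Agent.StdSpFour.CaseBGlue

open Subgroup Cfsg Cfsg.Agent.StdSpFour Cfsg.Agent.StdSpFour.Comm Cfsg.Agent.StdSpFour.CaseBModel
  Cfsg.Agent.StdSpFour.CaseBRel Cfsg.Agent.StdSpFour.CaseBInv
  Cfsg.Agent.StdSpFour.CaseBHom Cfsg.Agent.StdSpFour.Lift Cfsg.Agent.StdSpFour.Env Cfsg.Agent.StdSpFour.Bridge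
  Cfsg.Agent.StdSpFour.CaseBLift Cfsg.Agent.StdSpFour.CaseBFld Cfsg.Agent.StdSpFour.BOut
  Cfsg.Agent.StdSpFour.CaseBEnv Cfsg.Agent.StdSpFour.Prime
open Cfsg.Agent.StdEven.CoreQuot Cfsg.Agent.StdEven.Loc Cfsg.Agent.StdEven.Syl Cfsg.Agent.StdL2.Setup
open scoped commutatorElement

universe u v

variable {F : Type v} {G : Type u} [Field F] [CharP F 2] [Finite F] [Group G] [Finite G] {A : Subgroup G} {t : G}
  {T : Subgroup G} {H : Hyp A t T} {B : Base F (XQ A t)}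

/-- elements of `U` in the model -/
theorem isU_hom {Q P : F → XQ A t} {c : F} (R : Rels B Q P c) {x : TB c} (hx : x ∈ U c) : IsU B (hom R x) := by
  obtain ⟨u, v, s, m, n, r⟩ := x
  obtain ⟨h1, h2⟩ := hx
  change v = 0 at h1
  change n = 0 at h2
  subst h1 h2
  refine ⟨u, s, m, r, ?_⟩
  rw [hom_U, Base.v1]
  simp only [mul_assoc]

theorem exists_hom {Q P : F → XQ A t} {c : F} (R : Rels B Q P c) {w : XQ A t} (hw : IsU B w) :
    ∃ x ∈ U c, w = hom R x := by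
  obtain ⟨u, s, m, r, rfl⟩ := hw
  refine ⟨⟨u, 0, s, m, 0, r⟩, ⟨rfl, rfl⟩, ?_⟩
  rw [hom_U, Base.v1]
  simp only [mul_assoc]

variable (b : Bridge H B) (S : ShortLayer B) {c : F} (R : Rels B (p' S) S.p c) (D : BLift H B R)

include b in
theorem f_eq_hat {x : TB c} (hx : x ∈ U c) : D.f x = hat H (hom R x) :=
  eq_hat H (b.isU_mem (isU_hom R hx)) (b.isU_two (isU_hom R hx)) (b := ⟨D.f x, D.f_mem x⟩) (D.f_two x) (D.f_pr x)

include b in
theorem f_T {x : TB c} (hx : x ∈ U c) : D.f x ∈ T := by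
  rw [f_eq_hat b S R D hx]
  exact b.hat_mem_T (isU_hom R hx)

include b in
theorem f_A {x : TB c} (hx : x ∈ U c) : D.f x ∈ A := by
  rw [f_eq_hat b S R D hx]
  exact hat_mem H (b.isU_mem (isU_hom R hx)) (b.isU_two (isU_hom R hx))

include b in
/-- elements of `T` are determined by their images -/
theorem eq_of_pr {z : G} (hz : z ∈ T) {x : TB c} (hx : x ∈ U c) (h : pr A t ⟨z, H.T_le hz⟩ = hom R x) : z = D.f x := by
  have h1 := H.pr_inj H.isT.syl.two (x := ⟨z, H.T_le hz⟩) (y := ⟨D.f x, D.f_mem x⟩) hz (f_T b S R D hx)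
    (by rw [h, D.f_pr])
  exact congrArg Subtype.val h1

include b in
theorem eq_of_pr_t {z : G} (hz : z ∈ T) {x : TB c} (hx : x ∈ U c) (h : pr A t ⟨z, H.T_le hz⟩ = B.t * hom R x) :
    z = t * D.f x := by
  have htz : t * z ∈ T := mul_mem H.isT.mem hz
  have h1 : t * z = D.f x := by
    apply eq_of_pr b S R D htz hx
    have e : (⟨t * z, H.T_le htz⟩ : ↥(NO A t)) = ⟨t, H.t_mem⟩ * ⟨z, H.T_le hz⟩ := rfl
    rw [e, map_mul, h]
    change H.tX * (B.t * hom R x) = hom R x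
    rw [b.t_eq, ← mul_assoc, H.tX_sq, one_mul]
  rw [← h1, ← mul_assoc, H.tt, one_mul]

variable (nl : NoLong H B)

omit b nl D in
theorem nb_hom (hE : Weyl B) (u v r : F) : B.nb * hom R ⟨u, v, 0, 0, 0, r⟩ = hom R ⟨0, 0, 0, u, v, r⟩ * B.nb := by
  have hnb : B.nb⁻¹ = B.nb := (inv_eq_of_mul_eq_one_right hE.nb_sq :)
  have e1 : B.nb * p' S v = S.p v * B.nb := by
    have h1 : p' S v = B.nb * S.p v * B.nb⁻¹ := rfl
    rw [h1, hnb]
    calc B.nb * (B.nb * S.p v * B.nb) = (B.nb * B.nb) * S.p v * B.nb := by group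
      _ = _ := by rw [hE.nb_sq, one_mul]
  rw [hom_apply, hom_apply]
  simp only [xa_zero, xb_zero, zs_zero, P_zero R, Q_zero R, one_mul]
  calc B.nb * (B.xa u * p' S v * B.zl r) = (B.nb * B.xa u) * p' S v * B.zl r := by group
    _ = B.zs u * (B.nb * p' S v) * B.zl r := by rw [B.nb_xa]; group
    _ = B.zs u * S.p v * (B.nb * B.zl r) := by rw [e1]; group
    _ = _ := by rw [B.nb_zl]; group

include b nl in
/-- **the environment in `G`** -/
theorem env : CaseBEnv.Env D.f t T where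
  inj := D.f_inj
  tt := H.tt
  t_i := D.t_f b.t_eq
  t_ne := D.t_ne_f b.t_eq
  two := H.isT.syl.two
  mem_t := H.isT.mem
  mem_U := fun x hx => f_T b S R D hx
  comm := H.isT.cent
  syl := by
    intro Q hQ hQt hle
    have h1 := (H.isT.syl_cent H.std H.ht H.htA).max Q hQ (fun z hz => by
      rw [mem_centralizer_singleton_iff]; exact hQt z hz) hle
    exact h1.le
  typ := by
    intro z hz
    obtain ⟨u, hu, σ, h⟩ := b.act z hz
    obtain ⟨x, hx, rfl⟩ := exists_hom R hu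
    obtain ⟨y, hy, δ, hδ, h1⟩ := typ_of R b.hF b.env.self b.hna b.hnb S.h_p (h_p' S) hx h
    exact ⟨σ, y, hy, δ, hδ, fun w => D.conj_f (H.T_le hz) (h1 w)⟩
  one := by
    rintro z hz ⟨y, hy, δ, hδ, h1⟩
    have h2 : Typ ⊤ (hom R) (pr A t ⟨z, H.T_le hz⟩) 1 := by
      refine ⟨y, hy, δ, hδ, fun w => ?_⟩
      have h3 := congrArg (pr A t) (Subtype.ext (h1 w) :
        (⟨z, H.T_le hz⟩ : ↥(NO A t)) * ⟨D.f w, D.f_mem w⟩ =
          ⟨D.f (y * phi 1 δ hδ w * y⁻¹), D.f_mem _⟩ * ⟨z, H.T_le hz⟩)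
      rwa [map_mul, map_mul, D.f_pr, D.f_pr] at h3
    have h3 : pr A t ⟨z, H.T_le hz⟩ * B.t = B.t * pr A t ⟨z, H.T_le hz⟩ := by
      rw [b.t_eq]
      exact H.pr_comm_iff.2 (H.isT.cent z hz)
    obtain ⟨x, hx, h4 | h4⟩ := one_of R b.env.self h3 h2
    · exact ⟨x, hx, Or.inl (eq_of_pr b S R D hz hx h4)⟩
    · exact ⟨x, hx, Or.inr (eq_of_pr_t b S R D hz hx h4)⟩
  fus := by
    intro u v r
    refine ⟨⟨0, 0, 0, u, v, r⟩, ⟨rfl, rfl⟩, isConj_iff.2 ⟨D.nb, ?_⟩⟩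
    have h1 := D.conj_f (H.A_le D.nb_mem) (x := ⟨u, v, 0, 0, 0, r⟩) (y := ⟨0, 0, 0, u, v, r⟩) (by
      rw [D.nb_pr]; exact nb_hom S R b.env.weyl u v r)
    rw [h1, mul_inv_cancel_right]
  nzl := by
    intro r hr hc
    obtain ⟨g, hg⟩ := isConj_iff.1 hc
    have hx : (⟨0, 0, 0, 0, 0, r⟩ : TB c) ∈ U c := ⟨rfl, rfl⟩
    refine nl _ (f_A b S R D hx) 0 r (D.f_two _) hr ?_ g hg
    rw [Base.v1_zl, ← hom_zl R]
    exact D.f_pr _
  nxb := by
    intro s hs hc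
    obtain ⟨g, hg⟩ := isConj_iff.1 hc
    have hx : (⟨0, 0, 0, 0, 0, s⟩ : TB c) ∈ U c := ⟨rfl, rfl⟩
    have h1 := D.conj_f (H.A_le D.na_mem) (x := ⟨0, 0, s, 0, 0, 0⟩) (y := ⟨0, 0, 0, 0, 0, s⟩) (by
      rw [D.na_pr, hom_xb, hom_zl, B.na_xb])
    have hnat : D.na * t = t * D.na := (comm_of_centralizer H.htA D.na_mem).symm
    refine nl _ (f_A b S R D hx) 0 s (D.f_two _) hs ?_ (D.na * g) ?_
    · rw [Base.v1_zl, ← hom_zl R]
      exact D.f_pr _
    · calc D.na * g * t * (D.na * g)⁻¹ = D.na * (g * t * g⁻¹) * D.na⁻¹ := by group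
        _ = (D.na * t) * D.f ⟨0, 0, s, 0, 0, 0⟩ * D.na⁻¹ := by rw [hg]; group
        _ = t * (D.na * D.f ⟨0, 0, s, 0, 0, 0⟩) * D.na⁻¹ := by rw [hnat]; group
        _ = _ := by rw [h1]; group
  nout := by
    intro z hz hc
    obtain ⟨g, hg⟩ := isConj_iff.1 hc
    rcases BOut.nout b nl hz hg with h | h
    · obtain ⟨x, hx, e⟩ := exists_hom R h
      exact ⟨x, hx, Or.inl (eq_of_pr b S R D hz hx e)⟩
    · obtain ⟨x, hx, e⟩ := exists_hom R h
      refine ⟨x, hx, Or.inr (eq_of_pr_t b S R D hz hx ?_)⟩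
      rw [← e, ← mul_assoc, B.tt, one_mul]

include b nl in
theorem main {L : Subgroup G} (C : Conf L A t) :
    t ∉ L ∧ (∀ x, D.f x ∈ L) ∧ ∃ P : Sylow 2 L, (P : Subgroup L).map L.subtype = D.f.range := by
  have hLn := C.normal
  have hperf : _root_.commutator L = ⊤ := by
    have hs := C.simple
    have hn : (_root_.commutator L).Normal := inferInstance
    rcases hs.eq_bot_or_eq_top_of_normal _ hn with h | h
    · exfalso
      apply C.not_comm
      refine ⟨⟨fun x y => ?_⟩⟩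
      have h1 : ⁅x, y⁆ ∈ _root_.commutator L := commutator_mem_commutator (mem_top x) (mem_top y)
      rw [h, mem_bot, commutatorElement_eq_one_iff_mul_comm] at h1
      exact h1
    · exact h
  have hTL : ∀ x, D.f x ∈ L := D.f_mem_L C.le b.env b.hF S.h_p (h_p' S)
  obtain ⟨h1, h2⟩ := (env b S R D nl).main b.hF hperf hTL (by
    intro y z hy hz hyz
    obtain ⟨w, hw⟩ := hyz
    have hwt : D.f w * t = t * D.f w := by
      rw [hw]
      have h2 := H.isT.cent z hz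
      have hy' : y⁻¹ * t = t * y⁻¹ := by
        calc y⁻¹ * t = y⁻¹ * (t * y) * y⁻¹ := by group
          _ = y⁻¹ * (y * t) * y⁻¹ := by rw [hy]
          _ = t * y⁻¹ := by group
      calc y * z * y⁻¹ * t = y * z * (y⁻¹ * t) := by group
        _ = y * (z * t) * y⁻¹ := by rw [hy']; group
        _ = (y * t) * z * y⁻¹ := by rw [h2]; group
        _ = _ := by rw [hy]; group
    have hwU : w ∈ U c := by
      rw [mem_U_iff_tau]
      apply D.f_inj
      have h3 := D.t_f b.t_eq w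
      rw [← hwt] at h3
      exact (mul_right_cancel h3).symm
    have hzA : z ∈ A := by
      have h4 := f_A b S R D hwU
      rw [hw] at h4
      have h5 := conj_inv_mem_of_mem_normalizer (H.mem_normalizer hy) h4
      have h6 : y⁻¹ * (y * z * y⁻¹) * y = z := by group
      rwa [h6] at h5
    obtain ⟨x, hx, e⟩ := exists_hom R (b.TU hz hzA)
    exact ⟨x, hx, eq_of_pr b S R D hz hx e⟩)
  refine ⟨h1, hTL, ?_⟩
  obtain ⟨P, hP⟩ := h2
  exact ⟨P, hP⟩

omit R D in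
include b nl in
/-- **case (B)**: `t ∉ L` and `TB c` is a Sylow 2-subgroup of `L`. -/
theorem exists_main (he : S.e = 1) {L : Subgroup G} (C : Conf L A t) :
    t ∉ L ∧ ∃ (c : F) (R : Rels B (p' S) S.p c) (D : BLift H B R), (∀ x, D.f x ∈ L) ∧
      ∃ P : Sylow 2 L, (P : Subgroup L).map L.subtype = D.f.range := by
  obtain ⟨c, R⟩ := Cfsg.Agent.StdSpFour.Norm.exists_rels0 b.hF b.env.self b.env.weyl S he
  obtain ⟨D⟩ := exists_BLift H b.env R b.hF S.h_p (h_p' S)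
  obtain ⟨h1, h2, h3⟩ := main b S R D nl C
  exact ⟨h1, c, R, D, h2, h3⟩

end Cfsg.Agent.StdSpFour.CaseBGlue

namespace Cfsg.Agent.StdSpFour.CaseBGlue

open Subgroup Cfsg Cfsg.Agent.StdSpFour Cfsg.Agent.StdSpFour.Comm Cfsg.Agent.StdSpFour.CaseBModel
  Cfsg.Agent.StdSpFour.CaseBRel Cfsg.Agent.StdSpFour.CaseBHom Cfsg.Agent.StdSpFour.CaseBLift
open Cfsg.Agent.StdEven.CoreQuot Cfsg.Agent.StdL2.Setup

universe u

variable {F : Type} {G : Type u} [Field F] [CharP F 2] [Finite F] [Group G] [Finite G] {A : Subgroup G} {t : G}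
  {T : Subgroup G} {H : Hyp A t T} {B : Base F (XQ A t)}

/-- the split case: `L ≅ L₄(q)` -/
theorem concl_split {c : F} {Q P : F → XQ A t} {R : Rels B Q P c} {D : BLift H B R} (hF : 4 ≤ Nat.card F)
    {θ : F} (hθ : θ ^ 2 + θ + c = 0) {L : Subgroup G} (htL : t ∉ L) (h1769 : CaseBSplit.LinSylow.{u, 0} L)
    {P2 : Sylow 2 L} (hP : (P2 : Subgroup L).map L.subtype = D.f.range) : Cfsg.Agent.StdEven.Red.Concl L t := by
  have := Fintype.ofFinite F
  obtain ⟨n, -, hn⟩ := FiniteField.card F 2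
  have hr : 2 ≤ (n : ℕ) := by
    rw [Nat.card_eq_fintype_card, hn] at hF
    by_contra h
    have h1 : (n : ℕ) ≤ 1 := by omega
    have h2 : 2 ^ (n : ℕ) ≤ 2 ^ 1 := Nat.pow_le_pow_right (by norm_num) h1
    omega
  have e1 : TB c ≃* D.f.range := MonoidHom.ofInjective D.f_inj
  have e2 : ↥(P2 : Subgroup L) ≃* ↥((P2 : Subgroup L).map L.subtype) :=
    (P2 : Subgroup L).equivMapOfInjective L.subtype L.subtype_injective
  exact ⟨Or.inl (CaseBSplit.isLie hr hn hθ h1769 P2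
    (e1.trans ((MulEquiv.subgroupCongr hP.symm).trans e2.symm))), htL⟩

end Cfsg.Agent.StdSpFour.CaseBGlue
end

-- part: StdSpFour/CaseBEnd
section
/-!
# S1778, type Sp₄(q): the end of case (B)

`concl`: `Bridge`, a short layer with `e = 1`, `NoLong`, and the external theorems (S1769 for `L`; the four inputs of the
closing) give the conclusion of S1778.
-/

set_option autoImplicit false
set_option linter.unusedSectionVars false

namespace Cfsg.Agent.StdSpFour.CaseBEnd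

open Subgroup Cfsg Cfsg.Agent.StdSpFour Cfsg.Agent.StdSpFour.Comm Cfsg.Agent.StdSpFour.CaseBModel
  Cfsg.Agent.StdSpFour.CaseBRel Cfsg.Agent.StdSpFour.CaseBHom Cfsg.Agent.StdSpFour.CaseBLift
  Cfsg.Agent.StdSpFour.BOut Cfsg.Agent.StdSpFour.CaseBGlue
open Cfsg.Agent.StdEven.CoreQuot Cfsg.Agent.StdL2.Setup
open Cfsg.Agent.Lib Cfsg.Agent.Lib.GoldschmidtFusion
open Cfsg.Agent.TwoFusion.Gold (TProp)
open Cfsg.Agent.StdSpFour.CloseComp Cfsg.Agent.StdSpFour.CloseLoc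
open Cfsg.Agent.StdSpFour.CloseSyl (S0506Stmt)

universe u v

section general

variable {F : Type v} {G : Type u} [Field F] [CharP F 2] [Finite F] [Group G] [Finite G] {A : Subgroup G} {t : G}
  {T : Subgroup G} {H : _root_.Cfsg.Agent.StdEven.CoreQuot.Hyp A t T} {B : Base F (XQ A t)}

/-- a Sylow 2-subgroup of `L` has odd index -/
theorem not_two_dvd {L T0 : Subgroup G} {P : Sylow 2 L} (hP : (P : Subgroup L).map L.subtype = T0) :
    ¬ 2 ∣ T0.relIndex L := by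
  have h1 : T0.subgroupOf L = P := by
    rw [← hP]
    exact comap_map_eq_self_of_injective L.subtype_injective _
  rw [relIndex, h1]
  have : Fact (Nat.Prime 2) := ⟨Nat.prime_two⟩
  exact P.not_dvd_index

/-- the position of the lifted environment in `L` -/
theorem inE (b : Bridge H B) (S : ShortLayer B) (he : S.e = 1) {L : Subgroup G} (C : Conf L A t) {c : F}
    {R : Rels B (p' S) S.p c} (D : BLift H B R) (hL : ∀ x, D.f x ∈ L) {P : Sylow 2 L}
    (hP : (P : Subgroup L).map L.subtype = D.f.range) :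
    ∃ V : UFour.Env c G, UFour.InE V L ∧ V.na * V.nb * V.na * V.nb = V.nb * V.na * V.nb * V.na := by
  obtain ⟨V, W, hV⟩ := UFour.lifted_of H b.hF b.env b.t_eq S he R
  have two_f : ∀ x, Lift.Two (V.f x) := by
    intro x
    obtain ⟨n, hn⟩ := UFour.isPGroup_TB c x
    exact ⟨n, by rw [← map_pow, hn, map_one]⟩
  have hf : V.f = D.f := by
    ext x
    exact (D.f_uni x ⟨V.f x, W.f_NO x⟩ (two_f x) (hV x)).symm
  have hn := C.normal
  refine ⟨V, W.inE b.env C.le (fun x hx => hn.conj_mem x hx t) (fun x => by rw [hf]; exact hL x) ?_, W.braid b.env.weyl⟩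
  have h1 : V.T = D.f.range := by
    rw [← hf]
    rfl
  rw [h1]
  exact not_two_dvd hP

/-- **the field case of (B)** -/
theorem concl_field (h0506 : S0506Stmt.{u}) (hZS : ZStarStmt.{u})
    (hT : ∀ (G : Type u) [Group G] [Finite G], IsSimpleGroup G → (∃ a b : G, a * b ≠ b * a) → TProp G)
    (h1173 : S1173Stmt.{u}) (b : Bridge H B) (S : ShortLayer B) (he : S.e = 1) {L : Subgroup G} (C : Conf L A t)
    (htL : t ∉ L) {c : F} (hc : UFour.Irr c) {R : Rels B (p' S) S.p c} (D : BLift H B R) (hL : ∀ x, D.f x ∈ L)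
    {P : Sylow 2 L} (hP : (P : Subgroup L).map L.subtype = D.f.range) : Cfsg.Agent.StdEven.Red.Concl L t := by
  obtain ⟨V, hV, hbr⟩ := inE b S he C D hL hP
  exact ⟨Or.inl (UFour.isLie h0506 hZS hT h1173 hc b.hF C.simple hV hbr), htL⟩

end general

section final

variable {F : Type} {G : Type u} [Field F] [CharP F 2] [Finite F] [Group G] [Finite G] {A : Subgroup G} {t : G}
  {T : Subgroup G} {H : _root_.Cfsg.Agent.StdEven.CoreQuot.Hyp A t T} {B : Base F (XQ A t)}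

/-- **case (B)** -/
theorem concl (h0506 : S0506Stmt.{u}) (hZS : ZStarStmt.{u})
    (hT : ∀ (G : Type u) [Group G] [Finite G], IsSimpleGroup G → (∃ a b : G, a * b ≠ b * a) → TProp G)
    (h1173 : S1173Stmt.{u}) (b : Bridge H B) (S : ShortLayer B) (nl : NoLong H B) (he : S.e = 1) {L : Subgroup G}
    (C : Conf L A t) (h1769 : CaseBSplit.LinSylow.{u, 0} L) : Cfsg.Agent.StdEven.Red.Concl L t := by
  obtain ⟨htL, c, R, D, hL, P, hP⟩ := exists_main b S nl he C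
  rcases UFour.irr_or c with hc | ⟨θ, hθ⟩
  · exact concl_field h0506 hZS hT h1173 b S he C htL hc D hL hP
  · exact concl_split b.hF hθ htL h1769 hP

end final

end Cfsg.Agent.StdSpFour.CaseBEnd
end

-- part: StdSpFour/CaseCEnd
section
/-!
# S1778, type Sp₄(q): the end of case (C)

`CaseCEnd.concl_main`: from `t ∉ L` and "the lift of `T5 (Rg E)` is a Sylow 2-subgroup of `L`" (and the external
theorems: S1769 for `L`; the four inputs of the closing) to the conclusion of S1778.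
-/

set_option autoImplicit false
set_option linter.unusedSectionVars false
set_option linter.style.haveILetI false

namespace Cfsg.Agent.StdSpFour.CaseCEnd

open Subgroup Cfsg Cfsg.Agent.StdSpFour Cfsg.Agent.StdSpFour.Comm Cfsg.Agent.StdSpFour.CaseC
  Cfsg.Agent.StdSpFour.UFiveModel Cfsg.Agent.StdSpFour.StarField
open Cfsg.Agent.StdEven.CoreQuot Cfsg.Agent.StdL2.Setup
open Cfsg.Agent.Lib Cfsg.Agent.Lib.GoldschmidtFusion
open Cfsg.Agent.TwoFusion.Gold (TProp)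
open Cfsg.Agent.StdSpFour.CloseComp Cfsg.Agent.StdSpFour.CloseLoc
open Cfsg.Agent.StdSpFour.CloseSyl (S0506Stmt)

universe u v

section closing

open Cfsg.Agent.StdSpFour.UFive

variable {K : Type v} [Field K] [StarRing K] [CharP K 2] [Finite K] {G : Type u} [Group G] [Finite G]

/-- **the closing** -/
theorem closed (h0506 : S0506Stmt.{u}) (hZS : ZStarStmt.{u})
    (hT : ∀ (G : Type u) [Group G] [Finite G], IsSimpleGroup G → (∃ a b : G, a * b ≠ b * a) → TProp G)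
    (h1173 : S1173Stmt.{u}) (hs : ∃ x : K, star x ≠ x) {n : ℕ} (hn : Nat.card (Fx K) = 2 ^ n)
    (h4 : 4 ≤ Nat.card (Fx K)) {V : UFive.Env K G}
    {E : Subgroup G} (hE : IsSimpleGroup E) (H : InE V E) : Closed V E where
  top := CloseMain.top (relFacts hs hn h4 H) h0506 hZS hT h1173 hE
  norm_Z := fun _ hg h => CloseMain.norm_Z (relFacts hs hn h4 H) h0506 hZS hT h1173 hg h
  norm_Q := fun _ hg h h' => CloseMain.norm_Q (relFacts hs hn h4 H) h0506 hZS hT h1173 hg h h'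

/-- **the field case, from `InE`** -/
theorem isLie (h0506 : S0506Stmt.{u}) (hZS : ZStarStmt.{u})
    (hT : ∀ (G : Type u) [Group G] [Finite G], IsSimpleGroup G → (∃ a b : G, a * b ≠ b * a) → TProp G)
    (h1173 : S1173Stmt.{u}) (hs : ∃ x : K, star x ≠ x) {n : ℕ} (hn : Nat.card (Fx K) = 2 ^ n)
    (h4 : 4 ≤ Nat.card (Fx K)) {V : UFive.Env K G}
    {E : Subgroup G} (hE : IsSimpleGroup E) (H : InE V E)
    (hbr : V.na * V.nb * V.na * V.nb = V.nb * V.na * V.nb * V.na) : Cfsg.IsLieTypeChar 2 E := by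
  obtain ⟨R, hR⟩ := exists_rootSys V hs hn h4 (closed h0506 hZS hT h1173 hs hn h4 hE H) hbr
  have := Cfsg.Agent.SplitTwo.QuadChar.isLieTypeChar R
  rwa [hR] at this

end closing

section general

variable {F : Type v} {G : Type u} [Field F] [CharP F 2] [Finite F] [Group G] [Finite G] {A : Subgroup G} {t : G}
  {T : Subgroup G} {H : _root_.Cfsg.Agent.StdEven.CoreQuot.Hyp A t T} {B : Base F (XQ A t)} {E : F} {D : Three B E}

/-- the position of the lifted environment in `L` -/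
theorem inE [Hab : Fact (∀ r : F, r ^ 2 ≠ E + 1 * r)] (hE : Env B (im A t A)) (hBt : B.t = H.tX) {L : Subgroup G}
    (C : Conf L A t) (L0 : CLift H B D) (hL : ∀ x, L0.f x ∈ L) {P : Sylow 2 L}
    (hP : (P : Subgroup L).map L.subtype = L0.f.range) : UFive.InE (L0.toEnv hE hBt) L := by
  have hn := C.normal
  refine (lifted L0 hE hBt).inE hE C.le (fun x hx => hn.conj_mem x hx t) (fun x => hL x) ?_
  exact CaseBEnd.not_two_dvd hP

/-- irreducible or split -/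
theorem irr_or (E : F) : (∀ r : F, r ^ 2 ≠ E + 1 * r) ∨ ∃ τ : F, τ ^ 2 + τ + E = 0 := by
  by_cases h : ∃ τ : F, τ ^ 2 + τ + E = 0
  · exact Or.inr h
  · left
    intro x hx
    apply h
    refine ⟨x, ?_⟩
    rw [hx, one_mul]
    linear_combination (E + x) * (CharTwo.two_eq_zero : (2 : F) = 0)

/-- **the field case of (C)** -/
theorem concl_field (h0506 : S0506Stmt.{u}) (hZS : ZStarStmt.{u})
    (hT : ∀ (G : Type u) [Group G] [Finite G], IsSimpleGroup G → (∃ a b : G, a * b ≠ b * a) → TProp G)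
    (h1173 : S1173Stmt.{u}) (hE : Env B (im A t A)) (hBt : B.t = H.tX) (hF : 4 ≤ Nat.card F) {L : Subgroup G}
    (C : Conf L A t) (L0 : CLift H B D) (hir : ∀ r : F, r ^ 2 ≠ E + 1 * r) (htL : t ∉ L) (hL : ∀ x, L0.f x ∈ L)
    {P : Sylow 2 L} (hP : (P : Subgroup L).map L.subtype = L0.f.range) : Cfsg.Agent.StdEven.Red.Concl L t := by
  haveI : Fact (∀ r : F, r ^ 2 ≠ E + 1 * r) := ⟨hir⟩
  have := Fintype.ofFinite F
  obtain ⟨n, -, hn⟩ := FiniteField.card F 2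
  have hn' : Nat.card (Fx (Rg E)) = 2 ^ (n : ℕ) := by rw [card_Fx E, Nat.card_eq_fintype_card, hn]
  have h4 : 4 ≤ Nat.card (Fx (Rg E)) := by rw [card_Fx E]; exact hF
  exact ⟨Or.inl (isLie h0506 hZS hT h1173 (exists_star_ne E) hn' h4 C.simple (inE hE hBt C L0 hL hP)
    ((lifted L0 hE hBt).braid hE.weyl)), htL⟩

end general

section final

variable {F : Type} {G : Type u} [Field F] [CharP F 2] [Finite F] [Group G] [Finite G] {A : Subgroup G} {t : G}
  {T : Subgroup G} {H : _root_.Cfsg.Agent.StdEven.CoreQuot.Hyp A t T} {B : Base F (XQ A t)} {E : F} {D : Three B E}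

/-- the split case of (C): `L ≅ L₅(q)` -/
theorem concl_split {L0 : CLift H B D} (hF : 4 ≤ Nat.card F)
    {τ : F} (hτ : τ ^ 2 + τ + E = 0) {L : Subgroup G} (htL : t ∉ L) (h1769 : CaseBSplit.LinSylow.{u, 0} L)
    {P : Sylow 2 L} (hP : (P : Subgroup L).map L.subtype = L0.f.range) : Cfsg.Agent.StdEven.Red.Concl L t := by
  have := Fintype.ofFinite F
  obtain ⟨n, -, hn⟩ := FiniteField.card F 2
  have hr : 2 ≤ (n : ℕ) := by
    rw [Nat.card_eq_fintype_card, hn] at hF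
    by_contra h
    have h1 : (n : ℕ) ≤ 1 := by omega
    have h2 : 2 ^ (n : ℕ) ≤ 2 ^ 1 := Nat.pow_le_pow_right (by norm_num) h1
    omega
  have e1 : T5 (Rg E) ≃* L0.f.range := MonoidHom.ofInjective L0.f_inj
  have e2 : ↥(P : Subgroup L) ≃* ↥((P : Subgroup L).map L.subtype) :=
    (P : Subgroup L).equivMapOfInjective L.subtype L.subtype_injective
  exact ⟨Or.inl (Split.isLie hr hn hτ h1769 P (e1.trans ((MulEquiv.subgroupCongr hP.symm).trans e2.symm))), htL⟩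

/-- **case (C)** from the Sylow 2-subgroup of `L` -/
theorem concl_main (h0506 : S0506Stmt.{u}) (hZS : ZStarStmt.{u})
    (hT : ∀ (G : Type u) [Group G] [Finite G], IsSimpleGroup G → (∃ a b : G, a * b ≠ b * a) → TProp G)
    (h1173 : S1173Stmt.{u}) (hE : Env B (im A t A)) (hBt : B.t = H.tX) (hF : 4 ≤ Nat.card F) {L : Subgroup G}
    (C : Conf L A t) (h1769 : CaseBSplit.LinSylow.{u, 0} L) (L0 : CLift H B D) (htL : t ∉ L)
    (hL : ∀ x, L0.f x ∈ L) {P : Sylow 2 L} (hP : (P : Subgroup L).map L.subtype = L0.f.range) :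
    Cfsg.Agent.StdEven.Red.Concl L t := by
  rcases irr_or E with hc | ⟨τ, hτ⟩
  · exact concl_field h0506 hZS hT h1173 hE hBt hF C L0 hc htL hL hP
  · exact concl_split hF hτ htL h1769 hP

/-- **case (C)** from `Three` -/
theorem concl_three (h0506 : S0506Stmt.{u}) (hZS : ZStarStmt.{u})
    (hT : ∀ (G : Type u) [Group G] [Finite G], IsSimpleGroup G → (∃ a b : G, a * b ≠ b * a) → TProp G)
    (h1173 : S1173Stmt.{u}) (b : Bridge H B) (D : Three B E) {L : Subgroup G} (C : Conf L A t)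
    (h1769 : CaseBSplit.LinSylow.{u, 0} L) : Cfsg.Agent.StdEven.Red.Concl L t := by
  obtain ⟨htL, L0, hL, P, hP⟩ := CaseCGlue.exists_main b D C
  exact concl_main h0506 hZS hT h1173 b.env b.t_eq b.hF C h1769 L0 htL hL hP

omit E D in
/-- **case (C)** -/
theorem concl (h0506 : S0506Stmt.{u}) (hZS : ZStarStmt.{u})
    (hT : ∀ (G : Type u) [Group G] [Finite G], IsSimpleGroup G → (∃ a b : G, a * b ≠ b * a) → TProp G)
    (h1173 : S1173Stmt.{u}) (b : Bridge H B) (S : ShortLayer B) (S' : LongLayer B) (he : S.e = 1) (hLe : S'.e = 0)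
    (hLc : S'.c = 1) {L : Subgroup G} (C : Conf L A t) (h1769 : CaseBSplit.LinSylow.{u, 0} L) :
    Cfsg.Agent.StdEven.Red.Concl L t := by
  obtain ⟨E, ⟨D⟩⟩ := SgTwo.exists_two b.hF b.env.self b.env.weyl S S' he hLe hLc
  exact concl_three h0506 hZS hT h1173 b
    (D.toThree b.hF b.env.self b.env.weyl.na_sq b.env.weyl.na_xa) C h1769

end final

end Cfsg.Agent.StdSpFour.CaseCEnd
end

-- part: StdSpFour/EndALay
section
/-!
S1778, type Sp₄(q), case (A). One root group with its second layer: `x v` (centralised by `t`) and `p u`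
(`t p(u) = p(u) t x(u)`), all together an elementary abelian group of order `q²`.
-/
set_option autoImplicit false
set_option linter.unusedSectionVars false

namespace Cfsg.Agent.StdSpFour
namespace EndA

variable {F G : Type*} [Field F] [CharP F 2] [Group G]

/-- a root group `x` (centralised by `t`) with its second layer `p`, elementary abelian -/
structure Lay (t : G) (x p : F → G) : Prop where
  x_add : ∀ u v, x (u + v) = x u * x v
  x_inj : ∀ u, x u = 1 → u = 0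
  t_x : ∀ u, Commute t (x u)
  p_zero : p 0 = 1
  t_p : ∀ u, t * p u = p u * t * x u
  p_sq : ∀ u, p u * p u = 1
  p_add : ∀ u v, ∃ k, p u * p v = p (u + v) * x k
  p_x : ∀ u v, Commute (p u) (x v)

namespace Lay

variable {t : G} {x p : F → G} (L : Lay t x p)
include L

theorem x_zero : x 0 = 1 := by
  have := L.x_add 0 0
  rw [add_zero] at this
  exact left_eq_mul.1 this

theorem x_x (u : F) : x u * x u = 1 := by
  rw [← L.x_add, CharTwo.add_self_eq_zero, L.x_zero]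

theorem x_inv (u : F) : (x u)⁻¹ = x u := inv_eq_of_mul_eq_one_right (L.x_x u)
theorem p_inv (u : F) : (p u)⁻¹ = p u := inv_eq_of_mul_eq_one_right (L.p_sq u)

theorem x_comm (u v : F) : Commute (x u) (x v) := by
  rw [commute_iff_eq, ← L.x_add, ← L.x_add, add_comm]

theorem p_p (u v : F) : Commute (p u) (p v) := by
  obtain ⟨k, hk⟩ := L.p_add u v
  have h1 : p u * p v * (p u * p v) = 1 := by
    rw [hk]
    calc p (u + v) * x k * (p (u + v) * x k) = p (u + v) * (x k * p (u + v)) * x k := by group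
      _ = p (u + v) * p (u + v) * (x k * x k) := by rw [← (L.p_x (u + v) k).eq]; group
      _ = 1 := by rw [L.p_sq, L.x_x, one_mul]
  have h2 : p u * p v = (p u * p v)⁻¹ := (inv_eq_of_mul_eq_one_right h1).symm
  rw [commute_iff_eq, h2, mul_inv_rev, L.p_inv, L.p_inv]

/-- `p t p⁻¹ = t x` -/
theorem p_t (u : F) : p u * t = t * p u * x u := by
  rw [L.t_p]
  calc p u * t = p u * t * (x u * x u) := by rw [L.x_x, mul_one]
    _ = _ := by group

theorem conj_t (u : F) : p u * t * (p u)⁻¹ = t * x u := by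
  rw [L.p_t, mul_assoc, L.p_inv, ← (L.p_x u u).eq, mul_assoc t, ← mul_assoc (p u), L.p_sq, one_mul]

theorem mul_form (u v u' v' : F) : ∃ k, p u * x v * (p u' * x v') = p (u + u') * x k := by
  obtain ⟨k, hk⟩ := L.p_add u u'
  refine ⟨k + v + v', ?_⟩
  rw [L.x_add, L.x_add]
  calc p u * x v * (p u' * x v') = p u * (x v * p u') * x v' := by group
    _ = (p u * p u') * x v * x v' := by rw [← (L.p_x u' v).eq]; group
    _ = _ := by rw [hk]; group

theorem sq_form (u v : F) : p u * x v * (p u * x v) = 1 := by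
  calc p u * x v * (p u * x v) = p u * (x v * p u) * x v := by group
    _ = p u * p u * (x v * x v) := by rw [← (L.p_x u v).eq]; group
    _ = 1 := by rw [L.p_sq, L.x_x, one_mul]

theorem inv_form (u v : F) : (p u * x v)⁻¹ = p u * x v := inv_eq_of_mul_eq_one_right (L.sq_form u v)

theorem comm_form (u v u' v' : F) : Commute (p u * x v) (p u' * x v') :=
  ((L.p_p u u').mul_right (L.p_x u v')).mul_left
    ((L.p_x u' v).symm.mul_right (L.x_comm v v'))

theorem one_form : (1 : G) = p 0 * x 0 := by rw [L.p_zero, L.x_zero, one_mul]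

/-- `t g = g t x(u)` for `g = p(u) x(v)` -/
theorem t_form (u v : F) : t * (p u * x v) = p u * x v * t * x u := by
  calc t * (p u * x v) = (t * p u) * x v := by group
    _ = p u * t * (x u * x v) := by rw [L.t_p]; group
    _ = p u * (t * x v) * x u := by rw [(L.x_comm u v).eq]; group
    _ = _ := by rw [(L.t_x v).eq]; group

/-- `t g t = g x(u)` -/
theorem tt_form (htt : t * t = 1) (u v : F) : t * (p u * x v) * t = p u * x v * x u := by
  rw [L.t_form, mul_assoc _ (x u) t, ← (L.t_x u).eq, ← mul_assoc, mul_assoc (p u * x v) t t, htt, mul_one]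

theorem eq_zero {u v : F} (h : p u * x v = 1) : u = 0 ∧ v = 0 := by
  have h1 := L.t_form u v
  rw [h, mul_one, one_mul] at h1
  have hu : u = 0 := L.x_inj _ (left_eq_mul.1 h1)
  rw [hu, L.p_zero, one_mul] at h
  exact ⟨hu, L.x_inj _ h⟩

theorem inj {u v u' v' : F} (h : p u * x v = p u' * x v') : u = u' ∧ v = v' := by
  obtain ⟨k, hk⟩ := L.mul_form u v u' v'
  rw [h, L.sq_form] at hk
  have h1 := (L.eq_zero hk.symm).1
  have h2 := FieldAux.eq_of_add_eq_zero h1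
  rw [h2] at h
  have h3 := mul_left_cancel h
  have h4 : x (v + v') = 1 := by rw [L.x_add, h3, L.x_x]
  exact ⟨h2, FieldAux.eq_of_add_eq_zero (L.x_inj _ h4)⟩

omit L in
/-- the group `{p(u) x(v)}` -/
def grp (L : Lay t x p) : Subgroup G where
  carrier := {g | ∃ u v, g = p u * x v}
  mul_mem' := by
    rintro _ _ ⟨u, v, rfl⟩ ⟨u', v', rfl⟩
    obtain ⟨k, hk⟩ := L.mul_form u v u' v'
    exact ⟨_, _, hk⟩
  one_mem' := ⟨0, 0, L.one_form⟩
  inv_mem' := by
    rintro _ ⟨u, v, rfl⟩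
    exact ⟨u, v, L.inv_form u v⟩

omit L in
theorem mem_grp (L : Lay t x p) {g : G} : g ∈ L.grp ↔ ∃ u v, g = p u * x v := Iff.rfl

omit L in
theorem form_mem (L : Lay t x p) (u v : F) : p u * x v ∈ L.grp := ⟨u, v, rfl⟩

omit L in
theorem p_mem (L : Lay t x p) (u : F) : p u ∈ L.grp := ⟨u, 0, by rw [L.x_zero, mul_one]⟩

omit L in
theorem x_mem (L : Lay t x p) (v : F) : x v ∈ L.grp := ⟨0, v, by rw [L.p_zero, one_mul]⟩

theorem sq {g : G} (hg : g ∈ L.grp) : g * g = 1 := by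
  obtain ⟨u, v, rfl⟩ := hg
  exact L.sq_form u v

theorem comm {g g' : G} (hg : g ∈ L.grp) (hg' : g' ∈ L.grp) : Commute g g' := by
  obtain ⟨u, v, rfl⟩ := hg
  obtain ⟨u', v', rfl⟩ := hg'
  exact L.comm_form u v u' v'

end Lay
end EndA
end Cfsg.Agent.StdSpFour
end

-- part: StdSpFour/EndARel
section
/-!
S1778, type Sp₄(q), case (A): the second layers over the four positive root groups, the elementary abelian
group `Ẑ` of order `q⁴`, and the commutator `[p_a, p_b] ∈ Ẑ`.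
-/
set_option autoImplicit false
set_option linter.unusedSectionVars false

namespace Cfsg.Agent.StdSpFour
namespace EndA

variable {F G : Type*} [Field F] [CharP F 2] [Group G]

/-- The relations of case (A) for the second layers over the four positive root groups. -/
structure RelA (B : Base F G) where
  pa : F → G
  pb : F → G
  ps : F → G
  pl : F → G
  la : Lay B.t B.xa pa
  lb : Lay B.t B.xb pb
  ls : Lay B.t B.zs ps
  ll : Lay B.t B.zl pl
  ps_xa : ∀ m u, Commute (ps m) (B.xa u)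
  ps_xb : ∀ m u, Commute (ps m) (B.xb u)
  ps_zl : ∀ m u, Commute (ps m) (B.zl u)
  pl_xa : ∀ m u, Commute (pl m) (B.xa u)
  pl_xb : ∀ m u, Commute (pl m) (B.xb u)
  pl_zs : ∀ m u, Commute (pl m) (B.zs u)
  ps_pl : ∀ m r, Commute (ps m) (pl r)
  pa_zs : ∀ u m, Commute (pa u) (B.zs m)
  pa_zl : ∀ u m, Commute (pa u) (B.zl m)
  pb_zs : ∀ u m, Commute (pb u) (B.zs m)
  pb_zl : ∀ u m, Commute (pb u) (B.zl m)
  pa_ps : ∀ u m, Commute (pa u) (ps m)
  pa_pl : ∀ u m, Commute (pa u) (pl m)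
  pb_ps : ∀ u m, Commute (pb u) (ps m)
  pb_pl : ∀ u m, Commute (pb u) (pl m)
  pa_xb : ∀ u s, ∃ k l, pa u * B.xb s =
    B.xb s * pa u * (ps (u * s) * B.zs k * (pl (u ^ 2 * s) * B.zl l))
  xa_pb : ∀ u s, ∃ k l, B.xa u * pb s =
    pb s * B.xa u * (ps (u * s) * B.zs k * (pl (u ^ 2 * s) * B.zl l))
  h_pa : ∀ (α β : Fˣ) u, B.h α β * pa u = pa (α * u) * B.h α β
  h_pb : ∀ (α β : Fˣ) u, B.h α β * pb u = pb (β * u) * B.h α β
  h_ps : ∀ (α β : Fˣ) u, B.h α β * ps u = ps (α * β * u) * B.h α β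
  h_pl : ∀ (α β : Fˣ) u, B.h α β * pl u = pl (α ^ 2 * β * u) * B.h α β

namespace RelA

variable {B : Base F G} (R : RelA B)

/-- the elements of `Ẑ` -/
def zh (m k r l : F) : G := R.ps m * B.zs k * (R.pl r * B.zl l)

theorem ls_ll (m k r l : F) : Commute (R.ps m * B.zs k) (R.pl r * B.zl l) :=
  ((R.ps_pl m r).mul_right (R.ps_zl m l)).mul_left ((R.pl_zs r k).symm.mul_right (B.zs_zl k l))

theorem zh_sq (m k r l : F) : R.zh m k r l * R.zh m k r l = 1 := by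
  unfold zh
  calc R.ps m * B.zs k * (R.pl r * B.zl l) * (R.ps m * B.zs k * (R.pl r * B.zl l))
      = R.ps m * B.zs k * ((R.pl r * B.zl l) * (R.ps m * B.zs k)) * (R.pl r * B.zl l) := by group
    _ = (R.ps m * B.zs k * (R.ps m * B.zs k)) * ((R.pl r * B.zl l) * (R.pl r * B.zl l)) := by
        rw [← (R.ls_ll m k r l).eq]; group
    _ = 1 := by rw [R.ls.sq_form, R.ll.sq_form, one_mul]

theorem zh_inv (m k r l : F) : (R.zh m k r l)⁻¹ = R.zh m k r l := inv_eq_of_mul_eq_one_right (R.zh_sq m k r l)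

theorem zh_mul (m k r l m' k' r' l' : F) :
    ∃ k'' l'', R.zh m k r l * R.zh m' k' r' l' = R.zh (m + m') k'' (r + r') l'' := by
  obtain ⟨k1, h1⟩ := R.ls.mul_form m k m' k'
  obtain ⟨l1, h2⟩ := R.ll.mul_form r l r' l'
  refine ⟨k1, l1, ?_⟩
  unfold zh
  rw [← h1, ← h2]
  calc R.ps m * B.zs k * (R.pl r * B.zl l) * (R.ps m' * B.zs k' * (R.pl r' * B.zl l'))
      = R.ps m * B.zs k * ((R.pl r * B.zl l) * (R.ps m' * B.zs k')) * (R.pl r' * B.zl l') := by group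
    _ = _ := by rw [← (R.ls_ll m' k' r l).eq]; group

theorem zh_zero : R.zh 0 0 0 0 = 1 := by
  unfold zh
  rw [← R.ls.one_form, ← R.ll.one_form, one_mul]

theorem zh_zs_zl (k l : F) : R.zh 0 k 0 l = B.zs k * B.zl l := by
  unfold zh
  rw [R.ls.p_zero, R.ll.p_zero, one_mul, one_mul]

/-- the group `Ẑ` -/
def Zh : Subgroup G where
  carrier := {g | ∃ m k r l, g = R.zh m k r l}
  mul_mem' := by
    rintro _ _ ⟨m, k, r, l, rfl⟩ ⟨m', k', r', l', rfl⟩
    obtain ⟨k'', l'', h⟩ := R.zh_mul m k r l m' k' r' l'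
    exact ⟨_, _, _, _, h⟩
  one_mem' := ⟨0, 0, 0, 0, R.zh_zero.symm⟩
  inv_mem' := by
    rintro _ ⟨m, k, r, l, rfl⟩
    exact ⟨_, _, _, _, R.zh_inv m k r l⟩

theorem zh_mem (m k r l : F) : R.zh m k r l ∈ R.Zh := ⟨m, k, r, l, rfl⟩

theorem zh_xa (m k r l u : F) : Commute (R.zh m k r l) (B.xa u) :=
  ((R.ps_xa m u).mul_left (B.xa_zs u k).symm).mul_left ((R.pl_xa r u).mul_left (B.xa_zl u l).symm)

theorem zh_xb (m k r l u : F) : Commute (R.zh m k r l) (B.xb u) :=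
  ((R.ps_xb m u).mul_left (B.xb_zs u k).symm).mul_left ((R.pl_xb r u).mul_left (B.xb_zl u l).symm)

theorem zh_pa (m k r l u : F) : Commute (R.zh m k r l) (R.pa u) :=
  ((R.pa_ps u m).symm.mul_left (R.pa_zs u k).symm).mul_left
    ((R.pa_pl u r).symm.mul_left (R.pa_zl u l).symm)

theorem zh_pb (m k r l u : F) : Commute (R.zh m k r l) (R.pb u) :=
  ((R.pb_ps u m).symm.mul_left (R.pb_zs u k).symm).mul_left
    ((R.pb_pl u r).symm.mul_left (R.pb_zl u l).symm)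

theorem zh_zh (m k r l m' k' r' l' : F) : Commute (R.zh m k r l) (R.zh m' k' r' l') := by
  obtain ⟨k1, l1, h⟩ := R.zh_mul m k r l m' k' r' l'
  have h1 : (R.zh m k r l * R.zh m' k' r' l')⁻¹ = R.zh m k r l * R.zh m' k' r' l' := by
    rw [h, R.zh_inv]
  rw [commute_iff_eq, ← h1, mul_inv_rev, R.zh_inv, R.zh_inv]

theorem Zh_comm {g g' : G} (h : g ∈ R.Zh) (h' : g' ∈ R.Zh) : Commute g g' := by
  obtain ⟨m, k, r, l, rfl⟩ := h
  obtain ⟨m', k', r', l', rfl⟩ := h'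
  exact R.zh_zh _ _ _ _ _ _ _ _

theorem Zh_sq {g : G} (h : g ∈ R.Zh) : g * g = 1 := by
  obtain ⟨m, k, r, l, rfl⟩ := h
  exact R.zh_sq _ _ _ _

theorem Zh_a {g a : G} (h : g ∈ R.Zh) (ha : a ∈ R.la.grp) : Commute g a := by
  obtain ⟨m, k, r, l, rfl⟩ := h
  obtain ⟨u, v, rfl⟩ := ha
  exact (R.zh_pa _ _ _ _ _).mul_right (R.zh_xa _ _ _ _ _)

theorem Zh_b {g b : G} (h : g ∈ R.Zh) (hb : b ∈ R.lb.grp) : Commute g b := by
  obtain ⟨m, k, r, l, rfl⟩ := h
  obtain ⟨u, v, rfl⟩ := hb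
  exact (R.zh_pb _ _ _ _ _).mul_right (R.zh_xb _ _ _ _ _)

/-- `t ζ = ζ t z_s z_l` -/
theorem t_zh (m k r l : F) : B.t * R.zh m k r l = R.zh m k r l * B.t * (B.zs m * B.zl r) := by
  unfold zh
  have h3 : Commute (B.zs m) (R.pl r * B.zl l) := (R.pl_zs r m).symm.mul_right (B.zs_zl m l)
  calc B.t * (R.ps m * B.zs k * (R.pl r * B.zl l))
      = (B.t * (R.ps m * B.zs k)) * (R.pl r * B.zl l) := by group
    _ = R.ps m * B.zs k * B.t * (B.zs m * (R.pl r * B.zl l)) := by rw [R.ls.t_form]; group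
    _ = R.ps m * B.zs k * (B.t * (R.pl r * B.zl l)) * B.zs m := by rw [h3.eq]; group
    _ = R.ps m * B.zs k * (R.pl r * B.zl l) * B.t * (B.zl r * B.zs m) := by rw [R.ll.t_form]; group
    _ = _ := by rw [← (B.zs_zl m r).eq]

theorem zt_comm (m r : F) : Commute B.t (B.zs m * B.zl r) := (B.t_zs m).mul_right (B.t_zl r)

/-- `t ζ t = ζ z_s z_l` -/
theorem tt_zh (m k r l : F) : B.t * R.zh m k r l * B.t = R.zh m k r l * (B.zs m * B.zl r) := by
  rw [R.t_zh, mul_assoc _ (B.zs m * B.zl r), ← (zt_comm m r).eq, ← mul_assoc, mul_assoc _ B.t B.t, B.tt, mul_one]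

/-- `ζ t ζ⁻¹ = t z_s z_l` -/
theorem conj_zh (m k r l : F) : R.zh m k r l * B.t * (R.zh m k r l)⁻¹ = B.t * (B.zs m * B.zl r) := by
  have h0 : B.zs m * B.zl r * (B.zs m * B.zl r) = 1 := by
    have := R.zh_sq 0 m 0 r
    rwa [R.zh_zs_zl] at this
  have h1 := R.t_zh m k r l
  have h2 : R.zh m k r l * B.t = B.t * R.zh m k r l * (B.zs m * B.zl r) := by
    rw [h1, mul_assoc _ (B.zs m * B.zl r), h0, mul_one]
  have h3 : Commute (R.zh m k r l) (B.zs m * B.zl r) := by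
    rw [← R.zh_zs_zl]; exact R.zh_zh _ _ _ _ _ _ _ _
  rw [h2, mul_assoc B.t, h3.eq]
  group

/-- `x y = y x` modulo `Ẑ` -/
def Com (x y : G) : Prop := ∃ ζ ∈ R.Zh, x * y = y * x * ζ

theorem Com.of_commute {x y : G} (h : Commute x y) : R.Com x y := ⟨1, R.Zh.one_mem, by rw [mul_one]; exact h.eq⟩

variable {R}

theorem Com.mul_right {x y y' : G} (h : R.Com x y) (h' : R.Com x y') (hy : ∀ ζ ∈ R.Zh, Commute ζ y') :
    R.Com x (y * y') := by
  obtain ⟨ζ, hζ, e⟩ := h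
  obtain ⟨ζ', hζ', e'⟩ := h'
  refine ⟨ζ' * ζ, mul_mem hζ' hζ, ?_⟩
  calc x * (y * y') = (x * y) * y' := by group
    _ = y * x * (ζ * y') := by rw [e]; group
    _ = y * (x * y') * ζ := by rw [(hy ζ hζ).eq]; group
    _ = y * y' * x * (ζ' * ζ) := by rw [e']; group

theorem Com.mul_left {x x' y : G} (h : R.Com x y) (h' : R.Com x' y) (hx : ∀ ζ ∈ R.Zh, Commute ζ x') :
    R.Com (x * x') y := by
  obtain ⟨ζ, hζ, e⟩ := h
  obtain ⟨ζ', hζ', e'⟩ := h'
  refine ⟨ζ * ζ', mul_mem hζ hζ', ?_⟩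
  calc x * x' * y = x * (x' * y) := by group
    _ = (x * y) * x' * ζ' := by rw [e']; group
    _ = y * x * (ζ * x') * ζ' := by rw [e]; group
    _ = y * (x * x') * (ζ * ζ') := by rw [(hx ζ hζ).eq]; group

variable (R)

theorem pa_xb' (u s : F) : R.Com (R.pa u) (B.xb s) := by
  obtain ⟨k, l, h⟩ := R.pa_xb u s
  exact ⟨_, R.zh_mem _ _ _ _, h⟩

theorem xa_pb' (u s : F) : R.Com (B.xa u) (R.pb s) := by
  obtain ⟨k, l, h⟩ := R.xa_pb u s
  exact ⟨_, R.zh_mem _ _ _ _, h⟩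

theorem xa_xb' (u s : F) : R.Com (B.xa u) (B.xb s) := by
  refine ⟨_, R.zh_mem 0 (u * s) 0 (u ^ 2 * s), ?_⟩
  rw [R.zh_zs_zl, B.xa_xb]
  group

end RelA
end EndA
end Cfsg.Agent.StdSpFour
end

-- part: StdSpFour/EndAComm
section
/-!
S1778, type Sp₄(q), case (A): `[p_a(u), p_b(s)] ∈ Ẑ`.
-/
set_option autoImplicit false
set_option linter.unusedSectionVars false

namespace Cfsg.Agent.StdSpFour
namespace EndA

variable {F G : Type*} [Field F] [CharP F 2] [Group G]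

/-- The computation modulo `Ẑ`. -/
theorem comm_abs {Q : Type*} [Group Q] [Fintype F] (hF : 4 ≤ Fintype.card F) (t : Q) (xa xb pa pb : F → Q)
    (h : Fˣ → Fˣ → Q)
    (tt : t * t = 1)
    (xa_add : ∀ u v, xa (u + v) = xa u * xa v) (xb_add : ∀ u v, xb (u + v) = xb u * xb v)
    (xa_xb : ∀ u v, Commute (xa u) (xb v)) (inj : ∀ u s, xa u * xb s = 1 → u = 0 ∧ s = 0)
    (t_xa : ∀ u, Commute t (xa u)) (t_xb : ∀ u, Commute t (xb u))
    (pa_zero : pa 0 = 1)
    (pa_sq : ∀ u, pa u * pa u = 1) (pb_sq : ∀ u, pb u * pb u = 1)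
    (pa_add : ∀ u v, ∃ k, pa u * pa v = pa (u + v) * xa k)
    (pb_add : ∀ u v, ∃ k, pb u * pb v = pb (u + v) * xb k)
    (pa_xa : ∀ u v, Commute (pa u) (xa v)) (pa_xb : ∀ u v, Commute (pa u) (xb v))
    (pb_xa : ∀ u v, Commute (pb u) (xa v)) (pb_xb : ∀ u v, Commute (pb u) (xb v))
    (t_pa : ∀ u, t * pa u = pa u * t * xa u)
    (hxa : ∀ (α β : Fˣ) u, h α β * xa u = xa (α * u) * h α β)
    (hxb : ∀ (α β : Fˣ) u, h α β * xb u = xb (β * u) * h α β)
    (hpa : ∀ (α β : Fˣ) u, h α β * pa u = pa (α * u) * h α β)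
    (hpb : ∀ (α β : Fˣ) u, h α β * pb u = pb (β * u) * h α β)
    (c : ∀ u s, ∃ f g, pa u * pb s * (pa u * pb s) = xa f * xb g ∨
      pa u * pb s * (pa u * pb s) = t * (xa f * xb g)) (u s : F) : Commute (pa u) (pb s) := by
  have xa_zero : xa 0 = 1 := by
    have := xa_add 0 0
    rw [add_zero] at this
    exact left_eq_mul.1 this
  have xb_zero : xb 0 = 1 := by
    have := xb_add 0 0
    rw [add_zero] at this
    exact left_eq_mul.1 this
  have xa_xa : ∀ u, xa u * xa u = 1 := fun u => by rw [← xa_add, CharTwo.add_self_eq_zero, xa_zero]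
  have xb_xb : ∀ u, xb u * xb u = 1 := fun u => by rw [← xb_add, CharTwo.add_self_eq_zero, xb_zero]
  have xa_c : ∀ u v, Commute (xa u) (xa v) := fun u v => by
    rw [commute_iff_eq, ← xa_add, ← xa_add, add_comm]
  have xb_c : ∀ u v, Commute (xb u) (xb v) := fun u v => by
    rw [commute_iff_eq, ← xb_add, ← xb_add, add_comm]
  have x_sq : ∀ f g, xa f * xb g * (xa f * xb g) = 1 := by
    intro f g
    calc xa f * xb g * (xa f * xb g) = xa f * (xb g * xa f) * xb g := by group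
      _ = xa f * xa f * (xb g * xb g) := by rw [← (xa_xb f g).eq]; group
      _ = 1 := by rw [xa_xa, xb_xb, one_mul]
  have x_inj : ∀ {f g f' g'}, xa f * xb g = xa f' * xb g' → f = f' ∧ g = g' := by
    intro f g f' g' e
    have h1 : xa (f + f') * xb (g + g') = 1 := by
      rw [xa_add, xb_add]
      calc xa f * xa f' * (xb g * xb g') = xa f * (xa f' * xb g) * xb g' := by group
        _ = (xa f * xb g) * (xa f' * xb g') := by rw [(xa_xb f' g).eq]; group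
        _ = 1 := by rw [e, x_sq]
    obtain ⟨h2, h3⟩ := inj _ _ h1
    exact ⟨FieldAux.eq_of_add_eq_zero h2, FieldAux.eq_of_add_eq_zero h3⟩
  have pa_x : ∀ u f g, Commute (pa u) (xa f * xb g) := fun u f g => (pa_xa u f).mul_right (pa_xb u g)
  have pb_x : ∀ u f g, Commute (pb u) (xa f * xb g) := fun u f g => (pb_xa u f).mul_right (pb_xb u g)
  have t_x : ∀ f g, Commute t (xa f * xb g) := fun f g => (t_xa f).mul_right (t_xb g)
  have pa_t : ∀ u, pa u * t = t * pa u * xa u := by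
    intro u
    rw [t_pa, mul_assoc, xa_xa, mul_one]
  -- no `t`
  have c' : ∀ u s, ∃ f g, pa u * pb s * (pa u * pb s) = xa f * xb g := by
    intro u s
    by_cases hu : u = 0
    · refine ⟨0, 0, ?_⟩
      rw [hu, pa_zero, one_mul, pb_sq, xa_zero, xb_zero, one_mul]
    obtain ⟨f, g, e | e⟩ := c u s
    · exact ⟨f, g, e⟩
    exfalso
    have h1 : pa u * (pa u * pb s * (pa u * pb s)) * pa u * (pa u * pb s * (pa u * pb s)) = 1 := by
      calc pa u * (pa u * pb s * (pa u * pb s)) * pa u * (pa u * pb s * (pa u * pb s))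
          = (pa u * pa u) * pb s * pa u * pb s * (pa u * pa u) * pb s * pa u * pb s := by group
        _ = pb s * pa u * (pb s * pb s) * pa u * pb s := by rw [pa_sq]; group
        _ = pb s * (pa u * pa u) * pb s := by rw [pb_sq]; group
        _ = 1 := by rw [pa_sq, mul_one, pb_sq]
    rw [e] at h1
    have h2 : pa u * (t * (xa f * xb g)) * pa u * (t * (xa f * xb g)) = xa u := by
      calc pa u * (t * (xa f * xb g)) * pa u * (t * (xa f * xb g))
          = pa u * t * ((xa f * xb g) * pa u) * t * (xa f * xb g) := by group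
        _ = pa u * t * pa u * ((xa f * xb g) * t) * (xa f * xb g) := by rw [← (pa_x u f g).eq]; group
        _ = pa u * t * pa u * t * (xa f * xb g * (xa f * xb g)) := by rw [← (t_x f g).eq]; group
        _ = pa u * t * (pa u * t) := by rw [x_sq]; group
        _ = pa u * t * (t * pa u * xa u) := by rw [← pa_t]
        _ = pa u * (t * t) * pa u * xa u := by group
        _ = xa u := by rw [tt, mul_one, pa_sq, one_mul]
    rw [h1] at h2
    exact hu (inj u 0 (by rw [xb_zero, mul_one, ← h2])).1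
  choose f g e using c'
  have hc : ∀ u s, pa u * pb s = pb s * pa u * (xa (f u s) * xb (g u s)) := by
    intro u s
    rw [← e]
    calc pa u * pb s = pb s * 1 * pb s * pa u * pb s := by rw [mul_one, pb_sq, one_mul]
      _ = pb s * (pa u * pa u) * pb s * pa u * pb s := by rw [pa_sq]
      _ = _ := by group
  have addr : ∀ u s s', f u (s + s') = f u s + f u s' ∧ g u (s + s') = g u s + g u s' := by
    intro u s s'
    obtain ⟨k, hk⟩ := pb_add s s'
    have h1 : pa u * (pb s * pb s') = pb s * pb s' * pa u *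
        (xa (f u s + f u s') * xb (g u s + g u s')) := by
      rw [xa_add, xb_add]
      calc pa u * (pb s * pb s') = (pa u * pb s) * pb s' := by group
        _ = pb s * pa u * ((xa (f u s) * xb (g u s)) * pb s') := by rw [hc u s]; group
        _ = pb s * (pa u * pb s') * (xa (f u s) * xb (g u s)) := by rw [← (pb_x s' _ _).eq]; group
        _ = pb s * pb s' * pa u * ((xa (f u s') * xb (g u s')) * (xa (f u s) * xb (g u s))) := by
            rw [hc u s']; group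
        _ = pb s * pb s' * pa u * (xa (f u s) * xa (f u s') * (xb (g u s) * xb (g u s'))) := by
            congr 1
            calc xa (f u s') * xb (g u s') * (xa (f u s) * xb (g u s))
                = xa (f u s') * (xb (g u s') * xa (f u s)) * xb (g u s) := by group
              _ = (xa (f u s') * xa (f u s)) * (xb (g u s') * xb (g u s)) := by
                  rw [← (xa_xb _ _).eq]; group
              _ = _ := by rw [(xa_c _ _).eq, (xb_c _ _).eq]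
    have h2 : pa u * (pb s * pb s') = pb s * pb s' * pa u *
        (xa (f u (s + s')) * xb (g u (s + s'))) := by
      rw [hk]
      calc pa u * (pb (s + s') * xb k) = (pa u * pb (s + s')) * xb k := by group
        _ = pb (s + s') * pa u * ((xa (f u (s + s')) * xb (g u (s + s'))) * xb k) := by
            rw [hc u (s + s')]; group
        _ = pb (s + s') * (pa u * xb k) * (xa (f u (s + s')) * xb (g u (s + s'))) := by
            have : (xa (f u (s + s')) * xb (g u (s + s'))) * xb k =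
              xb k * (xa (f u (s + s')) * xb (g u (s + s'))) :=
              ((xa_xb _ k).mul_left (xb_c _ k)).eq
            rw [this]; group
        _ = _ := by rw [(pa_xb u k).eq]; group
    exact x_inj (mul_left_cancel (h2.symm.trans h1))
  have addl : ∀ s u u', f (u + u') s = f u s + f u' s ∧ g (u + u') s = g u s + g u' s := by
    intro s u u'
    obtain ⟨k, hk⟩ := pa_add u u'
    have h1 : pa u * pa u' * pb s = pb s * (pa u * pa u') *
        (xa (f u s + f u' s) * xb (g u s + g u' s)) := by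
      rw [xa_add, xb_add]
      calc pa u * pa u' * pb s = pa u * (pa u' * pb s) := by group
        _ = (pa u * pb s) * pa u' * (xa (f u' s) * xb (g u' s)) := by rw [hc u' s]; group
        _ = pb s * pa u * ((xa (f u s) * xb (g u s)) * pa u') * (xa (f u' s) * xb (g u' s)) := by
            rw [hc u s]; group
        _ = pb s * (pa u * pa u') * ((xa (f u s) * xb (g u s)) * (xa (f u' s) * xb (g u' s))) := by
            rw [← (pa_x u' _ _).eq]; group
        _ = _ := by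
            congr 1
            calc xa (f u s) * xb (g u s) * (xa (f u' s) * xb (g u' s))
                = xa (f u s) * (xb (g u s) * xa (f u' s)) * xb (g u' s) := by group
              _ = _ := by rw [← (xa_xb _ _).eq]; group
    have h2 : pa u * pa u' * pb s = pb s * (pa u * pa u') *
        (xa (f (u + u') s) * xb (g (u + u') s)) := by
      rw [hk]
      calc pa (u + u') * xa k * pb s = pa (u + u') * (xa k * pb s) := by group
        _ = (pa (u + u') * pb s) * xa k := by rw [← (pb_xa s k).eq]; group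
        _ = pb s * pa (u + u') * ((xa (f (u + u') s) * xb (g (u + u') s)) * xa k) := by
            rw [hc (u + u') s]; group
        _ = _ := by
            have : (xa (f (u + u') s) * xb (g (u + u') s)) * xa k =
              xa k * (xa (f (u + u') s) * xb (g (u + u') s)) :=
              ((xa_c _ k).mul_left (xa_xb k _).symm).eq
            rw [this]; group
    exact x_inj (mul_left_cancel (h2.symm.trans h1))
  have hh : ∀ (α β : Fˣ) u s, f (α * u) (β * s) = α * f u s ∧ g (α * u) (β * s) = β * g u s := by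
    intro α β u s
    have h1 : h α β * (pa u * pb s * (pa u * pb s)) =
        xa (α * f u s) * xb (β * g u s) * h α β := by
      rw [e]
      calc h α β * (xa (f u s) * xb (g u s)) = (h α β * xa (f u s)) * xb (g u s) := by group
        _ = xa (α * f u s) * (h α β * xb (g u s)) := by rw [hxa]; group
        _ = _ := by rw [hxb]; group
    have h2 : h α β * (pa u * pb s * (pa u * pb s)) =
        xa (f (α * u) (β * s)) * xb (g (α * u) (β * s)) * h α β := by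
      rw [← e]
      calc h α β * (pa u * pb s * (pa u * pb s)) = (h α β * pa u) * pb s * pa u * pb s := by group
        _ = pa (α * u) * (h α β * pb s) * pa u * pb s := by rw [hpa]; group
        _ = pa (α * u) * pb (β * s) * (h α β * pa u) * pb s := by rw [hpb]; group
        _ = pa (α * u) * pb (β * s) * pa (α * u) * (h α β * pb s) := by rw [hpa]; group
        _ = _ := by rw [hpb]; group
    exact x_inj (mul_right_cancel (h2.symm.trans h1))
  have hf : ∀ u s, f u s = 0 := by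
    intro u s
    refine FieldAux.const_zero hF (f := fun s => f u s) (fun x y => (addr u x y).1) ?_ s
    intro x y hx hy
    have h1 := (hh 1 (Units.mk0 y hy * (Units.mk0 x hx)⁻¹) u x).1
    rw [Units.val_one, one_mul, one_mul, Units.val_mul, Units.val_inv_eq_inv_val, Units.val_mk0, Units.val_mk0,
      mul_assoc, inv_mul_cancel₀ hx, mul_one] at h1
    exact h1.symm
  have hg : ∀ u s, g u s = 0 := by
    intro u s
    refine FieldAux.const_zero hF (f := fun u => g u s) (fun x y => (addl s x y).2) ?_ u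
    intro x y hx hy
    have h1 := (hh (Units.mk0 y hy * (Units.mk0 x hx)⁻¹) 1 x s).2
    rw [Units.val_one, one_mul, one_mul, Units.val_mul, Units.val_inv_eq_inv_val, Units.val_mk0, Units.val_mk0,
      mul_assoc, inv_mul_cancel₀ hx, mul_one] at h1
    exact h1.symm
  rw [commute_iff_eq, hc, hf, hg, xa_zero, xb_zero, one_mul, mul_one]

namespace RelA

variable {B : Base F G} (R : RelA B)

theorem pa_xb_conj (u s : F) : ∃ k l, R.pa u * B.xb s * (R.pa u)⁻¹ = B.xb s * R.zh (u * s) k (u ^ 2 * s) l := by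
  obtain ⟨k, l, h⟩ := R.pa_xb u s
  refine ⟨k, l, ?_⟩
  change R.pa u * B.xb s = B.xb s * R.pa u * R.zh (u * s) k (u ^ 2 * s) l at h
  rw [h, mul_assoc (B.xb s), ← (R.zh_pa _ _ _ _ _).eq]
  group

theorem pb_xa_conj (u s : F) : ∃ k l, R.pb s * B.xa u * (R.pb s)⁻¹ = B.xa u * R.zh (u * s) k (u ^ 2 * s) l := by
  obtain ⟨k, l, h⟩ := R.xa_pb u s
  refine ⟨k, l, ?_⟩
  change B.xa u * R.pb s = R.pb s * B.xa u * R.zh (u * s) k (u ^ 2 * s) l at h
  have h1 : R.pb s * B.xa u = B.xa u * R.pb s * R.zh (u * s) k (u ^ 2 * s) l := by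
    rw [h, mul_assoc _ (R.zh _ _ _ _) (R.zh _ _ _ _), R.zh_sq, mul_one]
  rw [h1, mul_assoc (B.xa u), ← (R.zh_pb _ _ _ _ _).eq]
  group

/-- `(p_a(u) p_b(s))²` lies in `⟨t⟩ X_a X_b Ẑ`. -/
theorem csq (hB : B.Self) (u s : F) : ∃ f g, ∃ ζ ∈ R.Zh,
    R.pa u * R.pb s * (R.pa u * R.pb s) = B.xa f * B.xb g * ζ ∨
    R.pa u * R.pb s * (R.pa u * R.pb s) = B.t * (B.xa f * B.xb g) * ζ := by
  obtain ⟨k1, l1, e1⟩ := R.pa_xb_conj u s
  obtain ⟨k2, l2, e2⟩ := R.pb_xa_conj u s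
  set ζ1 := R.zh (u * s) k1 (u ^ 2 * s) l1 with hζ1
  set ζ2 := R.zh (u * s) k2 (u ^ 2 * s) l2 with hζ2
  have h1 : R.pa u * R.pb s * B.t * (R.pa u * R.pb s)⁻¹ = B.t * (B.xa u * B.xb s) * ζ1 := by
    calc R.pa u * R.pb s * B.t * (R.pa u * R.pb s)⁻¹
        = R.pa u * (R.pb s * B.t * (R.pb s)⁻¹) * (R.pa u)⁻¹ := by group
      _ = (R.pa u * B.t * (R.pa u)⁻¹) * (R.pa u * B.xb s * (R.pa u)⁻¹) := by rw [R.lb.conj_t]; group
      _ = _ := by rw [R.la.conj_t, e1]; group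
  have h2 : R.pb s * R.pa u * B.t * (R.pb s * R.pa u)⁻¹ =
      B.t * (B.xa u * B.xb s) * (R.zh 0 (u * s) 0 (u ^ 2 * s) * ζ2) := by
    have h3 : B.xb s * B.xa u = B.xa u * B.xb s * R.zh 0 (u * s) 0 (u ^ 2 * s) := by
      have h4 : B.xa u * B.xb s = B.xb s * B.xa u * R.zh 0 (u * s) 0 (u ^ 2 * s) := by
        rw [R.zh_zs_zl, B.xa_xb]; group
      rw [h4, mul_assoc _ (R.zh _ _ _ _) (R.zh _ _ _ _), R.zh_sq, mul_one]
    calc R.pb s * R.pa u * B.t * (R.pb s * R.pa u)⁻¹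
        = R.pb s * (R.pa u * B.t * (R.pa u)⁻¹) * (R.pb s)⁻¹ := by group
      _ = (R.pb s * B.t * (R.pb s)⁻¹) * (R.pb s * B.xa u * (R.pb s)⁻¹) := by rw [R.la.conj_t]; group
      _ = B.t * (B.xb s * B.xa u) * ζ2 := by rw [R.lb.conj_t, e2]; group
      _ = _ := by rw [h3]; group
  -- the difference
  obtain ⟨k, l, hδ⟩ : ∃ k l, ζ1 = R.zh 0 (u * s) 0 (u ^ 2 * s) * ζ2 * R.zh 0 k 0 l := by
    obtain ⟨k3, l3, e3⟩ := R.zh_mul 0 (u * s) 0 (u ^ 2 * s) (u * s) k2 (u ^ 2 * s) l2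
    obtain ⟨k4, l4, e4⟩ := R.zh_mul (0 + u * s) k3 (0 + u ^ 2 * s) l3 (u * s) k1 (u ^ 2 * s) l1
    rw [zero_add, zero_add, CharTwo.add_self_eq_zero, CharTwo.add_self_eq_zero] at e4
    refine ⟨k4, l4, ?_⟩
    rw [hζ2, e3, ← e4, zero_add, zero_add, ← mul_assoc, R.zh_sq, one_mul]
  set δ := R.zh 0 k 0 l with hδ'
  have h3 : R.pa u * R.pb s * B.t * (R.pa u * R.pb s)⁻¹ =
      R.pb s * R.pa u * B.t * (R.pb s * R.pa u)⁻¹ * δ := by
    rw [h1, h2, hδ]; group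
  set c := R.pa u * R.pb s * (R.pa u * R.pb s) with hc
  have hc' : c = (R.pb s * R.pa u)⁻¹ * (R.pa u * R.pb s) := by
    rw [mul_inv_rev, R.la.p_inv, R.lb.p_inv, hc]
  have hδc : Commute δ (R.pb s * R.pa u) := (R.zh_pb _ _ _ _ _).mul_right (R.zh_pa _ _ _ _ _)
  have h4 : c * B.t * c⁻¹ = B.t * δ := by
    rw [hc']
    calc (R.pb s * R.pa u)⁻¹ * (R.pa u * R.pb s) * B.t * ((R.pb s * R.pa u)⁻¹ * (R.pa u * R.pb s))⁻¹
        = (R.pb s * R.pa u)⁻¹ * (R.pa u * R.pb s * B.t * (R.pa u * R.pb s)⁻¹) * (R.pb s * R.pa u) := by group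
      _ = B.t * ((R.pb s * R.pa u)⁻¹ * (δ * (R.pb s * R.pa u))) := by rw [h3]; group
      _ = _ := by rw [hδc.eq]; group
  -- correct by an element of `Ẑ`
  set ζ0 := R.zh k 0 l 0 with hζ0
  have h5 : ζ0 * B.t * ζ0⁻¹ = B.t * δ := by
    rw [hζ0, R.conj_zh, hδ', R.zh_zs_zl]
  set g := ζ0⁻¹ * c with hg
  have hgt : Commute g B.t := by
    show g * B.t = B.t * g
    calc g * B.t = ζ0⁻¹ * (c * B.t * c⁻¹) * c := by rw [hg]; group
      _ = ζ0⁻¹ * (ζ0 * B.t * ζ0⁻¹) * c := by rw [h4, h5]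
      _ = _ := by rw [hg]; group
  have hζ0m : ζ0 ∈ R.Zh := R.zh_mem _ _ _ _
  have hzs : ∀ m, Commute g (B.zs m) := by
    intro m
    have h6 : Commute ζ0 (B.zs m) := by
      have := R.zh_zh k 0 l 0 0 m 0 0
      rwa [R.zh_zs_zl m 0, B.zl_zero, mul_one] at this
    have h7 : Commute c (B.zs m) :=
      ((R.pa_zs u m).mul_left (R.pb_zs s m)).mul_left ((R.pa_zs u m).mul_left (R.pb_zs s m))
    exact h6.inv_left.mul_left h7
  have hzl : ∀ m, Commute g (B.zl m) := by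
    intro m
    have h6 : Commute ζ0 (B.zl m) := by
      have := R.zh_zh k 0 l 0 0 0 0 m
      rwa [R.zh_zs_zl 0 m, B.zs_zero, one_mul] at this
    have h7 : Commute c (B.zl m) :=
      ((R.pa_zl u m).mul_left (R.pb_zl s m)).mul_left ((R.pa_zl u m).mul_left (R.pb_zl s m))
    exact h6.inv_left.mul_left h7
  obtain ⟨f, g', m, r, h8⟩ := hB.centZ g hgt hzs hzl
  have hcg : c = ζ0 * g := by rw [hg]; group
  refine ⟨f, g', ?_⟩
  rcases h8 with h8 | h8
  · refine ⟨R.zh 0 m 0 r * ζ0, mul_mem (R.zh_mem _ _ _ _) hζ0m, Or.inl ?_⟩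
    rw [hcg, h8, R.zh_zs_zl]
    have h9 : Commute ζ0 (B.xa f * B.xb g' * (B.zs m * B.zl r)) := by
      rw [← R.zh_zs_zl]
      exact ((R.zh_xa _ _ _ _ _).mul_right (R.zh_xb _ _ _ _ _)).mul_right (R.zh_zh _ _ _ _ _ _ _ _)
    rw [show B.xa f * B.xb g' * B.zs m * B.zl r = B.xa f * B.xb g' * (B.zs m * B.zl r) by group, h9.eq]
    group
  · refine ⟨R.zh 0 m 0 r * (ζ0 * R.zh 0 k 0 l), mul_mem (R.zh_mem _ _ _ _)
      (mul_mem hζ0m (R.zh_mem _ _ _ _)), Or.inr ?_⟩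
    rw [hcg, h8]
    have h9 : Commute (ζ0 * R.zh 0 k 0 l) (B.xa f * B.xb g' * (B.zs m * B.zl r)) := by
      rw [← R.zh_zs_zl]
      exact (((R.zh_xa _ _ _ _ _).mul_right (R.zh_xb _ _ _ _ _)).mul_right (R.zh_zh _ _ _ _ _ _ _ _)).mul_left
        (((R.zh_xa _ _ _ _ _).mul_right (R.zh_xb _ _ _ _ _)).mul_right (R.zh_zh _ _ _ _ _ _ _ _))
    have h10 : ζ0 * B.t = B.t * (ζ0 * R.zh 0 k 0 l) := by
      have h11 : B.t * ζ0 * B.t = ζ0 * R.zh 0 k 0 l := by
        rw [hζ0, R.tt_zh, R.zh_zs_zl]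
      rw [← h11, ← mul_assoc, ← mul_assoc, B.tt, one_mul]
    calc ζ0 * (B.t * (B.xa f * B.xb g' * B.zs m * B.zl r))
        = (ζ0 * B.t) * (B.xa f * B.xb g' * (B.zs m * B.zl r)) := by group
      _ = B.t * ((ζ0 * R.zh 0 k 0 l) * (B.xa f * B.xb g' * (B.zs m * B.zl r))) := by rw [h10]; group
      _ = _ := by rw [h9.eq, R.zh_zs_zl m r]; group

theorem h_zh (α β : Fˣ) (m k r l : F) : B.h α β * R.zh m k r l =
    R.zh (α * β * m) (α * β * k) (α ^ 2 * β * r) (α ^ 2 * β * l) * B.h α β := by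
  unfold zh
  calc B.h α β * (R.ps m * B.zs k * (R.pl r * B.zl l)) = (B.h α β * R.ps m) * B.zs k * (R.pl r * B.zl l) := by
        group
    _ = R.ps (α * β * m) * (B.h α β * B.zs k) * (R.pl r * B.zl l) := by rw [R.h_ps]; group
    _ = R.ps (α * β * m) * B.zs (α * β * k) * (B.h α β * R.pl r) * B.zl l := by rw [B.h_zs]; group
    _ = R.ps (α * β * m) * B.zs (α * β * k) * R.pl (α ^ 2 * β * r) * (B.h α β * B.zl l) := by
        rw [R.h_pl]; group
    _ = _ := by rw [B.h_zl]; group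

theorem h_mem_norm (α β : Fˣ) : B.h α β ∈ Subgroup.normalizer (R.Zh : Set G) := by
  have key : ∀ (α β : Fˣ), ∀ g ∈ R.Zh, B.h α β * g * (B.h α β)⁻¹ ∈ R.Zh := by
    rintro α β _ ⟨m, k, r, l, rfl⟩
    rw [R.h_zh, mul_assoc, mul_inv_cancel, mul_one]
    exact R.zh_mem _ _ _ _
  rw [Subgroup.mem_normalizer_iff]
  refine fun g => ⟨key α β g, fun hg => ?_⟩
  have h1 := key α⁻¹ β⁻¹ _ hg
  rw [← B.h_inv] at h1
  have e : (B.h α β)⁻¹ * (B.h α β * g * (B.h α β)⁻¹) * (B.h α β)⁻¹⁻¹ = g := by group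
  rwa [e] at h1

theorem t_mem_norm : B.t ∈ Subgroup.normalizer (R.Zh : Set G) := by
  have key : ∀ g ∈ R.Zh, B.t * g * B.t ∈ R.Zh := by
    rintro _ ⟨m, k, r, l, rfl⟩
    rw [R.tt_zh, ← R.zh_zs_zl]
    exact mul_mem (R.zh_mem _ _ _ _) (R.zh_mem _ _ _ _)
  rw [Subgroup.mem_normalizer_iff]
  intro g
  rw [B.t_inv]
  refine ⟨key g, fun hg => ?_⟩
  have h1 := key _ hg
  have e : B.t * (B.t * g * B.t) * B.t = (B.t * B.t) * g * (B.t * B.t) := by group
  rwa [e, B.tt, one_mul, mul_one] at h1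

theorem mem_norm_of_comm {x : G} (h : ∀ ζ ∈ R.Zh, Commute ζ x) :
    x ∈ Subgroup.normalizer (R.Zh : Set G) := by
  rw [Subgroup.mem_normalizer_iff]
  intro g
  constructor
  · intro hg
    rw [← (h g hg).eq, mul_assoc, mul_inv_cancel, mul_one]
    exact hg
  · intro hg
    have h1 := (h _ hg).eq
    have h2 : x * g = x * (x * g * x⁻¹) := by rw [← h1]; group
    rw [mul_left_cancel h2]
    exact hg

/-- an element of `X_a X_b` in `Ẑ` is trivial -/
theorem xa_xb_mem {u s : F} (h : B.xa u * B.xb s ∈ R.Zh) : u = 0 ∧ s = 0 := by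
  obtain ⟨m, k, r, l, e⟩ := h
  have h1 := R.tt_zh m k r l
  have h2 : B.t * (B.xa u * B.xb s) * B.t = B.xa u * B.xb s := by
    rw [((B.t_xa u).mul_right (B.t_xb s)).eq, mul_assoc, B.tt, mul_one]
  rw [← e, h2] at h1
  have h3 : B.zs m * B.zl r = 1 := left_eq_mul.1 h1
  have h4 := B.inj 0 0 m r (by rw [B.xa_zero, B.xb_zero, one_mul, one_mul, h3])
  rw [h4.2.2.1, h4.2.2.2, R.zh_zs_zl] at e
  have h5 : B.xa u * B.xb s * B.zs k * B.zl l = 1 := by
    rw [e]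
    have : B.zs k * B.zl l * (B.zs k * B.zl l) = 1 := by rw [← R.zh_zs_zl]; exact R.zh_sq _ _ _ _
    calc B.zs k * B.zl l * B.zs k * B.zl l = B.zs k * B.zl l * (B.zs k * B.zl l) := by group
      _ = 1 := this
  have h6 := B.inj u s k l h5
  exact ⟨h6.1, h6.2.1⟩

theorem pa_pb (hB : B.Self) [Fintype F] (hF : 4 ≤ Fintype.card F) (u s : F) :
    R.Com (R.pa u) (R.pb s) := by
  let N : Subgroup G := Subgroup.normalizer (R.Zh : Set G)
  have mxa : ∀ u, B.xa u ∈ N := fun u => R.mem_norm_of_comm fun ζ hζ => R.Zh_a hζ (R.la.x_mem u)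
  have mxb : ∀ u, B.xb u ∈ N := fun u => R.mem_norm_of_comm fun ζ hζ => R.Zh_b hζ (R.lb.x_mem u)
  have mpa : ∀ u, R.pa u ∈ N := fun u => R.mem_norm_of_comm fun ζ hζ => R.Zh_a hζ (R.la.p_mem u)
  have mpb : ∀ u, R.pb u ∈ N := fun u => R.mem_norm_of_comm fun ζ hζ => R.Zh_b hζ (R.lb.p_mem u)
  have mt : B.t ∈ N := R.t_mem_norm
  have mh : ∀ α β, B.h α β ∈ N := fun α β => R.h_mem_norm α β
  let π : N →* N ⧸ R.Zh.subgroupOf N := QuotientGroup.mk' _
  have heq : ∀ {x y : N}, (∃ ζ ∈ R.Zh, (x : G) = y * ζ) → π x = π y := by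
    rintro x y ⟨ζ, hζ, e⟩
    refine (QuotientGroup.eq.2 ?_).symm
    rw [Subgroup.mem_subgroupOf]
    push_cast
    rw [e]
    simpa using hζ
  have hqe : ∀ {x y : N}, π x = π y → ∃ ζ ∈ R.Zh, (x : G) = y * ζ := by
    intro x y h
    have h1 := QuotientGroup.eq.1 h.symm
    rw [Subgroup.mem_subgroupOf] at h1
    exact ⟨_, h1, by push_cast; group⟩
  have heq' : ∀ {x y : N}, (x : G) = y → π x = π y := fun h => heq ⟨1, R.Zh.one_mem, by rw [mul_one]; exact h⟩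
  have hcom : ∀ {x y : N}, R.Com (x : G) y → Commute (π x) (π y) := by
    rintro x y ⟨ζ, hζ, e⟩
    rw [commute_iff_eq, ← map_mul, ← map_mul]
    exact heq ⟨ζ, hζ, by push_cast; exact e⟩
  have hcom' : ∀ {x y : N}, Commute (x : G) y → Commute (π x) (π y) := fun h => hcom (Com.of_commute R h)
  have main := comm_abs (F := F) hF (π ⟨B.t, mt⟩) (fun u => π ⟨B.xa u, mxa u⟩) (fun u => π ⟨B.xb u, mxb u⟩)
    (fun u => π ⟨R.pa u, mpa u⟩) (fun u => π ⟨R.pb u, mpb u⟩) (fun α β => π ⟨B.h α β, mh α β⟩)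
    (by rw [← map_mul, ← map_one π]; exact heq' (by push_cast; exact B.tt))
    (fun u v => by rw [← map_mul]; exact heq' (by push_cast; exact B.xa_add u v))
    (fun u v => by rw [← map_mul]; exact heq' (by push_cast; exact B.xb_add u v))
    (fun u v => hcom (R.xa_xb' u v))
    (fun u s h => by
      rw [← map_mul, ← map_one π] at h
      obtain ⟨ζ, hζ, e⟩ := hqe h
      push_cast at e
      rw [one_mul] at e
      exact R.xa_xb_mem (by rw [e]; exact hζ))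
    (fun u => hcom' (B.t_xa u)) (fun u => hcom' (B.t_xb u))
    (by rw [← map_one π]; exact heq' (by push_cast; exact R.la.p_zero))
    (fun u => by rw [← map_mul, ← map_one π]; exact heq' (by push_cast; exact R.la.p_sq u))
    (fun u => by rw [← map_mul, ← map_one π]; exact heq' (by push_cast; exact R.lb.p_sq u))
    (fun u v => by
      obtain ⟨k, hk⟩ := R.la.p_add u v
      exact ⟨k, by rw [← map_mul, ← map_mul]; exact heq' (by push_cast; exact hk)⟩)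
    (fun u v => by
      obtain ⟨k, hk⟩ := R.lb.p_add u v
      exact ⟨k, by rw [← map_mul, ← map_mul]; exact heq' (by push_cast; exact hk)⟩)
    (fun u v => hcom' (R.la.p_x u v)) (fun u v => hcom (R.pa_xb' u v))
    (fun u v => (hcom (R.xa_pb' v u)).symm) (fun u v => hcom' (R.lb.p_x u v))
    (fun u => by rw [← map_mul, ← map_mul, ← map_mul]; exact heq' (by push_cast; exact R.la.t_p u))
    (fun α β u => by rw [← map_mul, ← map_mul]; exact heq' (by push_cast; exact B.h_xa α β u))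
    (fun α β u => by rw [← map_mul, ← map_mul]; exact heq' (by push_cast; exact B.h_xb α β u))
    (fun α β u => by rw [← map_mul, ← map_mul]; exact heq' (by push_cast; exact R.h_pa α β u))
    (fun α β u => by rw [← map_mul, ← map_mul]; exact heq' (by push_cast; exact R.h_pb α β u))
    (fun u s => by
      obtain ⟨f, g, ζ, hζ, e | e⟩ := R.csq hB u s
      · refine ⟨f, g, Or.inl ?_⟩
        rw [← map_mul, ← map_mul, ← map_mul]
        exact heq ⟨ζ, hζ, by push_cast; exact e⟩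
      · refine ⟨f, g, Or.inr ?_⟩
        rw [← map_mul, ← map_mul, ← map_mul, ← map_mul]
        exact heq ⟨ζ, hζ, by push_cast; exact e⟩)
    u s
  rw [commute_iff_eq, ← map_mul, ← map_mul] at main
  obtain ⟨ζ, hζ, e⟩ := hqe main
  exact ⟨ζ, hζ, by push_cast at e; exact e⟩

end RelA

end EndA
end Cfsg.Agent.StdSpFour
end

-- part: StdSpFour/EndAGroup
section
/-!
S1778, type Sp₄(q), case (A): the group `T = X̂_a X̂_b Ẑ` of order `q⁸` and class two.
-/
set_option autoImplicit false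
set_option linter.unusedSectionVars false

open scoped commutatorElement

namespace Cfsg.Agent.StdSpFour
namespace EndA

variable {F G : Type*} [Field F] [CharP F 2] [Group G]

/-- The relations of case (A) together with `[p_a, p_b] ∈ Ẑ`. -/
structure Sys (B : Base F G) extends RelA B where
  ab : ∀ u s, toRelA.Com (pa u) (pb s)

namespace RelA
variable {B : Base F G} (R : RelA B)

theorem zh_eq_one {m k r l : F} (h : R.zh m k r l = 1) : m = 0 ∧ k = 0 ∧ r = 0 ∧ l = 0 := by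
  have h1 := R.tt_zh m k r l
  rw [h, mul_one, B.tt, one_mul] at h1
  have h2 := B.inj 0 0 m r (by rw [B.xa_zero, B.xb_zero, one_mul, one_mul, h1])
  rw [h2.2.2.1, h2.2.2.2, R.zh_zs_zl] at h
  have h3 := B.inj 0 0 k l (by rw [B.xa_zero, B.xb_zero, one_mul, one_mul, h])
  exact ⟨h2.2.2.1, h3.2.2.1, h2.2.2.2, h3.2.2.2⟩

theorem zh_zs_zl_mul (m k r l k' l' : F) : B.zs k' * B.zl l' * R.zh m k r l = R.zh m (k' + k) r (l' + l) := by
  unfold zh
  rw [B.zs_add, B.zl_add]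
  have h1 : Commute (B.zl l') (R.ps m * B.zs k) := (R.ps_zl m l').symm.mul_right (B.zs_zl k l').symm
  calc B.zs k' * B.zl l' * (R.ps m * B.zs k * (R.pl r * B.zl l))
      = B.zs k' * (B.zl l' * (R.ps m * B.zs k)) * (R.pl r * B.zl l) := by group
    _ = (B.zs k' * R.ps m) * B.zs k * (B.zl l' * R.pl r) * B.zl l := by rw [h1.eq]; group
    _ = _ := by rw [← (R.ls.p_x m k').eq, ← (R.ll.p_x r l').eq]; group

theorem zh_inj {m k r l m' k' r' l' : F} (h : R.zh m k r l = R.zh m' k' r' l') :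
    m = m' ∧ k = k' ∧ r = r' ∧ l = l' := by
  obtain ⟨k1, l1, h1⟩ := R.zh_mul m k r l m' k' r' l'
  rw [h, R.zh_sq] at h1
  have h2 := R.zh_eq_one h1.symm
  have h3 := FieldAux.eq_of_add_eq_zero h2.1
  have h4 := FieldAux.eq_of_add_eq_zero h2.2.2.1
  subst h3 h4
  have h5 : B.zs k' * B.zl l' * R.zh m k r l = B.zs k * B.zl l * R.zh m k' r l' := by
    rw [R.zh_zs_zl_mul, R.zh_zs_zl_mul, add_comm k, add_comm l]
  rw [h] at h5
  have h6 := mul_right_cancel h5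
  have h7 : R.zh 0 k' 0 l' * R.zh 0 k 0 l = 1 := by
    rw [R.zh_zs_zl, h6, ← R.zh_zs_zl, R.zh_sq]
  rw [R.zh_zs_zl, R.zh_zs_zl_mul] at h7
  have h8 := R.zh_eq_one h7
  exact ⟨rfl, (FieldAux.eq_of_add_eq_zero h8.2.1).symm, rfl, (FieldAux.eq_of_add_eq_zero h8.2.2.2).symm⟩

theorem zs_mem (k : F) : B.zs k ∈ R.Zh := ⟨0, k, 0, 0, by rw [R.zh_zs_zl, B.zl_zero, mul_one]⟩
theorem zl_mem (k : F) : B.zl k ∈ R.Zh := ⟨0, 0, 0, k, by rw [R.zh_zs_zl, B.zs_zero, one_mul]⟩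

end RelA

namespace Sys

variable {B : Base F G} (R : Sys B)

theorem com_ab {a b : G} (ha : a ∈ R.la.grp) (hb : b ∈ R.lb.grp) : R.Com a b := by
  obtain ⟨u, v, rfl⟩ := ha
  obtain ⟨s, w, rfl⟩ := hb
  have c1 : ∀ w, ∀ ζ ∈ R.Zh, Commute ζ (B.xb w) := fun w ζ hζ => R.Zh_b hζ (R.lb.x_mem w)
  have c2 : ∀ w, ∀ ζ ∈ R.Zh, Commute ζ (B.xa w) := fun w ζ hζ => R.Zh_a hζ (R.la.x_mem w)
  exact ((R.ab u s).mul_right (R.pa_xb' u w) (c1 w)).mul_left
    ((R.xa_pb' v s).mul_right (R.xa_xb' v w) (c1 w)) (c2 v)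

theorem com_symm {x y : G} (h : R.Com x y) : R.Com y x := by
  obtain ⟨ζ, hζ, e⟩ := h
  exact ⟨ζ⁻¹, inv_mem hζ, by rw [e]; group⟩

/-- The group `T`. -/
def T : Subgroup G where
  carrier := {g | ∃ a ∈ R.la.grp, ∃ b ∈ R.lb.grp, ∃ z ∈ R.Zh, g = a * b * z}
  mul_mem' := by
    rintro _ _ ⟨a, ha, b, hb, z, hz, rfl⟩ ⟨a', ha', b', hb', z', hz', rfl⟩
    obtain ⟨ζ, hζ, e⟩ := R.com_symm (R.com_ab ha' hb)
    refine ⟨a * a', mul_mem ha ha', b * b', mul_mem hb hb', ζ * z * z', mul_mem (mul_mem hζ hz) hz', ?_⟩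
    have c1 := (R.Zh_a hz ha').eq
    have c2 := (R.Zh_b (mul_mem hζ hz) hb').eq
    calc a * b * z * (a' * b' * z') = a * b * (z * a') * b' * z' := by group
      _ = a * (b * a') * z * b' * z' := by rw [c1]; group
      _ = a * a' * b * (ζ * z * b') * z' := by rw [e]; group
      _ = _ := by rw [c2]; group
  one_mem' := ⟨1, one_mem _, 1, one_mem _, 1, one_mem _, by group⟩
  inv_mem' := by
    rintro _ ⟨a, ha, b, hb, z, hz, rfl⟩
    obtain ⟨ζ, hζ, e⟩ := R.com_symm (R.com_ab (inv_mem ha) (inv_mem hb))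
    refine ⟨a⁻¹, inv_mem ha, b⁻¹, inv_mem hb, ζ * z⁻¹, mul_mem hζ (inv_mem hz), ?_⟩
    have c1 := (R.Zh_a (inv_mem hz) (inv_mem ha)).eq
    have c2 := (R.Zh_b (inv_mem hz) (inv_mem hb)).eq
    calc (a * b * z)⁻¹ = (z⁻¹ * b⁻¹) * a⁻¹ := by group
      _ = b⁻¹ * (z⁻¹ * a⁻¹) := by rw [c2]; group
      _ = (b⁻¹ * a⁻¹) * z⁻¹ := by rw [c1]; group
      _ = _ := by rw [e]; group

theorem mem_T {g : G} : g ∈ R.T ↔ ∃ a ∈ R.la.grp, ∃ b ∈ R.lb.grp, ∃ z ∈ R.Zh, g = a * b * z := Iff.rfl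

theorem a_le : R.la.grp ≤ R.T := fun a ha => ⟨a, ha, 1, one_mem _, 1, one_mem _, by group⟩
theorem b_le : R.lb.grp ≤ R.T := fun b hb => ⟨1, one_mem _, b, hb, 1, one_mem _, by group⟩
theorem z_le : R.Zh ≤ R.T := fun z hz => ⟨1, one_mem _, 1, one_mem _, z, hz, by group⟩

/-- `Ẑ` is central in `T` -/
theorem Zh_T {ζ g : G} (hζ : ζ ∈ R.Zh) (hg : g ∈ R.T) : Commute ζ g := by
  obtain ⟨a, ha, b, hb, z, hz, rfl⟩ := hg
  exact ((R.Zh_a hζ ha).mul_right (R.Zh_b hζ hb)).mul_right (R.Zh_comm hζ hz)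

theorem com_T {x y : G} (hx : x ∈ R.T) (hy : y ∈ R.T) : R.Com x y := by
  obtain ⟨a, ha, b, hb, z, hz, rfl⟩ := hx
  obtain ⟨a', ha', b', hb', z', hz', rfl⟩ := hy
  have hZT : ∀ {g : G}, g ∈ R.T → ∀ ζ ∈ R.Zh, Commute ζ g := fun hg ζ hζ => R.Zh_T hζ hg
  have h1 : ∀ {x y : G}, Commute x y → R.Com x y := fun h => RelA.Com.of_commute _ h
  have ta := R.a_le ha
  have ta' := R.a_le ha'
  have tb := R.b_le hb
  have tb' := R.b_le hb'
  have tz := R.z_le hz
  have tz' := R.z_le hz'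
  refine RelA.Com.mul_left (RelA.Com.mul_left ?_ ?_ (hZT tb)) ?_ (hZT tz)
  · exact ((h1 (R.la.comm ha ha')).mul_right (R.com_ab ha hb') (hZT tb')).mul_right
      (h1 (R.Zh_T hz' ta).symm) (hZT tz')
  · exact ((R.com_symm (R.com_ab ha' hb)).mul_right (h1 (R.lb.comm hb hb')) (hZT tb')).mul_right
      (h1 (R.Zh_T hz' tb).symm) (hZT tz')
  · exact h1 (R.Zh_T hz ⟨a', ha', b', hb', z', hz', rfl⟩)

theorem eq_one {a b z : G} (ha : a ∈ R.la.grp) (hb : b ∈ R.lb.grp) (hz : z ∈ R.Zh) (h : a * b * z = 1) :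
    a = 1 ∧ b = 1 ∧ z = 1 := by
  have ha0 := ha
  have hb0 := hb
  have hz0 := hz
  obtain ⟨u, v, ea⟩ := ha
  obtain ⟨s, w, eb⟩ := hb
  obtain ⟨m, k, r, l, ez⟩ := hz
  have h1 : B.t * (a * b * z) * B.t = a * B.xa u * (b * B.xb s) * (z * (B.zs m * B.zl r)) := by
    calc B.t * (a * b * z) * B.t = B.t * a * (B.t * B.t) * b * (B.t * B.t) * z * B.t := by rw [B.tt]; group
      _ = (B.t * a * B.t) * (B.t * b * B.t) * (B.t * z * B.t) := by group
      _ = _ := by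
        rw [ea, eb, ez, R.la.tt_form B.tt, R.lb.tt_form B.tt, R.tt_zh]
  rw [h, mul_one, B.tt] at h1
  have hδ : B.zs m * B.zl r ∈ R.Zh := mul_mem (R.zs_mem m) (R.zl_mem r)
  have h2 : B.xa u * b * B.xb s * (B.zs m * B.zl r) = b := by
    have h3 : a * B.xa u * (b * B.xb s) * (z * (B.zs m * B.zl r)) = a * b * z := by rw [← h1, h]
    have c1 := (R.Zh_comm hz0 hδ).eq
    rw [c1] at h3
    have h4 : a * (B.xa u * b * B.xb s * (B.zs m * B.zl r)) * z = a * b * z := by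
      rw [← h3]; group
    exact mul_left_cancel (mul_right_cancel h4)
  obtain ⟨ζ, hζ, e⟩ := R.com_ab (R.la.x_mem u) hb0
  have h3 : B.xa u * B.xb s * (ζ * (B.zs m * B.zl r)) = 1 := by
    have c1 := (R.Zh_b hζ (R.lb.x_mem s)).eq
    have h4 : b * (B.xa u * B.xb s * (ζ * (B.zs m * B.zl r))) = b * 1 := by
      rw [mul_one]
      calc b * (B.xa u * B.xb s * (ζ * (B.zs m * B.zl r)))
          = b * B.xa u * (B.xb s * ζ) * (B.zs m * B.zl r) := by group
        _ = (b * B.xa u * ζ) * B.xb s * (B.zs m * B.zl r) := by rw [← c1]; group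
        _ = b := by rw [← e, h2]
    exact mul_left_cancel h4
  have h4 : B.xa u * B.xb s ∈ R.Zh := by
    rw [mul_eq_one_iff_eq_inv.1 h3]
    exact inv_mem (mul_mem hζ hδ)
  obtain ⟨hu, hs⟩ := R.xa_xb_mem h4
  subst hu hs
  rw [B.xa_zero, B.xb_zero, one_mul, mul_one] at h2
  have h5 : B.zs m * B.zl r = 1 := mul_eq_left.1 h2
  have h6 := B.inj 0 0 m r (by rw [B.xa_zero, B.xb_zero, one_mul, one_mul, h5])
  obtain ⟨-, -, hm, hr⟩ := h6
  subst hm hr
  rw [R.la.p_zero, one_mul] at ea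
  rw [R.lb.p_zero, one_mul] at eb
  rw [R.zh_zs_zl] at ez
  rw [ea, eb, ez] at h
  have h7 := B.inj v w k l (by rw [← h]; group)
  obtain ⟨hv, hw, hk, hl⟩ := h7
  subst hv hw hk hl
  rw [B.xa_zero] at ea
  rw [B.xb_zero] at eb
  rw [B.zs_zero, B.zl_zero, one_mul] at ez
  exact ⟨ea, eb, ez⟩

theorem inj {a b z a' b' z' : G} (ha : a ∈ R.la.grp) (hb : b ∈ R.lb.grp) (hz : z ∈ R.Zh)
    (ha' : a' ∈ R.la.grp) (hb' : b' ∈ R.lb.grp) (hz' : z' ∈ R.Zh) (h : a * b * z = a' * b' * z') :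
    a = a' ∧ b = b' ∧ z = z' := by
  have h1 : a'⁻¹ * a * (b * b'⁻¹) * (z * z'⁻¹) = 1 := by
    have c := (R.Zh_b (mul_mem hz (inv_mem hz')) (inv_mem hb')).eq
    calc a'⁻¹ * a * (b * b'⁻¹) * (z * z'⁻¹) = a'⁻¹ * a * b * (b'⁻¹ * (z * z'⁻¹)) := by group
      _ = a'⁻¹ * (a * b * z) * z'⁻¹ * b'⁻¹ := by rw [← c]; group
      _ = 1 := by rw [h]; group
  obtain ⟨h2, h3, h4⟩ := R.eq_one (mul_mem (inv_mem ha') ha) (mul_mem hb (inv_mem hb'))
    (mul_mem hz (inv_mem hz')) h1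
  exact ⟨(inv_mul_eq_one.1 h2).symm, mul_inv_eq_one.1 h3, mul_inv_eq_one.1 h4⟩

/-- the conjugate of an element of `T` by `t` -/
theorem tt_form (u v s w m k r l : F) :
    B.t * (R.pa u * B.xa v * (R.pb s * B.xb w) * R.zh m k r l) * B.t =
      (R.pa u * B.xa v * B.xa u) * (R.pb s * B.xb w * B.xb s) * (R.zh m k r l * (B.zs m * B.zl r)) := by
  calc B.t * (R.pa u * B.xa v * (R.pb s * B.xb w) * R.zh m k r l) * B.t
      = B.t * (R.pa u * B.xa v) * 1 * (R.pb s * B.xb w) * 1 * R.zh m k r l * B.t := by group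
    _ = B.t * (R.pa u * B.xa v) * (B.t * B.t) * (R.pb s * B.xb w) * (B.t * B.t) * R.zh m k r l * B.t := by
        rw [B.tt]
    _ = (B.t * (R.pa u * B.xa v) * B.t) * (B.t * (R.pb s * B.xb w) * B.t) * (B.t * R.zh m k r l * B.t) := by
        group
    _ = _ := by rw [R.la.tt_form B.tt, R.lb.tt_form B.tt, R.tt_zh]

theorem t_norm {g : G} (hg : g ∈ R.T) : B.t * g * B.t ∈ R.T := by
  obtain ⟨_, ⟨u, v, rfl⟩, _, ⟨s, w, rfl⟩, _, ⟨m, k, r, l, rfl⟩, rfl⟩ := hg
  rw [R.tt_form]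
  exact ⟨_, mul_mem (R.la.form_mem u v) (R.la.x_mem u), _, mul_mem (R.lb.form_mem s w) (R.lb.x_mem s), _,
    mul_mem (R.zh_mem m k r l) (mul_mem (R.zs_mem m) (R.zl_mem r)), rfl⟩

/-- `C_T(t) = U` -/
theorem cent_t {g : G} (hg : g ∈ R.T) (h : B.t * g * B.t = g) :
    ∃ u s m r, g = B.xa u * B.xb s * B.zs m * B.zl r := by
  obtain ⟨_, ⟨u, v, rfl⟩, _, ⟨s, w, rfl⟩, _, ⟨m, k, r, l, rfl⟩, rfl⟩ := hg
  rw [R.tt_form] at h
  obtain ⟨h1, h2, h3⟩ := R.inj (mul_mem (R.la.form_mem u v) (R.la.x_mem u))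
    (mul_mem (R.lb.form_mem s w) (R.lb.x_mem s))
    (mul_mem (R.zh_mem m k r l) (mul_mem (R.zs_mem m) (R.zl_mem r)))
    (R.la.form_mem u v) (R.lb.form_mem s w) (R.zh_mem m k r l) h
  have h1 := R.la.x_inj _ (mul_eq_left.1 h1)
  have h2 := R.lb.x_inj _ (mul_eq_left.1 h2)
  have h3 := mul_eq_left.1 h3
  have h6 := B.inj 0 0 m r (by rw [B.xa_zero, B.xb_zero, one_mul, one_mul, h3])
  obtain ⟨-, -, hm, hr⟩ := h6
  subst h1 h2 hm hr
  refine ⟨v, w, k, l, ?_⟩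
  rw [R.la.p_zero, R.lb.p_zero, R.zh_zs_zl, one_mul, one_mul]
  group

theorem t_notMem : B.t ∉ R.T := by
  intro h
  obtain ⟨u, s, m, r, e⟩ := R.cent_t h (by rw [B.tt, one_mul])
  exact B.t_ne u s m r e.symm

theorem nonab : ∃ x ∈ R.T, ∃ y ∈ R.T, x * y ≠ y * x := by
  refine ⟨R.pa 1, R.a_le (R.la.p_mem 1), B.xb 1, R.b_le (R.lb.x_mem 1), ?_⟩
  intro h
  obtain ⟨k, l, e⟩ := R.pa_xb 1 1
  change R.pa 1 * B.xb 1 = B.xb 1 * R.pa 1 * R.zh (1 * 1) k (1 ^ 2 * 1) l at e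
  rw [h] at e
  have h1 := R.zh_eq_one (left_eq_mul.1 e)
  rw [mul_one] at h1
  exact one_ne_zero h1.1

theorem class_two {x y z : G} (hx : x ∈ R.T) (hy : y ∈ R.T) (hz : z ∈ R.T) :
    Commute ⁅x, y⁆ z := by
  obtain ⟨ζ, hζ, e⟩ := R.com_T hx hy
  have h1 : ⁅x, y⁆ = ζ := by
    rw [commutatorElement_def, e]
    have c : Commute ζ (y * x)⁻¹ := R.Zh_T hζ (inv_mem (mul_mem hy hx))
    calc y * x * ζ * x⁻¹ * y⁻¹ = y * x * (ζ * (y * x)⁻¹) := by group
      _ = ζ := by rw [c.eq]; group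
  rw [h1]
  exact R.Zh_T hζ hz

end Sys
end EndA
end Cfsg.Agent.StdSpFour
end

-- part: StdSpFour/EndAOut
section
/-!
S1778, type Sp₄(q), case (A): involutions of `tT`, centralisers of involutions of `T`, and the order of `T`.
-/
set_option autoImplicit false
set_option linter.unusedSectionVars false

open scoped commutatorElement

namespace Cfsg.Agent.StdSpFour
namespace EndA

variable {F G : Type*} [Field F] [CharP F 2] [Group G]

namespace Sys

variable {B : Base F G} (R : Sys B)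

/-- all involutions of the coset `tT` are conjugate to `t` under `T` -/
theorem inv_coset {v : G} (hv : v ∈ R.T) (h : B.t * v * (B.t * v) = 1) :
    ∃ w ∈ R.T, w * B.t * w⁻¹ = B.t * v := by
  obtain ⟨_, ⟨u, v, rfl⟩, _, ⟨s, w, rfl⟩, _, ⟨m, k, r, l, rfl⟩, rfl⟩ := hv
  -- modulo `Ẑ`
  have e0 : (B.t * (R.pa u * B.xa v * (R.pb s * B.xb w) * R.zh m k r l) * B.t) *
      (R.pa u * B.xa v * (R.pb s * B.xb w) * R.zh m k r l) = 1 := by
    rw [← h]; group
  rw [R.tt_form] at e0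
  set a := R.pa u * B.xa v with ha
  set b := R.pb s * B.xb w with hb
  have ma : a ∈ R.la.grp := R.la.form_mem u v
  have mb : b ∈ R.lb.grp := R.lb.form_mem s w
  have mz := R.zh_mem m k r l
  have mδ : B.zs m * B.zl r ∈ R.Zh := mul_mem (R.zs_mem m) (R.zl_mem r)
  -- `(x x_a)(y x_b) ζ x y = (x² x_a)(y² x_b) ζ'`
  obtain ⟨ζ1, hζ1, e1⟩ := R.com_symm (R.com_ab ma (mul_mem mb (R.lb.x_mem s)))
  have e2 : B.xa u * B.xb s * (ζ1 * (R.zh m k r l * (B.zs m * B.zl r) * R.zh m k r l)) = 1 := by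
    have c1 := (R.Zh_T (mul_mem mz mδ) (mul_mem (R.a_le ma) (R.b_le mb))).eq
    have c2 := (R.Zh_T hζ1 (R.b_le mb)).eq
    have c3 := (R.la.comm ma (R.la.x_mem u)).eq
    have c4 := (R.lb.comm mb (R.lb.x_mem s)).eq
    have sa := R.la.sq ma
    have sb := R.lb.sq mb
    rw [← e0]
    symm
    calc a * B.xa u * (b * B.xb s) * (R.zh m k r l * (B.zs m * B.zl r)) * (a * b * R.zh m k r l)
        = a * B.xa u * (b * B.xb s) * ((R.zh m k r l * (B.zs m * B.zl r)) * (a * b)) * R.zh m k r l := by group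
      _ = a * B.xa u * ((b * B.xb s) * a) * b * (R.zh m k r l * (B.zs m * B.zl r)) * R.zh m k r l := by
          rw [c1]; group
      _ = a * B.xa u * a * b * B.xb s * (ζ1 * b) * (R.zh m k r l * (B.zs m * B.zl r)) * R.zh m k r l := by
          rw [e1]; group
      _ = (a * B.xa u) * a * (b * B.xb s) * b * ζ1 * (R.zh m k r l * (B.zs m * B.zl r)) * R.zh m k r l := by
          rw [c2]; group
      _ = B.xa u * (a * a) * B.xb s * (b * b) * ζ1 * (R.zh m k r l * (B.zs m * B.zl r)) * R.zh m k r l := by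
          rw [c3, c4]; group
      _ = _ := by rw [sa, sb]; group
  have e3 : B.xa u * B.xb s ∈ R.Zh := by
    rw [mul_eq_one_iff_eq_inv.1 e2]
    exact inv_mem (mul_mem hζ1 (mul_mem (mul_mem mz mδ) mz))
  obtain ⟨hu, hs⟩ := R.xa_xb_mem e3
  subst hu hs
  rw [R.la.p_zero, one_mul] at ha
  rw [R.lb.p_zero, one_mul] at hb
  rw [ha, hb, B.xa_zero, B.xb_zero, mul_one, mul_one] at e0
  -- the `Ẑ`-part
  have e4 : B.xa v * B.xb w * (B.xa v * B.xb w) = R.zh 0 (v * w) 0 (v ^ 2 * w) := by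
    have e5 : B.xa v * B.xb w = B.xb w * B.xa v * R.zh 0 (v * w) 0 (v ^ 2 * w) := by
      rw [R.zh_zs_zl, B.xa_xb]; group
    have c1 : Commute (R.zh 0 (v * w) 0 (v ^ 2 * w)) (B.xa v * B.xb w) :=
      (R.zh_xa _ _ _ _ _).mul_right (R.zh_xb _ _ _ _ _)
    calc B.xa v * B.xb w * (B.xa v * B.xb w)
        = B.xb w * B.xa v * (R.zh 0 (v * w) 0 (v ^ 2 * w) * (B.xa v * B.xb w)) := by
            nth_rw 1 [e5]; group
      _ = B.xb w * (B.xa v * B.xa v) * B.xb w * R.zh 0 (v * w) 0 (v ^ 2 * w) := by rw [c1.eq]; group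
      _ = _ := by rw [B.xa_xa, mul_one, B.xb_xb, one_mul]
  have e5 : R.zh 0 (v * w) 0 (v ^ 2 * w) * R.zh 0 m 0 r = 1 := by
    have c1 : Commute (R.zh m k r l * (B.zs m * B.zl r)) (B.xa v * B.xb w) := by
      rw [← R.zh_zs_zl]
      exact ((R.zh_xa _ _ _ _ _).mul_right (R.zh_xb _ _ _ _ _)).mul_left
        ((R.zh_xa _ _ _ _ _).mul_right (R.zh_xb _ _ _ _ _))
    have c2 : Commute (B.zs m * B.zl r) (R.zh m k r l) := R.Zh_comm mδ mz
    rw [← e4, ← e0, R.zh_zs_zl m r]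
    calc B.xa v * B.xb w * (B.xa v * B.xb w) * (B.zs m * B.zl r)
        = B.xa v * B.xb w * (B.xa v * B.xb w) * (B.zs m * B.zl r) * (R.zh m k r l * R.zh m k r l) := by
            rw [R.zh_sq, mul_one]
      _ = B.xa v * B.xb w * (B.xa v * B.xb w) * ((B.zs m * B.zl r) * R.zh m k r l) * R.zh m k r l := by
            group
      _ = B.xa v * B.xb w * ((B.xa v * B.xb w) * (R.zh m k r l * (B.zs m * B.zl r))) * R.zh m k r l := by
            rw [c2.eq]; group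
      _ = B.xa v * B.xb w * ((R.zh m k r l * (B.zs m * B.zl r)) * (B.xa v * B.xb w)) * R.zh m k r l := by
            rw [c1.eq]
      _ = _ := by group
  rw [R.zh_zs_zl (v * w) (v ^ 2 * w), R.zh_zs_zl_mul] at e5
  have e6 := R.zh_eq_one e5
  have hm : m = v * w := (FieldAux.eq_of_add_eq_zero e6.2.1).symm
  have hr : r = v ^ 2 * w := (FieldAux.eq_of_add_eq_zero e6.2.2.2).symm
  subst hm hr
  rw [ha, hb]
  -- the conjugating element
  obtain ⟨k1, l1, e7⟩ := R.pa_xb_conj v w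
  have h1 : R.pa v * R.pb w * B.t * (R.pa v * R.pb w)⁻¹ =
      B.t * (B.xa v * B.xb w) * R.zh (v * w) k1 (v ^ 2 * w) l1 := by
    calc R.pa v * R.pb w * B.t * (R.pa v * R.pb w)⁻¹
        = R.pa v * (R.pb w * B.t * (R.pb w)⁻¹) * (R.pa v)⁻¹ := by group
      _ = (R.pa v * B.t * (R.pa v)⁻¹) * (R.pa v * B.xb w * (R.pa v)⁻¹) := by rw [R.lb.conj_t]; group
      _ = _ := by rw [R.la.conj_t, e7]; group
  refine ⟨R.zh (k1 + k) 0 (l1 + l) 0 * (R.pa v * R.pb w), mul_mem (R.z_le (R.zh_mem _ _ _ _))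
    (mul_mem (R.a_le (R.la.p_mem _)) (R.b_le (R.lb.p_mem _))), ?_⟩
  set y := R.zh (k1 + k) 0 (l1 + l) 0 with hy
  have c3 : Commute y (B.xa v * B.xb w * R.zh (v * w) k1 (v ^ 2 * w) l1) :=
    ((R.zh_xa _ _ _ _ _).mul_right (R.zh_xb _ _ _ _ _)).mul_right (R.zh_zh _ _ _ _ _ _ _ _)
  calc y * (R.pa v * R.pb w) * B.t * (y * (R.pa v * R.pb w))⁻¹
      = y * (R.pa v * R.pb w * B.t * (R.pa v * R.pb w)⁻¹) * y⁻¹ := by group
    _ = y * B.t * (B.xa v * B.xb w * R.zh (v * w) k1 (v ^ 2 * w) l1 * y⁻¹) := by rw [h1]; group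
    _ = (y * B.t * y⁻¹) * (B.xa v * B.xb w * R.zh (v * w) k1 (v ^ 2 * w) l1) := by
        rw [← c3.inv_left.eq]; group
    _ = B.t * ((B.zs (k1 + k) * B.zl (l1 + l)) * (B.xa v * B.xb w)) * R.zh (v * w) k1 (v ^ 2 * w) l1 := by
        rw [hy, R.conj_zh]; group
    _ = B.t * (B.xa v * B.xb w) * ((B.zs (k1 + k) * B.zl (l1 + l)) * R.zh (v * w) k1 (v ^ 2 * w) l1) := by
        have : (B.zs (k1 + k) * B.zl (l1 + l)) * (B.xa v * B.xb w) =
          (B.xa v * B.xb w) * (B.zs (k1 + k) * B.zl (l1 + l)) := by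
          rw [← R.zh_zs_zl]
          exact ((R.zh_xa _ _ _ _ _).mul_right (R.zh_xb _ _ _ _ _)).eq
        rw [this]; group
    _ = _ := by
        rw [R.zh_zs_zl_mul, show k1 + k + k1 = k + (k1 + k1) by ring, show l1 + l + l1 = l + (l1 + l1) by ring,
          CharTwo.add_self_eq_zero, CharTwo.add_self_eq_zero, add_zero, add_zero]
        group

end Sys

namespace Lay

variable {t : G} {x p : F → G} (L : Lay t x p)
include L

theorem card_grp : Nat.card L.grp = Nat.card F ^ 2 := by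
  rw [_root_.sq, ← Nat.card_prod]
  refine (Nat.card_congr (Equiv.ofBijective
    (fun y : F × F => (⟨p y.1 * x y.2, L.form_mem y.1 y.2⟩ : L.grp)) ⟨?_, ?_⟩)).symm
  · rintro ⟨u, v⟩ ⟨u', v'⟩ h
    have h1 := L.inj (Subtype.ext_iff.1 h)
    exact Prod.ext h1.1 h1.2
  · rintro ⟨_, u, v, rfl⟩
    exact ⟨(u, v), rfl⟩

theorem le_normal {N : Subgroup G} [hN : N.Normal] {h : G} (hh : h ∈ N) {ω : F} (hω : ω ≠ 1)
    (hx : ∀ u, h * x u = x (ω * u) * h) (hp : ∀ u, h * p u = p (ω * u) * h) : L.grp ≤ N := by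
  have key : ∀ g : G, h * g * h⁻¹ * g⁻¹ ∈ N := by
    intro g
    have := mul_mem hh (hN.conj_mem _ (inv_mem hh) g)
    rwa [show h * (g * h⁻¹ * g⁻¹) = h * g * h⁻¹ * g⁻¹ by group] at this
  have hω' : ω + 1 ≠ 0 := fun h => hω (FieldAux.eq_of_add_eq_zero h)
  have h1 : ∀ u, x u ∈ N := by
    intro u
    have := key (x ((ω + 1)⁻¹ * u))
    rw [hx, mul_inv_cancel_right, L.x_inv, ← L.x_add] at this
    rwa [show ω * ((ω + 1)⁻¹ * u) + (ω + 1)⁻¹ * u = ((ω + 1) * (ω + 1)⁻¹) * u by ring,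
      mul_inv_cancel₀ hω', one_mul] at this
  have h2 : ∀ u, p u ∈ N := by
    intro u
    have := key (p ((ω + 1)⁻¹ * u))
    obtain ⟨k, hk⟩ := L.p_add (ω * ((ω + 1)⁻¹ * u)) ((ω + 1)⁻¹ * u)
    rw [hp, mul_inv_cancel_right, L.p_inv, hk,
      show ω * ((ω + 1)⁻¹ * u) + (ω + 1)⁻¹ * u = ((ω + 1) * (ω + 1)⁻¹) * u by ring,
      mul_inv_cancel₀ hω', one_mul] at this
    have h3 := mul_mem this (inv_mem (h1 k))
    rwa [mul_inv_cancel_right] at h3
  rintro _ ⟨u, v, rfl⟩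
  exact mul_mem (h2 u) (h1 v)

end Lay

namespace Sys

variable {B : Base F G} (R : Sys B)

theorem card_Zh : Nat.card R.Zh = Nat.card F ^ 4 := by
  have e : Nat.card F ^ 4 = Nat.card ((F × F) × (F × F)) := by
    rw [Nat.card_prod, Nat.card_prod]; ring
  rw [e]
  refine (Nat.card_congr (Equiv.ofBijective
    (fun y : (F × F) × (F × F) => (⟨R.zh y.1.1 y.1.2 y.2.1 y.2.2, R.zh_mem _ _ _ _⟩ : R.Zh)) ⟨?_, ?_⟩)).symm
  · rintro ⟨⟨u, v⟩, u', v'⟩ ⟨⟨u1, v1⟩, u1', v1'⟩ h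
    have h1 := R.zh_inj (Subtype.ext_iff.1 h)
    exact Prod.ext (Prod.ext h1.1 h1.2.1) (Prod.ext h1.2.2.1 h1.2.2.2)
  · rintro ⟨_, m, k, r, l, rfl⟩
    exact ⟨((m, k), (r, l)), rfl⟩

theorem card_T : Nat.card R.T = Nat.card F ^ 8 := by
  have e : Nat.card F ^ 8 = Nat.card (R.la.grp × R.lb.grp × R.Zh) := by
    rw [Nat.card_prod, Nat.card_prod, R.la.card_grp, R.lb.card_grp, R.card_Zh]; ring
  rw [e]
  refine (Nat.card_congr (Equiv.ofBijective
    (fun y : R.la.grp × R.lb.grp × R.Zh => (⟨y.1 * y.2.1 * y.2.2,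
      ⟨y.1, y.1.2, y.2.1, y.2.1.2, y.2.2, y.2.2.2, rfl⟩⟩ : R.T)) ⟨?_, ?_⟩)).symm
  · rintro ⟨a, b, z⟩ ⟨a', b', z'⟩ h
    have h1 := R.inj a.2 b.2 z.2 a'.2 b'.2 z'.2 (Subtype.ext_iff.1 h)
    exact Prod.ext (Subtype.ext h1.1) (Prod.ext (Subtype.ext h1.2.1) (Subtype.ext h1.2.2))
  · rintro ⟨_, a, ha, b, hb, z, hz, rfl⟩
    exact ⟨(⟨a, ha⟩, ⟨b, hb⟩, ⟨z, hz⟩), rfl⟩

theorem cent_aux [Finite G] {X Y : Type*} {v : G} (f : X → G) (g : Y → G)
    (hf : Function.Injective f) (hg : Function.Injective g) (hf' : ∀ x, f x ∈ R.la.grp)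
    (hg' : ∀ x, g x ∈ R.lb.grp) (hv : v ∈ R.T) (hfv : ∀ x, Commute (f x) v) (hgv : ∀ x, Commute (g x) v) :
    Nat.card X * Nat.card Y * Nat.card R.Zh ≤ Nat.card ↥(R.T ⊓ Subgroup.centralizer {v}) := by
  rw [mul_assoc, ← Nat.card_prod, ← Nat.card_prod]
  refine Nat.card_le_card_of_injective
    (fun y : X × Y × R.Zh => (⟨f y.1 * g y.2.1 * y.2.2, ⟨⟨_, hf' _, _, hg' _, _, y.2.2.2, rfl⟩, ?_⟩⟩ :
      ↥(R.T ⊓ Subgroup.centralizer {v}))) ?_
  · change _ ∈ Subgroup.centralizer {v}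
    rw [Subgroup.mem_centralizer_singleton_iff]
    exact (((hfv y.1).mul_left (hgv y.2.1)).mul_left (R.Zh_T y.2.2.2 hv)).eq
  · rintro ⟨a, b, z⟩ ⟨a', b', z'⟩ h
    have h1 := R.inj (hf' a) (hg' b) z.2 (hf' a') (hg' b') z'.2 (Subtype.ext_iff.1 h)
    exact Prod.ext (hf h1.1) (Prod.ext (hg h1.2.1) (Subtype.ext h1.2.2))

theorem cent [Finite G] {v : G} (hv : v ∈ R.T) (h : v * v = 1) :
    Nat.card F ^ 6 ≤ Nat.card ↥(R.T ⊓ Subgroup.centralizer {v}) := by
  have hv0 := hv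
  obtain ⟨a, ha, b, hb, z, hz, e⟩ := hv
  have hZv : ∀ {g : G}, g ∈ R.Zh → Commute g v := fun hg => R.Zh_T hg hv0
  by_cases ha1 : a = 1
  · have h1 : ∀ x : R.lb.grp, Commute (x : G) v := by
      intro x
      rw [e, ha1, one_mul]
      exact (R.lb.comm x.2 hb).mul_right (R.Zh_b hz x.2).symm
    have h2 := R.cent_aux (X := Unit) (Y := R.lb.grp) (fun _ => 1) (fun x => x)
      (fun _ _ _ => rfl) Subtype.val_injective (fun _ => one_mem _) (fun x => x.2) hv0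
      (fun _ => Commute.one_left _) h1
    rw [R.lb.card_grp, R.card_Zh, Nat.card_unique (α := Unit), one_mul] at h2
    calc Nat.card F ^ 6 = Nat.card F ^ 2 * Nat.card F ^ 4 := by ring
      _ ≤ _ := h2
  by_cases hb1 : b = 1
  · have h1 : ∀ x : R.la.grp, Commute (x : G) v := by
      intro x
      rw [e, hb1, mul_one]
      exact (R.la.comm x.2 ha).mul_right (R.Zh_a hz x.2).symm
    have h2 := R.cent_aux (Y := Unit) (X := R.la.grp) (fun x => x) (fun _ => 1)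
      Subtype.val_injective (fun _ _ _ => rfl) (fun x => x.2) (fun _ => one_mem _) hv0
      h1 (fun _ => Commute.one_left _)
    rw [R.la.card_grp, R.card_Zh, Nat.card_unique (α := Unit), mul_one] at h2
    calc Nat.card F ^ 6 = Nat.card F ^ 2 * Nat.card F ^ 4 := by ring
      _ ≤ _ := h2
  -- `a` and `b` commute
  have hab : Commute a b := by
    have c1 := (R.Zh_T hz (mul_mem (R.a_le ha) (R.b_le hb))).eq
    have h1 : a * b * (a * b) = 1 := by
      rw [← h, e]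
      calc a * b * (a * b) = a * b * (a * b) * (z * z) := by rw [R.Zh_sq hz, mul_one]
        _ = a * b * ((a * b) * z) * z := by group
        _ = a * b * (z * (a * b)) * z := by rw [c1]
        _ = _ := by group
    have ia : a⁻¹ = a := inv_eq_of_mul_eq_one_right (R.la.sq ha)
    have ib : b⁻¹ = b := inv_eq_of_mul_eq_one_right (R.lb.sq hb)
    have h2 : a * b = (a * b)⁻¹ := (inv_eq_of_mul_eq_one_right h1).symm
    rw [commute_iff_eq, h2, mul_inv_rev, ia, ib]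
  have ha0 := ha
  have hb0 := hb
  obtain ⟨u, w, ea⟩ := ha
  obtain ⟨s, r, eb⟩ := hb
  have conja : ∀ x : F, Commute (R.pa (x * u) * B.xa (x * w)) b := by
    intro x
    by_cases hx : x = 0
    · rw [hx, zero_mul, zero_mul, ← R.la.one_form]; exact Commute.one_left _
    have h1 : B.h (Units.mk0 x hx) 1 * a = R.pa (x * u) * B.xa (x * w) * B.h (Units.mk0 x hx) 1 := by
      rw [ea, ← mul_assoc, R.h_pa, mul_assoc, B.h_xa, Units.val_mk0, ← mul_assoc]
    have h2 : B.h (Units.mk0 x hx) 1 * b = b * B.h (Units.mk0 x hx) 1 := by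
      rw [eb, ← mul_assoc, R.h_pb, mul_assoc, B.h_xb, Units.val_one, one_mul, one_mul, ← mul_assoc]
    have h3 : (R.pa (x * u) * B.xa (x * w) * b) * B.h (Units.mk0 x hx) 1 =
        (b * (R.pa (x * u) * B.xa (x * w))) * B.h (Units.mk0 x hx) 1 := by
      calc (R.pa (x * u) * B.xa (x * w) * b) * B.h (Units.mk0 x hx) 1
          = R.pa (x * u) * B.xa (x * w) * (b * B.h (Units.mk0 x hx) 1) := by group
        _ = (R.pa (x * u) * B.xa (x * w) * B.h (Units.mk0 x hx) 1) * b := by rw [← h2]; group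
        _ = B.h (Units.mk0 x hx) 1 * (a * b) := by rw [← h1]; group
        _ = (B.h (Units.mk0 x hx) 1 * b) * a := by rw [hab.eq]; group
        _ = b * (B.h (Units.mk0 x hx) 1 * a) := by rw [h2]; group
        _ = _ := by rw [h1]; group
    exact mul_right_cancel h3
  have conjb : ∀ x : F, Commute (R.pb (x * s) * B.xb (x * r)) a := by
    intro x
    by_cases hx : x = 0
    · rw [hx, zero_mul, zero_mul, ← R.lb.one_form]; exact Commute.one_left _
    have h1 : B.h 1 (Units.mk0 x hx) * b = R.pb (x * s) * B.xb (x * r) * B.h 1 (Units.mk0 x hx) := by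
      rw [eb, ← mul_assoc, R.h_pb, mul_assoc, B.h_xb, Units.val_mk0, ← mul_assoc]
    have h2 : B.h 1 (Units.mk0 x hx) * a = a * B.h 1 (Units.mk0 x hx) := by
      rw [ea, ← mul_assoc, R.h_pa, mul_assoc, B.h_xa, Units.val_one, one_mul, one_mul, ← mul_assoc]
    have h3 : (R.pb (x * s) * B.xb (x * r) * a) * B.h 1 (Units.mk0 x hx) =
        (a * (R.pb (x * s) * B.xb (x * r))) * B.h 1 (Units.mk0 x hx) := by
      calc (R.pb (x * s) * B.xb (x * r) * a) * B.h 1 (Units.mk0 x hx)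
          = R.pb (x * s) * B.xb (x * r) * (a * B.h 1 (Units.mk0 x hx)) := by group
        _ = (R.pb (x * s) * B.xb (x * r) * B.h 1 (Units.mk0 x hx)) * a := by rw [← h2]; group
        _ = B.h 1 (Units.mk0 x hx) * (b * a) := by rw [← h1]; group
        _ = (B.h 1 (Units.mk0 x hx) * a) * b := by rw [← hab.eq]; group
        _ = a * (B.h 1 (Units.mk0 x hx) * b) := by rw [h2]; group
        _ = _ := by rw [h1]; group
    exact mul_right_cancel h3
  have h2 := R.cent_aux (X := F) (Y := F) (v := v) (fun x => R.pa (x * u) * B.xa (x * w))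
    (fun x => R.pb (x * s) * B.xb (x * r)) ?_ ?_ (fun x => R.la.form_mem _ _) (fun x => R.lb.form_mem _ _) hv0
    (fun x => ?_) (fun x => ?_)
  · rw [R.card_Zh] at h2
    calc Nat.card F ^ 6 = Nat.card F * Nat.card F * Nat.card F ^ 4 := by ring
      _ ≤ _ := h2
  · intro x y hxy
    have h3 := R.la.inj hxy
    by_cases hu : u = 0
    · by_cases hw : w = 0
      · exact absurd (by rw [ea, hu, hw, ← R.la.one_form]) ha1
      · exact mul_right_cancel₀ hw h3.2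
    · exact mul_right_cancel₀ hu h3.1
  · intro x y hxy
    have h3 := R.lb.inj hxy
    by_cases hu : s = 0
    · by_cases hw : r = 0
      · exact absurd (by rw [eb, hu, hw, ← R.lb.one_form]) hb1
      · exact mul_right_cancel₀ hw h3.2
    · exact mul_right_cancel₀ hu h3.1
  · rw [e]
    exact ((R.la.comm (R.la.form_mem _ _) ha0).mul_right (conja x)).mul_right
      (R.Zh_a hz (R.la.form_mem _ _)).symm
  · rw [e]
    exact ((conjb x).mul_right (R.lb.comm (R.lb.form_mem _ _) hb0)).mul_right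
      (R.Zh_b hz (R.lb.form_mem _ _)).symm

theorem gen [Fintype F] (hF : 4 ≤ Fintype.card F) {N : Subgroup G} (hN : N.Normal)
    (h : ∀ α β, B.h α β ∈ N) : R.T ≤ N := by
  obtain ⟨ω, hω0, hω1⟩ := FieldAux.exists_ne hF
  set w := Units.mk0 ω hω0 with hw
  have hw1 : (w : F) ≠ 1 := hω1
  have h1 : R.la.grp ≤ N := R.la.le_normal (h w 1) hw1 (fun u => B.h_xa w 1 u) (fun u => R.h_pa w 1 u)
  have h2 : R.lb.grp ≤ N := R.lb.le_normal (h 1 w) hw1 (fun u => B.h_xb 1 w u) (fun u => R.h_pb 1 w u)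
  have h3 : R.ls.grp ≤ N := R.ls.le_normal (h w 1) hw1
    (fun u => by have := B.h_zs w 1 u; rwa [Units.val_one, mul_one] at this)
    (fun u => by have := R.h_ps w 1 u; rwa [Units.val_one, mul_one] at this)
  have h4 : R.ll.grp ≤ N := R.ll.le_normal (h 1 w) hw1
    (fun u => by have := B.h_zl 1 w u; rwa [Units.val_one, one_pow, one_mul] at this)
    (fun u => by have := R.h_pl 1 w u; rwa [Units.val_one, one_pow, one_mul] at this)
  rintro _ ⟨a, ha, b, hb, _, ⟨m, k, r, l, rfl⟩, rfl⟩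
  exact mul_mem (mul_mem (h1 ha) (h2 hb)) (mul_mem (h3 (R.ls.form_mem m k)) (h4 (R.ll.form_mem r l)))

end Sys

/-- The output of case (A). -/
structure Out (q : ℕ) (t : G) (T : Subgroup G) : Prop where
  card : Nat.card T = q ^ 8
  tt : t * t = 1
  t_norm : ∀ g ∈ T, t * g * t ∈ T
  t_notMem : t ∉ T
  class_two : ∀ x ∈ T, ∀ y ∈ T, ∀ z ∈ T, Commute ⁅x, y⁆ z
  nonab : ∃ x ∈ T, ∃ y ∈ T, x * y ≠ y * x
  cent : ∀ v ∈ T, v * v = 1 → q ^ 6 ≤ Nat.card ↥(T ⊓ Subgroup.centralizer {v})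
  inv : ∀ v ∈ T, t * v * (t * v) = 1 → ∃ w ∈ T, w * t * w⁻¹ = t * v

theorem Sys.out [Finite G] {B : Base F G} (R : Sys B) : Out (Nat.card F) B.t R.T where
  card := R.card_T
  tt := B.tt
  t_norm := fun _ hg => R.t_norm hg
  t_notMem := R.t_notMem
  class_two := fun _ hx _ hy _ hz => R.class_two hx hy hz
  nonab := R.nonab
  cent := fun _ hv h => R.cent hv h
  inv := fun _ hv h => R.inv_coset hv h

end EndA
end Cfsg.Agent.StdSpFour
end

-- part: StdSpFour/EndAInst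
section
/-!
S1778, type Sp₄(q), case (A): the relations of case (A) from the short and the long layer.
-/
set_option autoImplicit false
set_option linter.unusedSectionVars false

namespace Cfsg.Agent.StdSpFour
namespace EndA

variable {F G : Type*} [Field F] [CharP F 2] [Group G] {B : Base F G}

theorem prod_sq {G : Type*} [Group G] {a b : G} (h : Commute a b) (ha : a * a = 1) (hb : b * b = 1) :
    a * b * (a * b) = 1 := by
  calc a * b * (a * b) = a * (b * a) * b := by group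
    _ = a * a * (b * b) := by rw [← h.eq]; group
    _ = 1 := by rw [ha, hb, one_mul]

theorem kappa_zero {G : Type*} [Group G] {p y c : G} (h : p * y = c * (y * p)) (hc : Commute c p)
    (hp : p * p = 1) (hy : y * y = 1) (hpy : p * y * (p * y) = 1) : c = 1 := by
  have h1 : p * y * (p * y) = c⁻¹ := by
    have h2 : y * p = c⁻¹ * (p * y) := by rw [h]; group
    calc p * y * (p * y) = p * (y * p) * y := by group
      _ = (p * c⁻¹) * p * y * y := by rw [h2]; group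
      _ = c⁻¹ * (p * p) * (y * y) := by rw [← hc.inv_left.eq]; group
      _ = c⁻¹ := by rw [hp, hy, mul_one, mul_one]
  rw [hpy] at h1
  exact inv_eq_one.1 h1.symm

/-- The relations of case (A). -/
theorem exists_relA [Finite F] (hF : 4 ≤ Nat.card F) (hB : B.Self) (S : ShortLayer B) (L : LongLayer B)
    (hSe : S.e = 0) (hLe : L.e = 0) (hSc : S.c = 0) (hLc : L.c = 0) : Nonempty (RelA B) := by
  have ps_xa : ∀ m u, Commute (S.p m) (B.xa u) := by
    intro m u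
    have h := S.xa_p u m
    rw [hSe, zero_mul, zero_mul, B.zl_zero, mul_one] at h
    exact h.symm
  have pl_xb : ∀ m u, Commute (L.q m) (B.xb u) := by
    intro m u
    obtain ⟨r, rfl⟩ := FieldAux.exists_sq m
    obtain ⟨s, rfl⟩ := FieldAux.exists_sq u
    have h := L.xb_q s r
    rw [hLe, zero_mul, B.zs_zero, mul_one] at h
    exact h.symm
  have pa_zs : ∀ u m, Commute (Comm.p' S u) (B.zs m) := by
    intro u m
    have h := Comm.zs_p' S m u
    rw [hSe, zero_mul, zero_mul, B.zl_zero, mul_one] at h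
    exact h.symm
  have pb_zl : ∀ u m, Commute (Prime.q' L u) (B.zl m) := by
    intro u m
    obtain ⟨r, rfl⟩ := FieldAux.exists_sq u
    obtain ⟨s, rfl⟩ := FieldAux.exists_sq m
    have h := Prime.zl_q' L s r
    rw [hLe, zero_mul, B.zs_zero, mul_one] at h
    exact h.symm
  have ps_sq : ∀ u, S.p u * S.p u = 1 := fun u => by rw [S.p_sq, hSc, zero_mul, B.zs_zero]
  have pl_sq : ∀ u, L.q u * L.q u = 1 := fun u => by rw [L.q_sq, hLc, zero_mul, B.zl_zero]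
  have pa_sq : ∀ u, Comm.p' S u * Comm.p' S u = 1 := fun u => by
    rw [Comm.p'_sq, hSc, zero_mul, B.xa_zero]
  have pb_sq : ∀ u, Prime.q' L u * Prime.q' L u = 1 := fun u => by
    rw [Prime.q'_sq, hLc, zero_mul, B.xb_zero]
  have inj : ∀ {u s m r}, B.xa u * B.xb s * B.zs m * B.zl r = 1 → u = 0 ∧ s = 0 ∧ m = 0 ∧ r = 0 :=
    fun h => B.inj _ _ _ _ h
  have la : Lay B.t B.xa (Comm.p' S) :=
    { x_add := B.xa_add
      x_inj := fun u h => (inj (u := u) (s := 0) (m := 0) (r := 0)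
        (by rw [h, B.xb_zero, B.zs_zero, B.zl_zero, one_mul, one_mul, one_mul])).1
      t_x := B.t_xa
      p_zero := Comm.p'_zero S
      t_p := Comm.t_p' S
      p_sq := pa_sq
      p_add := Comm.p'_add S
      p_x := Comm.p'_xa S }
  have lb : Lay B.t B.xb (Prime.q' L) :=
    { x_add := B.xb_add
      x_inj := fun u h => (inj (u := 0) (s := u) (m := 0) (r := 0)
        (by rw [h, B.xa_zero, B.zs_zero, B.zl_zero, one_mul, one_mul, one_mul])).2.1
      t_x := B.t_xb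
      p_zero := Prime.q'_zero L
      t_p := Prime.t_q' L
      p_sq := pb_sq
      p_add := Prime.q'_add L
      p_x := Prime.q'_xb L }
  have ls : Lay B.t B.zs S.p :=
    { x_add := B.zs_add
      x_inj := fun u h => (inj (u := 0) (s := 0) (m := u) (r := 0)
        (by rw [h, B.xa_zero, B.xb_zero, B.zl_zero, one_mul, one_mul, one_mul])).2.2.1
      t_x := B.t_zs
      p_zero := S.p_zero
      t_p := S.t_p
      p_sq := ps_sq
      p_add := S.p_add
      p_x := S.p_zs }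
  have ll : Lay B.t B.zl L.q :=
    { x_add := B.zl_add
      x_inj := fun u h => (inj (u := 0) (s := 0) (m := 0) (r := u)
        (by rw [h, B.xa_zero, B.xb_zero, B.zs_zero, one_mul, one_mul, one_mul])).2.2.2
      t_x := B.t_zl
      p_zero := L.q_zero
      t_p := L.t_q
      p_sq := pl_sq
      p_add := L.q_add
      p_x := L.q_zl }
  have ps_pl : ∀ m r, Commute (S.p m) (L.q r) := Prime.p_q hF hB S L
  have pa_pl : ∀ u m, Commute (Comm.p' S u) (L.q m) := Prime.p'_q hF hB S L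
  have pb_ps : ∀ u m, Commute (Prime.q' L u) (S.p m) := Prime.q'_p hF hB S L
  -- the elements `p q z_s z_l`
  have y_sq : ∀ m r k l, S.p m * L.q r * (B.zs k * B.zl l) * (S.p m * L.q r * (B.zs k * B.zl l)) = 1 := by
    intro m r k l
    have c1 : Commute (S.p m * L.q r) (B.zs k * B.zl l) :=
      ((S.p_zs m k).mul_right (S.p_zl m l)).mul_left ((L.q_zs r k).mul_right (L.q_zl r l))
    exact prod_sq c1 (prod_sq (ps_pl m r) (ps_sq m) (pl_sq r)) (prod_sq (B.zs_zl k l) (B.zs_zs k) (B.zl_zl' l))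
  have y_form : ∀ m r k l, S.p m * L.q r * (B.zs k * B.zl l) = S.p m * B.zs k * (L.q r * B.zl l) := by
    intro m r k l
    calc S.p m * L.q r * (B.zs k * B.zl l) = S.p m * (L.q r * B.zs k) * B.zl l := by group
      _ = _ := by rw [(L.q_zs r k).eq]; group
  -- `κ = 0`
  have pa_ps : ∀ u m, Commute (Comm.p' S u) (S.p m) := by
    obtain ⟨κ, hκ⟩ := Prime.p'_p hF hB S
    obtain ⟨ε, ε', hx⟩ := Prime.p'_xb hF hB S L
    have h1 := hx 1 1
    simp only [hSe, add_zero, one_pow, mul_one] at h1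
    have h2 : Comm.p' S 1 * (S.p 1 * L.q 1 * (B.zs ε * B.zl ε')) *
        (Comm.p' S 1 * (S.p 1 * L.q 1 * (B.zs ε * B.zl ε'))) = 1 := by
      rw [← h1]
      calc (B.xb 1)⁻¹ * Comm.p' S 1 * B.xb 1 * ((B.xb 1)⁻¹ * Comm.p' S 1 * B.xb 1)
          = (B.xb 1)⁻¹ * (Comm.p' S 1 * Comm.p' S 1) * B.xb 1 := by group
        _ = 1 := by rw [pa_sq, mul_one, inv_mul_cancel]
    have h3 : Comm.p' S 1 * (S.p 1 * L.q 1 * (B.zs ε * B.zl ε')) =
        B.zl κ * ((S.p 1 * L.q 1 * (B.zs ε * B.zl ε')) * Comm.p' S 1) := by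
      have h4 := hκ 1 1
      rw [mul_one, mul_one] at h4
      have c1 : Commute (Comm.p' S 1) (L.q 1 * (B.zs ε * B.zl ε')) :=
        (pa_pl 1 1).mul_right ((pa_zs 1 ε).mul_right (Comm.p'_zl S 1 ε'))
      calc Comm.p' S 1 * (S.p 1 * L.q 1 * (B.zs ε * B.zl ε'))
          = (Comm.p' S 1 * S.p 1) * (L.q 1 * (B.zs ε * B.zl ε')) := by group
        _ = B.zl κ * S.p 1 * (Comm.p' S 1 * (L.q 1 * (B.zs ε * B.zl ε'))) := by rw [h4]; group
        _ = _ := by rw [c1.eq]; group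
    have h5 : B.zl κ = 1 := kappa_zero h3 (Comm.p'_zl S 1 κ).symm (pa_sq 1) (y_sq _ _ _ _) h2
    have hk : κ = 0 := ll.x_inj _ h5
    intro u m
    have h6 := hκ u m
    rw [hk, zero_mul, B.zl_zero, one_mul] at h6
    exact h6
  have pb_pl : ∀ u m, Commute (Prime.q' L u) (L.q m) := by
    obtain ⟨κ, hκ⟩ := Prime.q'_q hF hB L
    obtain ⟨ε, η, hx⟩ := Prime.q'_xa hF hB S L
    have h1 := hx 1 1
    simp only [hLe, add_zero, one_pow, mul_one] at h1
    have c0 : L.q 1 * S.p 1 * (B.zl ε * B.zs η) = S.p 1 * L.q 1 * (B.zs η * B.zl ε) := by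
      rw [← (ps_pl 1 1).eq, (B.zs_zl η ε).eq]
    rw [c0] at h1
    have h2 : Prime.q' L 1 * (S.p 1 * L.q 1 * (B.zs η * B.zl ε)) *
        (Prime.q' L 1 * (S.p 1 * L.q 1 * (B.zs η * B.zl ε))) = 1 := by
      rw [← h1]
      calc (B.xa 1)⁻¹ * Prime.q' L 1 * B.xa 1 * ((B.xa 1)⁻¹ * Prime.q' L 1 * B.xa 1)
          = (B.xa 1)⁻¹ * (Prime.q' L 1 * Prime.q' L 1) * B.xa 1 := by group
        _ = 1 := by rw [pb_sq, mul_one, inv_mul_cancel]
    have h3 : Prime.q' L 1 * (S.p 1 * L.q 1 * (B.zs η * B.zl ε)) =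
        B.zs κ * ((S.p 1 * L.q 1 * (B.zs η * B.zl ε)) * Prime.q' L 1) := by
      have h4 := hκ 1 1
      rw [mul_one, mul_one, one_pow] at h4
      have c1 : Commute (Prime.q' L 1) (B.zs η * B.zl ε) :=
        (Prime.q'_zs L 1 η).mul_right (pb_zl 1 ε)
      have c2 : Commute (B.zs κ) (S.p 1) := (S.p_zs 1 κ).symm
      calc Prime.q' L 1 * (S.p 1 * L.q 1 * (B.zs η * B.zl ε))
          = (Prime.q' L 1 * S.p 1) * L.q 1 * (B.zs η * B.zl ε) := by group
        _ = S.p 1 * (Prime.q' L 1 * L.q 1) * (B.zs η * B.zl ε) := by rw [(pb_ps 1 1).eq]; group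
        _ = (S.p 1 * B.zs κ) * L.q 1 * (Prime.q' L 1 * (B.zs η * B.zl ε)) := by rw [h4]; group
        _ = _ := by rw [c1.eq, ← c2.eq]; group
    have h5 : B.zs κ = 1 := kappa_zero h3 (Prime.q'_zs L 1 κ).symm (pb_sq 1) (y_sq _ _ _ _) h2
    have hk : κ = 0 := ls.x_inj _ h5
    intro u m
    obtain ⟨r, rfl⟩ := FieldAux.exists_sq m
    obtain ⟨s, rfl⟩ := FieldAux.exists_sq u
    have h6 := hκ s r
    rw [hk, zero_mul, B.zs_zero, one_mul] at h6
    exact h6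
  refine ⟨{
    pa := Comm.p' S
    pb := Prime.q' L
    ps := S.p
    pl := L.q
    la := la
    lb := lb
    ls := ls
    ll := ll
    ps_xa := ps_xa
    ps_xb := S.p_xb
    ps_zl := S.p_zl
    pl_xa := L.q_xa
    pl_xb := pl_xb
    pl_zs := L.q_zs
    ps_pl := ps_pl
    pa_zs := pa_zs
    pa_zl := Comm.p'_zl S
    pb_zs := Prime.q'_zs L
    pb_zl := pb_zl
    pa_ps := pa_ps
    pa_pl := pa_pl
    pb_ps := pb_ps
    pb_pl := pb_pl
    pa_xb := ?_
    xa_pb := ?_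
    h_pa := Comm.h_p' S
    h_pb := Prime.h_q' L
    h_ps := S.h_p
    h_pl := L.h_q }⟩
  · obtain ⟨ε, ε', hx⟩ := Prime.p'_xb hF hB S L
    intro u s
    refine ⟨ε * (u * s), ε' * (u ^ 2 * s), ?_⟩
    have h1 := hx u s
    rw [hSe, add_zero, one_mul, y_form] at h1
    rw [mul_assoc (B.xb s), ← h1]
    group
  · obtain ⟨ε, η, hx⟩ := Prime.q'_xa hF hB S L
    intro u s
    refine ⟨η * (u * s), ε * (u ^ 2 * s), ?_⟩
    have h1 := hx s u
    have c0 : L.q (u ^ 2 * s) * S.p (u * s) * (B.zl (ε * (u ^ 2 * s)) * B.zs (η * (u * s))) =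
        S.p (u * s) * L.q (u ^ 2 * s) * (B.zs (η * (u * s)) * B.zl (ε * (u ^ 2 * s))) := by
      rw [← (ps_pl _ _).eq, (B.zs_zl _ _).eq]
    rw [hLe, add_zero, one_mul, c0] at h1
    have h2 := y_sq (u * s) (u ^ 2 * s) (η * (u * s)) (ε * (u ^ 2 * s))
    rw [← y_form]
    set y := S.p (u * s) * L.q (u ^ 2 * s) * (B.zs (η * (u * s)) * B.zl (ε * (u ^ 2 * s)))
    have h3 : Prime.q' L s * B.xa u = B.xa u * Prime.q' L s * y := by
      rw [mul_assoc (B.xa u), ← h1]; group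
    rw [h3, mul_assoc _ y y, h2, mul_one]

/-- **Case (A), abstract form**: the group `T` of order `q⁸`. -/
theorem exists_out [Finite F] [Finite G] (hF : 4 ≤ Nat.card F) (hB : B.Self) (S : ShortLayer B) (L : LongLayer B)
    (hSe : S.e = 0) (hLe : L.e = 0) (hSc : S.c = 0) (hLc : L.c = 0) :
    ∃ T : Subgroup G, Out (Nat.card F) B.t T ∧ ∀ N : Subgroup G, N.Normal → (∀ α β, B.h α β ∈ N) → T ≤ N := by
  obtain ⟨R⟩ := exists_relA hF hB S L hSe hLe hSc hLc
  have := Fintype.ofFinite F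
  have hF' : 4 ≤ Fintype.card F := by rwa [← Nat.card_eq_fintype_card]
  let R' : Sys B := { toRelA := R, ab := R.pa_pb hB hF' }
  exact ⟨R'.T, R'.out, fun N hN h => R'.gen hF' hN h⟩

end EndA
end Cfsg.Agent.StdSpFour
end

private theorem dce_4be95b25e62e : _root_.True := by
  try have : _root_.True := by simp only [_root_.Cfsg.Agent.StdSpFour.UFive.Env.X7.eq_1]
  try have : _root_.True := by simp only [_root_.Cfsg.Agent.StdSpFour.CaseC.bE.eq_1]
  try have : _root_.True := by simp only [_root_.Cfsg.Agent.StdSpFour.EndA.RelA.Zh.congr_simp]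
  try have : _root_.True := by simp only [_root_.Cfsg.Agent.StdSpFour.UFiveModel.T5.oned.congr_simp]
  try have : _root_.True := by simp only [_root_.Cfsg.Agent.StdSpFour.CaseC.bE.congr_simp]
  try have : _root_.True := by simp only [_root_.Cfsg.Agent.StdSpFour.UFour.Env.D.eq_1]
  try have : _root_.True := by simp only [_root_.Cfsg.Agent.StdSpFour.UFive.Env.Kb.eq_1]
  try have : _root_.True := by simp only [_root_.Cfsg.Agent.StdSpFour.UFive.Env.D.eq_1]
  try have : _root_.True := by simp only [_root_.Cfsg.Agent.StdSpFour.UFive.Env.D'.eq_1]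
  try have : _root_.True := by simp only [_root_.Cfsg.Agent.StdSpFour.UFive.hh.eq_1]
  exact _root_.True.intro
end

-- part: StdSpFour/MainA
section
prune_inst 0x400300020012202000000001640001c02920000000008040004a1010204804e0008020820882025014002080400340060034400400000000004000000011c01800008000c1040000000008e000004000000000000000000000000000000000000000000000
set_option linter.all false
open scoped Cfsg.Agent.FastGrp

-- part: StdSpFour/SpStart
section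
/-!
# Type `Sp₄(q)`, `q ≥ 4` even: the start

`JG S t = ⟨t⟩ U`, `WG S = V_I ∩ V_J = Z(U)` as subgroups of `G`.
`data`: `StepFour.Data`; `hyp`: `|R| = 2`; `exists_mover`: an element of `N(T)` with `t ^ g = t v`, `v ∈ WG S`;
`weakX`: `JG` is weakly closed in `X = XQ A t`.
-/

set_option autoImplicit false
set_option linter.unusedSectionVars false
set_option linter.dupNamespace false

namespace Cfsg.Agent.StdSpFour.SpStart

open Subgroup Cfsg.Agent.SignalizersComponents Cfsg.Agent.StdEven.Syl Cfsg.Agent.StdEven.Loc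
open Cfsg.Agent.StdEven.StepFour Cfsg.Agent.StdEven.CoreQuot Cfsg.Agent.StdL2.Setup
open Cfsg.Agent.TitsThree.B2Pkg Cfsg.Agent.TitsThree.RankTwoIdentB2
  Cfsg.Agent.TitsThree.CoreB2 Cfsg.Agent.TitsThree.RankTwoIdx Cfsg.Agent.TitsThree.RankTwoRGD
  Cfsg.Agent.TitsThree.StdData
open Cfsg.Agent.StdRank2 Cfsg.Agent.StdRank2.OddLift Cfsg.Agent.StdRank2.B2Lift Cfsg.Agent.StdRank2.B2Std
  Cfsg.Agent.StdRank2.B2Torus Cfsg.Agent.StdRank2.B2Act Cfsg.Agent.StdRank2.B2Act.Std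
  Cfsg.Agent.StdRank2.B2Par Cfsg.Agent.StdRank2.B2Par.Std Cfsg.Agent.StdRank2.B2Self
  Cfsg.Agent.StdRank2.OutB2G Cfsg.Agent.StdRank2.OutB2Decomp
  Cfsg.Agent.StdRank2.SpFrame Cfsg.Agent.StdRank2.SpSelf Cfsg.Agent.StdRank2.SpData
open Cfsg.Agent.Schreier.Basic

universe u

variable {G : Type u} [Group G] [Finite G] {L A : Subgroup G} {t : G} {T : Subgroup G}
  {F : Type*} [Field F] [Finite F] [CharP F 2]

/-- `J = ⟨t⟩ U`. -/
def JG (S : Std (stdSp F) ↥A) (t : G) : Subgroup G := S.U.map A.subtype ⊔ zpowers t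

/-- `W = V_I ∩ V_J = Z(U)`. -/
noncomputable def WG (S : Std (stdSp F) ↥A) : Subgroup G := (S.VI ⊓ S.VJ).map A.subtype

variable {S : Std (stdSp F) ↥A} (h : Sit L A t T S)
include h

theorem W_eq : W S = WG S := by
  ext x
  rw [h.mem_W]
  constructor
  · rintro ⟨b, c, rfl⟩
    exact ⟨_, (SpSelf.mem_inf S).2 ⟨b, c, rfl⟩, rfl⟩
  · rintro ⟨v, hv, rfl⟩
    obtain ⟨b, c, rfl⟩ := (SpSelf.mem_inf S).1 hv
    exact ⟨b, c, rfl⟩

/-- **The data of `StepFour`.** -/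
theorem data : Data A t T (JG S t) (WG S) := by
  have h1 := h.data
  rw [W_eq h] at h1
  exact h1

theorem mem_JG {x : G} : x ∈ JG S t ↔ x ∈ UG S ∨ t * x ∈ UG S := h.mem_J

/-- An involution of `W`. -/
theorem invol : ((S.m.z₁ (SpFrame.tt 1) : ↥A) : G) ∈ A ∧ ((S.m.z₁ (SpFrame.tt 1) : ↥A) : G) ≠ 1 ∧
    ((S.m.z₁ (SpFrame.tt 1) : ↥A) : G) * ((S.m.z₁ (SpFrame.tt 1) : ↥A) : G) = 1 := by
  refine ⟨(S.m.z₁ (SpFrame.tt 1)).2, ?_, ?_⟩
  · intro h1
    have h2 : (S.m.z₁ (SpFrame.tt 1) : ↥A) = 1 := Subtype.ext h1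
    rw [z₁_eq_nf S.rel, ← nf_one S.rel, tt_one] at h2
    have h3 := (nf_inj_sp S h2).2.1
    exact one_ne_zero h3
  · have h1 : S.m.z₁ (SpFrame.tt 1) * S.m.z₁ (SpFrame.tt 1) = 1 := by
      rw [← S.rel.z₁_mul, tt_mul, CharTwo.add_self_eq_zero, ← tt_one]
      exact mul_one' S.rel.z₁_mul
    exact congrArg Subtype.val h1

/-- Elements of `T` centralising `U` are in `W C(A)`. -/
theorem of_cent {x : G} (hx : x ∈ T) (hc : ∀ v ∈ UG S, x * v = v * x) :
    ∃ v ∈ WG S, v⁻¹ * x ∈ centralizer (A : Set G) := by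
  have hs := h.simple
  have hxN := h.isT.syl.le hx
  have hfix : ∀ v : ↥A, v ∈ S.U → ac A ⟨x, hxN⟩ (QuotientGroup.mk v) = QuotientGroup.mk v := by
    intro v hv
    rw [ac_mk]
    congr 1
    apply Subtype.ext
    show x * (v : G) * x⁻¹ = v
    have h1 : x * (v : G) = v * x := hc _ ⟨v, hv, rfl⟩
    rw [h1, mul_inv_cancel_right]
  obtain ⟨lam, h0, h1⟩ := h.exists_ne
  obtain ⟨u, hu, e⟩ := inner_of_Z (quotStd h.hZ S) (lam_Sp h0 h1) (center_eq_bot (quotStd h.hZ S))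
    (φ := ac A ⟨x, hxN⟩) (fun b => hfix _ (y_mem b)) (fun c => hfix _ (_root_.Cfsg.Agent.StdRank2.B2Std.z₁_mem (SpFrame.tt c)))
  obtain ⟨v, hv, hvx⟩ := h.exists_of_inner hx hu e
  refine ⟨v, ?_, hvx⟩
  rw [← W_eq h]
  refine mem_inf.mpr ⟨hv, ?_⟩
  rw [mem_centralizer_iff]
  intro y hy
  have h1 := comm_of_centralizer hvx (UG_le S hy)
  have h2 := hc y hy
  calc y * v = x * (x⁻¹ * (y * x)) * x⁻¹ * v := by group
    _ = x * y * (v⁻¹ * x)⁻¹ := by rw [← h2]; group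
    _ = v * ((v⁻¹ * x) * y) * (v⁻¹ * x)⁻¹ := by group
    _ = v * y := by rw [h1]; group

/-- **`|R| = 2`.** -/
theorem hyp (hS : Sch ↥A) (hO : Outer A t T) : Hyp A t T where
  std := h.conf.std
  ht := h.conf.ht
  htA := h.conf.htA
  hZ := h.hZ
  isT := h.isT
  R := by
    intro r hr hrK
    obtain ⟨i1, i2, i3⟩ := invol h
    refine (data h).R_eq h.conf h.hZ hS hO i1 i2 i3 (X := T ⊓ centralizer (JG S t : Set G)) ?_ ?_ ?_ hr hrK
    · intro r hr hrK
      refine mem_inf.mpr ⟨hr, ?_⟩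
      rw [mem_centralizer_iff]
      intro j hj
      rcases (mem_JG h).mp hj with h1 | h1
      · exact (comm_of_centralizer hrK (UG_le S h1)).symm
      · have h2 := comm_of_centralizer hrK (UG_le S h1)
        have h3 := h.isT.cent r hr
        have h4 : t * (j * r) = t * (r * j) := by
          calc t * (j * r) = r * (t * j) := by rw [h2]; group
            _ = (r * t) * j := by group
            _ = t * (r * j) := by rw [h3]; group
        exact mul_left_cancel h4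
    · intro x hx
      obtain ⟨v, hv, hvx⟩ := of_cent h hx.1 (fun v hv => comm_of_centralizer hx.2
        ((mem_JG h).mpr (Or.inl hv)))
      have hvT : v ∈ T := (data h).J_le ((data h).W_J hv)
      exact ⟨v, (data h).W_A hv, (data h).W_two v hv, v⁻¹ * x, mul_mem (inv_mem hvT) hx.1, hvx, by group⟩
    · intro g hg x hx
      have hgJ := (data h).normalizer_T_le hg
      exact mem_inf.mpr ⟨conj_mem_of_mem_normalizer hg hx.1,
        conj_mem_of_mem_normalizer (normalizer_le_normalizer_centralizer _ hgJ) hx.2⟩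

/-- **The mover**: a 2-element of `N(T)` mapping `t` to `t v`. -/
theorem exists_mover (hS : Sch ↥A) (hO : Outer A t T) :
    ∃ g ∈ normalizer (T : Set G), g ∈ normalizer (JG S t : Set G) ∧ (∃ k : ℕ, g ^ 2 ^ k = 1) ∧
      ∃ v ∈ WG S, v ≠ 1 ∧ (∀ x ∈ T, x * v = v * x) ∧ g * t * g⁻¹ = t * v := by
  obtain ⟨i1, i2, i3⟩ := invol h
  have h1 := (data h).not_syl h.conf h.hZ hS hO i1 i2 i3
  obtain ⟨g, hg, hk, hv⟩ := (data h).exists_normalizer h.conf h1
  exact ⟨g, hg, (data h).normalizer_T_le hg, hk, hv⟩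

end Cfsg.Agent.StdSpFour.SpStart
end

-- part: StdRank2/OutSpOuter
section
/-!
# `StepFour.Outer` for type `Sp₄(q)`
-/

set_option autoImplicit false
set_option linter.unusedSectionVars false

namespace Cfsg.Agent.StdRank2.OutSpOuter

open Subgroup
open scoped commutatorElement
open Cfsg.Agent.TitsThree.B2Pkg Cfsg.Agent.TitsThree.RankTwoIdentB2
  Cfsg.Agent.TitsThree.CoreB2 Cfsg.Agent.TitsThree.RankTwoIdx Cfsg.Agent.TitsThree.RankTwoRGD
  Cfsg.Agent.TitsThree.StdData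
open Cfsg.Agent.StdRank2.OddLift Cfsg.Agent.StdRank2.B2Lift Cfsg.Agent.StdRank2.B2Std
  Cfsg.Agent.StdRank2.B2Torus Cfsg.Agent.StdRank2.B2Act Cfsg.Agent.StdRank2.B2Act.Std
  Cfsg.Agent.StdRank2.B2Par Cfsg.Agent.StdRank2.B2Par.Std Cfsg.Agent.StdRank2.B2Self
  Cfsg.Agent.StdRank2.OutB2Par Cfsg.Agent.StdRank2.OutB2G Cfsg.Agent.StdRank2.OutL3Outer
  Cfsg.Agent.StdRank2.OutB2Grade Cfsg.Agent.StdRank2.OutB2Aut Cfsg.Agent.StdRank2.OutB2Tw
  Cfsg.Agent.StdRank2.OutB2Data Cfsg.Agent.StdRank2.OutB2Decomp Cfsg.Agent.StdRank2.OutB2Inv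
  Cfsg.Agent.StdRank2.OutField Cfsg.Agent.StdRank2.OutB2Good Cfsg.Agent.StdRank2.OutB2Ident
  Cfsg.Agent.StdRank2.OutSpGraph Cfsg.Agent.StdRank2.OutSpG Cfsg.Agent.StdRank2.OutSpInv
  Cfsg.Agent.StdRank2.OutB2Outer

universe u

variable {F : Type*} [Field F] [Finite F] [CharP F 2] {G : Type u} [Group G] [Finite G] {A : Subgroup G}
  {S : Std (stdSp F) ↥A}

/-- **Involutions of an adapted 2-group, `Sp₄`.** -/
theorem involSp (hZ : Odd (Nat.card (center ↥A))) {T : Subgroup G} (had : AdaptedSp S T) {f : G} (hf : f ∈ T)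
    (hff : f * f = 1) :
    (∃ v ∈ UG S, v⁻¹ * f ∈ centralizer (A : Set G)) ∨
      (∃ v ∈ UG S, ∃ ρ : F ≃+* F, ρ ≠ 1 ∧ ρ * ρ = 1 ∧ Fld nSp S (v⁻¹ * f) ρ ∧ v⁻¹ * f * (v⁻¹ * f) = 1) ∨
      ∃ v ∈ UG S, ∃ ρ : F ≃+* F, frob F * ρ * ρ = 1 ∧ Gr S (v⁻¹ * f) ρ ∧ v⁻¹ * f * (v⁻¹ * f) = 1 := by
  have hf' : f⁻¹ = f := inv_eq_of_mul_eq_one_left hff
  have hkey : ∀ u : G, u * f * (u * f) = u * (u⁻¹ * (u * f * u * (u * f)⁻¹) * u) := by
    intro u
    have : u * f * (u * f) = u * (f * u * f) := by group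
    rw [this]
    congr 1
    rw [mul_inv_rev, hf']
    group
  obtain ⟨u, hu, ρ, ⟨-, h⟩ | ⟨-, h⟩⟩ := had f hf
  · have h2 := fld_mul h h
    have hmem : u * f * (u * f) ∈ UG S := by
      rw [hkey]
      exact mul_mem hu (mul_mem (mul_mem (inv_mem hu) (fld_norm h hu)) hu)
    obtain ⟨h3, h4⟩ := eq_one_of_fld hZ hmem h2
    by_cases h1 : ρ = 1
    · left
      subst h1
      exact ⟨u⁻¹, inv_mem hu, by rw [inv_inv]; exact fld_cent h⟩
    · right; left
      exact ⟨u⁻¹, inv_mem hu, ρ, h1, h4, by rw [inv_inv]; exact h, by rw [inv_inv]; exact h3⟩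
  · have h2 := gr_mul h
    have hmem : u * f * (u * f) ∈ UG S := by
      rw [hkey]
      exact mul_mem hu (mul_mem (mul_mem (inv_mem hu) (gr_norm h hu)) hu)
    obtain ⟨h3, h4⟩ := eq_one_of_fld hZ hmem h2
    right; right
    exact ⟨u⁻¹, inv_mem hu, ρ, h4, by rw [inv_inv]; exact h, by rw [inv_inv]; exact h3⟩

/-- **`Good` for outer involutions, `Sp₄`.** -/
theorem good_Sp (hF : 3 ≤ Nat.card F) (hZ : Odd (Nat.card (center ↥A))) {T : Subgroup G} (had : AdaptedSp S T)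
    {f : G} (hfT : f ∈ T) (hff : f * f = 1) (hout : ¬ ∃ a ∈ A, a⁻¹ * f ∈ centralizer (A : Set G)) : Good f := by
  rcases involSp hZ had hfT hff with ⟨v, hv, h⟩ | ⟨v, hv, ρ, h1, h2, h, hvv⟩ | ⟨v, hv, ρ, h2, h, hvv⟩
  · exact absurd ⟨v, UG_le S hv, h⟩ hout
  · have hH := H1_sp h1 h2
    have hfe : v * (v⁻¹ * f) = f := by group
    obtain ⟨w, hw, e⟩ := conj_of_H1 h1 h2 h hvv hH hv (by rw [hfe]; exact hff)
    rw [hfe] at e
    refine Good.conj w ?_
    rw [e]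
    exact good_H1 (tySp.{u} hF).gd h1 h2 h hvv hH
  · have hfe : v * (v⁻¹ * f) = f := by group
    obtain ⟨w, hw, e⟩ := conj_gr h hvv hv (by rw [hfe]; exact hff)
    rw [hfe] at e
    refine Good.conj w ?_
    rw [e]
    exact good_gr h hvv hF h2

/-- **`StepFour.Outer` for type `Sp₄`.** -/
theorem outer_Sp (hF : 3 ≤ Nat.card F) (hZ : Odd (Nat.card (center ↥A))) {T : Subgroup G} (had : AdaptedSp S T)
    (t : G) : StdEven.StepFour.Outer A t T := fun _ hfT hff hout _ => good_Sp hF hZ had hfT hff hout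

end Cfsg.Agent.StdRank2.OutSpOuter
end

-- part: StdSpFour/SpOuter
section
/-!
# Type `Sp₄(q)`, `q ≥ 4` even: the start without the hypothesis `Outer`
-/

set_option autoImplicit false
set_option linter.unusedSectionVars false
set_option linter.dupNamespace false

namespace Cfsg.Agent.StdSpFour.SpStart

open Subgroup Cfsg.Agent.SignalizersComponents Cfsg.Agent.StdEven.Syl Cfsg.Agent.StdEven.Loc
open Cfsg.Agent.StdEven.StepFour Cfsg.Agent.StdEven.CoreQuot Cfsg.Agent.StdL2.Setup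
open Cfsg.Agent.StdRank2 Cfsg.Agent.StdRank2.OddLift Cfsg.Agent.StdRank2.B2Lift Cfsg.Agent.StdRank2.B2Std
  Cfsg.Agent.StdRank2.OutB2G Cfsg.Agent.StdRank2.SpFrame Cfsg.Agent.StdRank2.SpSelf
  Cfsg.Agent.StdRank2.SpData Cfsg.Agent.StdRank2.OutSpG Cfsg.Agent.StdRank2.OutSpOuter
open Cfsg.Agent.TitsThree.B2Pkg Cfsg.Agent.TitsThree.RankTwoIdentB2
  Cfsg.Agent.TitsThree.CoreB2 Cfsg.Agent.TitsThree.RankTwoIdx Cfsg.Agent.TitsThree.RankTwoRGD
  Cfsg.Agent.TitsThree.StdData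
open Cfsg.Agent.Schreier.Basic

universe u

variable {G : Type u} [Group G] [Finite G] {L A : Subgroup G} {t : G} {T : Subgroup G}
  {F : Type*} [Field F] [Finite F] [CharP F 2] {S : Std (stdSp F) ↥A} (h : Sit L A t T S)
include h

/-- **`Outer`.** -/
theorem outer : Outer A t T := by
  have hs := h.simple
  have h3 : 3 ≤ Nat.card F := by have := h.four; omega
  obtain ⟨c, hc⟩ := exists_adaptedSp h.hZ S h3 T h.isT.syl.two h.isT.syl.le fun y hy u hu => h.T_norm hy hu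
  exact outer_Sp h3 h.hZ hc t

/-- **`|R| = 2`.** -/
theorem hyp' (hS : Sch ↥A) : Hyp A t T := hyp h hS (outer h)

/-- **The mover.** -/
theorem exists_mover' (hS : Sch ↥A) :
    ∃ g ∈ normalizer (T : Set G), g ∈ normalizer (JG S t : Set G) ∧ (∃ k : ℕ, g ^ 2 ^ k = 1) ∧
      ∃ v ∈ WG S, v ≠ 1 ∧ (∀ x ∈ T, x * v = v * x) ∧ g * t * g⁻¹ = t * v :=
  exists_mover h hS (outer h)

end Cfsg.Agent.StdSpFour.SpStart
end

-- part: StdSpFour/AdaptC
section
/-!
# Type `Sp₄`, both layers: an element of `T` of graph type interchanges the layers, so `e = e'`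
-/

set_option autoImplicit false
set_option linter.unusedSectionVars false

namespace Cfsg.Agent.StdSpFour.AdaptC

open Subgroup
open Cfsg.Agent.StdSpFour Cfsg.Agent.StdSpFour.Env Cfsg.Agent.StdSpFour.Comm Cfsg.Agent.StdSpFour.Bridge

section X

variable {F G : Type*} [Field F] [CharP F 2] [Group G] {B : Base F G}

/-- a graph element interchanges the layers -/
theorem e_eq (hB : B.Self) (S : ShortLayer B) (L : LongLayer B) {w : G} {ρ : F ≃+* F} (ht : w * B.t = B.t * w)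
    (h1 : ∀ u, w * B.xa u = B.xb (ρ u * ρ u) * w) (h2 : ∀ r, w * B.xb r = B.xa (ρ r) * w)
    (h3 : ∀ u, w * B.zs u = B.zl (ρ u * ρ u) * w) (h4 : ∀ r, w * B.zl r = B.zs (ρ r) * w)
    (hsq : ∀ a : F, ∃ b, b * b = a) : ρ S.e = L.e := by
  set! P := w * S.p 1 * w⁻¹ with hP
  set! q := L.q 1 with hq
  have hρ1 : ρ 1 * ρ 1 = (1 : F) := by rw [map_one, one_mul]
  have wz : w * B.zs 1 = B.zl 1 * w := by rw [h3, hρ1]
  have tP : B.t * P = P * (B.t * B.zl 1) := by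
    calc B.t * P = (B.t * w) * S.p 1 * w⁻¹ := by rw [hP]; group
      _ = w * (B.t * S.p 1) * w⁻¹ := by rw [← ht]; group
      _ = w * S.p 1 * B.t * B.zs 1 * w⁻¹ := by rw [S.t_p]; group
      _ = w * S.p 1 * w⁻¹ * (w * B.t) * w⁻¹ * (w * B.zs 1) * w⁻¹ := by group
      _ = P * B.t * B.zl 1 := by rw [ht, wz, hP]; group
      _ = _ := by group
  have tq : B.t * q = q * (B.t * B.zl 1) := by rw [hq, L.t_q, mul_assoc]
  have gt : Commute (P * q⁻¹) B.t := CaseBFld.comm_quot tP tq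
  have conj : ∀ x y, w * x = y * w → Commute (S.p 1) x → Commute P y := by
    intro x y e h
    have e1 : y = w * x * w⁻¹ := by rw [e, mul_inv_cancel_right]
    rw [hP, e1]
    show w * S.p 1 * w⁻¹ * (w * x * w⁻¹) = w * x * w⁻¹ * (w * S.p 1 * w⁻¹)
    calc w * S.p 1 * w⁻¹ * (w * x * w⁻¹) = w * (S.p 1 * x) * w⁻¹ := by group
      _ = w * (x * S.p 1) * w⁻¹ := by rw [h.eq]
      _ = _ := by group
  have surj : ∀ a, ∃ b, ρ b = a := fun a => ⟨ρ.symm a, ρ.apply_symm_apply a⟩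
  have gxa : ∀ u, Commute (P * q⁻¹) (B.xa u) := by
    intro u
    obtain ⟨v, rfl⟩ := surj u
    exact (conj _ _ (h2 v) (S.p_xb 1 v)).mul_left (L.q_xa 1 _).inv_left
  have gzs : ∀ u, Commute (P * q⁻¹) (B.zs u) := by
    intro u
    obtain ⟨v, rfl⟩ := surj u
    exact (conj _ _ (h4 v) (S.p_zl 1 v)).mul_left (L.q_zs 1 _).inv_left
  have gzl : ∀ u, Commute (P * q⁻¹) (B.zl u) := by
    intro u
    obtain ⟨v, rfl⟩ := hsq u
    obtain ⟨v, rfl⟩ := surj v
    exact (conj _ _ (h3 v) (S.p_zs 1 v)).mul_left (L.q_zl 1 _).inv_left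
  -- the action of `x_b(1)`
  have f1 : B.xb 1 * P = P * B.xb 1 * B.zs (ρ S.e) := by
    have e1 : w * B.xa 1 = B.xb 1 * w := by rw [h1, hρ1]
    have e2 := S.xa_p 1 1
    rw [mul_one, mul_one] at e2
    have e3 := h4 S.e
    calc B.xb 1 * P = (B.xb 1 * w) * S.p 1 * w⁻¹ := by rw [hP]; group
      _ = w * (B.xa 1 * S.p 1) * w⁻¹ := by rw [← e1]; group
      _ = w * S.p 1 * w⁻¹ * (w * B.xa 1) * w⁻¹ * (w * B.zl S.e) * w⁻¹ := by rw [e2]; group
      _ = _ := by rw [e1, e3, hP]; group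
  have f2 : B.xb 1 * q = q * B.xb 1 * B.zs L.e := by
    have e2 := L.xb_q 1 1
    rw [one_pow, mul_one, mul_one] at e2
    exact e2
  have f3 : B.xb 1 * q⁻¹ = q⁻¹ * B.xb 1 * B.zs L.e := by
    have i1 : B.zs L.e * B.zs L.e = 1 := sq_of_add B.zs_add _
    have c1 : q * B.zs L.e = B.zs L.e * q := (L.q_zs 1 L.e).eq
    have e1 : q * B.xb 1 = B.xb 1 * B.zs L.e * q := by
      calc q * B.xb 1 = (q * B.xb 1 * B.zs L.e) * B.zs L.e := by rw [mul_assoc, i1, mul_one]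
        _ = B.xb 1 * (q * B.zs L.e) := by rw [← f2]; group
        _ = _ := by rw [c1]; group
    calc B.xb 1 * q⁻¹ = q⁻¹ * (q * B.xb 1) * q⁻¹ := by group
      _ = _ := by rw [e1]; group
  have f4 : B.xb 1 * (P * q⁻¹) = P * q⁻¹ * B.xb 1 * B.zs (L.e + ρ S.e) := by
    have c1 : B.zs (ρ S.e) * q⁻¹ = q⁻¹ * B.zs (ρ S.e) := ((L.q_zs 1 (ρ S.e)).inv_left).symm.eq
    calc B.xb 1 * (P * q⁻¹) = (B.xb 1 * P) * q⁻¹ := by group
      _ = P * B.xb 1 * (B.zs (ρ S.e) * q⁻¹) := by rw [f1]; group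
      _ = P * (B.xb 1 * q⁻¹) * B.zs (ρ S.e) := by rw [c1]; group
      _ = P * q⁻¹ * B.xb 1 * (B.zs L.e * B.zs (ρ S.e)) := by rw [f3]; group
      _ = _ := by rw [← B.zs_add]
  obtain ⟨s, m, r, hg⟩ := hB.cent2 _ gt gxa gzs gzl
  obtain ⟨τ, hτ, hg⟩ : ∃ τ, Commute B.t τ ∧ Commute (B.xb 1) τ ∧ P * q⁻¹ = τ * (B.xa s * B.zs m * B.zl r) := by
    rcases hg with hg | hg
    · exact ⟨1, Commute.one_right _, Commute.one_right _, by rw [hg, one_mul]⟩
    · exact ⟨B.t, Commute.refl _, (B.t_xb 1).symm, hg⟩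
  obtain ⟨hτb, hg⟩ := hg
  have f5 : B.xb 1 * (τ * (B.xa s * B.zs m * B.zl r)) =
      τ * (B.xa s * B.zs m * B.zl r) * B.xb 1 * (B.zs s * B.zl (s ^ 2)) := by
    have e1 : B.xb 1 * B.xa s = B.xa s * B.xb 1 * B.zs s * B.zl (s ^ 2) := by
      have := Swap.xb_xa B 1 s
      rw [mul_one, mul_one] at this
      rw [this]; group
    have i1 := sq_of_add B.zs_add s
    have i2 := sq_of_add B.zl_add (s ^ 2)
    have c1 := (B.xb_zs 1 m).eq
    have c2 := (B.xb_zl 1 r).eq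
    have c3 := (B.zs_zl m (s ^ 2)).eq
    have c4 : B.zs s * B.zs m = B.zs m * B.zs s := by rw [← B.zs_add, ← B.zs_add, add_comm]
    have c5 : B.zl (s ^ 2) * B.zl r = B.zl r * B.zl (s ^ 2) := by rw [← B.zl_add, ← B.zl_add, add_comm]
    have c6 := (B.zs_zl s r).eq
    calc B.xb 1 * (τ * (B.xa s * B.zs m * B.zl r)) = (B.xb 1 * τ) * (B.xa s * B.zs m * B.zl r) := by group
      _ = τ * (B.xb 1 * B.xa s) * B.zs m * B.zl r := by rw [hτb.eq]; group
      _ = τ * B.xa s * B.xb 1 * B.zs s * (B.zl (s ^ 2) * B.zs m) * B.zl r := by rw [e1]; group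
      _ = τ * B.xa s * B.xb 1 * (B.zs s * B.zs m) * (B.zl (s ^ 2) * B.zl r) := by rw [← c3]; group
      _ = τ * B.xa s * (B.xb 1 * B.zs m) * (B.zs s * B.zl r) * B.zl (s ^ 2) := by rw [c4, c5]; group
      _ = τ * B.xa s * B.zs m * (B.xb 1 * B.zl r) * B.zs s * B.zl (s ^ 2) := by rw [c1, c6]; group
      _ = _ := by rw [c2]; group
  rw [hg, f5] at f4
  have f6 := mul_left_cancel f4
  have f7 : B.xa 0 * B.xb 0 * B.zs (s + (L.e + ρ S.e)) * B.zl (s ^ 2) = 1 := by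
    have i1 := sq_of_add B.zs_add (L.e + ρ S.e)
    rw [xa_zero, xb_zero, one_mul, one_mul, B.zs_add]
    calc B.zs s * B.zs (L.e + ρ S.e) * B.zl (s ^ 2) = B.zs s * (B.zs (L.e + ρ S.e) * B.zl (s ^ 2)) := by group
      _ = (B.zs s * B.zl (s ^ 2)) * B.zs (L.e + ρ S.e) := by rw [(B.zs_zl _ _).eq]; group
      _ = 1 := by rw [f6, i1]
  obtain ⟨-, -, g1, g2⟩ := B.inj _ _ _ _ f7
  have hs : s = 0 := pow_eq_zero_iff two_ne_zero |>.1 g2
  rw [hs, zero_add] at g1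
  exact (CharTwo.add_eq_zero.1 g1).symm

end X

section G

open Cfsg.Agent.TitsThree.B2Pkg Cfsg.Agent.TitsThree.RankTwoIdentB2
  Cfsg.Agent.TitsThree.CoreB2 Cfsg.Agent.TitsThree.RankTwoIdx Cfsg.Agent.TitsThree.RankTwoRGD
  Cfsg.Agent.TitsThree.StdData
open Cfsg.Agent.StdRank2.OddLift Cfsg.Agent.StdRank2.B2Lift Cfsg.Agent.StdRank2.B2Std
  Cfsg.Agent.StdRank2.OutB2Aut Cfsg.Agent.StdRank2.OutB2Tw
  Cfsg.Agent.StdRank2.OutB2Data Cfsg.Agent.StdRank2.OutSpG Cfsg.Agent.StdRank2.OutSpGraph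
  Cfsg.Agent.StdRank2.SpFrame
open Cfsg.Agent.StdRank2 Cfsg.Agent.StdEven Cfsg.Agent.StdEven.CoreQuot Cfsg.Agent.StdEven.Loc

universe u

variable {F : Type*} [Field F] [Finite F] [CharP F 2]
variable {G : Type u} [Group G] [Finite G] {A : Subgroup G} {t : G} {T : Subgroup G}

/-- **graph elements of `C(t)` interchange the layers** -/
theorem e_eq_of_gr (H : Hyp A t T) (S : Std (stdSp F) ↥A) (hF : 3 ≤ Nat.card F) (S0 : ShortLayer (B2Conn.base H S))
    (L0 : LongLayer (B2Conn.base H S)) {w : G} (hw : w * t = t * w) {ρ : F ≃+* F} (h : Gr S w ρ) :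
    ρ S0.e = L0.e := by
  have hwN := H.mem_normalizer_core hw
  have key : ∀ a b : ↥A, w * a * w⁻¹ = b → pr A t ⟨w, hwN⟩ * pr A t ⟨a, H.A_le a.2⟩ =
      pr A t ⟨b, H.A_le b.2⟩ * pr A t ⟨w, hwN⟩ := by
    intro a b e
    rw [mul_inv_eq_iff_eq_mul] at e
    rw [← map_mul, ← map_mul]
    exact congrArg (pr A t) (Subtype.ext e)
  refine e_eq (B2Conn.base_self H S hF) S0 L0 (w := pr A t ⟨w, hwN⟩) (ρ := ρ) ?_ (fun a => key _ _ (h.x a))
    (fun a => key _ _ (h.z₂ (_root_.Cfsg.Agent.StdRank2.SpFrame.tt a))) (fun a => key _ _ (h.y a)) (fun a => key _ _ (h.z₁ (_root_.Cfsg.Agent.StdRank2.SpFrame.tt a)))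
    Cfsg.Agent.StdRank2.OutField.exists_sqrt
  show _ * H.tX = H.tX * _
  exact H.pr_comm_iff.2 hw

/-- **no graph elements in case (C)** (both orders of the layers) -/
theorem no_graph_both (H : Hyp A t T) (S : Std (stdSp F) ↥A) (hF : 3 ≤ Nat.card F) (S0 : ShortLayer (B2Conn.base H S))
    (L0 : LongLayer (B2Conn.base H S)) (hne : (S0.e = 1 ∧ L0.e = 0) ∨ (S0.e = 0 ∧ L0.e = 1)) {w : G}
    (hw : w * t = t * w) {ρ : F ≃+* F} (h : Gr S w ρ) : False := by
  have h1 := e_eq_of_gr H S hF S0 L0 hw h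
  rcases hne with ⟨h2, h3⟩ | ⟨h2, h3⟩
  · rw [h2, h3, map_one] at h1
    exact one_ne_zero h1
  · rw [h2, h3, map_zero] at h1
    exact zero_ne_one h1

end G

end Cfsg.Agent.StdSpFour.AdaptC
end

-- part: StdSpFour/Main
section
/-!
# Type `Sp₄(q)`, `q ≥ 4` even: the assembly

`Top F L A t`: everything about the start in `G` and `X = XQ A t`; `exists_top`: it exists.
`core_of`: the core statement from the ends of the cases (A), (B), (C) (`EndA`, `EndB`, `EndC`).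
-/

set_option autoImplicit false
set_option linter.unusedSectionVars false
set_option linter.dupNamespace false

namespace Cfsg.Agent.StdSpFour.Main

open Subgroup Cfsg.Agent.StdEven.Loc Cfsg.Agent.StdEven.Syl
open Cfsg.Agent.StdEven.StepFour Cfsg.Agent.StdEven.CoreQuot Cfsg.Agent.StdL2.Setup
open Cfsg.Agent.TitsThree.B2Pkg Cfsg.Agent.TitsThree.RankTwoIdentB2
  Cfsg.Agent.TitsThree.CoreB2 Cfsg.Agent.TitsThree.RankTwoIdx Cfsg.Agent.TitsThree.RankTwoRGD
  Cfsg.Agent.TitsThree.StdData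
open Cfsg.Agent.StdRank2 Cfsg.Agent.StdRank2.OddLift Cfsg.Agent.StdRank2.B2Lift Cfsg.Agent.StdRank2.B2Std
  Cfsg.Agent.StdRank2.OutB2Aut Cfsg.Agent.StdRank2.OutB2Tw Cfsg.Agent.StdRank2.OutB2Data
  Cfsg.Agent.StdRank2.OutB2G Cfsg.Agent.StdRank2.OutSpG Cfsg.Agent.StdRank2.SpFrame
  Cfsg.Agent.StdRank2.SpData
open Cfsg.Agent.Schreier.Basic
open Cfsg.Agent.StdSpFour Cfsg.Agent.StdSpFour.Env Cfsg.Agent.StdSpFour.Trich Cfsg.Agent.StdSpFour.BOut
open Cfsg.Agent.StdSpFour.Swap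

universe u v

/-- The situation in `G`, type `Sp₄(q)`. -/
structure Top (F : Type v) [Field F] [Finite F] [CharP F 2] {G : Type u} [Group G] [Finite G]
    (L A : Subgroup G) (t : G) where
  C : Conf L A t
  hZ : Odd (Nat.card (center ↥A))
  four : 4 ≤ Nat.card F
  sch : Sch ↥A
  T : Subgroup G
  S : Std (stdSp F) ↥A
  sit : Sit L A t T S
  had : AdaptedSp S T
  hyp : Hyp A t T
  schX : Sch ↥(im A t A)

section

variable {F : Type v} [Field F] [Finite F] [CharP F 2] {G : Type u} [Group G] [Finite G] {L A : Subgroup G} {t : G}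

/-- the situation does not change if the package is twisted -/
theorem sit_tw {T : Subgroup G} {S : Std (stdSp F) ↥A} (h : Sit L A t T S) (c : Tw (stdSp F)) :
    Sit L A t T (tw S c) :=
  ⟨h.conf, h.hZ, h.isT, by rw [UG_tw]; exact h.UT, h.four⟩

/-- from a package -/
theorem exists_top_of_std (C : Conf L A t) (hZ : Odd (Nat.card (center ↥A))) (four : 4 ≤ Nat.card F)
    (hS : Sch (↥A ⧸ center ↥A)) (S : Std (stdSp F) ↥A) : Nonempty (Top F L A t) := by
  have hSA : Sch ↥A := SchQuot.sch_of_center C.std.1.1.commutator_eq_top hS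
  obtain ⟨T, h⟩ := exists_sit C hZ S four
  have hs := h.simple
  obtain ⟨c, hc⟩ := exists_adaptedSp hZ S (by omega) T h.isT.syl.two h.isT.syl.le fun y hy u hu => h.T_norm hy hu
  have h' := sit_tw h (dtw (stdSp F) c.1.ne_zero c.2.ne_zero)
  have H := SpStart.hyp' h' hSA
  exact ⟨⟨C, hZ, four, hSA, T, _, h', hc, H, B2Mover.sch_im H (MulEquiv.refl _) hS⟩⟩

/-- **Existence.** -/
theorem exists_top (C : Conf L A t) (hZ : Odd (Nat.card (center ↥A))) (four : 4 ≤ Nat.card F)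
    (e : ↥A ⧸ center ↥A ≃* Cfsg.PSp 2 F) : Nonempty (Top F L A t) := by
  obtain ⟨S⟩ := B2Conn.exists_Sp (by omega) C.std.1.1.commutator_eq_top hZ e
  exact exists_top_of_std C hZ four (Sch.of_equiv e.symm (Cfsg.Agent.Schreier.ClassPSp.sch le_rfl fun _ => by omega)) S

namespace Top

variable (P : Top F L A t)

/-- the base in `X` -/
noncomputable def B : Base F (XQ A t) := B2Conn.base P.hyp P.S

theorem env : Env P.B (im A t A) := XStart.envX P.hyp P.S (by have := P.four; omega) P.schX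

theorem data : Data A t P.T (XStart.JG P.S t) (XStart.WG P.S) := SpStart.data P.sit

theorem exists_mover : ∃ g ∈ normalizer (P.T : Set G), g ∈ normalizer (XStart.JG P.S t : Set G) ∧
    (∃ k : ℕ, g ^ 2 ^ k = 1) ∧
      ∃ v ∈ XStart.WG P.S, v ≠ 1 ∧ (∀ x ∈ P.T, x * v = v * x) ∧ g * t * g⁻¹ = t * v :=
  SpStart.exists_mover' P.sit P.sch

/-- a layer exists -/
theorem exists_layer : Nonempty (ShortLayer P.B) ∨ Nonempty (LongLayer P.B) := by
  obtain ⟨g, -, hg, -, v, hv, hv1, -, e⟩ := P.exists_mover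
  exact XStart.exists_layer P.hyp P.S P.four P.schX hg hv hv1 e

/-- **the three cases** -/
theorem cases : CaseA P.B ∨ (CaseB P.B ∨ CaseB (swap P.B)) ∨ (CaseC P.B ∨ CaseC (swap P.B)) :=
  trich P.env P.four P.exists_layer

theorem UT : XStart.UG P.S ≤ P.T := P.sit.U_le

/-- no graph elements in case (B) -/
theorem bridge_B (h : CaseB P.B) : Bridge P.hyp P.B := by
  obtain ⟨hL, S0, -⟩ := h
  exact Adapt.bridge_of P.hyp P.S P.four P.schX P.UT P.had fun w ρ hw hg =>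
    Adapt.no_graph_short P.hyp P.S P.four P.data P.schX S0 hL hw hg

theorem noLong (h : CaseB P.B) : NoLong P.hyp P.B := Adapt.noLong_of P.hyp P.S P.four P.data P.schX h.1

/-- no graph elements in case (B') -/
theorem bridge_B' (h : CaseB (swap P.B)) : Bridge P.hyp P.B := by
  obtain ⟨hL, S0, -⟩ := h
  rw [nonempty_long_swap] at hL
  obtain ⟨L0⟩ := nonempty_short_swap.1 ⟨S0⟩
  exact Adapt.bridge_of P.hyp P.S P.four P.schX P.UT P.had fun w ρ hw hg =>
    Adapt.no_graph_long P.hyp P.S P.four P.data P.schX L0 hL hw hg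

theorem noLong' (h : CaseB (swap P.B)) : NoLong P.hyp (swap P.B) :=
  Adapt.noLong_swap_of P.hyp P.S P.four P.data P.schX fun hS => h.1 (nonempty_long_swap.2 hS)

/-- no graph elements in case (C) -/
theorem bridge_C (h : CaseC P.B) : Bridge P.hyp P.B := by
  obtain ⟨S0, L0, h1, h2, -⟩ := h
  exact Adapt.bridge_of P.hyp P.S P.four P.schX P.UT P.had fun w ρ hw hg =>
    AdaptC.no_graph_both P.hyp P.S (by have := P.four; omega) S0 L0 (Or.inl ⟨h1, h2⟩) hw hg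

/-- no graph elements in case (C') -/
theorem bridge_C' (h : CaseC (swap P.B)) : Bridge P.hyp P.B := by
  obtain ⟨S0, L0, h1, h2, -⟩ := h
  have e1 : (shortOfSwap L0).e = 0 := h2
  have e2 : (EnvFacts.longOfSwap S0).e = 1 := by
    show Swap.rt S0.e = 1
    rw [h1, Swap.rt_one]
  exact Adapt.bridge_of P.hyp P.S P.four P.schX P.UT P.had fun w ρ hw hg =>
    AdaptC.no_graph_both P.hyp P.S (by have := P.four; omega) _ _ (Or.inr ⟨e1, e2⟩) hw hg

end Top

end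

section final

open Cfsg.Agent.Lib Cfsg.Agent.Lib.GoldschmidtFusion
open Cfsg.Agent.TwoFusion.Gold (TProp)
open Cfsg.Agent.StdSpFour.CloseComp Cfsg.Agent.StdSpFour.CloseLoc
open Cfsg.Agent.StdSpFour.CloseSyl (S0506Stmt)
open Cfsg.Agent.StdEven.Red

/-- The external theorems. -/
structure Ext : Prop where
  s0506 : S0506Stmt.{u}
  zStar : ZStarStmt.{u}
  tprop : ∀ (G : Type u) [Group G] [Finite G], IsSimpleGroup G → (∃ a b : G, a * b ≠ b * a) → TProp G
  s1173 : S1173Stmt.{u}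
  s1769 : ∀ (L : Type u) [Group L] [Finite L], IsSimpleGroup L → CaseBSplit.LinSylow.{u, 0} L

/-- The end of case (A). -/
def EndA : Prop := ∀ (F : Type) [Field F] [Finite F] [CharP F 2] (G : Type u) [Group G] [Finite G] (L A : Subgroup G)
  (t : G) (P : Top F L A t), 3 ∣ Nat.card A → CaseA P.B → Concl L t

variable {F : Type} [Field F] [Finite F] [CharP F 2] {G : Type u} [Group G] [Finite G] {L A : Subgroup G} {t : G}

/-- (B) -/
theorem concl_B (X : Ext.{u}) (P : Top F L A t) (h : CaseB P.B) : Concl L t := by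
  have b := P.bridge_B h
  have nl := P.noLong h
  obtain ⟨-, S0, he⟩ := h
  exact CaseBEnd.concl X.s0506 X.zStar X.tprop X.s1173 b S0 nl he P.C (X.s1769 L P.C.simple)

/-- (B') -/
theorem concl_B' (X : Ext.{u}) (P : Top F L A t) (h : CaseB (swap P.B)) : Concl L t := by
  have b := (P.bridge_B' h).swap
  have nl := P.noLong' h
  obtain ⟨-, S0, he⟩ := h
  exact CaseBEnd.concl X.s0506 X.zStar X.tprop X.s1173 b S0 nl he P.C (X.s1769 L P.C.simple)

/-- (C) -/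
theorem concl_C (X : Ext.{u}) (P : Top F L A t) (h : CaseC P.B) : Concl L t := by
  have b := P.bridge_C h
  obtain ⟨S0, L0, h1, h2, -, h4⟩ := h
  exact CaseCEnd.concl X.s0506 X.zStar X.tprop X.s1173 b S0 L0 h1 h2 h4 P.C (X.s1769 L P.C.simple)

/-- (C') -/
theorem concl_C' (X : Ext.{u}) (P : Top F L A t) (h : CaseC (swap P.B)) : Concl L t := by
  have b := (P.bridge_C' h).swap
  obtain ⟨S0, L0, h1, h2, -, h4⟩ := h
  exact CaseCEnd.concl X.s0506 X.zStar X.tprop X.s1173 b S0 L0 h1 h2 h4 P.C (X.s1769 L P.C.simple)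

/-- `3` divides `|A|` -/
theorem three_dvd (P : Top F L A t) : 3 ∣ Nat.card A := by
  obtain ⟨e⟩ := P.hyp.nonempty_equiv
  have h1 : P.B.na * P.B.xa 1 ∈ im A t A := mul_mem P.env.na_mem (P.env.xa_mem 1)
  have h2 : (P.B.na * P.B.xa 1) ^ 3 = 1 := P.env.weyl.na_xa
  have h3 : P.B.na * P.B.xa 1 ≠ 1 := by
    intro h
    have h' : P.B.xa 1 * P.B.na = 1 := by
      rw [← eq_inv_iff_mul_eq_one] at h
      rw [h, mul_inv_cancel]
    have e1 : P.B.xb 1 = P.B.zl 1 := by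
      calc P.B.xb 1 = (P.B.xa 1 * P.B.na) * P.B.xb 1 := by rw [h', one_mul]
        _ = P.B.xa 1 * (P.B.na * P.B.xb 1) := by group
        _ = (P.B.xa 1 * P.B.zl 1) * P.B.na := by rw [P.B.na_xb]; group
        _ = P.B.zl 1 * (P.B.xa 1 * P.B.na) := by rw [(P.B.xa_zl 1 1).eq]; group
        _ = _ := by rw [h', mul_one]
    have e2 : P.B.xa 0 * P.B.v1 1 0 0 = P.B.xa 0 * P.B.v1 0 0 1 := by
      rw [Base.v1, Base.v1, Comm.xb_zero, Comm.zs_zero, Comm.zl_zero, mul_one, mul_one, one_mul, one_mul, e1]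
    exact one_ne_zero (Env.nf_inj e2).2.1
  have h4 : orderOf (⟨_, h1⟩ : im A t A) = 3 :=
    orderOf_eq_prime (Subtype.ext h2) fun h => h3 (congrArg Subtype.val h)
  have h5 := _root_.orderOf_dvd_natCard (⟨_, h1⟩ : im A t A)
  rw [h4, Nat.card_congr e.toEquiv] at h5
  exact h5.trans (card_quotient_dvd_card _)

/-- **The core statement for the type `Sp₄(q)`.** -/
theorem core_of (X : Ext.{u}) (hA : EndA.{u}) : _root_.Cfsg.Agent.StdEven.Red.Core.{u} (fun Q _ => TypeSp4 Q) := by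
  intro G _ _ L A t C hZ hT
  obtain ⟨F, _, _, a, ha, hc, ⟨e⟩⟩ := hT
  have h2 : CharP F 2 := by
    obtain ⟨p, hp⟩ := CharP.exists F
    have h4 : p.Prime := CharP.char_is_prime F p
    have h5 : p ∣ 2 := by
      have h1 : ((Fintype.card F : ℕ) : F) = 0 := by simp
      rw [CharP.cast_eq_zero_iff F p, hc] at h1
      exact h4.dvd_of_dvd_pow h1
    rwa [(Nat.prime_dvd_prime_iff_eq h4 Nat.prime_two).1 h5] at hp
  have four : 4 ≤ Nat.card F := by
    rw [Nat.card_eq_fintype_card, hc]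
    calc 4 = 2 ^ 2 := rfl
      _ ≤ 2 ^ a := Nat.pow_le_pow_right (by norm_num) ha
  obtain ⟨P⟩ := exists_top C hZ four e
  rcases P.cases with h | (h | h) | (h | h)
  · exact hA F G L A t P (three_dvd P) h
  · exact concl_B X P h
  · exact concl_B' X P h
  · exact concl_C X P h
  · exact concl_C' X P h

end final

end Cfsg.Agent.StdSpFour.Main
end

-- part: StdSpFour/RingATriv
section
/-!
S1778, type Sp₄(q), case (A): `M = X̂_a Ẑ` is elementary abelian of order `q⁶`; an element of a finite group which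
centralises `{p_l(r) z_l(l)}` and acts trivially on `M` modulo `{p_l(r) z_l(l)}` centralises `M`.
-/
set_option autoImplicit false
set_option linter.unusedSectionVars false

open Subgroup
open scoped commutatorElement

namespace Cfsg.Agent.StdSpFour

open Swap Env EnvSwap EnvFacts

namespace RingA

variable {F G : Type*} [Field F] [CharP F 2] [Finite F] [Group G] {B : Base F G} {A : Subgroup G}

/-- `P₁` preserves the quadratic form `m² + s r` of `V₁`. -/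
theorem quad (hE : Env B A) {x : G} (hx : x ∈ P1 B) : ∀ s m r, ∃ s' m' r',
    x * B.v1 s m r * x⁻¹ = B.v1 s' m' r' ∧ m' ^ 2 + s' * r' = m ^ 2 + s * r := by
  rw [P1] at hx
  induction hx using closure_induction with
  | mem y hy =>
    intro s m r
    rcases hy with rfl | ⟨u, rfl⟩ | ⟨s', m', r', rfl⟩
    · exact ⟨r, m, s, by rw [B.na_v1]; group, by ring⟩
    · refine ⟨s, m + u * s, r + u ^ 2 * s, by rw [B.xa_v1]; group, ?_⟩
      have h1 : (m + u * s) ^ 2 = m ^ 2 + (u * s) ^ 2 := CharTwo.add_sq _ _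
      have h2 : (u * s) ^ 2 + (u * s) ^ 2 = 0 := CharTwo.add_self_eq_zero _
      calc (m + u * s) ^ 2 + s * (r + u ^ 2 * s) = m ^ 2 + s * r + ((u * s) ^ 2 + (u * s) ^ 2) := by
            rw [h1]; ring
        _ = _ := by rw [h2, add_zero]
    · exact ⟨s, m, r, by rw [(B.v1_comm s' m' r' s m r).eq]; group, rfl⟩
  | one => intro s m r; exact ⟨s, m, r, by group, rfl⟩
  | mul x y hx hy ihx ihy =>
    intro s m r
    obtain ⟨s1, m1, r1, h1, e1⟩ := ihy s m r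
    obtain ⟨s2, m2, r2, h2, e2⟩ := ihx s1 m1 r1
    refine ⟨s2, m2, r2, ?_, e2.trans e1⟩
    rw [← h2, ← h1]; group
  | inv x hx ihx =>
    intro s m r
    obtain ⟨⟨s1, m1, r1, h1⟩, -⟩ := hE.v_norm_both hx s m r
    obtain ⟨s2, m2, r2, h2, e2⟩ := ihx s1 m1 r1
    have h3 : B.v1 s m r = B.v1 s2 m2 r2 := by rw [← h2, ← h1]; group
    obtain ⟨rfl, rfl, rfl⟩ := B.v1_inj h3
    exact ⟨s1, m1, r1, by rw [inv_inv]; exact h1, e2.symm⟩

/-- Elements of `C(t)` acting on `V₁` by a homomorphism into `Z_s` centralise `V₁`. -/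
theorem triv_v1 (hE : Env B A) (hF : 4 ≤ Nat.card F) {c : G} (hct : Commute c B.t)
    (hz : ∀ m, Commute c (B.zs m)) (h : ∀ s m r, ∃ k, c * B.v1 s m r * c⁻¹ = B.v1 s (m + k) r) :
    ∀ s m r, Commute c (B.v1 s m r) := by
  have hvz : ∀ s m k r, B.v1 s (m + k) r = B.v1 s m r * B.zs k := by
    intro s m k r
    rw [← Base.v1_zs, B.v1_mul, add_zero, add_zero]
  -- `c` maps `P₁` into `A`
  have hA : ∀ x ∈ P1 B, c * x * c⁻¹ ∈ A := by
    intro x hx
    have h1 : (P1 B).map (MulAut.conj c).toMonoidHom ≤ A := by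
      apply hE.maxA
      · rw [← map_commutator, hE.perf1 hF]
      · rintro _ ⟨y, hy, rfl⟩
        have h2 := hE.comm y (hE.P1_le hy)
        show Commute (c * y * c⁻¹) B.t
        exact (hct.mul_left h2).mul_left hct.inv_left
    exact h1 ⟨x, hx, rfl⟩
  have key : ∀ x ∈ P1 B, ∀ s m r s' m' r' k k', x * B.v1 s m r * x⁻¹ = B.v1 s' m' r' →
      c * B.v1 s m r * c⁻¹ = B.v1 s (m + k) r → c * B.v1 s' m' r' * c⁻¹ = B.v1 s' (m' + k') r' → k = k' := by
    intro x hx s m r s' m' r' k k' h1 h2 h3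
    set! a := c * x * c⁻¹ * x⁻¹ with ha
    have haA : a ∈ A := mul_mem (hA x hx) (inv_mem (hE.P1_le hx))
    have hxz : Commute x (B.zs 1) := hE.z1 hx 1
    have haz : Commute a (B.zs 1) :=
      (((hz 1).mul_left hxz).mul_left (hz 1).inv_left).mul_left hxz.inv_left
    have haP : a ∈ P1 B := cent_zs hE haA one_ne_zero haz
    have h4 : a * B.v1 s' m' r' * a⁻¹ = B.v1 s' (m' + (k' + k)) r' := by
      have e1 : c⁻¹ * B.v1 s m r * c = B.v1 s m r * B.zs k := by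
        have e2 : c * (B.v1 s m r * B.zs k) * c⁻¹ = B.v1 s m r := by
          have e3 : c * (B.v1 s m r * B.zs k) * c⁻¹ = c * B.v1 s m r * c⁻¹ * B.zs k := by
            have := (hz k).inv_left.eq
            calc c * (B.v1 s m r * B.zs k) * c⁻¹ = c * B.v1 s m r * (B.zs k * c⁻¹) := by group
              _ = _ := by rw [← this]; group
          rw [e3, h2, hvz, mul_assoc, B.zs_zs, mul_one]
        calc c⁻¹ * B.v1 s m r * c = c⁻¹ * (c * (B.v1 s m r * B.zs k) * c⁻¹) * c := by rw [e2]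
          _ = _ := by group
      have e4 : x * (B.v1 s m r * B.zs k) * x⁻¹ = B.v1 s' m' r' * B.zs k := by
        have := (hE.z1 hx k).inv_left.eq
        calc x * (B.v1 s m r * B.zs k) * x⁻¹ = x * B.v1 s m r * (B.zs k * x⁻¹) := by group
          _ = x * B.v1 s m r * x⁻¹ * B.zs k := by rw [← this]; group
          _ = _ := by rw [h1]
      have e5 : c * (B.v1 s' m' r' * B.zs k) * c⁻¹ = B.v1 s' m' r' * B.zs k' * B.zs k := by
        have := (hz k).inv_left.eq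
        calc c * (B.v1 s' m' r' * B.zs k) * c⁻¹ = c * B.v1 s' m' r' * (B.zs k * c⁻¹) := by group
          _ = c * B.v1 s' m' r' * c⁻¹ * B.zs k := by rw [← this]; group
          _ = _ := by rw [h3, hvz]
      have e6 : a * B.v1 s' m' r' * a⁻¹ =
          c * (x * (c⁻¹ * (x⁻¹ * B.v1 s' m' r' * x) * c) * x⁻¹) * c⁻¹ := by
        rw [ha]; group
      have e7 : x⁻¹ * B.v1 s' m' r' * x = B.v1 s m r := by rw [← h1]; group
      rw [e6, e7, e1, e4, e5, ← add_assoc, hvz, hvz]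
    obtain ⟨s2, m2, r2, h5, h6⟩ := quad hE haP s' m' r'
    rw [h4] at h5
    obtain ⟨rfl, rfl, rfl⟩ := B.v1_inj h5
    have h7 : (m' + (k' + k)) ^ 2 = m' ^ 2 := add_right_cancel h6
    rw [CharTwo.add_sq] at h7
    have h8 : (k' + k) ^ 2 = 0 := by
      have : m' ^ 2 + (k' + k) ^ 2 = m' ^ 2 + 0 := by rw [h7, add_zero]
      exact add_left_cancel this
    have h9 : k' + k = 0 := pow_eq_zero_iff two_ne_zero |>.1 h8
    exact (FieldAux.eq_of_add_eq_zero h9).symm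
  choose φ hφ using h
  have hadd : ∀ s m r s' m' r', φ (s + s') (m + m') (r + r') = φ s m r + φ s' m' r' := by
    intro s m r s' m' r'
    have h1 : c * (B.v1 s m r * B.v1 s' m' r') * c⁻¹ =
        (c * B.v1 s m r * c⁻¹) * (c * B.v1 s' m' r' * c⁻¹) := by group
    rw [B.v1_mul, hφ, hφ, hφ, B.v1_mul] at h1
    have h2 := (B.v1_inj h1).2.1
    have h3 : m + m' + φ (s + s') (m + m') (r + r') = m + m' + (φ s m r + φ s' m' r') := by
      rw [h2]; ring
    exact add_left_cancel h3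
  have hzero : ∀ m, φ 0 m 0 = 0 := by
    intro m
    have h1 := hφ 0 m 0
    have h2 : c * B.v1 0 m 0 * c⁻¹ = B.v1 0 m 0 := by
      rw [Base.v1_zs, (hz m).eq]; group
    rw [h2] at h1
    exact left_eq_add.1 (B.v1_inj h1).2.1
  have hxa : ∀ u s m r, φ s m r = φ s (m + u * s) (r + u ^ 2 * s) := fun u s m r =>
    key _ (xa_P1 u) _ _ _ _ _ _ _ _ (by rw [B.xa_v1]; group) (hφ _ _ _) (hφ _ _ _)
  have hna : ∀ s m r, φ s m r = φ r m s := fun s m r =>
    key _ na_P1 _ _ _ _ _ _ _ _ (by rw [B.na_v1]; group) (hφ _ _ _) (hφ _ _ _)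
  have hr : ∀ r, φ 0 0 r = 0 := by
    intro r
    obtain ⟨u, rfl⟩ := FieldAux.exists_sq r
    have h1 := hxa u 1 0 0
    have h2 := hadd 1 0 0 0 u (u ^ 2)
    have h3 := hadd 0 u 0 0 0 (u ^ 2)
    rw [hzero] at h3
    simp only [mul_one, zero_add, add_zero] at h1 h2 h3
    rw [← h1, h3] at h2
    exact left_eq_add.1 h2
  have hs : ∀ s, φ s 0 0 = 0 := fun s => by rw [hna, hr]
  intro s m r
  have h1 : φ s m r = 0 := by
    have h2 := hadd s 0 0 0 m r
    have h3 := hadd 0 m 0 0 0 r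
    simp only [zero_add, add_zero] at h2 h3
    rw [h2, h3, hs, hzero, hr, add_zero, add_zero]
  have h2 := hφ s m r
  rw [h1, add_zero] at h2
  show c * B.v1 s m r = B.v1 s m r * c
  calc c * B.v1 s m r = c * B.v1 s m r * c⁻¹ * c := by group
    _ = _ := by rw [h2]

end RingA

namespace EndA
namespace RelA

variable {F G : Type*} [Field F] [CharP F 2] [Group G] {B : Base F G} (R : RelA B)

/-- `M = X̂_a Ẑ` -/
def Ma : Subgroup G where
  carrier := {g | ∃ a ∈ R.la.grp, ∃ ζ ∈ R.Zh, g = a * ζ}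
  mul_mem' := by
    rintro _ _ ⟨a, ha, ζ, hζ, rfl⟩ ⟨a', ha', ζ', hζ', rfl⟩
    refine ⟨a * a', mul_mem ha ha', ζ * ζ', mul_mem hζ hζ', ?_⟩
    have := (R.Zh_a hζ ha').eq
    calc a * ζ * (a' * ζ') = a * (ζ * a') * ζ' := by group
      _ = _ := by rw [this]; group
  one_mem' := ⟨1, one_mem _, 1, one_mem _, by rw [one_mul]⟩
  inv_mem' := by
    rintro _ ⟨a, ha, ζ, hζ, rfl⟩
    refine ⟨a⁻¹, inv_mem ha, ζ⁻¹, inv_mem hζ, ?_⟩
    rw [mul_inv_rev, (R.Zh_a (inv_mem hζ) (inv_mem ha)).eq]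

theorem mem_Ma {g : G} : g ∈ R.Ma ↔ ∃ u v, ∃ ζ ∈ R.Zh, g = R.pa u * B.xa v * ζ := by
  constructor
  · rintro ⟨_, ⟨u, v, rfl⟩, ζ, hζ, rfl⟩
    exact ⟨u, v, ζ, hζ, rfl⟩
  · rintro ⟨u, v, ζ, hζ, rfl⟩
    exact ⟨_, R.la.form_mem u v, ζ, hζ, rfl⟩

theorem a_le_Ma : R.la.grp ≤ R.Ma := fun a ha => ⟨a, ha, 1, one_mem _, by rw [mul_one]⟩
theorem Zh_le_Ma : R.Zh ≤ R.Ma := fun z hz => ⟨1, one_mem _, z, hz, by rw [one_mul]⟩

theorem ll_le_Zh : R.ll.grp ≤ R.Zh := by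
  rintro _ ⟨r, l, rfl⟩
  exact ⟨0, 0, r, l, by rw [zh, R.ls.p_zero, B.zs_zero, one_mul, one_mul]⟩

theorem Ma_comm {x y : G} (hx : x ∈ R.Ma) (hy : y ∈ R.Ma) : Commute x y := by
  obtain ⟨a, ha, ζ, hζ, rfl⟩ := hx
  obtain ⟨a', ha', ζ', hζ', rfl⟩ := hy
  exact ((R.la.comm ha ha').mul_right (R.Zh_a hζ' ha).symm).mul_left
    ((R.Zh_a hζ ha').mul_right (R.Zh_comm hζ hζ'))

theorem Ma_sq {x : G} (hx : x ∈ R.Ma) : x * x = 1 := by
  obtain ⟨a, ha, ζ, hζ, rfl⟩ := hx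
  calc a * ζ * (a * ζ) = a * (ζ * a) * ζ := by group
    _ = (a * a) * (ζ * ζ) := by rw [(R.Zh_a hζ ha).eq]; group
    _ = 1 := by rw [R.la.sq ha, R.Zh_sq hζ, one_mul]

theorem Ma_inv {x : G} (hx : x ∈ R.Ma) : x⁻¹ = x := inv_eq_of_mul_eq_one_right (R.Ma_sq hx)

/-- `t m t = m [m, t]` -/
theorem tt_Ma (u v m k r l : F) : B.t * (R.pa u * B.xa v * R.zh m k r l) * B.t =
    R.pa u * B.xa v * R.zh m k r l * (B.xa u * (B.zs m * B.zl r)) := by
  have h1 : Commute (R.zh m k r l) (B.xa u) := R.Zh_a (R.zh_mem m k r l) (R.la.x_mem u)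
  calc B.t * (R.pa u * B.xa v * R.zh m k r l) * B.t
      = B.t * (R.pa u * B.xa v) * 1 * R.zh m k r l * B.t := by group
    _ = (B.t * (R.pa u * B.xa v) * B.t) * (B.t * R.zh m k r l * B.t) := by rw [← B.tt]; group
    _ = R.pa u * B.xa v * (B.xa u * R.zh m k r l) * (B.zs m * B.zl r) := by
        rw [R.la.tt_form B.tt, R.tt_zh]; group
    _ = _ := by rw [← h1.eq]; group

theorem t_Ma {x : G} (hx : x ∈ R.Ma) : B.t * x * B.t ∈ R.Ma := by
  obtain ⟨u, v, _, ⟨m, k, r, l, rfl⟩, rfl⟩ := R.mem_Ma.1 hx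
  rw [R.tt_Ma]
  exact mul_mem hx (mul_mem (R.a_le_Ma (R.la.x_mem u)) (R.Zh_le_Ma (mul_mem (R.zs_mem m) (R.zl_mem r))))

/-- `C_M(t) = V₂`, in the form used below. -/
theorem Ma_cent {x : G} (hx : x ∈ R.Ma) (h : x * (B.t * x * B.t) = 1) : ∃ v k l, x = B.xa v * B.zs k * B.zl l := by
  obtain ⟨u, v, _, ⟨m, k, r, l, rfl⟩, rfl⟩ := R.mem_Ma.1 hx
  rw [R.tt_Ma, ← mul_assoc, R.Ma_sq hx, one_mul] at h
  obtain ⟨hu, -, hm, hr⟩ := B.inj u 0 m r (by rw [B.xb_zero, mul_one, ← h]; group)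
  subst hu hm hr
  refine ⟨v, k, l, ?_⟩
  rw [R.la.p_zero, R.zh_zs_zl, one_mul, mul_assoc]

theorem V2_mem (v k l : F) : B.xa v * B.zs k * B.zl l ∈ R.Ma :=
  mul_mem (mul_mem (R.a_le_Ma (R.la.x_mem v)) (R.Zh_le_Ma (R.zs_mem k))) (R.Zh_le_Ma (R.zl_mem l))

/-- The involutions `t v`, `v ∈ V₂`, are conjugate to `t` under `M`. -/
theorem exists_conj (v k l : F) : ∃ w ∈ R.Ma, w * B.t * w⁻¹ = B.t * (B.xa v * B.zs k * B.zl l) := by
  refine ⟨R.pa v * (R.ps k * R.pl l), mul_mem (R.a_le_Ma (R.la.p_mem v)) (mul_mem ?_ ?_), ?_⟩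
  · refine R.Zh_le_Ma ⟨k, 0, 0, 0, ?_⟩
    rw [zh, B.zs_zero, R.ll.p_zero, B.zl_zero, mul_one, mul_one, mul_one]
  · exact R.Zh_le_Ma (R.ll_le_Zh (R.ll.p_mem l))
  · have h1 : R.ps k * B.zl l * (R.ps k)⁻¹ = B.zl l := by rw [(R.ps_zl k l).eq]; group
    have h2 : R.pa v * (B.zs k * B.zl l) * (R.pa v)⁻¹ = B.zs k * B.zl l := by
      rw [((R.pa_zs v k).mul_right (R.pa_zl v l)).eq]; group
    calc R.pa v * (R.ps k * R.pl l) * B.t * (R.pa v * (R.ps k * R.pl l))⁻¹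
        = R.pa v * (R.ps k * (R.pl l * B.t * (R.pl l)⁻¹) * (R.ps k)⁻¹) * (R.pa v)⁻¹ := by group
      _ = R.pa v * ((R.ps k * B.t * (R.ps k)⁻¹) * (R.ps k * B.zl l * (R.ps k)⁻¹)) * (R.pa v)⁻¹ := by
          rw [R.ll.conj_t]; group
      _ = (R.pa v * B.t * (R.pa v)⁻¹) * (R.pa v * (B.zs k * B.zl l) * (R.pa v)⁻¹) := by
          rw [R.ls.conj_t, h1]; group
      _ = _ := by rw [R.la.conj_t, h2]; group

/-- `Y`: the elements centralising `N = {p_l(r) z_l(l)}` and acting trivially on `M/N` -/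
def Ya : Subgroup G where
  carrier := {y | (∀ n ∈ R.ll.grp, Commute y n) ∧ ∀ m ∈ R.Ma, y * m * y⁻¹ * m⁻¹ ∈ R.ll.grp}
  mul_mem' := by
    rintro y y' ⟨h1, h2⟩ ⟨h1', h2'⟩
    refine ⟨fun n hn => (h1 n hn).mul_left (h1' n hn), fun m hm => ?_⟩
    have h3 : y * (y' * m * y'⁻¹ * m⁻¹) * y⁻¹ = y' * m * y'⁻¹ * m⁻¹ := by
      rw [(h1 _ (h2' m hm)).eq]; group
    have h4 : y * y' * m * (y * y')⁻¹ * m⁻¹ =
        (y * (y' * m * y'⁻¹ * m⁻¹) * y⁻¹) * (y * m * y⁻¹ * m⁻¹) := by group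
    rw [h4, h3]
    exact mul_mem (h2' m hm) (h2 m hm)
  one_mem' := ⟨fun n _ => Commute.one_left n, fun m _ => by
    rw [one_mul, inv_one, mul_one, mul_inv_cancel]; exact one_mem _⟩
  inv_mem' := by
    rintro y ⟨h1, h2⟩
    refine ⟨fun n hn => (h1 n hn).inv_left, fun m hm => ?_⟩
    have h3 : y⁻¹ * m * y⁻¹⁻¹ * m⁻¹ = y⁻¹ * ((y * m * y⁻¹ * m⁻¹)⁻¹ * y) := by group
    rw [h3, ← (h1 _ (inv_mem (h2 m hm))).eq, inv_mul_cancel_left]
    exact inv_mem (h2 m hm)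

theorem Ya_comm {y n : G} (hy : y ∈ R.Ya) (hn : n ∈ R.ll.grp) : Commute y n := hy.1 n hn
theorem Ya_act {y m : G} (hy : y ∈ R.Ya) (hm : m ∈ R.Ma) : y * m * y⁻¹ * m⁻¹ ∈ R.ll.grp := hy.2 m hm

theorem ll_le_Ma : R.ll.grp ≤ R.Ma := R.ll_le_Zh.trans R.Zh_le_Ma

theorem Ma_le_Ya : R.Ma ≤ R.Ya := by
  intro x hx
  refine ⟨fun n hn => R.Ma_comm hx (R.ll_le_Ma hn), fun m hm => ?_⟩
  have : x * m * x⁻¹ * m⁻¹ = 1 := by rw [(R.Ma_comm hx hm).eq]; group
  rw [this]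
  exact one_mem _

theorem Ya_conj {y m : G} (hy : y ∈ R.Ya) (hm : m ∈ R.Ma) : y * m * y⁻¹ ∈ R.Ma := by
  have h1 := mul_mem (R.ll_le_Ma (R.Ya_act hy hm)) hm
  rwa [inv_mul_cancel_right] at h1

theorem t_ll {n : G} (hn : n ∈ R.ll.grp) : B.t * n * B.t ∈ R.ll.grp := by
  obtain ⟨r, l, rfl⟩ := hn
  rw [R.ll.tt_form B.tt]
  exact mul_mem (R.ll.form_mem r l) (R.ll.x_mem r)

theorem t_Ya {y : G} (hy : y ∈ R.Ya) : B.t * y * B.t ∈ R.Ya := by
  have ht : B.t⁻¹ = B.t := inv_eq_of_mul_eq_one_right B.tt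
  have hc : ∀ x z : G, (B.t * x * B.t) * (B.t * z * B.t) = B.t * (x * z) * B.t := by
    intro x z
    calc (B.t * x * B.t) * (B.t * z * B.t) = B.t * x * (B.t * B.t) * z * B.t := by group
      _ = _ := by rw [B.tt]; group
  have hcc : ∀ x : G, B.t * (B.t * x * B.t) * B.t = x := by
    intro x
    calc B.t * (B.t * x * B.t) * B.t = (B.t * B.t) * x * (B.t * B.t) := by group
      _ = x := by rw [B.tt, one_mul, mul_one]
  have hi : ∀ x : G, (B.t * x * B.t)⁻¹ = B.t * x⁻¹ * B.t := by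
    intro x; rw [mul_inv_rev, mul_inv_rev, ht, mul_assoc]
  refine ⟨fun n hn => ?_, fun m hm => ?_⟩
  · have h1 := (R.Ya_comm hy (R.t_ll hn)).eq
    show B.t * y * B.t * n = n * (B.t * y * B.t)
    calc B.t * y * B.t * n = (B.t * y * B.t) * (B.t * (B.t * n * B.t) * B.t) := by rw [hcc]
      _ = B.t * ((B.t * n * B.t) * y) * B.t := by rw [hc, h1]
      _ = (B.t * (B.t * n * B.t) * B.t) * (B.t * y * B.t) := by rw [← hc]
      _ = _ := by rw [hcc]
  · have h1 := R.t_ll (R.Ya_act hy (R.t_Ma hm))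
    rw [← hc, ← hc, ← hc, ← hi, ← hi, hcc] at h1
    exact h1

theorem t_notMem_Ya : B.t ∉ R.Ya := by
  intro h
  have h1 := R.Ya_act h (R.a_le_Ma (R.la.p_mem 1))
  have ht : B.t⁻¹ = B.t := inv_eq_of_mul_eq_one_right B.tt
  have h2 : B.t * R.pa 1 * B.t⁻¹ * (R.pa 1)⁻¹ = B.xa 1 := by
    have h3 := R.la.conj_t 1
    have h4 := (R.la.t_x 1).eq
    calc B.t * R.pa 1 * B.t⁻¹ * (R.pa 1)⁻¹ = B.t * (R.pa 1 * B.t * (R.pa 1)⁻¹) := by rw [ht]; group
      _ = B.t * B.t * B.xa 1 := by rw [h3]; group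
      _ = _ := by rw [B.tt, one_mul]
  rw [h2] at h1
  have h3 := R.xa_xb_mem (u := 1) (s := 0) (by rw [B.xb_zero, mul_one]; exact R.ll_le_Zh h1)
  exact one_ne_zero h3.1

/-- `y²` centralises `M` -/
theorem Ya_sq {y m : G} (hy : y ∈ R.Ya) (hm : m ∈ R.Ma) : Commute (y * y) m := by
  set! n := y * m * y⁻¹ * m⁻¹ with hn
  have h1 : n ∈ R.ll.grp := R.Ya_act hy hm
  have h2 : y * m * y⁻¹ = n * m := by rw [hn]; group
  have h3 : y * n * y⁻¹ = n := by rw [(R.Ya_comm hy h1).eq]; group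
  have h4 : y * y * m * (y * y)⁻¹ = m := by
    calc y * y * m * (y * y)⁻¹ = y * (y * m * y⁻¹) * y⁻¹ := by group
      _ = y * (n * m) * y⁻¹ := by rw [h2]
      _ = (y * n * y⁻¹) * (y * m * y⁻¹) := by group
      _ = (n * n) * m := by rw [h3, h2]; group
      _ = m := by rw [R.ll.sq h1, one_mul]
  show y * y * m = m * (y * y)
  calc y * y * m = y * y * m * (y * y)⁻¹ * (y * y) := by group
    _ = _ := by rw [h4]

variable [Finite F] {A : Subgroup G}

/-- `C_Y(t) = V₂` -/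
theorem Ya_cent (hE : Env B A) (hF : 4 ≤ Nat.card F) {c : G} (hc : c ∈ R.Ya) (ht : Commute c B.t) :
    c ∈ R.Ma := by
  have key : ∀ s m r, Commute c ((swap B).v1 s m r) := by
    refine RingA.triv_v1 (env_swap hE) hF ht (fun m => R.Ya_comm hc (R.ll.x_mem m)) ?_
    intro s m r
    have h1 : (swap B).v1 s m r ∈ R.Ma := by
      show B.xa (rt s) * B.zl m * B.zs (rt r) ∈ R.Ma
      exact mul_mem (mul_mem (R.a_le_Ma (R.la.x_mem _)) (R.Zh_le_Ma (R.zl_mem m))) (R.Zh_le_Ma (R.zs_mem _))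
    obtain ⟨u, l, h2⟩ := R.Ya_act hc h1
    have h3 : Commute B.t (R.pl u * B.zl l) := by
      rw [← h2]
      have h4 : Commute B.t ((swap B).v1 s m r) := Base.t_v1 (B := swap B) s m r
      exact ((ht.symm.mul_right h4).mul_right ht.symm.inv_right).mul_right h4.inv_right
    have h4 : B.zl u = 1 := by
      have h5 := R.ll.t_form u l
      rw [h3.eq] at h5
      exact left_eq_mul.1 h5
    have h5 : u = 0 := R.ll.x_inj _ h4
    rw [h5, R.ll.p_zero, one_mul] at h2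
    refine ⟨l, ?_⟩
    have h6 : c * (swap B).v1 s m r * c⁻¹ = (swap B).v1 0 l 0 * (swap B).v1 s m r := by
      have h7 : (swap B).v1 0 l 0 = B.zl l := Base.v1_zs (B := swap B) l
      rw [h7, ← h2]; group
    rw [h6, Base.v1_mul, zero_add, zero_add, add_comm l]
  have hxa : ∀ u, Commute c (B.xa u) := by
    intro u
    have h1 := key (u ^ 2) 0 0
    rw [Base.v1_xb] at h1
    change Commute c (B.xa (rt (u ^ 2))) at h1
    rwa [rt_sq] at h1
  have hzs : ∀ u, Commute c (B.zs u) := by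
    intro u
    have h1 := key 0 0 (u ^ 2)
    rw [Base.v1_zl] at h1
    change Commute c (B.zs (rt (u ^ 2))) at h1
    rwa [rt_sq] at h1
  have hzl : ∀ u, Commute c (B.zl u) := fun u => R.Ya_comm hc (R.ll.x_mem u)
  obtain ⟨s, m, r, h | h⟩ := hE.self.cent2 c ht hxa hzs hzl
  · rw [h]; exact R.V2_mem s m r
  · exfalso
    apply R.t_notMem_Ya
    have h1 : B.t = c * (B.xa s * B.zs m * B.zl r)⁻¹ := by rw [h]; group
    rw [h1]
    exact mul_mem hc (inv_mem (R.Ma_le_Ya (R.V2_mem s m r)))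

/-- the fixed cosets of `t` on `Y/M` -/
theorem Ya_fix (hE : Env B A) (hF : 4 ≤ Nat.card F) {y m : G} (hy : y ∈ R.Ya) (hm : m ∈ R.Ma)
    (h : B.t * y * B.t = y * m) : y ∈ R.Ma := by
  have ht : B.t⁻¹ = B.t := inv_eq_of_mul_eq_one_right B.tt
  have h1 : y⁻¹ * B.t * y = m * B.t := by
    calc y⁻¹ * B.t * y = y⁻¹ * (B.t * y * B.t) * B.t⁻¹ := by group
      _ = _ := by rw [h, ht]; group
  have h2 : m * (B.t * m * B.t) = 1 := by
    calc m * (B.t * m * B.t) = (m * B.t) * (m * B.t) := by group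
      _ = y⁻¹ * (B.t * B.t) * y := by rw [← h1]; group
      _ = 1 := by rw [B.tt]; group
  obtain ⟨v, k, l, h3⟩ := R.Ma_cent hm h2
  obtain ⟨w, hw, h4⟩ := R.exists_conj v k l
  have h5 : m * B.t = B.t * m := by
    calc m * B.t = m * B.t * (m * (B.t * m * B.t))⁻¹ := by rw [h2, inv_one, mul_one]
      _ = m * B.t * (B.t * m⁻¹ * B.t * m⁻¹) := by rw [mul_inv_rev, mul_inv_rev, mul_inv_rev, ht]; group
      _ = m * (B.t * B.t) * m⁻¹ * B.t * m⁻¹ := by group
      _ = B.t * m⁻¹ := by rw [B.tt]; group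
      _ = B.t * m := by rw [R.Ma_inv hm]
  rw [← h3, ← h5, ← h1] at h4
  have h6 : Commute (y * w) B.t := by
    show y * w * B.t = B.t * (y * w)
    calc y * w * B.t = y * (w * B.t * w⁻¹) * w := by group
      _ = _ := by rw [h4]; group
  have h7 := R.Ya_cent hE hF (mul_mem hy (R.Ma_le_Ya hw)) h6
  have h8 := mul_mem h7 (inv_mem hw)
  rwa [mul_inv_cancel_right] at h8

/-- **Triviality.** -/
theorem triv' [Finite G] (hE : Env B A) (hF : 4 ≤ Nat.card F) {y : G} (hy : y ∈ R.Ya) :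
    ∀ m ∈ R.Ma, Commute y m := by
  classical
  let M' : Subgroup R.Ya := R.Ma.subgroupOf R.Ya
  have hN : M'.Normal := by
    refine ⟨fun n hn g => ?_⟩
    rw [mem_subgroupOf] at hn ⊢
    exact R.Ya_conj g.2 hn
  -- conjugation by `t`
  have ht : B.t⁻¹ = B.t := inv_eq_of_mul_eq_one_right B.tt
  let f : R.Ya →* R.Ya :=
    { toFun := fun y => ⟨B.t * y * B.t, R.t_Ya y.2⟩
      map_one' := Subtype.ext (by show B.t * 1 * B.t = 1; rw [mul_one, B.tt])
      map_mul' := fun x z => Subtype.ext (by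
        show B.t * (x * z) * B.t = (B.t * x * B.t) * (B.t * z * B.t)
        calc B.t * (x * z : G) * B.t = B.t * x * 1 * z * B.t := by group
          _ = _ := by rw [← B.tt]; group) }
  have hf : M' ≤ M'.comap f := by
    intro x hx
    rw [mem_subgroupOf] at hx
    rw [mem_comap, mem_subgroupOf]
    exact R.t_Ma hx
  let φ : (R.Ya ⧸ M') →* (R.Ya ⧸ M') := QuotientGroup.map M' M' f hf
  have hφ : ∀ q, φ (φ q) = q := by
    intro q
    induction q using QuotientGroup.induction_on with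
    | H x =>
      show ((f (f x) : R.Ya) : R.Ya ⧸ M') = x
      congr 1
      apply Subtype.ext
      show B.t * (B.t * x * B.t) * B.t = x
      calc B.t * (B.t * (x : G) * B.t) * B.t = (B.t * B.t) * x * (B.t * B.t) := by group
        _ = x := by rw [B.tt, one_mul, mul_one]
  have hfix : ∀ q, φ q = q → q = 1 := by
    intro q
    induction q using QuotientGroup.induction_on with
    | H x =>
      intro h
      have h1 : ((f x : R.Ya) : R.Ya ⧸ M') = x := h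
      have h2 := QuotientGroup.eq.1 h1.symm
      rw [mem_subgroupOf] at h2
      have h3 : B.t * (x : G) * B.t = x * ((x : G)⁻¹ * (B.t * x * B.t)) := by group
      exact (QuotientGroup.eq_one_iff x).2 (mem_subgroupOf.2 (R.Ya_fix hE hF x.2 h2 h3))
  have := Fintype.ofFinite (R.Ya ⧸ M')
  have hodd : Fintype.card (R.Ya ⧸ M') ≡ 1 [MOD 2] := by
    have h1 := Equiv.Perm.card_fixedPoints_modEq (α := R.Ya ⧸ M') (f := (φ : R.Ya ⧸ M' → R.Ya ⧸ M')) (p := 2)
      (n := 1) (by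
        funext q
        show φ (φ q) = q
        exact hφ q)
    have h2 : Fintype.card (Function.fixedPoints (φ : R.Ya ⧸ M' → R.Ya ⧸ M')) = 1 := by
      rw [Fintype.card_eq_one_iff]
      exact ⟨⟨1, (map_one φ :)⟩, fun q => Subtype.ext (hfix q.1 q.2)⟩
    rw [h2] at h1
    exact h1
  have hidx : M'.index % 2 = 1 := by
    rw [Subgroup.index, Nat.card_eq_fintype_card]
    exact hodd
  obtain ⟨j, hj⟩ : ∃ j, M'.index = 2 * j + 1 := ⟨M'.index / 2, by omega⟩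
  have hp : y ^ (2 * j + 1) ∈ R.Ma := by
    have h1 := M'.pow_index_mem ⟨y, hy⟩
    rw [hj, mem_subgroupOf] at h1
    exact h1
  intro m hm
  have h1 : Commute (y ^ (2 * j + 1)) m := R.Ma_comm hp hm
  have h2 : Commute ((y * y) ^ j) m := (R.Ya_sq hy hm).pow_left j
  have h3 : y = ((y * y) ^ j)⁻¹ * y ^ (2 * j + 1) := by
    rw [← sq, ← pow_mul, pow_succ]; group
  rw [h3]
  exact h2.inv_left.mul_left h1

/-- **Triviality**, without `Ya`. -/
theorem triv [Finite G] (hE : Env B A) (hF : 4 ≤ Nat.card F) {y : G} (h1 : ∀ r, Commute y (R.pl r))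
    (h2 : ∀ l, Commute y (B.zl l))
    (h3 : ∀ m ∈ R.Ma, ∃ r l, y * m * y⁻¹ * m⁻¹ = R.pl r * B.zl l) : ∀ m ∈ R.Ma, Commute y m := by
  refine R.triv' hE hF ⟨?_, h3⟩
  rintro _ ⟨r, l, rfl⟩
  exact (h1 r).mul_right (h2 l)

end RelA
end EndA
end Cfsg.Agent.StdSpFour
end

-- part: StdSpFour/RingAMake
section
/-!
# Type `Sp₄`, case (A): construction of `RingA`
-/
set_option autoImplicit false
set_option linter.unusedSectionVars false

namespace Cfsg.Agent.StdSpFour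

namespace RingMake

open Cfsg.Agent.StdSpFour.EndA Cfsg.Agent.StdSpFour.Comm

variable {F G : Type*} [Field F] [CharP F 2] [Group G] {B : Base F G}

/-- The relations of case (A), with the second layers named. -/
theorem exists_relA' [Finite F] (hF : 4 ≤ Nat.card F) (hB : B.Self) (S : ShortLayer B) (L : LongLayer B)
    (hSe : S.e = 0) (hLe : L.e = 0) (hSc : S.c = 0) (hLc : L.c = 0) :
    ∃ R : RelA B, R.pa = Comm.p' S ∧ R.pb = Prime.q' L ∧ R.ps = S.p ∧ R.pl = L.q := by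
  have ps_xa : ∀ m u, Commute (S.p m) (B.xa u) := by
    intro m u
    have h := S.xa_p u m
    rw [hSe, zero_mul, zero_mul, B.zl_zero, mul_one] at h
    exact h.symm
  have pl_xb : ∀ m u, Commute (L.q m) (B.xb u) := by
    intro m u
    obtain ⟨r, rfl⟩ := FieldAux.exists_sq m
    obtain ⟨s, rfl⟩ := FieldAux.exists_sq u
    have h := L.xb_q s r
    rw [hLe, zero_mul, B.zs_zero, mul_one] at h
    exact h.symm
  have pa_zs : ∀ u m, Commute (Comm.p' S u) (B.zs m) := by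
    intro u m
    have h := Comm.zs_p' S m u
    rw [hSe, zero_mul, zero_mul, B.zl_zero, mul_one] at h
    exact h.symm
  have pb_zl : ∀ u m, Commute (Prime.q' L u) (B.zl m) := by
    intro u m
    obtain ⟨r, rfl⟩ := FieldAux.exists_sq u
    obtain ⟨s, rfl⟩ := FieldAux.exists_sq m
    have h := Prime.zl_q' L s r
    rw [hLe, zero_mul, B.zs_zero, mul_one] at h
    exact h.symm
  have ps_sq : ∀ u, S.p u * S.p u = 1 := fun u => by rw [S.p_sq, hSc, zero_mul, B.zs_zero]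
  have pl_sq : ∀ u, L.q u * L.q u = 1 := fun u => by rw [L.q_sq, hLc, zero_mul, B.zl_zero]
  have pa_sq : ∀ u, Comm.p' S u * Comm.p' S u = 1 := fun u => by
    rw [Comm.p'_sq, hSc, zero_mul, B.xa_zero]
  have pb_sq : ∀ u, Prime.q' L u * Prime.q' L u = 1 := fun u => by
    rw [Prime.q'_sq, hLc, zero_mul, B.xb_zero]
  have inj : ∀ {u s m r}, B.xa u * B.xb s * B.zs m * B.zl r = 1 → u = 0 ∧ s = 0 ∧ m = 0 ∧ r = 0 :=
    fun h => B.inj _ _ _ _ h
  have la : Lay B.t B.xa (Comm.p' S) :=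
    { x_add := B.xa_add
      x_inj := fun u h => (inj (u := u) (s := 0) (m := 0) (r := 0)
        (by rw [h, B.xb_zero, B.zs_zero, B.zl_zero, one_mul, one_mul, one_mul])).1
      t_x := B.t_xa
      p_zero := Comm.p'_zero S
      t_p := Comm.t_p' S
      p_sq := pa_sq
      p_add := Comm.p'_add S
      p_x := Comm.p'_xa S }
  have lb : Lay B.t B.xb (Prime.q' L) :=
    { x_add := B.xb_add
      x_inj := fun u h => (inj (u := 0) (s := u) (m := 0) (r := 0)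
        (by rw [h, B.xa_zero, B.zs_zero, B.zl_zero, one_mul, one_mul, one_mul])).2.1
      t_x := B.t_xb
      p_zero := Prime.q'_zero L
      t_p := Prime.t_q' L
      p_sq := pb_sq
      p_add := Prime.q'_add L
      p_x := Prime.q'_xb L }
  have ls : Lay B.t B.zs S.p :=
    { x_add := B.zs_add
      x_inj := fun u h => (inj (u := 0) (s := 0) (m := u) (r := 0)
        (by rw [h, B.xa_zero, B.xb_zero, B.zl_zero, one_mul, one_mul, one_mul])).2.2.1
      t_x := B.t_zs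
      p_zero := S.p_zero
      t_p := S.t_p
      p_sq := ps_sq
      p_add := S.p_add
      p_x := S.p_zs }
  have ll : Lay B.t B.zl L.q :=
    { x_add := B.zl_add
      x_inj := fun u h => (inj (u := 0) (s := 0) (m := 0) (r := u)
        (by rw [h, B.xa_zero, B.xb_zero, B.zs_zero, one_mul, one_mul, one_mul])).2.2.2
      t_x := B.t_zl
      p_zero := L.q_zero
      t_p := L.t_q
      p_sq := pl_sq
      p_add := L.q_add
      p_x := L.q_zl }
  have ps_pl : ∀ m r, Commute (S.p m) (L.q r) := Prime.p_q hF hB S L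
  have pa_pl : ∀ u m, Commute (Comm.p' S u) (L.q m) := Prime.p'_q hF hB S L
  have pb_ps : ∀ u m, Commute (Prime.q' L u) (S.p m) := Prime.q'_p hF hB S L
  -- the elements `p q z_s z_l`
  have y_sq : ∀ m r k l, S.p m * L.q r * (B.zs k * B.zl l) * (S.p m * L.q r * (B.zs k * B.zl l)) = 1 := by
    intro m r k l
    have c1 : Commute (S.p m * L.q r) (B.zs k * B.zl l) :=
      ((S.p_zs m k).mul_right (S.p_zl m l)).mul_left ((L.q_zs r k).mul_right (L.q_zl r l))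
    exact prod_sq c1 (prod_sq (ps_pl m r) (ps_sq m) (pl_sq r)) (prod_sq (B.zs_zl k l) (B.zs_zs k) (B.zl_zl' l))
  have y_form : ∀ m r k l, S.p m * L.q r * (B.zs k * B.zl l) = S.p m * B.zs k * (L.q r * B.zl l) := by
    intro m r k l
    calc S.p m * L.q r * (B.zs k * B.zl l) = S.p m * (L.q r * B.zs k) * B.zl l := by group
      _ = _ := by rw [(L.q_zs r k).eq]; group
  -- `κ = 0`
  have pa_ps : ∀ u m, Commute (Comm.p' S u) (S.p m) := by
    obtain ⟨κ, hκ⟩ := Prime.p'_p hF hB S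
    obtain ⟨ε, ε', hx⟩ := Prime.p'_xb hF hB S L
    have h1 := hx 1 1
    simp only [hSe, add_zero, one_pow, mul_one] at h1
    have h2 : Comm.p' S 1 * (S.p 1 * L.q 1 * (B.zs ε * B.zl ε')) *
        (Comm.p' S 1 * (S.p 1 * L.q 1 * (B.zs ε * B.zl ε'))) = 1 := by
      rw [← h1]
      calc (B.xb 1)⁻¹ * Comm.p' S 1 * B.xb 1 * ((B.xb 1)⁻¹ * Comm.p' S 1 * B.xb 1)
          = (B.xb 1)⁻¹ * (Comm.p' S 1 * Comm.p' S 1) * B.xb 1 := by group
        _ = 1 := by rw [pa_sq, mul_one, inv_mul_cancel]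
    have h3 : Comm.p' S 1 * (S.p 1 * L.q 1 * (B.zs ε * B.zl ε')) =
        B.zl κ * ((S.p 1 * L.q 1 * (B.zs ε * B.zl ε')) * Comm.p' S 1) := by
      have h4 := hκ 1 1
      rw [mul_one, mul_one] at h4
      have c1 : Commute (Comm.p' S 1) (L.q 1 * (B.zs ε * B.zl ε')) :=
        (pa_pl 1 1).mul_right ((pa_zs 1 ε).mul_right (Comm.p'_zl S 1 ε'))
      calc Comm.p' S 1 * (S.p 1 * L.q 1 * (B.zs ε * B.zl ε'))
          = (Comm.p' S 1 * S.p 1) * (L.q 1 * (B.zs ε * B.zl ε')) := by group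
        _ = B.zl κ * S.p 1 * (Comm.p' S 1 * (L.q 1 * (B.zs ε * B.zl ε'))) := by rw [h4]; group
        _ = _ := by rw [c1.eq]; group
    have h5 : B.zl κ = 1 := kappa_zero h3 (Comm.p'_zl S 1 κ).symm (pa_sq 1) (y_sq _ _ _ _) h2
    have hk : κ = 0 := ll.x_inj _ h5
    intro u m
    have h6 := hκ u m
    rw [hk, zero_mul, B.zl_zero, one_mul] at h6
    exact h6
  have pb_pl : ∀ u m, Commute (Prime.q' L u) (L.q m) := by
    obtain ⟨κ, hκ⟩ := Prime.q'_q hF hB L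
    obtain ⟨ε, η, hx⟩ := Prime.q'_xa hF hB S L
    have h1 := hx 1 1
    simp only [hLe, add_zero, one_pow, mul_one] at h1
    have c0 : L.q 1 * S.p 1 * (B.zl ε * B.zs η) = S.p 1 * L.q 1 * (B.zs η * B.zl ε) := by
      rw [← (ps_pl 1 1).eq, (B.zs_zl η ε).eq]
    rw [c0] at h1
    have h2 : Prime.q' L 1 * (S.p 1 * L.q 1 * (B.zs η * B.zl ε)) *
        (Prime.q' L 1 * (S.p 1 * L.q 1 * (B.zs η * B.zl ε))) = 1 := by
      rw [← h1]
      calc (B.xa 1)⁻¹ * Prime.q' L 1 * B.xa 1 * ((B.xa 1)⁻¹ * Prime.q' L 1 * B.xa 1)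
          = (B.xa 1)⁻¹ * (Prime.q' L 1 * Prime.q' L 1) * B.xa 1 := by group
        _ = 1 := by rw [pb_sq, mul_one, inv_mul_cancel]
    have h3 : Prime.q' L 1 * (S.p 1 * L.q 1 * (B.zs η * B.zl ε)) =
        B.zs κ * ((S.p 1 * L.q 1 * (B.zs η * B.zl ε)) * Prime.q' L 1) := by
      have h4 := hκ 1 1
      rw [mul_one, mul_one, one_pow] at h4
      have c1 : Commute (Prime.q' L 1) (B.zs η * B.zl ε) :=
        (Prime.q'_zs L 1 η).mul_right (pb_zl 1 ε)
      have c2 : Commute (B.zs κ) (S.p 1) := (S.p_zs 1 κ).symm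
      calc Prime.q' L 1 * (S.p 1 * L.q 1 * (B.zs η * B.zl ε))
          = (Prime.q' L 1 * S.p 1) * L.q 1 * (B.zs η * B.zl ε) := by group
        _ = S.p 1 * (Prime.q' L 1 * L.q 1) * (B.zs η * B.zl ε) := by rw [(pb_ps 1 1).eq]; group
        _ = (S.p 1 * B.zs κ) * L.q 1 * (Prime.q' L 1 * (B.zs η * B.zl ε)) := by rw [h4]; group
        _ = _ := by rw [c1.eq, ← c2.eq]; group
    have h5 : B.zs κ = 1 := kappa_zero h3 (Prime.q'_zs L 1 κ).symm (pb_sq 1) (y_sq _ _ _ _) h2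
    have hk : κ = 0 := ls.x_inj _ h5
    intro u m
    obtain ⟨r, rfl⟩ := FieldAux.exists_sq m
    obtain ⟨s, rfl⟩ := FieldAux.exists_sq u
    have h6 := hκ s r
    rw [hk, zero_mul, B.zs_zero, one_mul] at h6
    exact h6
  refine ⟨{
    pa := Comm.p' S
    pb := Prime.q' L
    ps := S.p
    pl := L.q
    la := la
    lb := lb
    ls := ls
    ll := ll
    ps_xa := ps_xa
    ps_xb := S.p_xb
    ps_zl := S.p_zl
    pl_xa := L.q_xa
    pl_xb := pl_xb
    pl_zs := L.q_zs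
    ps_pl := ps_pl
    pa_zs := pa_zs
    pa_zl := Comm.p'_zl S
    pb_zs := Prime.q'_zs L
    pb_zl := pb_zl
    pa_ps := pa_ps
    pa_pl := pa_pl
    pb_ps := pb_ps
    pb_pl := pb_pl
    pa_xb := ?_
    xa_pb := ?_
    h_pa := Comm.h_p' S
    h_pb := Prime.h_q' L
    h_ps := S.h_p
    h_pl := L.h_q }, rfl, rfl, rfl, rfl⟩
  · obtain ⟨ε, ε', hx⟩ := Prime.p'_xb hF hB S L
    intro u s
    refine ⟨ε * (u * s), ε' * (u ^ 2 * s), ?_⟩
    have h1 := hx u s
    rw [hSe, add_zero, one_mul, y_form] at h1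
    rw [mul_assoc (B.xb s), ← h1]
    group
  · obtain ⟨ε, η, hx⟩ := Prime.q'_xa hF hB S L
    intro u s
    refine ⟨η * (u * s), ε * (u ^ 2 * s), ?_⟩
    have h1 := hx s u
    have c0 : L.q (u ^ 2 * s) * S.p (u * s) * (B.zl (ε * (u ^ 2 * s)) * B.zs (η * (u * s))) =
        S.p (u * s) * L.q (u ^ 2 * s) * (B.zs (η * (u * s)) * B.zl (ε * (u ^ 2 * s))) := by
      rw [← (ps_pl _ _).eq, (B.zs_zl _ _).eq]
    rw [hLe, add_zero, one_mul, c0] at h1
    have h2 := y_sq (u * s) (u ^ 2 * s) (η * (u * s)) (ε * (u ^ 2 * s))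
    rw [← y_form]
    set y := S.p (u * s) * L.q (u ^ 2 * s) * (B.zs (η * (u * s)) * B.zl (ε * (u ^ 2 * s)))
    have h3 : Prime.q' L s * B.xa u = B.xa u * Prime.q' L s * y := by
      rw [mul_assoc (B.xa u), ← h1]; group
    rw [h3, mul_assoc _ y y, h2, mul_one]


/-- The layers with the constants of `[p_a, x_b]`, `[p_b, x_a]` and the Weyl elements. -/
structure Links (R : RelA B) (ε ε' η η' : F) : Prop where
  xb : ∀ u s, cj (B.xb s) (R.pa u) = R.pa u * R.zh (u * s) (ε * (u * s)) (u ^ 2 * s) (ε' * (u ^ 2 * s))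
  xa : ∀ u s, cj (B.xa u) (R.pb s) = R.pb s * R.zh (u * s) (η * (u * s)) (u ^ 2 * s) (η' * (u ^ 2 * s))
  nb_pa : ∀ u, B.nb * R.pa u = R.ps u * B.nb
  nb_ps : ∀ u, B.nb * R.ps u = R.pa u * B.nb
  na_pb : ∀ u, B.na * R.pb u = R.pl u * B.na
  na_pl : ∀ u, B.na * R.pl u = R.pb u * B.na
  nb_pl : ∀ u, ∃ k, B.nb * R.pl u = R.pl u * B.zl k * B.nb
  na_ps : ∀ u, ∃ k, B.na * R.ps u = R.ps u * B.zs k * B.na

namespace Links

variable {R : RelA B} {ε ε' η η' : F} (h : Links R ε ε' η η')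
include h

theorem zh_mul' (m k r l m' k' r' l' : F) {k1 l1 : F} (h1 : R.ps m * R.ps m' = R.ps (m + m') * B.zs k1)
    (h2 : R.pl r * R.pl r' = R.pl (r + r') * B.zl l1) :
    R.zh m k r l * R.zh m' k' r' l' = R.zh (m + m') (k1 + k + k') (r + r') (l1 + l + l') := by
  unfold RelA.zh
  rw [B.zs_add, B.zs_add, B.zl_add, B.zl_add]
  have e1 := (R.ls_ll m' k' r l).eq
  have e2 := (R.ls.p_x m' k).eq
  have e3 := (R.ll.p_x r' l).eq
  calc R.ps m * B.zs k * (R.pl r * B.zl l) * (R.ps m' * B.zs k' * (R.pl r' * B.zl l'))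
      = R.ps m * B.zs k * ((R.pl r * B.zl l) * (R.ps m' * B.zs k')) * (R.pl r' * B.zl l') := by group
    _ = R.ps m * (B.zs k * R.ps m') * B.zs k' * R.pl r * (B.zl l * R.pl r') * B.zl l' := by rw [← e1]; group
    _ = (R.ps m * R.ps m') * B.zs k * B.zs k' * (R.pl r * R.pl r') * B.zl l * B.zl l' := by
        rw [← e2, ← e3]; group
    _ = _ := by rw [h1, h2]; group

theorem add0 (s s' : F) : R.ps (s + s') = R.ps s * R.ps s' ∧ R.pl (s + s') = R.pl s * R.pl s' := by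
  obtain ⟨k1, h1⟩ := R.ls.p_add s' s
  obtain ⟨l1, h2⟩ := R.ll.p_add s' s
  have e1 := h.xb 1 (s + s')
  have e2 := h.xb 1 s
  have e3 := h.xb 1 s'
  simp only [one_mul, one_pow] at e1 e2 e3
  rw [B.xb_add, cj_mul_left, e2, cj_mul, e3, cj_of_comm (R.zh_xb _ _ _ _ _)] at e1
  rw [mul_assoc, h.zh_mul' _ _ _ _ _ _ _ _ h1 h2, add_comm s s'] at e1
  have e4 := R.zh_inj (mul_left_cancel e1)
  have hk : k1 = 0 := by linear_combination e4.2.1
  have hl : l1 = 0 := by linear_combination e4.2.2.2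
  rw [hk, B.zs_zero, mul_one] at h1
  rw [hl, B.zl_zero, mul_one] at h2
  constructor
  · rw [add_comm, ← h1, (R.ls.p_p s' s).eq]
  · rw [add_comm, ← h2, (R.ll.p_p s' s).eq]

theorem ps_add (s s' : F) : R.ps (s + s') = R.ps s * R.ps s' := (h.add0 s s').1
theorem pl_add (s s' : F) : R.pl (s + s') = R.pl s * R.pl s' := (h.add0 s s').2

theorem pa_eq (u : F) : R.pa u = B.nb * R.ps u * B.nb⁻¹ := by rw [h.nb_ps, mul_inv_cancel_right]
theorem pb_eq (u : F) : R.pb u = B.na * R.pl u * B.na⁻¹ := by rw [h.na_pl, mul_inv_cancel_right]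

theorem pa_add (s s' : F) : R.pa (s + s') = R.pa s * R.pa s' := by
  rw [h.pa_eq, h.ps_add, h.pa_eq, h.pa_eq]; group
theorem pb_add (s s' : F) : R.pb (s + s') = R.pb s * R.pb s' := by
  rw [h.pb_eq, h.pl_add, h.pb_eq, h.pb_eq]; group

omit h in
theorem n_eq {n x : G} (hn : n * n = 1) (hx : x * x = 1) (h3 : (n * x) ^ 3 = 1) : n = x * (n * x * n⁻¹) * x := by
  have hni : n⁻¹ = n := inv_eq_of_mul_eq_one_right hn
  have h1 : n * x * n * (x * n * x) = 1 := by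
    rw [← h3, pow_succ, pow_two]; group
  have h2 : n * x * n = (x * n * x)⁻¹ := eq_inv_of_mul_eq_one_left h1
  have hxi : x⁻¹ = x := inv_eq_of_mul_eq_one_right hx
  rw [hni, h2, mul_inv_rev, mul_inv_rev, hxi, hni]
  calc n = (x * x) * n * (x * x) := by rw [hx, one_mul, mul_one]
    _ = _ := by group

variable (W : Weyl B)
include W

theorem nb_pl' (r : F) : B.nb * R.pl r = R.pl r * B.nb := by
  obtain ⟨k, hk⟩ := h.nb_pl r
  have h1 : Commute (B.nb * B.xb 1 * B.nb⁻¹) (R.pl r) := by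
    have hni : B.nb⁻¹ = B.nb := inv_eq_of_mul_eq_one_right W.nb_sq
    have e1 : B.nb⁻¹ * R.pl r * B.nb = R.pl r * B.zl k := by
      rw [hni, hk, mul_assoc, W.nb_sq, mul_one]
    have e2 : Commute (B.xb 1) (B.nb⁻¹ * R.pl r * B.nb) := by
      rw [e1]
      exact (R.pl_xb r 1).symm.mul_right (B.xb_zl 1 k)
    have e3 := e2.map (MulAut.conj B.nb)
    simp only [MulAut.conj_apply] at e3
    have e4 : B.nb * (B.nb⁻¹ * R.pl r * B.nb) * B.nb⁻¹ = R.pl r := by group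
    rwa [e4] at e3
  have h2 := n_eq W.nb_sq (B.xb_xb 1) W.nb_xb
  have h3 : Commute B.nb (R.pl r) := by
    rw [h2]
    exact ((R.pl_xb r 1).symm.mul_left h1).mul_left (R.pl_xb r 1).symm
  exact h3

theorem na_ps' (r : F) : B.na * R.ps r = R.ps r * B.na := by
  obtain ⟨k, hk⟩ := h.na_ps r
  have h1 : Commute (B.na * B.xa 1 * B.na⁻¹) (R.ps r) := by
    have hni : B.na⁻¹ = B.na := inv_eq_of_mul_eq_one_right W.na_sq
    have e1 : B.na⁻¹ * R.ps r * B.na = R.ps r * B.zs k := by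
      rw [hni, hk, mul_assoc, W.na_sq, mul_one]
    have e2 : Commute (B.xa 1) (B.na⁻¹ * R.ps r * B.na) := by
      rw [e1]
      exact (R.ps_xa r 1).symm.mul_right (B.xa_zs 1 k)
    have e3 := e2.map (MulAut.conj B.na)
    simp only [MulAut.conj_apply] at e3
    have e4 : B.na * (B.na⁻¹ * R.ps r * B.na) * B.na⁻¹ = R.ps r := by group
    rwa [e4] at e3
  have h2 := n_eq W.na_sq (B.xa_xa 1) W.na_xa
  have h3 : Commute B.na (R.ps r) := by
    rw [h2]
    exact ((R.ps_xa r 1).symm.mul_left h1).mul_left (R.ps_xa r 1).symm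
  exact h3

/-- the layers as `RingL` -/
def toL : RingL B where
  pa := R.pa
  pb := R.pb
  ps := R.ps
  pl := R.pl
  pa_add := h.pa_add
  pb_add := h.pb_add
  ps_add := h.ps_add
  pl_add := h.pl_add
  t_pa := R.la.t_p
  t_pb := R.lb.t_p
  t_ps := R.ls.t_p
  t_pl := R.ll.t_p
  pa_xa := R.la.p_x
  pa_zs := R.pa_zs
  pa_zl := R.pa_zl
  pa_ps := R.pa_ps
  pa_pl := R.pa_pl
  pb_xb := R.lb.p_x
  pb_zs := R.pb_zs
  pb_zl := R.pb_zl
  pb_ps := R.pb_ps
  pb_pl := R.pb_pl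
  ps_xa := R.ps_xa
  ps_xb := R.ps_xb
  ps_zs := R.ls.p_x
  ps_zl := R.ps_zl
  ps_pl := R.ps_pl
  pl_xa := R.pl_xa
  pl_xb := R.pl_xb
  pl_zs := R.pl_zs
  pl_zl := R.ll.p_x
  h_pa := R.h_pa
  h_pb := R.h_pb
  h_ps := R.h_ps
  h_pl := R.h_pl
  nb_pa := h.nb_pa
  nb_ps := h.nb_ps
  nb_pl := h.nb_pl' W
  na_pb := h.na_pb
  na_pl := h.na_pl
  na_ps := h.na_ps' W

omit W in
theorem cj_of_mul {g x y : G} (e : g * y = x * g) : cj g x = y := by
  rw [cj, mul_assoc, ← e, inv_mul_cancel_left]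

omit W in
theorem cj_inv_of_mul {g x y : G} (e : g * x = y * g) : cj g⁻¹ x = y := by
  rw [cj, inv_inv, e, mul_inv_cancel_right]

/-- `ε = 0` -/
theorem eps_zero : ε = 0 := by
  set! L := h.toL W with hL
  have e1 : cj B.nb (R.ps 1) = R.pa 1 := cj_of_mul h (h.nb_pa 1)
  have e2 : cj (B.xb 1) (R.pa 1) = L.V 1 0 1 ε 1 ε' := by
    rw [h.xb 1 1]
    simp only [mul_one, one_pow]
    rw [L.V_eq, B.xa_zero]
    show R.pa 1 * R.zh 1 ε 1 ε' = R.pa 1 * 1 * R.ps 1 * B.zs ε * R.pl 1 * B.zl ε'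
    unfold RelA.zh; group
  have e3 : ∀ w u m k r l, cj B.nb⁻¹ (L.V w u m k r l) = L.V m k w u r l := by
    intro w u m k r l
    have h1 := L.cj_nb_V m k w u r l
    rw [← h1, ← cj_mul_left, mul_inv_cancel, cj, inv_one, one_mul, mul_one]
  have e4 : cj (B.xb 1) (B.xa ε) = L.V 0 ε 0 ε 0 (ε ^ 2) := by
    rw [cj, mul_assoc, B.xa_xb, L.V_eq, L.pa_zero, L.ps_zero, L.pl_zero, mul_one, mul_one]
    group
  have e5 : cj (B.xb 1) (R.ps 1) = R.ps 1 := cj_of_comm (R.ps_xb 1 1)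
  have e6 : R.ps 1 = L.V 0 0 1 0 0 0 := L.V_ps 1
  have e7 : ∀ m k r l, cj (B.xb 1) (L.V 0 0 m k r l) = L.V 0 0 m k r l := by
    intro m k r l
    rw [← L.V_Zf]
    exact cj_of_comm (L.Zf_xb _ _ _ _ _)
  have h1 : cj B.nb (R.ps 1) = cj (B.xb 1) (cj (B.nb * B.xb 1 * B.nb⁻¹) (cj (B.xb 1) (R.ps 1))) := by
    rw [← cj_mul_left, ← cj_mul_left]
    congr 1
    rw [← mul_assoc]
    exact n_eq W.nb_sq (B.xb_xb 1) W.nb_xb
  rw [e1, e5, cj_mul_left, cj_mul_left, e1, e2, e3] at h1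
  have e8 : L.V 1 ε 1 0 1 ε' = R.pa 1 * B.xa ε * L.V 0 0 1 0 1 ε' := by
    have : R.pa 1 = L.V 1 0 0 0 0 0 := L.V_pa 1
    rw [this, L.V_xa, L.V_mul, L.V_mul]; simp only [add_zero, zero_add]
  have e9 : R.pa 1 = L.V 1 0 0 0 0 0 := L.V_pa 1
  rw [e8, cj_mul, cj_mul, e2, e4, e7, L.V_mul, L.V_mul, e9] at h1
  have h2 := L.V_inj h1
  have h3 := h2.2.1
  rw [zero_add, add_zero] at h3
  exact h3.symm

/-- `η' = 0` -/
theorem eta_zero : η' = 0 := by
  set! L := h.toL W with hL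
  have e1 : cj B.na (R.pl 1) = R.pb 1 := cj_of_mul h (h.na_pb 1)
  have e2 : cj (B.xa 1) (R.pb 1) = R.pb 1 * L.V 0 0 1 η 1 η' := by
    rw [h.xa 1 1]
    simp only [mul_one, one_pow]
    congr 1
    exact L.V_Zf 1 η 1 η'
  have e3 : cj B.na⁻¹ (R.pb 1 * L.V 0 0 1 η 1 η') = L.V 0 0 1 η 1 0 * (R.pb 1 * B.xb η') := by
    rw [cj_mul, ← L.V_Zf, RingL.Zf, cj_mul, cj_mul, cj_mul, cj_inv_of_mul h (h.na_pb 1)]
    rw [show cj B.na⁻¹ (L.ps 1) = L.ps 1 from cj_inv_of_mul h (L.na_ps 1),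
      cj_inv_of_mul h (B.na_zs η), show cj B.na⁻¹ (L.pl 1) = L.pb 1 from cj_inv_of_mul h (L.na_pl 1),
      cj_inv_of_mul h (B.na_zl η')]
    have : L.V 0 0 1 η 1 0 = R.pl 1 * (R.ps 1 * B.zs η) := by
      have a1 : R.pl 1 = L.V 0 0 0 0 1 0 := L.V_pl 1
      have a2 : R.ps 1 = L.V 0 0 1 0 0 0 := L.V_ps 1
      rw [a1, a2, L.V_zs, L.V_mul, L.V_mul]; simp only [add_zero, zero_add]
    rw [this]
    show R.pl 1 * (R.ps 1 * B.zs η * (R.pb 1 * B.xb η')) = _
    group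
  have e4 : cj (B.xa 1) (B.xb η') = B.xb η' * L.V 0 0 0 η' 0 η' := by
    have h1 := B.xa_xb 1 η'
    rw [one_mul, one_pow, one_mul] at h1
    have h2 : B.xb η' * B.xa 1 = B.xa 1 * B.xb η' * L.V 0 0 0 η' 0 η' := by
      have a1 : L.V 0 0 0 η' 0 η' = B.zs η' * B.zl η' := by
        rw [L.V_zs, L.V_zl, L.V_mul]; simp only [add_zero, zero_add]
      have a2 : L.V 0 0 0 η' 0 η' * L.V 0 0 0 η' 0 η' = 1 := L.V_sq _ _ _ _ _ _
      rw [h1, mul_assoc (B.xb η' * B.xa 1), ← a1, mul_assoc, a2, mul_one]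
    rw [cj, mul_assoc, h2]; group
  have e5 : cj (B.xa 1) (R.pl 1) = R.pl 1 := cj_of_comm (R.pl_xa 1 1)
  have e7 : ∀ m k r l, cj (B.xa 1) (L.V 0 0 m k r l) = L.V 0 0 m k r l := by
    intro m k r l
    rw [← L.V_Zf]
    exact cj_of_comm (L.Zf_xa _ _ _ _ _)
  have h1 : cj B.na (R.pl 1) = cj (B.xa 1) (cj (B.na * B.xa 1 * B.na⁻¹) (cj (B.xa 1) (R.pl 1))) := by
    rw [← cj_mul_left, ← cj_mul_left]
    congr 1
    rw [← mul_assoc]
    exact n_eq W.na_sq (B.xa_xa 1) W.na_xa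
  rw [e1, e5, cj_mul_left, cj_mul_left, e1, e2, e3, cj_mul, cj_mul, e2, e4, e7] at h1
  have c1 : Commute (L.V 0 0 1 η 1 0) (R.pb 1) := by
    rw [← L.V_Zf]; exact L.Zf_pb _ _ _ _ _
  have c2 : Commute (L.V 0 0 1 η 1 η') (B.xb η') := by
    rw [← L.V_Zf]; exact L.Zf_xb _ _ _ _ _
  have c3 : Commute (L.V 0 0 1 η 1 0) (B.xb η') := by
    rw [← L.V_Zf]; exact L.Zf_xb _ _ _ _ _
  have h2 : R.pb 1 = R.pb 1 * (B.xb η' * L.V 0 0 0 η' 0 0) := by
    nth_rewrite 1 [h1]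
    calc L.V 0 0 1 η 1 0 * (R.pb 1 * L.V 0 0 1 η 1 η' * (B.xb η' * L.V 0 0 0 η' 0 η'))
        = (L.V 0 0 1 η 1 0 * R.pb 1) * (L.V 0 0 1 η 1 η' * B.xb η') * L.V 0 0 0 η' 0 η' := by group
      _ = R.pb 1 * (L.V 0 0 1 η 1 0 * B.xb η') * (L.V 0 0 1 η 1 η' * L.V 0 0 0 η' 0 η') := by
          rw [c1.eq, c2.eq]; group
      _ = R.pb 1 * B.xb η' * (L.V 0 0 1 η 1 0 * (L.V 0 0 1 η 1 η' * L.V 0 0 0 η' 0 η')) := by
          rw [c3.eq]; group
      _ = _ := by
          rw [L.V_mul, L.V_mul, mul_assoc]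
          congr 2
          simp only [add_zero]
          (with_reducible congr 1)
          · exact CharTwo.add_self_eq_zero _
          · rw [← add_assoc, CharTwo.add_self_eq_zero, zero_add]
          · exact CharTwo.add_self_eq_zero _
          · rw [CharTwo.add_self_eq_zero, add_zero]
  have h3 : B.xb η' * L.V 0 0 0 η' 0 0 = 1 := by
    have : R.pb 1 * (B.xb η' * L.V 0 0 0 η' 0 0) = R.pb 1 := h2.symm
    exact mul_eq_left.1 this
  rw [← L.V_zs] at h3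
  have h4 := B.inj 0 η' η' 0 (by rw [B.xa_zero, B.zl_zero, one_mul, mul_one]; exact h3)
  exact h4.2.1

end Links

/-- the constants of `[p_a, p_b]` -/
theorem exists_pp (L : RingL B) {δ : F}
    (h1 : ∀ u s, cj (B.xb s) (L.pa u) = L.V u 0 (u * s) 0 (u ^ 2 * s) (δ * (u ^ 2 * s)))
    (h2 : ∀ u s, cj (L.pb s) (B.xa u) = L.V 0 u (u * s) 0 (u ^ 2 * s) 0)
    (h3 : ∀ u s, ∃ m k r l, cj (L.pb s) (L.pa u) = L.V u 0 m k r l) :
    ∃ κ μ, ∀ u s, cj (L.pb s) (L.pa u) =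
      L.V u 0 (u * s) (κ * (u * s)) ((1 + δ) * (u ^ 2 * s)) (μ * (u ^ 2 * s)) := by
  obtain ⟨m, κ, r, μ, h4⟩ := h3 1 1
  -- conjugation by `t`
  have ht : ∀ x : G, cj B.t x = B.t * x * B.t := by intro x; rw [cj, B.t_inv]
  have tpb : cj B.t (L.pb 1) = L.pb 1 * B.xb 1 := by
    rw [ht, L.t_pb, mul_assoc _ (B.xb 1) B.t, ← (B.t_xb 1).eq, ← mul_assoc, mul_assoc (L.pb 1), B.tt, mul_one]
  have h5 : cj (L.pb 1 * B.xb 1) (L.V 1 1 0 0 0 0) = L.V 1 (0 + 1) m (κ + m) r (μ + r) := by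
    have e1 : L.V 1 1 0 0 0 0 = cj B.t (L.pa 1) := by
      rw [ht, L.V_pa, L.t_V]; simp only [zero_add]
    rw [e1, ← tpb, ← L.t_V, ← h4, ← ht]
    have : ∀ g x : G, cj (cj B.t g) (cj B.t x) = cj B.t (cj g x) := by
      intro g x
      simp only [cj]; group
    rw [this]
  have h6 : cj (L.pb 1 * B.xb 1) (L.V 1 1 0 0 0 0) =
      L.V 1 (0 + 1) (m + 1 + 1) (κ + 1) (r + 1 + 1) (μ + δ + 1) := by
    have e1 : L.V 1 1 0 0 0 0 = L.pa 1 * B.xa 1 := by
      rw [L.V_pa, L.V_xa, L.V_mul]; simp only [add_zero, zero_add]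
    have e2 : cj (B.xb 1) (B.xa 1) = L.V 0 1 0 1 0 1 := by
      rw [cj, mul_assoc, B.xa_xb, L.V_eq, L.pa_zero, L.ps_zero, L.pl_zero]
      simp only [mul_one, one_mul, one_pow]
      group
    have e3 : ∀ m k r l, cj (B.xb 1) (L.V 0 0 m k r l) = L.V 0 0 m k r l := by
      intro m k r l
      rw [← L.V_Zf]
      exact cj_of_comm (L.Zf_xb _ _ _ _ _)
    have e4 : L.V 1 0 m κ r μ = L.pa 1 * L.V 0 0 m κ r μ := by
      rw [L.V_pa, L.V_mul]; simp only [add_zero, zero_add]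
    have e5 : L.V 0 1 (1 * 1) 0 (1 ^ 2 * 1) 0 = B.xa 1 * L.V 0 0 1 0 1 0 := by
      rw [L.V_xa, L.V_mul]; simp only [add_zero, zero_add, one_mul, one_pow]
    rw [e1, cj_mul, cj_mul_left, cj_mul_left, h4, h2, e4, e5, cj_mul, cj_mul, h1, e2, e3, e3, L.V_mul, L.V_mul, L.V_mul]
    (with_reducible congr 1) <;> ring
  rw [h5] at h6
  obtain ⟨-, -, -, h7, -, h8⟩ := L.V_inj h6
  have hm : m = 1 := by linear_combination h7
  have hr : r = 1 + δ := by linear_combination h8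
  subst hm hr
  refine ⟨κ, μ, fun u s => ?_⟩
  by_cases hu : u = 0
  · subst hu
    rw [L.pa_zero, cj_one]
    simp only [zero_mul, mul_zero, ne_eq, OfNat.ofNat_ne_zero, not_false_eq_true, zero_pow]
    rw [L.V_zero]
  by_cases hs : s = 0
  · subst hs
    rw [L.pb_zero, L.V_pa, cj, inv_one, one_mul, mul_one]
    simp only [mul_zero]
  have e1 := L.cj_h_V (Units.mk0 u hu) (Units.mk0 s hs) 1 0 1 κ (1 + δ) μ
  rw [← h4] at e1
  have e2 : cj (B.h (Units.mk0 u hu) (Units.mk0 s hs))⁻¹ (cj (L.pb 1) (L.pa 1)) = cj (L.pb s) (L.pa u) := by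
    have a1 : cj (B.h (Units.mk0 u hu) (Units.mk0 s hs))⁻¹ (L.pb 1) = L.pb s := by
      rw [cj, inv_inv, L.h_pb, mul_inv_cancel_right, Units.val_mk0, mul_one]
    have a2 : cj (B.h (Units.mk0 u hu) (Units.mk0 s hs))⁻¹ (L.pa 1) = L.pa u := by
      rw [cj, inv_inv, L.h_pa, mul_inv_cancel_right, Units.val_mk0, mul_one]
    rw [← a1, ← a2]
    simp only [cj]; group
  rw [← e2, e1]
  simp only [Units.val_mk0]
  (with_reducible congr 1) <;> ring

/-- **The ring relations of case (A).** -/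
theorem exists_ringA [Finite F] (hF : 4 ≤ Nat.card F) (hB : B.Self) (W : Weyl B) (S : ShortLayer B) (L : LongLayer B)
    (hSe : S.e = 0) (hLe : L.e = 0) (hSc : S.c = 0) (hLc : L.c = 0) :
    ∃ δ κ μ, Nonempty (RingA B δ κ μ) := by
  have := Fintype.ofFinite F
  have hF' : 4 ≤ Fintype.card F := by rwa [← Nat.card_eq_fintype_card]
  obtain ⟨R, r1, r2, r3, r4⟩ := exists_relA' hF hB S L hSe hLe hSc hLc
  obtain ⟨ε, ε', hx⟩ := Prime.p'_xb hF hB S L
  obtain ⟨η', η, hy⟩ := Prime.q'_xa hF hB S L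
  have H : Links R ε ε' η η' :=
    { xb := by
        intro u s
        have h := hx u s
        rw [hSe, add_zero, one_mul] at h
        rw [r1, cj]
        unfold RelA.zh
        rw [r3, r4, h]
        have c1 := (L.q_zs (u ^ 2 * s) (ε * (u * s))).eq
        calc p' S u * (S.p (u * s) * L.q (u ^ 2 * s) * (B.zs (ε * (u * s)) * B.zl (ε' * (u ^ 2 * s))))
            = p' S u * (S.p (u * s) * (L.q (u ^ 2 * s) * B.zs (ε * (u * s))) * B.zl (ε' * (u ^ 2 * s))) := by group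
          _ = _ := by rw [c1]; group
      xa := by
        intro u s
        have h := hy s u
        rw [hLe, add_zero, one_mul] at h
        rw [r2, cj]
        unfold RelA.zh
        rw [r3, r4, h]
        have c1 := (L.q_zs (u ^ 2 * s) (η * (u * s))).eq
        have c2 : L.q (u ^ 2 * s) * S.p (u * s) = S.p (u * s) * L.q (u ^ 2 * s) := by
          rw [← r3, ← r4, (R.ps_pl _ _).eq]
        have c3 := (B.zs_zl (η * (u * s)) (η' * (u ^ 2 * s))).eq
        calc Prime.q' L s * (L.q (u ^ 2 * s) * S.p (u * s) * (B.zl (η' * (u ^ 2 * s)) * B.zs (η * (u * s))))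
            = Prime.q' L s * ((L.q (u ^ 2 * s) * S.p (u * s)) * (B.zs (η * (u * s)) * B.zl (η' * (u ^ 2 * s)))) := by
              rw [c3]
          _ = Prime.q' L s * (S.p (u * s) * (L.q (u ^ 2 * s) * B.zs (η * (u * s))) * B.zl (η' * (u ^ 2 * s))) := by
              rw [c2]; group
          _ = _ := by rw [c1]; group
      nb_pa := by
        intro u
        rw [r1, r3, p'_eq]
        have hni : B.nb⁻¹ = B.nb := inv_eq_of_mul_eq_one_right W.nb_sq
        calc B.nb * (B.nb * S.p u * B.nb⁻¹) = (B.nb * B.nb) * S.p u * B.nb⁻¹ := by group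
          _ = _ := by rw [W.nb_sq, one_mul, hni]
      nb_ps := by
        intro u
        rw [r1, r3, p'_eq, inv_mul_cancel_right]
      na_pb := by
        intro u
        rw [r2, r4, Prime.q', MulAut.conj_apply]
        have hni : B.na⁻¹ = B.na := inv_eq_of_mul_eq_one_right W.na_sq
        calc B.na * (B.na * L.q u * B.na⁻¹) = (B.na * B.na) * L.q u * B.na⁻¹ := by group
          _ = _ := by rw [W.na_sq, one_mul, hni]
      na_pl := by
        intro u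
        rw [r2, r4, Prime.q', MulAut.conj_apply, inv_mul_cancel_right]
      nb_pl := by
        intro u
        obtain ⟨k, hk⟩ := nb_q hF hB L u
        refine ⟨k, ?_⟩
        rw [r4, ← (L.q_zl u k).symm.eq, ← hk, MulAut.conj_apply, inv_mul_cancel_right]
      na_ps := by
        intro u
        obtain ⟨k, hk⟩ := nb_q hF (Swap.swap_self B hB) (Swap.swapL S) (u ^ 2)
        refine ⟨Swap.rt k, ?_⟩
        rw [r3]
        change MulAut.conj B.na (S.p (Swap.rt (u ^ 2))) = B.zs (Swap.rt k) * S.p (Swap.rt (u ^ 2)) at hk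
        rw [Swap.rt_sq, ← (S.p_zs u _).eq] at hk
        rw [← hk, MulAut.conj_apply, inv_mul_cancel_right] }
  have hε := H.eps_zero W
  have hη := H.eta_zero W
  subst hε hη
  set! L0 := H.toL W with hL0
  set! L1 := L0.shift 0 η with hL1
  have e1 : ∀ u, L1.pa u = L0.V u 0 0 0 0 0 := by
    intro u
    show L0.pa u * B.xa (0 * u) = _
    rw [zero_mul, B.xa_zero, mul_one, L0.V_pa]
  have p1 : ∀ u s, cj (B.xb s) (L1.pa u) = L1.V u 0 (u * s) 0 (u ^ 2 * s) ((ε' + η) * (u ^ 2 * s)) := by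
    intro u s
    have a1 : L1.pa u = L0.pa u := by rw [e1, ← L0.V_pa]
    have a2 : cj (B.xb s) (L0.pa u) = L0.pa u * L0.Zf (u * s) (0 * (u * s)) (u ^ 2 * s) (ε' * (u ^ 2 * s)) := H.xb u s
    rw [a1, a2, L0.V_Zf, L0.V_pa, L0.V_mul, RingL.shift_V]
    have h2 : (2 : F) = 0 := CharTwo.two_eq_zero
    (with_reducible congr 1)
    all_goals first | ring1 | linear_combination (-(η * u ^ 2 * s)) * h2
  have p2 : ∀ u s, cj (L1.pb s) (B.xa u) = L1.V 0 u (u * s) 0 (u ^ 2 * s) 0 := by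
    intro u s
    have a1 : cj (B.xa u) (L0.pb s) = L0.pb s * L0.Zf (u * s) (η * (u * s)) (u ^ 2 * s) (0 * (u ^ 2 * s)) := H.xa u s
    have a2 : cj (L0.pb s) (B.xa u) = B.xa u * L0.Zf (u * s) (η * (u * s)) (u ^ 2 * s) (0 * (u ^ 2 * s)) := by
      set ζ := L0.Zf (u * s) (η * (u * s)) (u ^ 2 * s) (0 * (u ^ 2 * s)) with hζ
      have b1 : ζ * ζ = 1 := by rw [hζ, L0.V_Zf, L0.V_sq]
      have b2 : Commute ζ (L0.pb s) := L0.Zf_pb _ _ _ _ _
      have b3 : Commute ζ (B.xa u) := L0.Zf_xa _ _ _ _ _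
      have b4 : L0.pb s * B.xa u = B.xa u * (L0.pb s * ζ) := by rw [← a1, cj]; group
      rw [cj, mul_assoc]
      have b5 : B.xa u * L0.pb s = L0.pb s * (B.xa u * ζ) := by
        calc B.xa u * L0.pb s = B.xa u * L0.pb s * (ζ * ζ) := by rw [b1, mul_one]
          _ = B.xa u * (L0.pb s * ζ) * ζ := by group
          _ = _ := by rw [← b4]; group
      rw [b5, inv_mul_cancel_left]
    have a3 : L1.pb s = L0.pb s * B.xb (η * s) := rfl
    have a4 : cj (B.xb (η * s)) (B.xa u) = L0.V 0 u 0 (u * (η * s)) 0 (u ^ 2 * (η * s)) := by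
      rw [cj, mul_assoc, B.xa_xb, L0.V_eq, L0.pa_zero, L0.ps_zero, L0.pl_zero]
      simp only [mul_one, one_mul]
      group
    rw [a3, cj_mul_left, a2, cj_mul, a4, cj_of_comm (L0.Zf_xb _ _ _ _ _), L0.V_Zf, L0.V_mul, RingL.shift_V]
    have h2 : (2 : F) = 0 := CharTwo.two_eq_zero
    (with_reducible congr 1)
    all_goals first | ring1 | linear_combination (η * u * s) * h2
  have p3 : ∀ u s, ∃ m k r l, cj (L1.pb s) (L1.pa u) = L1.V u 0 m k r l := by
    intro u s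
    obtain ⟨_, ⟨m, k, r, l, rfl⟩, hc⟩ := R.pa_pb hB hF' u s
    have a1 : cj (L0.pb s) (L0.pa u) = L0.pa u * L0.Zf m k r l := by
      have b1 : L0.pa u * L0.pb s = L0.pb s * L0.pa u * L0.Zf m k r l := hc
      rw [cj, mul_assoc, b1]; group
    have a2 : L1.pb s = L0.pb s * B.xb (η * s) := rfl
    have a3 : L1.pa u = L0.pa u := by rw [e1, ← L0.V_pa]
    have a4 : cj (B.xb (η * s)) (L0.pa u) = L0.pa u * L0.Zf (u * (η * s)) (0 * (u * (η * s))) (u ^ 2 * (η * s))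
      (ε' * (u ^ 2 * (η * s))) := H.xb u (η * s)
    rw [a2, a3, cj_mul_left, a1, cj_mul, a4, cj_of_comm (L0.Zf_xb _ _ _ _ _), L0.V_Zf, L0.V_Zf, L0.V_pa, L0.V_mul,
      L0.V_mul]
    have a5 : ∀ w u m k r l, L0.V w u m k r l = L1.V w u m k r (l + η * r) := by
      intro w u m k r l
      rw [RingL.shift_V]
      have h2 : (2 : F) = 0 := CharTwo.two_eq_zero
      congr 1
      all_goals first | ring1 | linear_combination (-(η * r)) * h2
    rw [a5]
    simp only [add_zero]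
    exact ⟨_, _, _, _, rfl⟩
  obtain ⟨κ, μ, h⟩ := exists_pp L1 p1 p2 p3
  exact ⟨_, _, _, ⟨L1.mkA p1 p2 h⟩⟩

end RingMake
end Cfsg.Agent.StdSpFour
end

-- part: StdSpFour/RingAEnd
section
/-!
# Type `Sp₄`, case (A): `RingA B δ δ δ`, and `RingA B 0 0 0` when `δ = c² + c`
-/
set_option autoImplicit false
set_option linter.unusedSectionVars false

namespace Cfsg.Agent.StdSpFour

open Cfsg.Agent.StdSpFour.Comm

variable {F G : Type*} [Field F] [CharP F 2] [Group G] {B : Base F G} {A : Subgroup G}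

namespace RingA

/-- forget the constants -/
def toRelA {δ κ μ : F} (R : RingA B δ κ μ) : EndA.RelA B where
  pa := R.pa
  pb := R.pb
  ps := R.ps
  pl := R.pl
  la :=
    { x_add := B.xa_add
      x_inj := fun u h => (B.inj u 0 0 0
        (by rw [h, B.xb_zero, B.zs_zero, B.zl_zero, one_mul, one_mul, one_mul])).1
      t_x := B.t_xa
      p_zero := R.pa_zero
      t_p := R.t_pa
      p_sq := R.pa_sq
      p_add := fun u v => ⟨0, by rw [B.xa_zero, mul_one, R.pa_add]⟩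
      p_x := R.pa_xa }
  lb :=
    { x_add := B.xb_add
      x_inj := fun u h => (B.inj 0 u 0 0
        (by rw [h, B.xa_zero, B.zs_zero, B.zl_zero, one_mul, one_mul, one_mul])).2.1
      t_x := B.t_xb
      p_zero := R.pb_zero
      t_p := R.t_pb
      p_sq := R.pb_sq
      p_add := fun u v => ⟨0, by rw [B.xb_zero, mul_one, R.pb_add]⟩
      p_x := R.pb_xb }
  ls :=
    { x_add := B.zs_add
      x_inj := fun u h => (B.inj 0 0 u 0
        (by rw [h, B.xa_zero, B.xb_zero, B.zl_zero, one_mul, one_mul, one_mul])).2.2.1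
      t_x := B.t_zs
      p_zero := R.ps_zero
      t_p := R.t_ps
      p_sq := R.ps_sq
      p_add := fun u v => ⟨0, by rw [B.zs_zero, mul_one, R.ps_add]⟩
      p_x := R.ps_zs }
  ll :=
    { x_add := B.zl_add
      x_inj := fun u h => (B.inj 0 0 0 u
        (by rw [h, B.xa_zero, B.xb_zero, B.zs_zero, one_mul, one_mul, one_mul])).2.2.2
      t_x := B.t_zl
      p_zero := R.pl_zero
      t_p := R.t_pl
      p_sq := R.pl_sq
      p_add := fun u v => ⟨0, by rw [B.zl_zero, mul_one, R.pl_add]⟩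
      p_x := R.pl_zl }
  ps_xa := R.ps_xa
  ps_xb := R.ps_xb
  ps_zl := R.ps_zl
  pl_xa := R.pl_xa
  pl_xb := R.pl_xb
  pl_zs := R.pl_zs
  ps_pl := R.ps_pl
  pa_zs := R.pa_zs
  pa_zl := R.pa_zl
  pb_zs := R.pb_zs
  pb_zl := R.pb_zl
  pa_ps := R.pa_ps
  pa_pl := R.pa_pl
  pb_ps := R.pb_ps
  pb_pl := R.pb_pl
  pa_xb := fun u s => ⟨0, δ * (u ^ 2 * s), by
    rw [R.pa_xb, B.zs_zero, mul_one]; group⟩
  xa_pb := fun u s => ⟨0, 0, by
    rw [R.xa_pb, B.zs_zero, B.zl_zero, mul_one, mul_one]; group⟩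
  h_pa := R.h_pa
  h_pb := R.h_pb
  h_ps := R.h_ps
  h_pl := R.h_pl

theorem toRelA_zh {δ κ μ : F} (R : RingA B δ κ μ) (m k r l : F) : R.toRelA.zh m k r l = R.Zf m k r l := rfl

theorem V_mem_Ma {δ κ μ : F} (R : RingA B δ κ μ) (w u m k r l : F) : R.V w u m k r l ∈ R.toRelA.Ma := by
  rw [EndA.RelA.mem_Ma]
  exact ⟨w, u, R.Zf m k r l, ⟨m, k, r, l, rfl⟩, rfl⟩

theorem triv [Finite F] [Finite G] (hE : Env B A) (hF : 4 ≤ Nat.card F) {δ κ μ : F} (R : RingA B δ κ μ) : R.Triv := by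
  intro y h1 h2 h3 w u m k r l
  have h4 := R.toRelA.triv hE hF (y := y⁻¹) (fun r => (h1 r).inv_left) (fun l => (h2 l).inv_left) (by
    intro g hg
    obtain ⟨w, u, _, ⟨m, k, r, l, rfl⟩, rfl⟩ := (EndA.RelA.mem_Ma R.toRelA).1 hg
    obtain ⟨r', l', h5⟩ := h3 w u m k
    rw [toRelA_zh]
    have e1 : R.toRelA.pa w * B.xa u * R.Zf m k r l = R.V w u m k 0 0 * R.V 0 0 0 0 r l := by
      rw [R.V_mul]; simp only [add_zero, zero_add]; rfl
    have e2 : cj y (R.V 0 0 0 0 r l) = R.V 0 0 0 0 r l := by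
      have : R.V 0 0 0 0 r l = R.pl r * B.zl l := by
        rw [R.V_pl, R.V_zl, R.V_mul]; simp only [add_zero, zero_add]
      rw [this]
      exact cj_of_comm ((h1 r).symm.mul_left (h2 l).symm)
    refine ⟨r', l', ?_⟩
    have e3 : y⁻¹ * (R.toRelA.pa w * B.xa u * R.Zf m k r l) * y⁻¹⁻¹ = cj y (R.V w u m k 0 0 * R.V 0 0 0 0 r l) := by
      rw [e1, cj, inv_inv]
    rw [e3, cj_mul, h5, e2, e1, R.V_mul, R.V_mul, R.V_inv, R.V_mul]
    show _ = R.pl r' * B.zl l'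
    rw [R.V_pl, R.V_zl, R.V_mul]
    have h2 : (2 : F) = 0 := CharTwo.two_eq_zero
    (with_reducible congr 1)
    · linear_combination w * h2
    · linear_combination u * h2
    · linear_combination m * h2
    · linear_combination k * h2
    · linear_combination r * h2
    · linear_combination l * h2)
  have h5 := h4 _ (R.V_mem_Ma w u m k r l)
  have h6 := h5.inv_left
  rwa [inv_inv] at h6

end RingA

/-- **The ring relations.** -/
theorem exists_ringA [Finite F] [Finite G] (hE : Env B A) (hF : 4 ≤ Nat.card F) (S : ShortLayer B) (L : LongLayer B)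
    (hSe : S.e = 0) (hLe : L.e = 0) (hSc : S.c = 0) (hLc : L.c = 0) : ∃ δ, Nonempty (RingA B δ δ δ) := by
  obtain ⟨δ, κ, μ, ⟨R⟩⟩ := RingMake.exists_ringA hF hE.self hE.weyl S L hSe hLe hSc hLc
  obtain ⟨h1, h2⟩ := R.consts hF (R.triv hE hF)
  subst h1 h2
  exact ⟨_, ⟨R⟩⟩

/-- **split case** -/
theorem RingA.split {δ : F} (R : RingA B δ δ δ) {c : F} (hc : δ = c ^ 2 + c) : Nonempty (RingA B 0 0 0) := by
  have h := R.shift c
  have e : δ + c ^ 2 + c = 0 := by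
    rw [hc]
    have h2 : (2 : F) = 0 := CharTwo.two_eq_zero
    linear_combination (c ^ 2 + c) * h2
  rw [e] at h
  exact ⟨h⟩

end Cfsg.Agent.StdSpFour
end

-- part: StdSpFour/RingAOut
section
/-!
# Type `Sp₄`, case (A): an outer involution forces `δ = c² + c`
-/
set_option autoImplicit false
set_option linter.unusedSectionVars false

namespace Cfsg.Agent.StdSpFour

open Cfsg.Agent.StdSpFour.Comm Cfsg.Agent.StdSpFour.Fld Cfsg.Agent.StdSpFour.RingL

namespace ArtinSch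

variable (F : Type*) [Field F] [CharP F 2]

/-- `x ↦ x² + x` -/
def wp : F →+ F where
  toFun x := x ^ 2 + x
  map_zero' := by rw [zero_pow two_ne_zero, add_zero]
  map_add' x y := by rw [CharTwo.add_sq]; ring

variable {F}

theorem wp_apply (x : F) : wp F x = x ^ 2 + x := rfl

theorem card_ker : Nat.card (wp F).ker = 2 := by
  have h : ∀ x, x ∈ (wp F).ker ↔ x = 0 ∨ x = 1 := by
    intro x
    rw [AddMonoidHom.mem_ker, wp_apply]
    constructor
    · intro h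
      have h1 : x * (x + 1) = 0 := by rw [← h]; ring
      rcases mul_eq_zero.1 h1 with h2 | h2
      · exact Or.inl h2
      · exact Or.inr (CharTwo.add_eq_zero.1 h2)
    · rintro (rfl | rfl)
      · rw [zero_pow two_ne_zero, add_zero]
      · rw [one_pow]; exact CharTwo.add_self_eq_zero 1
  have h2 : ((wp F).ker : Set F) = {0, 1} := by
    ext x
    rw [SetLike.mem_coe, h]
    rfl
  have h3 : Nat.card (wp F).ker = ((wp F).ker : Set F).ncard := rfl
  rw [h3, h2]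
  exact Set.ncard_pair zero_ne_one

theorem index_range [Finite F] : (wp F).range.index = 2 := by
  have h1 : Nat.card (wp F).range * (wp F).range.index = Nat.card F := AddSubgroup.card_mul_index _
  have h2 : Nat.card (wp F).ker * (wp F).ker.index = Nat.card F := AddSubgroup.card_mul_index _
  have h3 : (wp F).ker.index = Nat.card (wp F).range := AddSubgroup.index_ker _
  rw [card_ker, h3, ← h1, mul_comm] at h2
  have h4 : 0 < Nat.card (wp F).range := Nat.card_pos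
  exact (Nat.eq_of_mul_eq_mul_left h4 h2).symm

theorem mem_iff (ψ : F ≃+* F) (x : F) : ψ x ∈ (wp F).range ↔ x ∈ (wp F).range := by
  constructor
  · rintro ⟨y, hy⟩
    refine ⟨ψ.symm y, ?_⟩
    apply ψ.injective
    rw [← hy, wp_apply, wp_apply, map_add, map_pow, ψ.apply_symm_apply]
  · rintro ⟨y, rfl⟩
    exact ⟨ψ y, by rw [wp_apply, wp_apply, map_add, map_pow]⟩

/-- `x + ψ x` is of the form `c² + c`. -/
theorem exists_add [Finite F] (ψ : F ≃+* F) (x : F) : ∃ c, x + ψ x = c ^ 2 + c := by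
  have h : x + ψ x ∈ (wp F).range := by
    rw [AddSubgroup.add_mem_iff_of_index_two index_range, mem_iff]
  obtain ⟨c, hc⟩ := h
  exact ⟨c, hc.symm⟩

/-- field case -/
theorem exists_fld [Finite F] {σ : F ≃+* F} (h2 : ∀ x, σ (σ x) = x) (h1 : σ ≠ 1) {δ μ : F} (hμ : σ μ = μ)
    (h : μ ^ 2 + μ = δ + σ δ) : ∃ c, δ = c ^ 2 + c := by
  obtain ⟨a, ha⟩ : ∃ a, σ a ≠ a := by
    by_contra hcon
    push Not at hcon
    exact h1 (RingEquiv.ext hcon)
  set! t := a + σ a with ht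
  have ht0 : t ≠ 0 := by
    intro h
    exact ha (CharTwo.add_eq_zero.1 h).symm
  have hst : σ t = t := by rw [ht, map_add, h2, add_comm]
  set! e := a / t with he
  have hee : e + σ e = 1 := by
    rw [he, map_div₀, hst, ← add_div, ← ht, div_self ht0]
  -- `ω = μ e`
  set! ω := μ * e with hω
  have hωω : ω + σ ω = μ := by
    rw [hω, map_mul, hμ, ← mul_add, hee, mul_one]
  set! d := δ + ω ^ 2 + ω with hd
  have hdd : σ d = d := by
    have h3 : σ ω = μ + ω := by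
      rw [← hωω, add_assoc, add_comm (σ ω), ← add_assoc, CharTwo.add_self_eq_zero, zero_add]
    have h4 : σ δ = μ ^ 2 + μ + δ := by
      rw [h, add_assoc, add_comm (σ δ), ← add_assoc, CharTwo.add_self_eq_zero, zero_add]
    rw [hd, map_add, map_add, map_pow, h3, h4]
    have h2' : (2 : F) = 0 := CharTwo.two_eq_zero
    linear_combination (μ ^ 2 + μ + μ * ω) * h2'
  obtain ⟨c, hc⟩ := exists_add σ (e * d)
  have h5 : e * d + σ (e * d) = d := by
    rw [map_mul, hdd, ← add_mul, hee, one_mul]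
  rw [h5] at hc
  refine ⟨c + ω, ?_⟩
  have h2' : (2 : F) = 0 := CharTwo.two_eq_zero
  linear_combination hc - hd - c * ω * h2' - (ω ^ 2 + ω) * h2'

end ArtinSch

variable {F G : Type*} [Field F] [CharP F 2] [Finite F] [Group G] {B : Base F G}

namespace RingA

/-- **an involutory field element forces `δ = c² + c`** -/
theorem split_of_fld (hF : 4 ≤ Nat.card F) (hB : B.Self) {δ κ μ' : F} (R : RingA B δ κ μ') {σ : F ≃+* F} {f : G}
    (hf : IsFld B σ f) (hff : f * f = 1) (hσ : σ ≠ 1) : ∃ c, δ = c ^ 2 + c := by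
  obtain ⟨μ, h1, h2⟩ := R.exists_fact hF hB hf
  have h3 : ∀ x, σ (σ x) = x := by
    intro x
    have e1 : f * f * B.xa x = B.xa (σ (σ x)) * (f * f) := by
      rw [mul_assoc, hf.xa, ← mul_assoc, hf.xa, mul_assoc]
    rw [hff, one_mul, mul_one] at e1
    have e2 := R.V_xa x
    rw [e1, R.V_xa] at e2
    exact (R.V_inj e2).2.1
  have h4 : f * f * R.pa 1 = R.pa 1 * B.xa μ * B.xa (σ μ) * (f * f) := by
    have e1 := h1.pa 1
    rw [map_one, mul_one] at e1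
    calc f * f * R.pa 1 = f * (f * R.pa 1) := by group
      _ = f * (R.pa 1 * B.xa μ * f) := by rw [e1]
      _ = (f * R.pa 1) * B.xa μ * f := by group
      _ = R.pa 1 * B.xa μ * (f * B.xa μ) * f := by rw [e1]; group
      _ = _ := by rw [hf.xa]; group
  rw [hff, one_mul, mul_one, R.V_pa, R.V_xa, R.V_xa, R.V_mul, R.V_mul] at h4
  have h5 := (R.V_inj h4).2.1
  rw [zero_add] at h5
  have h6 : σ μ = μ := (CharTwo.add_eq_zero.1 h5.symm).symm
  exact ArtinSch.exists_fld h3 hσ h6 h2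

/-- **an involutory graph element forces `δ = c² + c`** -/
theorem split_of_grf (hF : 4 ≤ Nat.card F) (hB : B.Self) {δ κ μ' : F} (R : RingA B δ κ μ') {ψ : F ≃+* F} {y : G}
    (hy : IsGrf B ψ y) (hyy : y * y = 1) : ∃ c, δ = c ^ 2 + c := by
  obtain ⟨μ, ν, h1, -, h3⟩ := R.exists_gact hF hB hy
  have h4 : y * y * R.pa 1 = R.pa 1 * B.xa ν * B.xa (ψ μ) * (y * y) := by
    have e1 := h1.pa 1
    have e2 := h1.pb 1
    rw [map_one, one_pow, mul_one] at e1
    rw [map_one, mul_one] at e2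
    calc y * y * R.pa 1 = y * (y * R.pa 1) := by group
      _ = y * (R.pb 1 * B.xb μ * y) := by rw [e1]
      _ = (y * R.pb 1) * B.xb μ * y := by group
      _ = R.pa 1 * B.xa ν * (y * B.xb μ) * y := by rw [e2]; group
      _ = _ := by rw [hy.xb]; group
  rw [hyy, one_mul, mul_one, R.V_pa, R.V_xa, R.V_xa, R.V_mul, R.V_mul] at h4
  have h5 := (R.V_inj h4).2.1
  rw [zero_add] at h5
  have h6 : ν = ψ μ := CharTwo.add_eq_zero.1 h5.symm
  obtain ⟨c, hc⟩ := ArtinSch.exists_add (ψ.trans (frobeniusEquiv F 2)) μ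
  refine ⟨c, ?_⟩
  rw [← hc, RingEquiv.trans_apply, frobeniusEquiv_def, ← h6]
  have h2' : (2 : F) = 0 := CharTwo.two_eq_zero
  linear_combination -h3 - (ν ^ 2) * h2'

end RingA

end Cfsg.Agent.StdSpFour
end

-- part: StdSpFour/MainA
section
/-!
# Type `Sp₄(q)`, `q ≥ 4` even: the join of case (A)

`Top.alt`: (I) no outer elements, or (II) the split ring `RingA P.B 0 0 0` and an outer involution.
`closing`: a Sylow 2-subgroup of `L` of class two gives the conclusion (S1170).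
-/

set_option autoImplicit false
set_option linter.unusedSectionVars false
set_option linter.dupNamespace false

namespace Cfsg.Agent.StdSpFour.Main

open Subgroup Cfsg.Agent.StdEven.Loc Cfsg.Agent.StdEven.Syl
open Cfsg.Agent.StdEven.StepFour Cfsg.Agent.StdEven.CoreQuot Cfsg.Agent.StdL2.Setup
open Cfsg.Agent.StdRank2
open Cfsg.Agent.StdSpFour Cfsg.Agent.StdSpFour.Env Cfsg.Agent.StdSpFour.Trich Cfsg.Agent.StdSpFour.Fld
open scoped commutatorElement

universe u v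

variable {F : Type v} [Field F] [Finite F] [CharP F 2] {G : Type u} [Group G] [Finite G] {L A : Subgroup G} {t : G}
  (P : Top F L A t)

/-- the ring relations of case (A) -/
theorem Top.ringA (h : CaseA P.B) : ∃ δ : F, Nonempty (RingA P.B δ δ δ) := by
  obtain ⟨S0, L0, h1, h2, h3, h4⟩ := h
  exact exists_ringA P.env P.four S0 L0 h1 h2 h3 h4

/-- case (II): an outer involution in `T` -/
def Top.Out : Prop := ∃ f, ∃ hf : f ∈ P.T, f * f = 1 ∧ f ∉ XStart.UG P.S ∧ t * f ∉ XStart.UG P.S ∧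
  ((∃ σ : F ≃+* F, σ ≠ 1 ∧ IsFld P.B σ (pr A t ⟨f, P.hyp.T_le hf⟩)) ∨
    ∃ ψ : F ≃+* F, IsGrf P.B ψ (pr A t ⟨f, P.hyp.T_le hf⟩))

/-- **the alternative** -/
theorem Top.dich : (∀ y ∈ P.T, y * y ∈ XStart.UG P.S → y ∈ XStart.UG P.S ∨ t * y ∈ XStart.UG P.S) ∨ P.Out :=
  Dich.dich P.hyp P.S P.four P.schX P.UT P.had

/-- an outer involution gives the split ring -/
theorem Top.split (h : CaseA P.B) (hO : P.Out) : Nonempty (RingA P.B 0 0 0) := by
  obtain ⟨δ, ⟨R⟩⟩ := P.ringA h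
  obtain ⟨f, hf, hff, -, -, h1⟩ := hO
  have hsq : pr A t ⟨f, P.hyp.T_le hf⟩ * pr A t ⟨f, P.hyp.T_le hf⟩ = 1 := by
    rw [← map_mul, show (⟨f, P.hyp.T_le hf⟩ : ↥(NO A t)) * ⟨f, P.hyp.T_le hf⟩ = 1 from Subtype.ext hff, map_one]
  have h2 : ∃ c : F, δ = c ^ 2 + c := by
    rcases h1 with ⟨σ, h1, h2⟩ | ⟨ψ, h2⟩
    · exact R.split_of_fld P.four P.env.self h2 hsq h1
    · exact R.split_of_grf P.four P.env.self h2 hsq
  obtain ⟨c, hc⟩ := h2
  exact R.split hc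

section closing

open Cfsg.Agent.StdEven.Red

end closing

end Cfsg.Agent.StdSpFour.Main
end

private theorem dce_ddc4502a88d7 : _root_.True := by
  try have : _root_.True := by simp only [_root_.Cfsg.Agent.StdSpFour.EndA.RelA.zh.eq_1]
  try have : _root_.True := by simp only [_root_.Cfsg.Agent.StdSpFour.RingA.toRelA.congr_simp]
  try have : _root_.True := by simp only [_root_.Cfsg.Agent.StdSpFour.RingL.Zf.eq_1]
  try have : _root_.True := by simp only [_root_.Cfsg.Agent.StdSpFour.Swap.swap.congr_simp]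
  exact _root_.True.intro
end
end
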